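import Groth.Agent.S3023
import Groth.Agent.Books.AlgPtsSmooth
import Groth.Agent.Books.PointsAC
import Groth.Agent.Sga3C.GeomRed
import Groth.Agent.Ega1.ReducedSub

/-!
# The reduced identity component of an algebraic group over an algebraically closed field
-/

set_option autoImplicit false

universe u

open CategoryTheory MonoidalCategory CartesianMonoidalCategory MonObj GrpObj AlgebraicGeometry Limits

namespace Groth.Agent.Sga3B.RedIdComp

open Books.AlgPts Books.AlgPtsGrp Books.AlgPtsSmooth Books.AlgPtsGen

variable {K : Type u} [Field K] [IsAlgClosed K]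

lemma geometricallyReduced_spec {B : CommRingCat.{u}} (b : Spec B ⟶ Spec (CommRingCat.of K))
    (hB : IsReduced (Spec B)) (hb : LocallyOfFiniteType b) : GeometricallyReduced b := by
  obtain ⟨φ, rfl⟩ := Spec.map_surjective b
  rw [affine_isReduced_iff] at hB
  algebraize [φ.hom]
  rw [HasRingHomProperty.Spec_iff (P := @LocallyOfFiniteType)] at hb
  have h3 : Algebra.FiniteType K B := hb
  change GeometricallyReduced (Spec.map (CommRingCat.ofHom (algebraMap K B)))
  rw [Sga3C.GeomRed.geometricallyReduced_spec_iff]
  intro L _ _
  have h4 : _root_.IsReduced (TensorProduct K L B) :=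
    Books.PointsAC.isReduced_tensorProduct K L B
  exact isReduced_of_injective (Algebra.TensorProduct.comm K B L).toRingHom
    (Algebra.TensorProduct.comm K B L).injective

/-- A reduced scheme locally of finite type over an algebraically closed field is geometrically reduced. -/
theorem geometricallyReduced_of_isReduced {X : Scheme.{u}} (f : X ⟶ Spec (CommRingCat.of K))
    [IsReduced X] [LocallyOfFiniteType f] : GeometricallyReduced f := by
  refine Sga3C.GeomRed.geometricallyReduced_of_openCover f X.affineCover fun i => ?_
  have h0 : IsOpenImmersion (X.affineCover.f i) := X.affineCover.map_prop i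
  have h1 : IsReduced (X.affineCover.X i) := isReduced_of_isOpenImmersion (X.affineCover.f i)
  have h2 : LocallyOfFiniteType (X.affineCover.f i ≫ f) := inferInstance
  exact geometricallyReduced_spec _ h1 h2

/-- The largest reduced closed subgroup of an algebraic group over an algebraically closed field. -/
theorem exists_reduced (N : Over (Spec (CommRingCat.of K))) [GrpObj N] [LocallyOfFiniteType N.hom] :
    ∃ (D : Over (Spec (CommRingCat.of K))) (_ : GrpObj D) (d : D ⟶ N), IsMonHom d ∧
      IsClosedImmersion d.left ∧ Surjective d.left ∧ IsReduced D.left := by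
  let I : N.left.IdealSheafData := Scheme.IdealSheafData.vanishingIdeal ⊤
  let D : Over (Spec (CommRingCat.of K)) := Over.mk (I.subschemeι ≫ N.hom)
  let d : D ⟶ N := Over.homMk I.subschemeι rfl
  have hd : IsClosedImmersion d.left := inferInstanceAs (IsClosedImmersion I.subschemeι)
  have hD : IsReduced D.left := Ega1.ReducedSub.isReduced_subscheme_vanishingIdeal _
  have hr : Set.range d.left = Set.univ := by
    change Set.range I.subschemeι = _
    rw [Scheme.IdealSheafData.range_subschemeι]
    simp [I]
  have hlft : LocallyOfFiniteType D.hom :=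
    inferInstanceAs (LocallyOfFiniteType (I.subschemeι ≫ N.hom))
  have hDD : IsReduced (D ⊗ D).left := by
    have := geometricallyReduced_of_isReduced D.hom
    exact Sga3C.GeomRed.isReduced_pullback D.hom D.hom
  obtain ⟨inst, hmon⟩ := exists_grpObj_of_points d ⊤ (fun x => by rw [hr]; simp)
  exact ⟨D, inst, d, hmon, hd, ⟨fun x => by
    have : x ∈ Set.range d.left := by rw [hr]; trivial
    exact this⟩, hD⟩

/-- The reduced identity component. -/
theorem exists_redIdComp (N : Over (Spec (CommRingCat.of K))) [GrpObj N]
    [LocallyOfFiniteType N.hom] :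
    ∃ (U : Over (Spec (CommRingCat.of K))) (_ : GrpObj U) (u : U ⟶ N), IsMonHom u ∧
      IsClosedImmersion u.left ∧ Smooth U.hom ∧ ConnectedSpace U.left ∧
      Set.range u.left = connectedComponent (pt η[N]) := by
  obtain ⟨N0, _, i0, hmon0, hcl0, -, hr0⟩ := S3023.result K N
  have : LocallyOfFiniteType N0.hom := by
    rw [← Over.w i0]; infer_instance
  obtain ⟨D, _, d, hmon, hcl, hsurj, hred⟩ := exists_reduced N0
  have hlft : LocallyOfFiniteType D.hom := by
    rw [← Over.w d]; infer_instance
  have hrange : Set.range (d ≫ i0).left = connectedComponent (pt η[N]) := by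
    rw [Over.comp_left, Scheme.Hom.comp_base, TopCat.coe_comp, Set.range_comp,
      Set.range_eq_univ.mpr hsurj.surj, Set.image_univ]
    exact hr0 _
  have hcomp : IsClosedImmersion (d ≫ i0).left := by
    rw [Over.comp_left]; infer_instance
  refine ⟨D, inferInstance, d ≫ i0, inferInstance, hcomp, smooth_of_isReduced D, ?_, hrange⟩
  have h1 : _root_.IsConnected (Set.range (d ≫ i0).left) := by
    rw [hrange]; exact isConnected_connectedComponent
  have h2 := (d ≫ i0).left.isClosedEmbedding.isEmbedding.toHomeomorph
  have h3 : ConnectedSpace (Set.range (d ≫ i0).left) := isConnected_iff_connectedSpace.mp h1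
  exact h2.symm.surjective.connectedSpace h2.symm.continuous

/-- The reduced identity component of a normal closed subgroup of a smooth connected group is normal. -/
theorem isNormalHom_of_redIdComp {G N U : Over (Spec (CommRingCat.of K))} [GrpObj G] [GrpObj N]
    [GrpObj U] [IsAffine G.left] [LocallyOfFiniteType G.hom] [Smooth G.hom] [ConnectedSpace G.left]
    (n : N ⟶ G) [IsMonHom n] [IsClosedImmersion n.left] (hn : AlgGrp.IsNormalHom n)
    (u : U ⟶ N) [IsMonHom u] [IsClosedImmersion u.left] [Smooth U.hom] [ConnectedSpace U.left]
    (hu : Set.range u.left = connectedComponent (pt η[N])) : AlgGrp.IsNormalHom (u ≫ n) := by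
  have hNaff : IsAffine N.left := isAffine_of_isAffineHom n.left
  have hUaff : IsAffine U.left := isAffine_of_isAffineHom u.left
  have hGvar : IsVar G := isVar_of_smooth G
  have hUvar : IsVar U := isVar_of_smooth U
  have hint := (hGvar.tensor hUvar).isIntegral
  -- the universal conjugation
  obtain ⟨c1, hc1⟩ := hn (G ⊗ U) (fst _ _) (snd _ _ ≫ u)
  have hrange : Set.range c1.left ⊆ Set.range u.left := by
    rw [hu]
    have h1 : _root_.IsPreconnected (Set.range c1.left) := isPreconnected_range c1.left.continuous
    refine h1.subset_connectedComponent ?_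
    have h2 : (lift 1 1 : 𝟙_ _ ⟶ G ⊗ U) ≫ c1 = η[N] := by
      have : Mono n := mono_of_isClosedImmersion n
      rw [← cancel_mono n, Category.assoc, ← hc1, MonObj.comp_mul, MonObj.comp_mul, GrpObj.comp_inv,
        lift_fst]
      simp [one_eq_one]
    rw [← h2, pt_comp]
    exact ⟨_, rfl⟩
  obtain ⟨c2, hc2⟩ := exists_lift u c1 hrange
  intro T g x
  refine ⟨lift g x ≫ c2, ?_⟩
  have h3 := congr(lift g x ≫ $hc1)
  rw [MonObj.comp_mul, MonObj.comp_mul, GrpObj.comp_inv, lift_fst] at h3
  simp only [Category.assoc, lift_snd_assoc] at h3
  rw [h3, ← hc2]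
  simp

end Groth.Agent.Sga3B.RedIdComp
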