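import Groth.Agent.Sga3B.BcNat

/-!
# Base change with algebraic residue field extensions

`f : S' ⟶ S` with `[AlgRes f]` (open immersions, étale and unramified morphisms, preimmersions, geometric points, and
compositions): reductive, semisimple, maximal torus, Borel and parabolic subgroups are stable under base change along `f`.
-/

set_option autoImplicit false
open CategoryTheory MonoidalCategory CartesianMonoidalCategory MonObj GrpObj AlgebraicGeometry
universe u

namespace Groth.Agent.Sga3B.AlgBc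

open Groth.Agent.Sga3B Groth.Agent.Sga3B.RedIso Groth.Agent.Sga3B.ResAlg Groth.Agent.Sga3B.BcNat
  Groth.Agent.Sga3B.TorusBc Groth.Agent.Sga3B.NormBc

variable {S S' : Scheme.{u}}

/-- **Reductive groups are stable under base change with algebraic residue extensions** (e.g. étale). -/
theorem isReductive_bc (f : S' ⟶ S) [AlgRes f] {G : Over S} [GrpObj G] (h : Red.IsReductive G) :
    Red.IsReductive (Red.bc f G) := by
  obtain ⟨h1, h2, h3⟩ := h
  refine ⟨?_, ?_, fun s' => ?_⟩
  · exact MorphismProperty.pullback_snd (P := @IsAffineHom) _ _ h1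
  · change Smooth (Limits.pullback.snd _ _)
    infer_instance
  · obtain ⟨θ, hθ, hh⟩ := exists_iso_geomPt f s'
    exact isReductiveOver_of_iso (fibIso hh G).symm (isReductiveOver_bc θ (h3 (f s')))

theorem isSemisimple_bc (f : S' ⟶ S) [AlgRes f] {G : Over S} [GrpObj G] (h : Red.IsSemisimple G) :
    Red.IsSemisimple (Red.bc f G) := by
  obtain ⟨h1, h2, h3⟩ := h
  refine ⟨?_, ?_, fun s' => ?_⟩
  · exact MorphismProperty.pullback_snd (P := @IsAffineHom) _ _ h1
  · change Smooth (Limits.pullback.snd _ _)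
    infer_instance
  · obtain ⟨θ, hθ, hh⟩ := exists_iso_geomPt f s'
    exact isSemisimpleOver_of_iso (fibIso hh G).symm (isSemisimpleOver_bc θ (h3 (f s')))

theorem isReductive_of_iso {G G' : Over S} [GrpObj G] [GrpObj G'] (e : Grp.mk G ≅ Grp.mk G')
    (h : Red.IsReductive G) : Red.IsReductive G' := by
  obtain ⟨h1, h2, h3⟩ := h
  exact ⟨TorusAlgClosed.prop_of_grp_iso (P := @IsAffineHom) e.symm h1,
    TorusAlgClosed.prop_of_grp_iso (P := @Smooth) e.symm h2,
    fun s => isReductiveOver_of_iso (BcIso.bcMapIso _ e) (h3 s)⟩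

theorem isSemisimple_of_iso {G G' : Over S} [GrpObj G] [GrpObj G'] (e : Grp.mk G ≅ Grp.mk G')
    (h : Red.IsSemisimple G) : Red.IsSemisimple G' := by
  obtain ⟨h1, h2, h3⟩ := h
  exact ⟨TorusAlgClosed.prop_of_grp_iso (P := @IsAffineHom) e.symm h1,
    TorusAlgClosed.prop_of_grp_iso (P := @Smooth) e.symm h2,
    fun s => isSemisimpleOver_of_iso (BcIso.bcMapIso _ e) (h3 s)⟩

/-- `i` has no proper torus above it: the fibre condition in the definition of maximal tori -/
def IsMaxTorOver {K : Type u} [Field K] {T G : Over (Spec (CommRingCat.of K))} [GrpObj T] [GrpObj G] (i : T ⟶ G) : Prop :=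
  ∀ (T' : Over (Spec (CommRingCat.of K))) [GrpObj T'] (j : T' ⟶ G) [IsMonHom j] [Mono j] (f : T ⟶ T'),
    Red.IsTorus T' → f ≫ j = i → IsIso f

section Arrow

variable {K : Type u} [Field K] {T G T₁ G₁ : Over (Spec (CommRingCat.of K))} [GrpObj T] [GrpObj G] [GrpObj T₁] [GrpObj G₁]

lemma isMaxTorOver_of_arrow {i : T ⟶ G} {i₁ : T₁ ⟶ G₁} (φ : Grp.mk T ≅ Grp.mk T₁) (ψ : Grp.mk G ≅ Grp.mk G₁)
    (hc : i ≫ (und ψ).hom = (und φ).hom ≫ i₁) (h : IsMaxTorOver i) : IsMaxTorOver i₁ := by
  intro T' _ j _ _ f hT' hf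
  have h1 : ((und φ).hom ≫ f) ≫ (j ≫ (und ψ).inv) = i := by
    rw [Category.assoc, ← Category.assoc f, hf, ← Category.assoc, ← hc, Category.assoc, Iso.hom_inv_id,
      Category.comp_id]
  have := h T' (j ≫ (und ψ).inv) ((und φ).hom ≫ f) hT' h1
  exact IsIso.of_isIso_comp_left (und φ).hom f

lemma isMaxTorOver_bc {K' : Type u} [Field K'] (θ : Spec (CommRingCat.of K') ⟶ Spec (CommRingCat.of K)) [IsIso θ]
    {i : T ⟶ G} (h : IsMaxTorOver i) : IsMaxTorOver ((Over.pullback θ).map i) := by
  intro T' _ j _ _ f hT' hf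
  have h1 : ((und (unbcIso' θ T)).inv ≫ (Over.pullback (CategoryTheory.inv θ)).map f) ≫
      ((Over.pullback (CategoryTheory.inv θ)).map j ≫ (und (unbcIso' θ G)).hom) = i := by
    rw [Category.assoc, ← Category.assoc ((Over.pullback (CategoryTheory.inv θ)).map f), ← Functor.map_comp, hf,
      unbc'_nat, Iso.inv_hom_id_assoc]
  have h2 := h _ ((Over.pullback (CategoryTheory.inv θ)).map j ≫ (und (unbcIso' θ G)).hom)
    ((und (unbcIso' θ T)).inv ≫ (Over.pullback (CategoryTheory.inv θ)).map f) (isTorus_bc _ hT') h1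
  have h3 : IsIso ((Over.pullback (CategoryTheory.inv θ)).map f) := IsIso.of_isIso_comp_left (und (unbcIso' θ T)).inv _
  exact isIso_of_bc (CategoryTheory.inv θ) f

end Arrow


lemma fib_arrow {T T' : Scheme.{u}} {θ : T' ⟶ T} {g : T ⟶ S} {g' : T' ⟶ S'} {f : S' ⟶ S}
    (h : θ ≫ g = g' ≫ f) {G H : Over S} [GrpObj G] [GrpObj H] (i : G ⟶ H) :
    (Over.pullback θ).map ((Over.pullback g).map i) ≫ (und (fibIso h H).symm).hom =
      (und (fibIso h G).symm).hom ≫ (Over.pullback g').map ((Over.pullback f).map i) := by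
  rw [und_symm, und_symm, Iso.eq_inv_comp, ← Category.assoc, ← fib_nat, Category.assoc, Iso.hom_inv_id, Category.comp_id]

/-- **Maximal tori are stable under base change with algebraic residue extensions.** -/
theorem isMaximalTorus_bc (f : S' ⟶ S) [AlgRes f] {T G : Over S} [GrpObj T] [GrpObj G] {i : T ⟶ G}
    (h : Red.IsMaximalTorus i) : Red.IsMaximalTorus ((Over.pullback f).map i) := by
  obtain ⟨h1, h2, h3, h4⟩ := h
  refine ⟨inferInstance, inferInstance, isTorus_bc f h3, fun s' => ?_⟩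
  obtain ⟨θ, hθ, hh⟩ := exists_iso_geomPt f s'
  have h5 : IsMaxTorOver ((Over.pullback (Red.geomPt (f s'))).map i) := h4 (f s')
  have h6 := isMaxTorOver_bc θ h5
  have h7 := isMaxTorOver_of_arrow (fibIso hh T).symm (fibIso hh G).symm (fib_arrow hh i) h6
  exact h7

end Groth.Agent.Sga3B.AlgBc
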