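import Mathlib.CategoryTheory.Monoidal.Cartesian.Grp

set_option autoImplicit false
open CategoryTheory MonoidalCategory CartesianMonoidalCategory MonObj GrpObj
universe v u

namespace Groth.Agent.Sga3B.Pts

variable {C : Type u} [Category.{v} C] [CartesianMonoidalCategory C]

/-- A morphism between group objects which is multiplicative on points is a homomorphism. -/
lemma isMonHom_of_points {G H : C} [GrpObj G] [GrpObj H] (f : G ⟶ H)
    (h : ∀ (X : C) (x y : X ⟶ G), (x * y) ≫ f = (x ≫ f) * (y ≫ f)) : IsMonHom f where
  one_hom := by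
    have h1 := h (𝟙_ C) η[G] η[G]
    rw [one_eq_one, _root_.mul_one] at h1
    rw [one_eq_one, one_eq_one]
    exact (mul_eq_left.mp h1.symm)
  mul_hom := by
    have h1 := h (G ⊗ G) (fst G G) (snd G G)
    rw [← mul_eq_mul] at h1
    rw [h1, mul_eq_mul, MonObj.comp_mul, tensorHom_fst, tensorHom_snd]

/-- It suffices to check multiplicativity on the universal pair of points. -/
lemma isMonHom_of_universal {G H : C} [GrpObj G] [GrpObj H] (f : G ⟶ H)
    (h : (fst G G * snd G G) ≫ f = (fst G G ≫ f) * (snd G G ≫ f)) : IsMonHom f := by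
  apply isMonHom_of_points
  intro X x y
  have := congrArg (fun t => lift x y ≫ t) h
  simpa [MonObj.comp_mul, ← Category.assoc] using this

end Groth.Agent.Sga3B.Pts
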