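import Groth.Agent.Sga3B.DSPts
import Groth.Agent.Sga3B.Pts

/-!
# Transport of pinnings along an equivalence of root data
-/

set_option autoImplicit false
universe u

open CategoryTheory MonoidalCategory CartesianMonoidalCategory MonObj GrpObj AlgebraicGeometry

namespace Groth.Agent.Sga3B.PinTransport

open DSPts

section DSmap

variable {S : Scheme.{u}} {M N L : Type} [AddCommGroup M] [AddCommGroup N] [AddCommGroup L]

instance isMonHom_DSmap (φ : M →+ N) : IsMonHom (Red.DSmap S φ) := by
  apply Pts.isMonHom_of_points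
  intro X x y
  obtain ⟨χ, rfl⟩ := (dsEquiv X N).surjective x
  obtain ⟨χ', rfl⟩ := (dsEquiv X N).surjective y
  rw [← map_mul, dsEquiv_DSmap, dsEquiv_DSmap, dsEquiv_DSmap, ← map_mul]
  rfl

lemma hom_ext_DS {X Y : Over S} {f g : X ⟶ Y} (h : ∀ (T : Over S) (x : T ⟶ X), x ≫ f = x ≫ g) :
    f = g := by
  simpa using h X (𝟙 X)

lemma DSmap_comp (φ : M →+ N) (ψ : N →+ L) :
    Red.DSmap S ψ ≫ Red.DSmap S φ = Red.DSmap S (ψ.comp φ) := by
  apply hom_ext_DS
  intro T x
  rw [← dsEquiv_dsChar x, ← Category.assoc, dsEquiv_DSmap, dsEquiv_DSmap, dsEquiv_DSmap]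
  rfl

lemma DSmap_id : Red.DSmap S (AddMonoidHom.id M) = 𝟙 _ := by
  apply hom_ext_DS
  intro T x
  rw [← dsEquiv_dsChar x, dsEquiv_DSmap, Category.comp_id]
  rfl

lemma DSmap_chi (φ : M →+ N) (m : M) : Red.DSmap S φ ≫ Red.chi S m = Red.chi S (φ m) := by
  rw [Red.chi, Red.chi, DSmap_comp]
  congr 1
  ext
  simp

/-- `D_S` of an isomorphism. -/
noncomputable def dsIso (e : M ≃+ N) : Grp.mk (Red.DS S N) ≅ Grp.mk (Red.DS S M) :=
  Grp.mkIso' { hom := Red.DSmap S e.toAddMonoidHom
               inv := Red.DSmap S e.symm.toAddMonoidHom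
               hom_inv_id := by
                 rw [DSmap_comp, ← DSmap_id]
                 congr 1
                 ext; simp
               inv_hom_id := by
                 rw [DSmap_comp, ← DSmap_id]
                 congr 1
                 ext; simp }

lemma dsIso_hom (e : M ≃+ N) : (dsIso (S := S) e).hom.hom.hom = Red.DSmap S e.toAddMonoidHom := rfl

lemma dsIso_inv (e : M ≃+ N) : (dsIso (S := S) e).inv.hom.hom = Red.DSmap S e.symm.toAddMonoidHom :=
  rfl

end DSmap

section transport

variable {S : Scheme.{u}} {G G' : Over S} [GrpObj G] [GrpObj G'] (D : Red.Pinning G)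
  (D' : Red.Pinning G') (h : RootPairing.Equiv D'.P D.P)

/-- the isomorphism on lattices -/
noncomputable def latEquiv : D.M ≃+ D'.M := (RootPairing.Equiv.weightEquiv _ _ h).symm.toAddEquiv

lemma latEquiv_symm_apply (m : D'.M) : (latEquiv D D' h).symm m = h.weightMap m := rfl

lemma latEquiv_symm : (latEquiv D D' h).symm.toAddMonoidHom = h.weightMap.toAddMonoidHom := rfl

lemma latEquiv_root (a : D.idx) :
    latEquiv D D' h (D.P.root a) = D'.P.root (h.indexEquiv.symm a) := by
  rw [← (latEquiv D D' h).symm.injective.eq_iff, AddEquiv.symm_apply_apply, latEquiv_symm_apply,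
    RootPairing.Hom.root_weightMap_apply, Equiv.apply_symm_apply]

lemma latEquiv_reflection (a : D.idx) (m : D.M) :
    latEquiv D D' h (D.P.reflection a m) =
      D'.P.reflection (h.indexEquiv.symm a) (latEquiv D D' h m) := by
  obtain ⟨m', rfl⟩ := (latEquiv D D' h).symm.surjective m
  rw [AddEquiv.apply_symm_apply, RootPairing.reflection_apply, RootPairing.reflection_apply,
    map_sub, map_zsmul, latEquiv_root, AddEquiv.apply_symm_apply, latEquiv_symm_apply]
  congr 2
  have h1 := RootPairing.Hom.weight_coweight_transpose_apply D'.P D.P (D.P.coroot a) h.toHom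
  have h2 := congrArg (fun z => z m') h1
  rw [RootPairing.Hom.coroot_coweightMap_apply] at h2
  exact h2

/-- Transport of a pinning of `G'` along an equivalence of root data: same group and torus, but with
the root datum and base of `D`. -/
noncomputable def transport : Red.Pinning G' where
  T := D'.T
  i := D'.i
  M := D.M
  idx := D.idx
  P := D.P
  pairing_eq := D.pairing_eq
  u := fun a => D'.u (h.indexEquiv.symm a)
  reductive := D'.reductive
  maximalTorus := D'.maximalTorus
  split := D'.split ≪≫ dsIso (latEquiv D D' h)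
  rootHom a := by
    have h1 : (D'.split ≪≫ dsIso (latEquiv D D' h)).hom.hom.hom ≫ Red.chi S (D.P.root a) =
        D'.split.hom.hom.hom ≫ Red.chi S (D'.P.root (h.indexEquiv.symm a)) := by
      change (D'.split.hom.hom.hom ≫ Red.DSmap S (latEquiv D D' h).toAddMonoidHom) ≫ _ = _
      rw [Category.assoc, DSmap_chi]
      congr 2
      exact latEquiv_root D D' h a
    rw [h1]
    exact D'.rootHom _
  refl a := by
    obtain ⟨n, hn⟩ := D'.refl (h.indexEquiv.symm a)
    refine ⟨n, fun X t => ?_⟩
    rw [hn]
    change t ≫ _ = t ≫ (D'.split.hom.hom.hom ≫ Red.DSmap S (latEquiv D D' h).toAddMonoidHom) ≫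
      Red.DSmap S (D.P.reflection a).toLinearMap.toAddMonoidHom ≫
      (Red.DSmap S (latEquiv D D' h).symm.toAddMonoidHom ≫ D'.split.inv.hom.hom) ≫ D'.i
    have h1 : Red.DSmap S (latEquiv D D' h).toAddMonoidHom ≫
      Red.DSmap S (D.P.reflection a).toLinearMap.toAddMonoidHom ≫
      Red.DSmap S (latEquiv D D' h).symm.toAddMonoidHom =
      Red.DSmap S (D'.P.reflection (h.indexEquiv.symm a)).toLinearMap.toAddMonoidHom := by
      rw [DSmap_comp, DSmap_comp]
      congr 1
      ext m
      change latEquiv D D' h (D.P.reflection a ((latEquiv D D' h).symm m)) = _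
      rw [latEquiv_reflection, AddEquiv.apply_symm_apply]
      rfl
    rw [← h1]
    simp only [Category.assoc]
  dim_fibre s := by
    rw [D'.dim_fibre s, Fintype.card_congr h.indexEquiv,
      LinearEquiv.finrank_eq (RootPairing.Equiv.weightEquiv _ _ h)]
  base := D.base

lemma transport_P : (transport D D' h).P = D.P := rfl

lemma transport_j : (transport D D' h).split.inv.hom.hom ≫ (transport D D' h).i =
    Red.DSmap S h.weightMap.toAddMonoidHom ≫ D'.split.inv.hom.hom ≫ D'.i := Category.assoc _ _ _

end transport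

end Groth.Agent.Sga3B.PinTransport
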