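import Groth.Agent.Sga3B.BorStd991
import Groth.Agent.Sga3B.PinTransport

/-!
# Compatible pinnings: uniqueness and existence of the extension (for S2988)
-/

set_option autoImplicit false
universe u

open CategoryTheory MonoidalCategory CartesianMonoidalCategory MonObj GrpObj AlgebraicGeometry

namespace Groth.Agent.Sga3B.BorCompat988

open Groth.Agent.Sga3B.Cell (posList)
open Groth.Agent.Sga3B.BorStd991

variable {S : Scheme.{u}} {G G' B B' : Over S} [GrpObj G] [GrpObj G'] [GrpObj B] [GrpObj B']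

/-- The conditions of S3004 on an isomorphism `φ : G ≅ G'`. -/
structure Ind (D : Red.Pinning G) (D' : Red.Pinning G') (h : RootPairing.Equiv D'.P D.P)
    (φ : G ⟶ G') : Prop where
  isMonHom : IsMonHom φ
  torus : D.i ≫ φ =
    D.split.hom.hom.hom ≫ Red.DSmap S h.weightMap.toAddMonoidHom ≫ D'.split.inv.hom.hom ≫ D'.i
  root : ∀ a' : D'.idx, a' ∈ D'.base.support → D.u (h.indexEquiv a') ≫ φ = D'.u a'

/-- An extension of `f` induces the correspondence of the pinnings. -/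
theorem ind_of_ext {iB : B ⟶ G} {iB' : B' ⟶ G'} {f : Grp.mk B ≅ Grp.mk B'} {D : Red.Pinning G}
    {D' : Red.Pinning G'} {h : RootPairing.Equiv D'.P D.P} (hc : Compat iB iB' f D D' h)
    (φ : Grp.mk G ≅ Grp.mk G') (hφ : iB ≫ φ.hom.hom.hom = f.hom.hom.hom ≫ iB') :
    Ind D D' h φ.hom.hom.hom where
  isMonHom := φ.hom.hom.isMonHom_hom
  torus := by
    obtain ⟨j, h1, h2⟩ := hc.torus
    rw [← h1, Category.assoc, hφ, h2]
  root a' ha' := by
    obtain ⟨v, h1, h2⟩ := hc.root a' ha'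
    rw [← h1, Category.assoc, hφ, h2]

/-- Two morphisms in `Over S` from an object are equal when `S` is empty. -/
theorem hom_eq_of_isEmpty (hS : IsEmpty S) {X Y : Over S} (f g : X ⟶ Y) : f = g := by
  have : IsEmpty X.left := ⟨fun x => hS.elim (X.hom.base x)⟩
  ext1
  exact (isInitialOfIsEmpty (X := X.left)).hom_ext _ _

/-- The statement of S3004. -/
def IsoThm : Prop :=
  ∀ (S : Scheme.{u}) [Nonempty S] (G G' : Over S) [GrpObj G] [GrpObj G']
    (D : Red.Pinning G) (D' : Red.Pinning G') (h : RootPairing.Equiv D'.P D.P)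
    (_ : ∀ a' : D'.idx, a' ∈ D'.base.support ↔ h.indexEquiv a' ∈ D.base.support),
    ∃! f : G ≅ G', IsMonHom f.hom ∧ D.i ≫ f.hom = D.split.hom.hom.hom ≫
      Red.DSmap S h.weightMap.toAddMonoidHom ≫ D'.split.inv.hom.hom ≫ D'.i ∧
      ∀ a' : D'.idx, a' ∈ D'.base.support → D.u (h.indexEquiv a') ≫ f.hom = D'.u a'

/-- (3a) Uniqueness of the extension. -/
theorem ext_unique (hS3004 : IsoThm.{u})
    {iB : B ⟶ G} {iB' : B' ⟶ G'} {f : Grp.mk B ≅ Grp.mk B'} {D : Red.Pinning G}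
    {D' : Red.Pinning G'} {h : RootPairing.Equiv D'.P D.P} (hc : Compat iB iB' f D D' h)
    (φ ψ : Grp.mk G ≅ Grp.mk G') (hφ : iB ≫ φ.hom.hom.hom = f.hom.hom.hom ≫ iB')
    (hψ : iB ≫ ψ.hom.hom.hom = f.hom.hom.hom ≫ iB') : φ = ψ := by
  rcases isEmpty_or_nonempty S with hS | hS
  · ext
    exact congrArg _ (hom_eq_of_isEmpty hS _ _)
  · have h1 := ind_of_ext hc φ hφ
    have h2 := ind_of_ext hc ψ hψ
    have h3 := (hS3004 S G G' D D' h hc.base).unique (y₁ := (Grp.forget _).mapIso φ)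
      (y₂ := (Grp.forget _).mapIso ψ) ⟨h1.isMonHom, h1.torus, h1.root⟩
      ⟨h2.isMonHom, h2.torus, h2.root⟩
    ext
    exact congrArg (fun e => e.hom.left) h3

/-- The isomorphism of S3004. -/
theorem exists_ind (hS3004 : IsoThm.{u}) (D : Red.Pinning G) (D' : Red.Pinning G')
    (h : RootPairing.Equiv D'.P D.P)
    (hΔ : ∀ a' : D'.idx, a' ∈ D'.base.support ↔ h.indexEquiv a' ∈ D.base.support) :
    ∃ φ : Grp.mk G ≅ Grp.mk G', Ind D D' h φ.hom.hom.hom := by
  rcases isEmpty_or_nonempty S with hS | hS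
  · have hG : IsEmpty G.left := ⟨fun x => hS.elim (G.hom.base x)⟩
    have hG' : IsEmpty G'.left := ⟨fun x => hS.elim (G'.hom.base x)⟩
    let e : G ≅ G' := Over.isoMk
      ((isInitialOfIsEmpty (X := G.left)).uniqueUpToIso (isInitialOfIsEmpty (X := G'.left)))
      ((isInitialOfIsEmpty (X := G.left)).hom_ext _ _)
    have he : IsMonHom e.hom :=
      ⟨hom_eq_of_isEmpty hS _ _, hom_eq_of_isEmpty hS _ _⟩
    exact ⟨Grp.mkIso' e, he, hom_eq_of_isEmpty hS _ _, fun _ _ => hom_eq_of_isEmpty hS _ _⟩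
  · obtain ⟨φ, ⟨h1, h2, h3⟩, -⟩ := hS3004 S G G' D D' h hΔ
    exact ⟨Grp.mkIso' φ, h1, h2, h3⟩

section height

variable {J J' M N M' N' : Type} [Finite J] [AddCommGroup M] [AddCommGroup N]
  [AddCommGroup M'] [AddCommGroup N'] {P : RootPairing J ℤ M N} {P' : RootPairing J' ℤ M' N'}
  (b : P.Base) (b' : P'.Base) (h : RootPairing.Equiv P' P)

/-- Isomorphisms of root data carrying simple roots to simple roots preserve heights. -/
theorem height_indexEquiv (hb : ∀ a', a' ∈ b'.support ↔ h.indexEquiv a' ∈ b.support) (a' : J') :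
    b.height (h.indexEquiv a') = b'.height a' := by
  obtain ⟨f, -, -, hf⟩ := b'.exists_root_eq_sum_int a'
  have h1 : P.root (h.indexEquiv a') =
      ∑ k ∈ b.support, (fun k => f (h.indexEquiv.symm k)) k • P.root k := by
    have h2 := congrArg h.weightMap hf
    rw [RootPairing.Hom.root_weightMap_apply, map_sum] at h2
    rw [h2]
    refine Finset.sum_equiv h.indexEquiv hb fun j _ => ?_
    rw [map_zsmul, RootPairing.Hom.root_weightMap_apply]
    beta_reduce
    rw [Equiv.symm_apply_apply]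
  rw [RootPairing.Base.height_eq_sum h1, RootPairing.Base.height_eq_sum hf]
  refine (Finset.sum_equiv h.indexEquiv hb fun j _ => ?_).symm
  rw [Equiv.symm_apply_apply]

theorem isPos_indexEquiv (hb : ∀ a', a' ∈ b'.support ↔ h.indexEquiv a' ∈ b.support) (a' : J') :
    b.IsPos (h.indexEquiv a') ↔ b'.IsPos a' := by
  rw [RootPairing.Base.isPos_iff, RootPairing.Base.isPos_iff, height_indexEquiv b b' h hb]

end height

section listProd

variable {X : Over S}

lemma list_prod_comp {Y Z : Over S} [GrpObj Y] [GrpObj Z] (g : Y ⟶ Z) [IsMonHom g] {J : Type*}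
    (l : List J) (x : J → (X ⟶ Y)) :
    (l.map x).prod ≫ g = (l.map (fun a => x a ≫ g)).prod := by
  have h := map_list_prod (IsMonHom.monoidHom g X) (l.map x)
  rw [List.map_map] at h
  exact h

end listProd

/-- (3c) If all positive root groups of the standard Borel subgroup are carried by `f` as by `φ`,
then `φ` extends `f`. -/
theorem ext_of_root {iB : B ⟶ G} {iB' : B' ⟶ G'} {f : Grp.mk B ≅ Grp.mk B'} {D : Red.Pinning G}
    {D' : Red.Pinning G'} {h : RootPairing.Equiv D'.P D.P} (hc : Compat iB iB' f D D' h)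
    (hstd : IsStd iB D) [IsMonHom iB'] (φ : G ⟶ G') (hφ : Ind D D' h φ)
    (hroot : ∀ a : D.idx, D.base.IsPos a → ∃ v : Red.Ga S ⟶ B, v ≫ iB = D.u a ∧
      v ≫ f.hom.hom.hom ≫ iB' = D.u a ≫ φ) :
    iB ≫ φ = f.hom.hom.hom ≫ iB' := by
  have h1 := hstd.isMonHom
  have h2 := hstd.mono
  have h3 := hφ.isMonHom
  have h4 : IsMonHom f.hom.hom.hom := f.hom.hom.isMonHom_hom
  obtain ⟨t, x, hu⟩ := hstd.univ
  obtain ⟨j, hj1, hj2⟩ := hc.torus
  choose! v hv1 hv2 using hroot
  have h5 : 𝟙 B = ((posList D.base).map (fun a => x a ≫ v a)).prod * (t ≫ j) := by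
    rw [← cancel_mono iB, MonObj.mul_comp, list_prod_comp, Category.id_comp, Category.assoc, hj1]
    refine hu.trans ?_
    congr 2
    apply List.map_congr_left
    intro a ha
    rw [Category.assoc, hv1 a ((Cell.mem_posList _).mp ha)]
  have h6 : IsMonHom (f.hom.hom.hom ≫ iB') := inferInstance
  have h7 : f.hom.hom.hom ≫ iB' = 𝟙 B ≫ (f.hom.hom.hom ≫ iB') := (Category.id_comp _).symm
  rw [h7, h5, MonObj.mul_comp, list_prod_comp, Category.assoc, hj2]
  conv_lhs => rw [hu]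
  rw [MonObj.mul_comp, list_prod_comp, Category.assoc, hφ.torus]
  congr 2
  apply List.map_congr_left
  intro a ha
  rw [Category.assoc, Category.assoc, hv2 a ((Cell.mem_posList _).mp ha)]

/-- (3c), with roots of `G'`. -/
theorem ext_of_root' {iB : B ⟶ G} {iB' : B' ⟶ G'} {f : Grp.mk B ≅ Grp.mk B'} {D : Red.Pinning G}
    {D' : Red.Pinning G'} {h : RootPairing.Equiv D'.P D.P} (hc : Compat iB iB' f D D' h)
    (hstd : IsStd iB D) [IsMonHom iB'] (φ : G ⟶ G') (hφ : Ind D D' h φ)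
    (hroot : ∀ a' : D'.idx, D'.base.IsPos a' → ∃ v : Red.Ga S ⟶ B, v ≫ iB = D.u (h.indexEquiv a') ∧
      v ≫ f.hom.hom.hom ≫ iB' = D.u (h.indexEquiv a') ≫ φ) :
    iB ≫ φ = f.hom.hom.hom ≫ iB' := by
  refine ext_of_root hc hstd φ hφ fun a ha => ?_
  have h1 := hroot (h.indexEquiv.symm a)
    ((isPos_indexEquiv D.base D'.base h hc.base _).mp (by rwa [Equiv.apply_symm_apply]))
  rwa [Equiv.apply_symm_apply] at h1

/-- (3a)+(3c): existence and uniqueness of the extension. -/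
theorem existsUnique_ext (hS3004 : IsoThm.{u}) {iB : B ⟶ G} {iB' : B' ⟶ G'}
    {f : Grp.mk B ≅ Grp.mk B'} {D : Red.Pinning G}
    {D' : Red.Pinning G'} {h : RootPairing.Equiv D'.P D.P} (hc : Compat iB iB' f D D' h)
    (hstd : IsStd iB D) [IsMonHom iB']
    (hroot : ∀ φ : G ⟶ G', Ind D D' h φ → ∀ a' : D'.idx, D'.base.IsPos a' →
      ∃ v : Red.Ga S ⟶ B, v ≫ iB = D.u (h.indexEquiv a') ∧
      v ≫ f.hom.hom.hom ≫ iB' = D.u (h.indexEquiv a') ≫ φ) :
    ∃! φ : Grp.mk G ≅ Grp.mk G', iB ≫ φ.hom.hom.hom = f.hom.hom.hom ≫ iB' := by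
  obtain ⟨φ, hφ⟩ := exists_ind hS3004 D D' h hc.base
  have h1 := ext_of_root' hc hstd _ hφ (hroot _ hφ)
  exact ⟨φ, h1, fun ψ hψ => ext_unique hS3004 hc ψ φ hψ h1⟩

end Groth.Agent.Sga3B.BorCompat988
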