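import Groth.Prelude.Def_Red

set_option autoImplicit false
open CategoryTheory MonoidalCategory CartesianMonoidalCategory MonObj GrpObj AlgebraicGeometry
universe u

namespace Groth.Agent.Sga3B.BcPts

variable {S S' : Scheme.{u}} (f : S' ⟶ S)

/-- `T`-points of the base change `bc f X` are points of `X` with values in `T` regarded over `S`. -/
noncomputable def bcEquiv (T : Over S') (X : Over S) :
    ((Over.map f).obj T ⟶ X) ≃ (T ⟶ Red.bc f X) :=
  (Over.mapPullbackAdj f).homEquiv T X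

lemma bcEquiv_comp {T : Over S'} {X Y : Over S} (x : (Over.map f).obj T ⟶ X) (g : X ⟶ Y) :
    bcEquiv f T Y (x ≫ g) = bcEquiv f T X x ≫ (Over.pullback f).map g :=
  (Over.mapPullbackAdj f).homEquiv_naturality_right x g

lemma comp_bcEquiv {T T' : Over S'} {X : Over S} (t : T' ⟶ T) (x : (Over.map f).obj T ⟶ X) :
    bcEquiv f T' X ((Over.map f).map t ≫ x) = t ≫ bcEquiv f T X x :=
  (Over.mapPullbackAdj f).homEquiv_naturality_left t x

lemma bcEquiv_symm_comp {T : Over S'} {X Y : Over S} (x : T ⟶ Red.bc f X) (g : X ⟶ Y) :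
    (bcEquiv f T Y).symm (x ≫ (Over.pullback f).map g) = (bcEquiv f T X).symm x ≫ g := by
  apply (bcEquiv f T Y).injective
  rw [bcEquiv_comp, Equiv.apply_symm_apply, Equiv.apply_symm_apply]

lemma comp_bcEquiv_symm {T T' : Over S'} {X : Over S} (t : T' ⟶ T) (x : T ⟶ Red.bc f X) :
    (bcEquiv f T' X).symm (t ≫ x) = (Over.map f).map t ≫ (bcEquiv f T X).symm x := by
  apply (bcEquiv f T' X).injective
  rw [comp_bcEquiv, Equiv.apply_symm_apply, Equiv.apply_symm_apply]

lemma bcEquiv_mul {T : Over S'} {G : Over S} [GrpObj G] (x y : (Over.map f).obj T ⟶ G) :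
    bcEquiv f T G (x * y) = bcEquiv f T G x * bcEquiv f T G y := by
  simp only [bcEquiv, Adjunction.homEquiv_unit]
  rw [Functor.map_mul, MonObj.comp_mul]

lemma bcEquiv_one {T : Over S'} {G : Over S} [GrpObj G] :
    bcEquiv f T G 1 = 1 := by
  simp only [bcEquiv, Adjunction.homEquiv_unit]
  rw [Functor.map_one, MonObj.comp_one]

/-- The bijection on points as a group isomorphism. -/
noncomputable def bcMulEquiv (T : Over S') (G : Over S) [GrpObj G] :
    ((Over.map f).obj T ⟶ G) ≃* (T ⟶ Red.bc f G) where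
  __ := bcEquiv f T G
  map_mul' := bcEquiv_mul f

end Groth.Agent.Sga3B.BcPts

namespace Groth.Agent.Sga3B.BcPts

variable {S S' : Scheme.{u}} {f : S' ⟶ S}

/-- An `S`-scheme `T` with an `S`-morphism `t` to `S'`, viewed over `S'`, then again over `S`, is `T`. -/
noncomputable def overIso {T : Over S} (t : T ⟶ Over.mk f) :
    (Over.map f).obj (Over.mk t.left) ≅ T :=
  Over.isoMk (Iso.refl _) (by simpa using (Over.w t).symm)

@[simp] lemma overIso_hom_left {T : Over S} (t : T ⟶ Over.mk f) : (overIso t).hom.left = 𝟙 _ := rfl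
@[simp] lemma overIso_inv_left {T : Over S} (t : T ⟶ Over.mk f) : (overIso t).inv.left = 𝟙 _ := rfl

/-- Evaluation of a morphism of base changes at a point. -/
noncomputable def ev {X Y : Over S} (φ : Red.bc f X ⟶ Red.bc f Y) {T : Over S} (x : T ⟶ X)
    (t : T ⟶ Over.mk f) : T ⟶ Y :=
  (overIso t).inv ≫ (bcEquiv f (Over.mk t.left) Y).symm
    (bcEquiv f (Over.mk t.left) X ((overIso t).hom ≫ x) ≫ φ)

lemma comp_ev {X Y : Over S} (φ : Red.bc f X ⟶ Red.bc f Y) {T T' : Over S} (h : T' ⟶ T)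
    (x : T ⟶ X) (t : T ⟶ Over.mk f) : h ≫ ev φ x t = ev φ (h ≫ x) (h ≫ t) := by
  let h' : Over.mk (h ≫ t).left ⟶ Over.mk t.left := Over.homMk h.left (by simp)
  have e1 : (overIso (h ≫ t)).hom ≫ h = (Over.map f).map h' ≫ (overIso t).hom := by
    ext1
    simp [h', overIso]
  have e2 : h ≫ (overIso t).inv = (overIso (h ≫ t)).inv ≫ (Over.map f).map h' := by
    rw [Iso.eq_inv_comp, ← Category.assoc, e1, Category.assoc, Iso.hom_inv_id, Category.comp_id]
  simp only [ev]
  rw [← Category.assoc, e2, Category.assoc, ← comp_bcEquiv_symm, ← Category.assoc h',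
    ← comp_bcEquiv, ← Category.assoc _ _ x, ← e1, Category.assoc]

lemma ev_mul {X Y : Over S} [GrpObj X] [GrpObj Y] (φ : Red.bc f X ⟶ Red.bc f Y) [IsMonHom φ]
    {T : Over S} (x y : T ⟶ X) (t : T ⟶ Over.mk f) : ev φ (x * y) t = ev φ x t * ev φ y t := by
  simp only [ev]
  rw [MonObj.comp_mul, bcEquiv_mul, MonObj.mul_comp, ← MonObj.comp_mul]
  congr 1
  exact (bcMulEquiv f _ Y).symm.map_mul _ _

lemma ev_comp {X Y Z : Over S} (φ : Red.bc f X ⟶ Red.bc f Y) (ψ : Red.bc f Y ⟶ Red.bc f Z)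
    {T : Over S} (x : T ⟶ X) (t : T ⟶ Over.mk f) : ev ψ (ev φ x t) t = ev (φ ≫ ψ) x t := by
  simp only [ev]
  rw [Iso.hom_inv_id_assoc, Equiv.apply_symm_apply, Category.assoc]

lemma ev_id {X : Over S} {T : Over S} (x : T ⟶ X) (t : T ⟶ Over.mk f) :
    ev (𝟙 (Red.bc f X)) x t = x := by
  simp only [ev]
  rw [Category.comp_id, Equiv.symm_apply_apply, Iso.inv_hom_id_assoc]

/-- The family of morphisms `X ⟶ Y` parametrised by `S'` given by a morphism of base changes. -/
noncomputable def fam {X Y : Over S} (φ : Red.bc f X ⟶ Red.bc f Y) : X ⊗ Over.mk f ⟶ Y :=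
  ev φ (fst _ _) (snd _ _)

lemma lift_fam {X Y : Over S} (φ : Red.bc f X ⟶ Red.bc f Y) {T : Over S} (x : T ⟶ X)
    (t : T ⟶ Over.mk f) : lift x t ≫ fam φ = ev φ x t := by
  rw [fam, comp_ev, lift_fst, lift_snd]

end Groth.Agent.Sga3B.BcPts
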