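import Groth.Prelude.Def_Red2
import Groth.Prelude.Def_AutFam

set_option autoImplicit false
universe u
open CategoryTheory MonoidalCategory CartesianMonoidalCategory MonObj GrpObj AlgebraicGeometry Limits

namespace Groth.Agent.Sga3B.DSPts

section bc
variable {S S' : Scheme.{u}} (f : S' ⟶ S) (T : Over S') (G : Over S) [GrpObj G]

/-- points of the base change -/
noncomputable def bcEquiv : ((Over.map f).obj T ⟶ G) ≃* (T ⟶ Red.bc f G) where
  toEquiv := (Over.mapPullbackAdj f).homEquiv T G
  map_mul' g h := by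
    simp only [Equiv.toFun_as_coe, Adjunction.homEquiv_unit]
    rw [← MonObj.comp_mul]
    congr 1
    exact (Over.pullback f).map_mul g h

lemma bcEquiv_apply (g : (Over.map f).obj T ⟶ G) :
    bcEquiv f T G g = (Over.mapPullbackAdj f).unit.app T ≫ (Over.pullback f).map g := by
  simp [bcEquiv, Adjunction.homEquiv_unit]

@[reassoc]
lemma bcEquiv_fst (g : (Over.map f).obj T ⟶ G) :
    (bcEquiv f T G g).left ≫ pullback.fst G.hom f = g.left := by
  rw [bcEquiv_apply]
  simp only [Over.comp_left, Category.assoc, Over.pullback_map_left, Over.mapPullbackAdj_unit_app]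
  erw [pullback.lift_fst, pullback.lift_fst_assoc]
  simp

@[reassoc]
lemma bcEquiv_symm_left (g : T ⟶ Red.bc f G) :
    ((bcEquiv f T G).symm g).left = g.left ≫ pullback.fst G.hom f := by
  rw [← bcEquiv_fst]; simp
 
variable {T} in
lemma bcEquiv_naturality {T' : Over S'} (h : T' ⟶ T) (g : (Over.map f).obj T ⟶ G) :
    h ≫ bcEquiv f T G g = bcEquiv f T' G ((Over.map f).map h ≫ g) := by
  simp only [bcEquiv, MulEquiv.coe_mk]
  exact ((Over.mapPullbackAdj f).homEquiv_naturality_left h g).symm

variable {T} in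
lemma bcEquiv_symm_naturality {T' : Over S'} (h : T' ⟶ T) (g : T ⟶ Red.bc f G) :
    (Over.map f).map h ≫ (bcEquiv f T G).symm g = (bcEquiv f T' G).symm (h ≫ g) := by
  apply (bcEquiv f T' G).injective
  rw [← bcEquiv_naturality]
  simp

variable {G} in
lemma bcEquiv_comp {G' : Over S} [GrpObj G'] (g : (Over.map f).obj T ⟶ G) (h : G ⟶ G') :
    bcEquiv f T G g ≫ (Over.pullback f).map h = bcEquiv f T G' (g ≫ h) := by
  simp only [bcEquiv, MulEquiv.coe_mk]
  exact ((Over.mapPullbackAdj f).homEquiv_naturality_right g h).symm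

end bc

attribute [local instance] ULift.algebra'

lemma uliftInt_ringHom_ext {A : Type u} [CommRing A] (f g : ULift.{u} ℤ →+* A) : f = g := by
  have : f.comp (ULift.ringEquiv.symm : ℤ ≃+* ULift.{u} ℤ).toRingHom =
    g.comp (ULift.ringEquiv.symm : ℤ ≃+* ULift.{u} ℤ).toRingHom := RingHom.ext_int _ _
  ext x
  exact congr($this x.down)

lemma monAlg_ringHom_ext {E : Type u} [CommRing E] {Γ : Type} [CommMonoid Γ]
    {f g : MonoidAlgebra (ULift.{u} ℤ) Γ →+* E}
    (h : ∀ m, f (MonoidAlgebra.single m 1) = g (MonoidAlgebra.single m 1)) : f = g := by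
  apply MonoidAlgebra.ringHom_ext
  · intro r
    exact congr($(uliftInt_ringHom_ext (f.comp MonoidAlgebra.singleOneRingHom)
      (g.comp MonoidAlgebra.singleOneRingHom)) r)
  · exact h

/-- The ring hom `ℤ[M] → E` attached to a character. -/
noncomputable def charHom {E : Type u} [CommRing E] {M : Type} [AddCommGroup M] (χ : Multiplicative M →* E) :
    MonoidAlgebra (ULift.{u} ℤ) (Multiplicative M) →+* E :=
  (MonoidAlgebra.lift (ULift.{u} ℤ) E (Multiplicative M) χ).toRingHom

@[simp]
lemma charHom_single {E : Type u} [CommRing E] {M : Type} [AddCommGroup M] (χ : Multiplicative M →* E)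
    (m : Multiplicative M) : charHom χ (MonoidAlgebra.single m 1) = χ m := by
  simp [charHom]

lemma comp_charHom {E E' : Type u} [CommRing E] [CommRing E'] {M : Type} [AddCommGroup M]
    (χ : Multiplicative M →* E) (φ : E →+* E') :
    φ.comp (charHom χ) = charHom ((φ : E →* E').comp χ) :=
  monAlg_ringHom_ext fun m => by simp

/-- the character attached to a ring hom -/
noncomputable def charOf {E : Type u} [CommRing E] {M : Type} [AddCommGroup M] 
    (f : MonoidAlgebra (ULift.{u} ℤ) (Multiplicative M) →+* E) : Multiplicative M →* E :=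
  (f.toMonoidHom).comp (MonoidAlgebra.of _ _)

@[simp]
lemma charOf_apply {E : Type u} [CommRing E] {M : Type} [AddCommGroup M] 
    (f : MonoidAlgebra (ULift.{u} ℤ) (Multiplicative M) →+* E) (m : Multiplicative M) :
    charOf f m = f (MonoidAlgebra.single m 1) := rfl

lemma charHom_charOf {E : Type u} [CommRing E] {M : Type} [AddCommGroup M]
    (f : MonoidAlgebra (ULift.{u} ℤ) (Multiplicative M) →+* E) :
    charHom (charOf f) = f := 
  monAlg_ringHom_ext fun m => by simp

lemma charOf_charHom {E : Type u} [CommRing E] {M : Type} [AddCommGroup M]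
    (χ : Multiplicative M →* E) :
    charOf (charHom χ) = χ := by
  ext m; simp

section

variable {S : Scheme.{u}}

/-- A scheme over `S` seen over `Spec ℤ`. -/
noncomputable abbrev toZ (T : Over S) : Over (Spec (CommRingCat.of (ULift.{u} ℤ))) :=
  (Over.map (Limits.IsTerminal.from specULiftZIsTerminal S)).obj T

lemma toZ_isOver {T : Over S} {A : Type u} [CommRing A] (g : T.left ⟶ Spec (.of A)) :
   g ≫ (Spec (.of A) ↘ Spec (.of (ULift.{u} ℤ))) = (toZ T).hom := 
  specULiftZIsTerminal.hom_ext _ _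

/-- point of `diag` given by a character -/
noncomputable def diagPt (T : Over S) (M : Type) [AddCommGroup M] (χ : Multiplicative M →* Γ(T.left, ⊤)) :
    toZ T ⟶ Red.diag (ULift.{u} ℤ) M :=
  (Over.homMk (V := (Spec (.of Γ(T.left, ⊤))).asOver (Spec (.of (ULift.{u} ℤ)))) T.left.toSpecΓ 
    (toZ_isOver _)) ≫ Spec.mapMulEquiv (MonoidAlgebra.liftMulEquiv _ _ _ χ)

lemma diagPt_mul (T : Over S) (M : Type) [AddCommGroup M] (χ χ' : Multiplicative M →* Γ(T.left, ⊤)) :
    diagPt T M (χ * χ') = diagPt T M χ * diagPt T M χ' := by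
  rw [diagPt, diagPt, diagPt, map_mul, map_mul, comp_mul]

lemma diagPt_left (T : Over S) (M : Type) [AddCommGroup M] (χ : Multiplicative M →* Γ(T.left, ⊤)) :
    (diagPt T M χ).left = T.left.toSpecΓ ≫ Spec.map (CommRingCat.ofHom (charHom χ)) := rfl

lemma diagPt_bijective (T : Over S) (M : Type) [AddCommGroup M] : Function.Bijective (diagPt T M) := by
  constructor
  · intro χ χ' h
    have h2 := congr($(h).left)
    rw [diagPt_left, diagPt_left] at h2
    have h3 := (ΓSpec.adjunction.homEquiv T.left (.op (.of (MonoidAlgebra (ULift.{u} ℤ) (Multiplicative M))))).injective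
       (a₁ := (CommRingCat.ofHom (charHom χ)).op) (a₂ := (CommRingCat.ofHom (charHom χ')).op) h2
    rw [← charOf_charHom χ, ← charOf_charHom χ']
    have h4 := Quiver.Hom.op_inj h3
    congr 1
    exact congr(CommRingCat.Hom.hom $h4)
  · intro g
    obtain ⟨f, hf⟩ := (ΓSpec.adjunction.homEquiv T.left (.op (.of (MonoidAlgebra (ULift.{u} ℤ) (Multiplicative M))))).surjective g.left
    let φ : MonoidAlgebra (ULift.{u} ℤ) (Multiplicative M) →+* Γ(T.left, ⊤) := f.unop.hom
    refine ⟨charOf φ, ?_⟩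
    ext1
    rw [diagPt_left, charHom_charOf φ, ← hf]
    rfl

/-- points of `diag` over ℤ with values in `T` -/
noncomputable def diagEquiv (T : Over S) (M : Type) [AddCommGroup M] :
    (Multiplicative M →* Γ(T.left, ⊤)) ≃* (toZ T ⟶ Red.diag (ULift.{u} ℤ) M) where
  toEquiv := Equiv.ofBijective _ (diagPt_bijective T M)
  map_mul' := diagPt_mul T M

/-- The point of `DS S M` attached to a character. -/
noncomputable def dsEquiv (T : Over S) (M : Type) [AddCommGroup M] :
    (Multiplicative M →* Γ(T.left, ⊤)) ≃* (T ⟶ Red.DS S M) :=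
  (diagEquiv T M).trans (bcEquiv (Limits.IsTerminal.from specULiftZIsTerminal S) T (Red.diag (ULift.{u} ℤ) M))

/-- the underlying morphism to `Spec ℤ[M]` of a point of `DS S M`. -/
noncomputable def dsFst {T : Over S} {M : Type} [AddCommGroup M] (x : T ⟶ Red.DS S M) : 
    T.left ⟶ Spec (CommRingCat.of (MonoidAlgebra (ULift.{u} ℤ) (Multiplicative M))) := 
  x.left ≫ pullback.fst _ _

lemma dsFst_dsEquiv (T : Over S) (M : Type) [AddCommGroup M] (χ : Multiplicative M →* Γ(T.left, ⊤)) :
    dsFst (dsEquiv T M χ) = T.left.toSpecΓ ≫ Spec.map (CommRingCat.ofHom (charHom χ)) := 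
  bcEquiv_fst _ _ _ _

lemma dsFst_comp {T T' : Over S} (h : T' ⟶ T) {M : Type} [AddCommGroup M] (x : T ⟶ Red.DS S M) :
    dsFst (h ≫ x) = h.left ≫ dsFst x := 
  Category.assoc _ _ _

lemma ds_ext {T : Over S} {M : Type} [AddCommGroup M] {x y : T ⟶ Red.DS S M} 
    (h : dsFst x = dsFst y) : x = y := by
  ext1
  apply pullback.hom_ext h
  exact (Over.w x).trans (Over.w y).symm

lemma dsEquiv_naturality {T T' : Over S} (h : T' ⟶ T) {M : Type} [AddCommGroup M] 
    (χ : Multiplicative M →* Γ(T.left, ⊤)) :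
    h ≫ dsEquiv T M χ = dsEquiv T' M ((h.left.appTop.hom : _ →* _).comp χ) := by
  apply ds_ext
  rw [dsFst_dsEquiv, dsFst_comp, dsFst_dsEquiv,
    ← comp_charHom, Scheme.toSpecΓ_naturality_assoc]
  simp

/-- The character attached to a point -/
noncomputable def dsChar {T : Over S} {M : Type} [AddCommGroup M] (x : T ⟶ Red.DS S M) :
    Multiplicative M →* Γ(T.left, ⊤) := (dsEquiv T M).symm x

lemma dsChar_comp {T T' : Over S} (h : T' ⟶ T) {M : Type} [AddCommGroup M] (x : T ⟶ Red.DS S M) :
    dsChar (h ≫ x) = (h.left.appTop.hom : _ →* _).comp (dsChar x) := by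
  apply (dsEquiv T' M).injective
  rw [← dsEquiv_naturality]
  simp [dsChar]

@[simp]
lemma dsEquiv_dsChar {T : Over S} {M : Type} [AddCommGroup M] (x : T ⟶ Red.DS S M) :
    dsEquiv T M (dsChar x) = x := by simp [dsChar]

@[simp]
lemma dsChar_dsEquiv {T : Over S} {M : Type} [AddCommGroup M] (χ : Multiplicative M →* Γ(T.left, ⊤)) :
    dsChar (dsEquiv T M χ) = χ := by simp [dsChar]

lemma dsChar_mul {T : Over S} {M : Type} [AddCommGroup M] (x y : T ⟶ Red.DS S M) :
    dsChar (x * y) = dsChar x * dsChar y := by simp [dsChar]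

lemma DSmap_left_fst {M N : Type} [AddCommGroup M] [AddCommGroup N] (φ : M →+ N) :
    (Red.DSmap S φ).left ≫ pullback.fst (Red.diag (ULift.{u, 0} ℤ) M).hom (specULiftZIsTerminal.from S) =
      pullback.fst (Red.diag (ULift.{u, 0} ℤ) N).hom (specULiftZIsTerminal.from S) ≫
      (Red.diagMap (ULift.{u} ℤ) φ).left := by
  exact pullback.lift_fst _ _ _

/-- `DSmap` on points -/
lemma dsFst_DSmap {T : Over S} {M N : Type} [AddCommGroup M] [AddCommGroup N] (φ : M →+ N)
    (x : T ⟶ Red.DS S N) :
    dsFst (x ≫ Red.DSmap S φ) = dsFst x ≫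
      Spec.map (CommRingCat.ofHom (MonoidAlgebra.mapDomainAlgHom (ULift.{u} ℤ) (ULift.{u} ℤ) 
        (AddMonoidHom.toMultiplicative φ)).toRingHom) := by
  refine (Category.assoc _ _ _).trans ?_
  refine (congr(x.left ≫ $(DSmap_left_fst (S := S) φ))).trans ?_
  exact (Category.assoc _ _ _).symm

lemma dsEquiv_DSmap {T : Over S} {M N : Type} [AddCommGroup M] [AddCommGroup N] (φ : M →+ N)
    (χ : Multiplicative N →* Γ(T.left, ⊤)) :
    dsEquiv T N χ ≫ Red.DSmap S φ = dsEquiv T M (χ.comp (AddMonoidHom.toMultiplicative φ)) := by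
  apply ds_ext
  rw [dsFst_dsEquiv, dsFst_DSmap, dsFst_dsEquiv, Category.assoc, ← Spec.map_comp,
    ← CommRingCat.ofHom_comp]
  congr 3
  apply monAlg_ringHom_ext
  intro m
  simp

lemma dsChar_DSmap {T : Over S} {M N : Type} [AddCommGroup M] [AddCommGroup N] (φ : M →+ N)
    (x : T ⟶ Red.DS S N) :
    dsChar (x ≫ Red.DSmap S φ) = (dsChar x).comp (AddMonoidHom.toMultiplicative φ) := by
  apply (dsEquiv T M).injective
  rw [← dsEquiv_DSmap]
  simp

end

end Groth.Agent.Sga3B.DSPts
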