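import Groth.Agent.Sga3B.TorusAlgClosed

/-!
# Base change of tori, arbitrary base change
-/

set_option autoImplicit false
open CategoryTheory MonoidalCategory CartesianMonoidalCategory MonObj GrpObj AlgebraicGeometry
universe u

namespace Groth.Agent.Sga3B.TorusBc

open Groth.Agent.Sga3B Groth.Agent.Sga3B.TorusAlgClosed

variable {S S' : Scheme.{u}}

lemma isSplitTorusWith_of_iso {M : Type} [AddCommGroup M] {T T' : Over S} [GrpObj T] [GrpObj T']
    (e : Grp.mk T ≅ Grp.mk T') (h : Red.IsSplitTorusWith M T) : Red.IsSplitTorusWith M T' := by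
  obtain ⟨e'⟩ := h
  exact ⟨e.symm ≪≫ e'⟩

lemma isSplitTorusWith_of_iso' {M : Type} [AddCommGroup M] {T T' : Over S} [GrpObj T] [GrpObj T']
    (e : Nonempty (Grp.mk T ≅ Grp.mk T')) : Red.IsSplitTorusWith M T ↔ Red.IsSplitTorusWith M T' :=
  ⟨isSplitTorusWith_of_iso e.some, isSplitTorusWith_of_iso e.some.symm⟩

/-- The notion of torus is invariant under isomorphism of group schemes. -/
theorem isTorus_of_iso {T T' : Over S} [GrpObj T] [GrpObj T'] (e : Grp.mk T ≅ Grp.mk T')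
    (h : Red.IsTorus T) : Red.IsTorus T' := by
  obtain ⟨S', f, hf, hs, hc, h⟩ := h
  refine ⟨S', f, hf, hs, hc, fun s' => ?_⟩
  obtain ⟨U, hU, r, hr⟩ := h s'
  exact ⟨U, hU, r, isSplitTorusWith_of_iso (BcIso.bcMapIso (U.ι ≫ f) e) hr⟩

open Limits in
/-- fpqc coverings are stable under base change -/
lemma qc_cover_bc {X : Scheme.{u}} (p : X ⟶ S) (g : S' ⟶ S)
    (hc : ∀ V : S.Opens, IsAffineOpen V → ∃ W : X.Opens, IsCompact (W : Set X) ∧ p.base '' (W : Set X) = (V : Set S))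
    (V : S'.Opens) (hV : IsAffineOpen V) :
    ∃ W : (pullback g p).Opens, IsCompact (W : Set ↥(pullback g p)) ∧
      (pullback.fst g p).base '' (W : Set ↥(pullback g p)) = (V : Set S') := by
  classical
  -- local statement
  have key : ∀ v : V, ∃ V₁ : S'.Opens, v.1 ∈ V₁ ∧ V₁ ≤ V ∧ ∃ W : (pullback g p).Opens,
      IsCompact (W : Set ↥(pullback g p)) ∧
      (pullback.fst g p).base '' (W : Set ↥(pullback g p)) = (V₁ : Set S') := by
    intro v
    obtain ⟨_, ⟨A, hA, rfl⟩, hvA, -⟩ := S.isBasis_affineOpens.exists_subset_of_mem_open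
      (Set.mem_univ (g v.1)) isOpen_univ
    have hv : v.1 ∈ (V ⊓ g ⁻¹ᵁ A : S'.Opens) := ⟨v.2, hvA⟩
    obtain ⟨_, ⟨V₁, hV₁, rfl⟩, hvV₁, hle⟩ := S'.isBasis_affineOpens.exists_subset_of_mem_open
      hv (V ⊓ g ⁻¹ᵁ A : S'.Opens).2
    obtain ⟨W₀, hW₀, hW₀'⟩ := hc A hA
    have hle1 : V₁ ≤ g ⁻¹ᵁ A := fun x hx => (hle hx).2
    have hle2 : W₀ ≤ p ⁻¹ᵁ A := by
      intro x hx
      have : p.base x ∈ (A : Set S) := by rw [← hW₀']; exact ⟨x, hx, rfl⟩
      exact this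
    refine ⟨V₁, hvV₁, fun x hx => (hle hx).1, (pullback.fst g p) ⁻¹ᵁ V₁ ⊓ (pullback.snd g p) ⁻¹ᵁ W₀,
      IsAffineOpen.isCompact_pullback_inf hV₁ hW₀ hA hle1 hle2, ?_⟩
    ext x
    constructor
    · rintro ⟨y, hy, rfl⟩
      exact hy.1
    · intro hx
      have h1 : g.base x ∈ (A : Set S) := hle1 hx
      rw [← hW₀'] at h1
      obtain ⟨w, hw, hwx⟩ := h1
      obtain ⟨z, hz1, hz2⟩ := Scheme.Pullback.exists_preimage_pullback (f := g) (g := p) x w hwx.symm
      refine ⟨z, ⟨?_, ?_⟩, hz1⟩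
      · change (pullback.fst g p) z ∈ V₁
        rw [hz1]; exact hx
      · change (pullback.snd g p) z ∈ W₀
        rw [hz2]; exact hw
  choose V₁ hv hle W hW hWV using key
  obtain ⟨t, ht⟩ := hV.isCompact.elim_finite_subcover (fun v : V => (V₁ v : Set S')) (fun v => (V₁ v).2)
    (fun x hx => Set.mem_iUnion.mpr ⟨⟨x, hx⟩, hv ⟨x, hx⟩⟩)
  refine ⟨⨆ v ∈ t, W v, ?_, ?_⟩
  · have : ((⨆ v ∈ t, W v : (pullback g p).Opens) : Set ↥(pullback g p)) = ⋃ v ∈ t, (W v : Set ↥(pullback g p)) := by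
      simp
    rw [this]
    exact t.isCompact_biUnion fun v _ => hW v
  · have : ((⨆ v ∈ t, W v : (pullback g p).Opens) : Set ↥(pullback g p)) = ⋃ v ∈ t, (W v : Set ↥(pullback g p)) := by
      simp
    rw [this, Set.image_iUnion₂]
    apply Set.Subset.antisymm
    · intro x hx
      obtain ⟨v, hvt, hx⟩ := Set.mem_iUnion₂.mp hx
      rw [hWV] at hx
      exact hle v hx
    · intro x hx
      obtain ⟨v, hvt, hx⟩ := Set.mem_iUnion₂.mp (ht hx)
      refine Set.mem_iUnion₂.mpr ⟨v, hvt, ?_⟩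
      rwa [hWV]

/-- **Base change of tori** along an arbitrary morphism. -/
theorem isTorus_bc (g : S' ⟶ S) {T : Over S} [GrpObj T] (h : Red.IsTorus T) : Red.IsTorus (Red.bc g T) := by
  obtain ⟨X, p, hf, hs, hc, h⟩ := h
  refine ⟨Limits.pullback g p, Limits.pullback.fst g p, inferInstance, inferInstance, qc_cover_bc p g hc, fun x => ?_⟩
  obtain ⟨U, hU, r, hr⟩ := h (Limits.pullback.snd g p x)
  refine ⟨(Limits.pullback.snd g p) ⁻¹ᵁ U, hU, r, ?_⟩
  have e1 : ((Limits.pullback.snd g p) ⁻¹ᵁ U).ι ≫ Limits.pullback.fst g p ≫ g =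
      ((Limits.pullback.snd g p) ∣_ U) ≫ U.ι ≫ p := by
    rw [Limits.pullback.condition, morphismRestrict_ι_assoc]
  have e2 := isSplitTorusWith_bc ((Limits.pullback.snd g p) ∣_ U) hr
  refine isSplitTorusWith_of_iso ?_ e2
  exact (BcIso.bcCompIso _ _ _).symm ≪≫ BcIso.bcCongrIso (by rw [← e1, Category.assoc]) T ≪≫ BcIso.bcCompIso _ _ _

end Groth.Agent.Sga3B.TorusBc
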