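import Groth.Agent.Sga3B.SsKer
import Groth.Agent.Sga3B.TorusBc
import Groth.Agent.Sga3B.DSPts
import Groth.Agent.Sga3B.BcPts
import Groth.Agent.Sga3B.Pts

/-!
# The roots of a semisimple group span the character group up to finite index

If the group is semisimple then every character of the split maximal torus has a non-zero multiple
in the span of the roots: otherwise there is a non-trivial subtorus `𝔾_m` in the centre.
-/

set_option autoImplicit false
open CategoryTheory MonoidalCategory CartesianMonoidalCategory MonObj GrpObj AlgebraicGeometry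
universe u

namespace Groth.Agent.Sga3B.BorSpan613

/-- If a multiple of `m` never lies in `N`, there is a surjection `M → ℤ` which kills `N`. -/
theorem exists_surjective_of_not_mem {M : Type*} [AddCommGroup M] [Module.Finite ℤ M]
    (N : Submodule ℤ M) (m : M) (hm : ∀ n : ℤ, n ≠ 0 → n • m ∉ N) :
    ∃ lam : M →+ ℤ, Function.Surjective lam ∧ ∀ x ∈ N, lam x = 0 := by
  let Q := M ⧸ N
  let Q' := Q ⧸ Submodule.torsion ℤ Q
  let p : M →ₗ[ℤ] Q' := (Submodule.torsion ℤ Q).mkQ.comp N.mkQ
  have hp : Function.Surjective p := (Submodule.mkQ_surjective _).comp (Submodule.mkQ_surjective _)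
  have hfree : Module.Free ℤ Q' := Module.free_of_finite_type_torsion_free'
  have hne : Nontrivial Q' := by
    refine ⟨⟨p m, 0, fun h => ?_⟩⟩
    have h1 : N.mkQ m ∈ Submodule.torsion ℤ Q := by
      change (Submodule.torsion ℤ Q).mkQ (N.mkQ m) = 0 at h
      rwa [← LinearMap.mem_ker, Submodule.ker_mkQ] at h
    rw [Submodule.mem_torsion_iff] at h1
    obtain ⟨a, ha⟩ := h1
    refine hm a.1 (nonZeroDivisors.coe_ne_zero a) ?_
    have h2 : N.mkQ (a.1 • m) = 0 := by rw [map_smul]; exact ha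
    rwa [← LinearMap.mem_ker, Submodule.ker_mkQ] at h2
  let b := Module.Free.chooseBasis ℤ Q'
  have hidx : Nonempty (Module.Free.ChooseBasisIndex ℤ Q') := by
    by_contra h
    rw [not_nonempty_iff] at h
    have : Subsingleton Q' := b.repr.toEquiv.injective.subsingleton
    exact not_subsingleton Q' this
  obtain ⟨i⟩ := hidx
  refine ⟨((b.coord i).comp p).toAddMonoidHom, ?_, ?_⟩
  · intro k
    obtain ⟨x, hx⟩ := hp (k • b i)
    refine ⟨x, ?_⟩
    change b.coord i (p x) = k
    rw [hx, map_smul, Module.Basis.coord_apply, b.repr_self, Finsupp.single_eq_same, smul_eq_mul,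
      _root_.mul_one]
  · intro x hx
    change b.coord i ((Submodule.torsion ℤ Q).mkQ (N.mkQ x)) = 0
    have h1 : N.mkQ x = 0 := by rwa [← LinearMap.mem_ker, Submodule.ker_mkQ]
    rw [h1, map_zero, map_zero]

open Groth.Agent.Sga3B.DSPts in
/-- `D(lam)` is a monomorphism when `lam` is surjective. -/
lemma mono_DSmap (S : Scheme.{u}) {M N : Type} [AddCommGroup M] [AddCommGroup N] (lam : M →+ N)
    (hlam : Function.Surjective lam) : Mono (Red.DSmap S lam) where
  right_cancellation {T} x y h := by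
    obtain ⟨χ, rfl⟩ := (dsEquiv T N).surjective x
    obtain ⟨χ', rfl⟩ := (dsEquiv T N).surjective y
    rw [dsEquiv_DSmap, dsEquiv_DSmap] at h
    have h1 := (dsEquiv T M).injective h
    have h3 : χ = χ' := by
      refine MonoidHom.ext fun n => ?_
      obtain ⟨m, hm⟩ := hlam n.toAdd
      have h2 := DFunLike.congr_fun h1 (Multiplicative.ofAdd m)
      change χ (Multiplicative.ofAdd (lam m)) = χ' (Multiplicative.ofAdd (lam m)) at h2
      rw [hm] at h2
      exact h2
    rw [h3]

lemma isMonHom_DSmap (S : Scheme.{u}) {M N : Type} [AddCommGroup M] [AddCommGroup N] (lam : M →+ N) :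
    IsMonHom (Red.DSmap S lam) := by
  apply Pts.isMonHom_of_points
  intro X x y
  rw [← DSPts.dsEquiv_dsChar ((x * y) ≫ Red.DSmap S lam),
    ← DSPts.dsEquiv_dsChar (x ≫ Red.DSmap S lam), ← DSPts.dsEquiv_dsChar (y ≫ Red.DSmap S lam),
    ← map_mul]
  congr 1
  rw [DSPts.dsChar_DSmap, DSPts.dsChar_DSmap, DSPts.dsChar_DSmap, DSPts.dsChar_mul]
  rfl

lemma DSmap_comp_DSmap (S : Scheme.{u}) {M N L : Type} [AddCommGroup M] [AddCommGroup N] [AddCommGroup L]
    (φ : M →+ N) (ψ : L →+ M) : Red.DSmap S φ ≫ Red.DSmap S ψ = Red.DSmap S (φ.comp ψ) := by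
  have h : ∀ (T : Over S) (x : T ⟶ Red.DS S N), x ≫ Red.DSmap S φ ≫ Red.DSmap S ψ =
      x ≫ Red.DSmap S (φ.comp ψ) := by
    intro T x
    refine (DSPts.dsEquiv T L).symm.injective ?_
    change DSPts.dsChar _ = DSPts.dsChar _
    rw [← Category.assoc, DSPts.dsChar_DSmap, DSPts.dsChar_DSmap, DSPts.dsChar_DSmap]
    rfl
  rw [← Category.id_comp (Red.DSmap S (φ.comp ψ)), ← h, Category.id_comp]

lemma DSmap_id (S : Scheme.{u}) (M : Type) [AddCommGroup M] :
    Red.DSmap S (AddMonoidHom.id M) = 𝟙 (Red.DS S M) := by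
  have h : ∀ (T : Over S) (x : T ⟶ Red.DS S M), x ≫ Red.DSmap S (AddMonoidHom.id M) = x := by
    intro T x
    refine (DSPts.dsEquiv T M).symm.injective ?_
    change DSPts.dsChar _ = DSPts.dsChar _
    rw [DSPts.dsChar_DSmap]
    rfl
  rw [← h _ (𝟙 _), Category.id_comp]

/-- Isomorphic character groups give isomorphic diagonalisable groups. -/
theorem exists_iso_DS (S : Scheme.{u}) {M N : Type} [AddCommGroup M] [AddCommGroup N] (e : M ≃+ N) :
    ∃ E : Grp.mk (Red.DS S N) ≅ Grp.mk (Red.DS S M),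
      E.hom.hom.hom = Red.DSmap S e.toAddMonoidHom ∧ E.inv.hom.hom = Red.DSmap S e.symm.toAddMonoidHom := by
  let E : Red.DS S N ≅ Red.DS S M :=
    { hom := Red.DSmap S e.toAddMonoidHom
      inv := Red.DSmap S e.symm.toAddMonoidHom
      hom_inv_id := by
        rw [DSmap_comp_DSmap, ← DSmap_id]
        congr 1
        ext x
        exact e.apply_symm_apply x
      inv_hom_id := by
        rw [DSmap_comp_DSmap, ← DSmap_id]
        congr 1
        ext x
        exact e.symm_apply_apply x }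
  have : IsMonHom E.hom := isMonHom_DSmap S _
  exact ⟨Grp.mkIso' E, rfl, rfl⟩

/-- A split torus is a torus. -/
theorem isTorus_of_isSplitTorusWith {S : Scheme.{u}} {r : ℕ} {T : Over S} [GrpObj T]
    (h : Red.IsSplitTorusWith (Fin r → ℤ) T) : Red.IsTorus T := by
  refine ⟨S, 𝟙 S, inferInstance, inferInstance, fun V hV => ⟨V, hV.isCompact, by simp⟩, fun s => ?_⟩
  exact ⟨⊤, trivial, r, TorusAlgClosed.isSplitTorusWith_bc _ h⟩

/-- `𝔾_m` is a torus. -/
theorem isTorus_Gm (S : Scheme.{u}) : Red.IsTorus (Red.Gm S) := by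
  obtain ⟨E, -⟩ := exists_iso_DS S (AddEquiv.piUnique (fun _ : Fin 1 => ℤ))
  exact isTorus_of_isSplitTorusWith (r := 1) ⟨E⟩

section main

open Groth.Agent.Sga3B.DSPts

variable {S : Scheme.{u}}

lemma dsChar_one {T : Over S} {M : Type} [AddCommGroup M] : dsChar (1 : T ⟶ Red.DS S M) = 1 :=
  (dsEquiv T M).symm.map_one

/-- `𝔾_m` over an algebraically closed field is not trivial. -/
theorem not_isTrivialGrp_bc_Gm {K : Type u} [Field K] [IsAlgClosed K] (f : Spec (CommRingCat.of K) ⟶ S) :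
    ¬ Red.IsTrivialGrp (Red.bc f (Red.Gm S)) := by
  intro h
  have hiso : IsIso (Red.bc f (Red.Gm S)).hom := h
  let T : Over (Spec (CommRingCat.of K)) := Over.mk (𝟙 _)
  have hsub : ∀ x y : T ⟶ Red.bc f (Red.Gm S), x = y := by
    intro x y
    ext1
    rw [← cancel_mono (Red.bc f (Red.Gm S)).hom, Over.w, Over.w]
  let X := (Over.map f).obj T
  -- a unit different from `1`
  obtain ⟨a, ha⟩ : ∃ a : Kˣ, a ≠ 1 := by
    have h1 : Infinite K := inferInstance
    classical
    obtain ⟨a, ha⟩ := Infinite.exists_notMem_finset ({0, 1} : Finset K)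
    rw [Finset.mem_insert, Finset.mem_singleton, not_or] at ha
    exact ⟨Units.mk0 a ha.1, fun h => ha.2 (by rw [← Units.val_mk0 ha.1, h, Units.val_one])⟩
  let r : K →+* Γ(Spec (CommRingCat.of K), ⊤) := (Scheme.ΓSpecIso (CommRingCat.of K)).inv.hom
  have hr : Function.Injective r := r.injective
  let χ : Multiplicative ℤ →* Γ(X.left, ⊤) :=
    (r : K →* Γ(Spec (CommRingCat.of K), ⊤)).comp ((Units.coeHom K).comp (zpowersHom Kˣ a))
  have h1 := hsub (BcPts.bcEquiv f T (Red.Gm S) (dsEquiv X ℤ χ)) (BcPts.bcEquiv f T (Red.Gm S) (dsEquiv X ℤ 1))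
  have h2 := (dsEquiv X ℤ).injective ((BcPts.bcEquiv f T (Red.Gm S)).injective h1)
  have h3 := DFunLike.congr_fun h2 (Multiplicative.ofAdd 1)
  have h4 : r (a : K) = 1 := by
    have h5 : χ (Multiplicative.ofAdd 1) = r (a : K) := by
      change r (((zpowersHom Kˣ a) (Multiplicative.ofAdd 1) : Kˣ) : K) = r (a : K)
      rw [zpowersHom_apply]
      simp
    rw [← h5, h3]
    rfl
  rw [← map_one r] at h4
  exact ha (Units.ext (hr h4))

/-- **The roots of a semisimple group span the character group up to finite index** (if points of the torus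
killed by all the roots are central). -/
theorem exists_zsmul_mem_span [Nonempty S] {G : Over S} [GrpObj G] (D : Red.SplitRed G) (hG : Red.IsSemisimple G)
    (hcent : ∀ (X : Over S) (t : X ⟶ D.T),
      (∀ a : D.idx, t ≫ D.split.hom.hom.hom ≫ Red.chi S (D.P.root a) = 1) →
        ∀ h : X ⟶ G, (t ≫ D.i) * h = h * (t ≫ D.i)) (m : D.M) :
    ∃ n : ℤ, n ≠ 0 ∧ n • m ∈ Submodule.span ℤ (Set.range D.P.root) := by
  by_contra hm
  push Not at hm
  obtain ⟨lam, hlam, hlam0⟩ := exists_surjective_of_not_mem _ m hm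
  obtain ⟨s⟩ := (inferInstance : Nonempty S)
  let f := Red.geomPt s
  have hDi := D.maximalTorus
  have hmono : Mono D.i := hDi.2.1
  have hDim : IsMonHom D.i := hDi.1
  have h1 := mono_DSmap S lam hlam
  have h2 := isMonHom_DSmap S lam
  have h3 : IsMonHom D.split.inv.hom.hom := inferInstance
  have h3' : IsIso D.split.inv.hom.hom :=
    ⟨D.split.hom.hom.hom, congrArg (fun k => k.hom.hom) D.split.inv_hom_id,
      congrArg (fun k => k.hom.hom) D.split.hom_inv_id⟩
  let τ : Red.Gm S ⟶ D.T := Red.DSmap S lam ≫ D.split.inv.hom.hom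
  let j0 : Red.Gm S ⟶ G := τ ≫ D.i
  have hj0 : IsMonHom j0 := inferInstance
  have hj0m : Mono j0 := mono_comp _ _
  have hj : IsMonHom ((Over.pullback f).map j0) := inferInstance
  have hjm : Mono ((Over.pullback f).map j0) := inferInstance
  have hT : Red.IsTorus (Red.bc f (Red.Gm S)) := TorusBc.isTorus_bc f (isTorus_Gm S)
  have hss := hG.2.2 s
  have haff : IsAffine (Red.geomFibre s G).left := hss.1.1
  have hsm : Smooth (Red.geomFibre s G).hom := hss.1.2.1
  have hcl := SsKer.isClosedImmersion_of_isTorus ((Over.pullback f).map j0) hT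
  refine not_isTrivialGrp_bc_Gm f (hss.2 _ ((Over.pullback f).map j0) hcl ?_ hT)
  intro T g n
  refine ⟨n, ?_⟩
  obtain ⟨g0, rfl⟩ := (BcPts.bcMulEquiv f T G).surjective g
  obtain ⟨n0, rfl⟩ := (BcPts.bcMulEquiv f T (Red.Gm S)).surjective n
  have h5 : (BcPts.bcMulEquiv f T (Red.Gm S)) n0 ≫ (Over.pullback f).map j0 =
      BcPts.bcMulEquiv f T G (n0 ≫ j0) := (BcPts.bcEquiv_comp f n0 j0).symm
  have h6 : (n0 ≫ j0) * g0 = g0 * (n0 ≫ j0) := by
    refine hcent _ (n0 ≫ τ) (fun a => ?_) g0
    have h7 : (n0 ≫ τ) ≫ D.split.hom.hom.hom ≫ Red.chi S (D.P.root a) =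
        (n0 ≫ Red.DSmap S lam) ≫ Red.chi S (D.P.root a) := by
      have h8 : D.split.inv.hom.hom ≫ D.split.hom.hom.hom = 𝟙 _ :=
        congrArg (fun k => k.hom.hom) D.split.inv_hom_id
      simp only [τ, Category.assoc]
      rw [reassoc_of% h8]
    rw [h7]
    refine (dsEquiv _ ℤ).symm.injective ?_
    change dsChar _ = dsChar _
    rw [dsChar_one, Red.chi, dsChar_DSmap, dsChar_DSmap]
    ext
    change dsChar n0 (Multiplicative.ofAdd (lam ((zmultiplesHom D.M (D.P.root a)) (1 : ℤ)))) = 1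
    rw [zmultiplesHom_apply, one_zsmul, hlam0 _ (Submodule.subset_span ⟨a, rfl⟩), ofAdd_zero, map_one]
  rw [h5, ← map_mul, ← map_inv, ← map_mul, ← h6, mul_inv_cancel_right]

end main

end Groth.Agent.Sga3B.BorSpan613
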