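import Groth.Agent.Sga3B.IsoFam
import Groth.Agent.Sga3B.Par.EtGlue
import Groth.Prelude.Def_Red2

/-!
# Descent of isomorphisms of group schemes characterised by their restriction

`S`-groups `G`, `G'`, homomorphisms `iB : B ⟶ G`, `iB' : B' ⟶ G'`, an isomorphism `f : B ≅ B'`.  If, locally on `S` for
the fppf (étale) topology, `f` is the restriction of an isomorphism `G ≅ G'`, and if such an extension is unique after
every further base change, then `f` is the restriction of exactly one isomorphism `G ≅ G'` over `S`.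
-/

set_option autoImplicit false
open CategoryTheory MonoidalCategory CartesianMonoidalCategory MonObj GrpObj AlgebraicGeometry
universe u

namespace Groth.Agent.Sga3B.BorDesc613
open Groth.Agent.Sga3B.BcPts Groth.Agent.Sga3B.BcIso Groth.Agent.Sga3B.IsoFam Groth.Agent.Sga3B.Par

variable {S : Scheme.{u}}

section ev

variable {S' : Scheme.{u}} {f : S' ⟶ S}

lemma ev_map {X Y : Over S} (g : X ⟶ Y) {T : Over S} (x : T ⟶ X) (t : T ⟶ Over.mk f) :
    ev ((Over.pullback f).map g) x t = x ≫ g := by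
  simp only [ev]
  rw [← bcEquiv_comp, Equiv.symm_apply_apply, Category.assoc, Iso.inv_hom_id_assoc]

/-- A morphism of base changes is determined by its values on points. -/
lemma eq_of_ev {X Y : Over S} {φ ψ : Red.bc f X ⟶ Red.bc f Y}
    (h : ∀ (T : Over S) (x : T ⟶ X) (t : T ⟶ Over.mk f), ev φ x t = ev ψ x t) : φ = ψ := by
  let Z := Red.bc f X
  let t : (Over.map f).obj Z ⟶ Over.mk f := Over.homMk Z.hom
  let ζe : Over.mk t.left ≅ Z := Over.isoMk (Iso.refl _) (by simp [t])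
  let ζ : Over.mk t.left ⟶ Z := ζe.hom
  have h0 : (overIso t).hom = (Over.map f).map ζ := by
    ext1
    rfl
  have h1 := h _ ((bcEquiv f Z X).symm (𝟙 _)) t
  simp only [ev] at h1
  rw [h0, comp_bcEquiv, Equiv.apply_symm_apply, Category.comp_id, cancel_epi] at h1
  have h2 := (bcEquiv f (Over.mk t.left) Y).symm.injective h1
  exact (cancel_epi ζ).mp h2

lemma ev_unfam {G H : Over S} (φ : G ⊗ Over.mk f ⟶ H) {T : Over S} (x : T ⟶ G)
    (t : T ⟶ Over.mk f) :
    ev (f := f) (unfam (T := Over.mk f) φ) x t = lift x t ≫ φ := by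
  have h1 := comp_unfam (T := Over.mk f) φ (X := Over.mk t.left)
    (bcEquiv f (Over.mk t.left) G ((overIso t).hom ≫ x))
  simp only [ev]
  refine (congrArg (fun k => (overIso t).inv ≫ (bcEquiv f (Over.mk t.left) H).symm k) h1).trans ?_
  change (overIso t).inv ≫ (bcEquiv f (Over.mk t.left) H).symm (bcEquiv f (Over.mk t.left) H
    (lift ((bcEquiv f _ G).symm (bcEquiv f (Over.mk t.left) G ((overIso t).hom ≫ x)))
      (st (T := Over.mk f) (Over.mk t.left)) ≫ φ)) = _
  rw [Equiv.symm_apply_apply, Equiv.symm_apply_apply, ← Category.assoc, comp_lift,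
    Iso.inv_hom_id_assoc]
  congr 2

lemma ev_bcMapIso {G H : Over S} [GrpObj G] [GrpObj H] (e : Grp.mk G ≅ Grp.mk H) {T : Over S}
    (x : T ⟶ G) (t : T ⟶ Over.mk f) : ev (bcMapIso f e).hom.hom.hom x t = x ≫ e.hom.hom.hom :=
  ev_map _ _ _

end ev

section cover

variable {J : Type u} {S' : J → Scheme.{u}} (v : ∀ i, S' i ⟶ S)
  [∀ i, Flat (v i)] [∀ i, LocallyOfFinitePresentation (v i)]

omit [∀ i, Flat (v i)] [∀ i, LocallyOfFinitePresentation (v i)] in
/-- the projections `X ×_S S'_i ⟶ X` of a covering are a covering -/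
lemma surj_fst (hv : ∀ s : S, ∃ i, s ∈ Set.range (v i)) (X : Over S) (x : X.left) :
    ∃ i, x ∈ Set.range (fst X (Over.mk (v i))).left := by
  obtain ⟨i, s', hs'⟩ := hv (X.hom x)
  obtain ⟨z, hz, -⟩ := Scheme.Pullback.exists_preimage_pullback x s' hs'.symm
  exact ⟨i, z, hz⟩

omit [∀ i, LocallyOfFinitePresentation (v i)] in
lemma flat_fst (X : Over S) (i : J) : Flat (fst X (Over.mk (v i))).left :=
  inferInstanceAs (Flat (Limits.pullback.fst X.hom (v i)))

omit [∀ i, Flat (v i)] in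
lemma lfp_fst (X : Over S) (i : J) : LocallyOfFinitePresentation (fst X (Over.mk (v i))).left :=
  inferInstanceAs (LocallyOfFinitePresentation (Limits.pullback.fst X.hom (v i)))

/-- Morphisms of `S`-schemes which agree locally on `S` are equal. -/
theorem hom_ext (hv : ∀ s : S, ∃ i, s ∈ Set.range (v i)) {X Y : Over S} {a b : X ⟶ Y}
    (h : ∀ i (T : Over S) (x : T ⟶ X) (_ : T ⟶ Over.mk (v i)), x ≫ a = x ≫ b) : a = b := by
  have := flat_fst v X
  have := lfp_fst v X
  ext1
  refine EtGlue.hom_ext (fun i => (fst X (Over.mk (v i))).left) (surj_fst v hv X) fun i => ?_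
  exact congrArg CommaMorphism.left (h i _ (fst X (Over.mk (v i))) (snd X (Over.mk (v i))))

/-- Gluing of morphisms of `S`-schemes along a covering of `S`. -/
theorem existsUnique_hom (hv : ∀ s : S, ∃ i, s ∈ Set.range (v i)) {X Y : Over S}
    (φ : ∀ i, Red.bc (v i) X ⟶ Red.bc (v i) Y)
    (h : ∀ (i j : J) (T : Over S) (x : T ⟶ X) (t : T ⟶ Over.mk (v i)) (t' : T ⟶ Over.mk (v j)),
      ev (φ i) x t = ev (φ j) x t') :
    ∃! g : X ⟶ Y, ∀ i (T : Over S) (x : T ⟶ X) (t : T ⟶ Over.mk (v i)), x ≫ g = ev (φ i) x t := by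
  have h1 := flat_fst v X
  have h2 := lfp_fst v X
  obtain ⟨g, hg, -⟩ := EtGlue.existsUnique_glue (fun i => (fst X (Over.mk (v i))).left)
    (surj_fst v hv X) (fun i => (fam (φ i)).left) (by
      intro i j T a b hab
      let T' : Over S := Over.mk (a ≫ (X ⊗ Over.mk (v i)).hom)
      let a' : T' ⟶ X ⊗ Over.mk (v i) := Over.homMk a
      let b' : T' ⟶ X ⊗ Over.mk (v j) := Over.homMk b (by
        change b ≫ (X ⊗ Over.mk (v j)).hom = a ≫ (X ⊗ Over.mk (v i)).hom
        rw [← Over.w (fst X (Over.mk (v j))), ← Over.w (fst X (Over.mk (v i))),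
          ← Category.assoc, ← Category.assoc, hab])
      have h3 : a' ≫ fst _ _ = b' ≫ fst _ _ := by
        ext1
        exact hab
      have h4 : a' ≫ fam (φ i) = b' ≫ fam (φ j) := by
        rw [fam, fam, comp_ev, comp_ev, h3]
        exact h i j T' _ _ _
      exact congrArg CommaMorphism.left h4)
  have hgw : g ≫ Y.hom = X.hom := by
    refine EtGlue.hom_ext (fun i => (fst X (Over.mk (v i))).left) (surj_fst v hv X) fun i => ?_
    rw [← Category.assoc, hg, Over.w, Over.w]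
  have hg' : ∀ i (T : Over S) (x : T ⟶ X) (t : T ⟶ Over.mk (v i)),
      x ≫ (Over.homMk g hgw : X ⟶ Y) = ev (φ i) x t := by
    intro i T x t
    have h5 : fst X (Over.mk (v i)) ≫ (Over.homMk g hgw : X ⟶ Y) = fam (φ i) := by
      ext1
      exact hg i
    rw [← lift_fam, ← h5, ← Category.assoc, lift_fst]
  refine ⟨Over.homMk g hgw, hg', fun g' hg'' => ?_⟩
  refine hom_ext v hv fun i T x t => ?_
  rw [hg' i T x t, hg'' i T x t]

/-- Gluing of isomorphisms of `S`-groups along a covering of `S`. -/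
theorem exists_iso (hv : ∀ s : S, ∃ i, s ∈ Set.range (v i)) {G H : Over S} [GrpObj G] [GrpObj H]
    (φ : ∀ i, Grp.mk (Red.bc (v i) G) ≅ Grp.mk (Red.bc (v i) H))
    (h : ∀ (i j : J) (T : Over S) (x : T ⟶ G) (t : T ⟶ Over.mk (v i)) (t' : T ⟶ Over.mk (v j)),
      ev (φ i).hom.hom.hom x t = ev (φ j).hom.hom.hom x t') :
    ∃ e : Grp.mk G ≅ Grp.mk H, ∀ i (T : Over S) (x : T ⟶ G) (t : T ⟶ Over.mk (v i)),
      x ≫ e.hom.hom.hom = ev (φ i).hom.hom.hom x t := by
  have hhi : ∀ i, (φ i).hom.hom.hom ≫ (φ i).inv.hom.hom = 𝟙 _ := fun i =>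
    congrArg (fun k => k.hom.hom) (φ i).hom_inv_id
  have hih : ∀ i, (φ i).inv.hom.hom ≫ (φ i).hom.hom.hom = 𝟙 _ := fun i =>
    congrArg (fun k => k.hom.hom) (φ i).inv_hom_id
  have h1 : ∀ i (T : Over S) (x : T ⟶ G) (t : T ⟶ Over.mk (v i)),
      ev (φ i).inv.hom.hom (ev (φ i).hom.hom.hom x t) t = x := fun i T x t => by
    rw [ev_comp, hhi]
    exact ev_id x t
  have h2 : ∀ i (T : Over S) (y : T ⟶ H) (t : T ⟶ Over.mk (v i)),
      ev (φ i).hom.hom.hom (ev (φ i).inv.hom.hom y t) t = y := fun i T y t => by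
    rw [ev_comp, hih]
    exact ev_id y t
  obtain ⟨a, ha, -⟩ := existsUnique_hom v hv (fun i => (φ i).hom.hom.hom) h
  obtain ⟨b, hb, -⟩ := existsUnique_hom v hv (fun i => (φ i).inv.hom.hom)
    (fun i j T y t t' => by
      have h3 := h i j T (ev (φ i).inv.hom.hom y t) t t'
      rw [h2] at h3
      conv_rhs => rw [h3]
      rw [h1])
  have hab : a ≫ b = 𝟙 G := hom_ext v hv fun i T x t => by
    rw [← Category.assoc, ha i T x t, hb i T _ t]
    exact (h1 i T x t).trans (Category.comp_id x).symm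
  have hba : b ≫ a = 𝟙 H := hom_ext v hv fun i T y t => by
    rw [← Category.assoc, hb i T y t, ha i T _ t]
    exact (h2 i T y t).trans (Category.comp_id y).symm
  have ham : IsMonHom a := isMonHom_of_mul a fun T x y => by
    refine hom_ext v hv fun i T' z t => ?_
    rw [← Category.assoc, MonObj.comp_mul, MonObj.comp_mul, ← Category.assoc, ← Category.assoc,
      ha i T' _ t, ha i T' _ t, ha i T' _ t, ev_mul]
  let e : G ≅ H := ⟨a, b, hab, hba⟩
  have : IsMonHom e.hom := ham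
  exact ⟨Grp.mkIso' e, ha⟩

/-- **Descent.**  An isomorphism `f : B ≅ B'` extends to exactly one isomorphism `G ≅ G'` if it does so locally on `S`
for the fppf topology and extensions are unique after base change. -/
theorem existsUnique_of_cover (hv : ∀ s : S, ∃ i, s ∈ Set.range (v i))
    {G G' B B' : Over S} [GrpObj G] [GrpObj G'] [GrpObj B] [GrpObj B']
    (iB : B ⟶ G) (iB' : B' ⟶ G') (f : Grp.mk B ≅ Grp.mk B')
    (hex : ∀ i, ∃ φ : Grp.mk (Red.bc (v i) G) ≅ Grp.mk (Red.bc (v i) G'),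
      (Over.pullback (v i)).map iB ≫ φ.hom.hom.hom =
        (bcMapIso (v i) f).hom.hom.hom ≫ (Over.pullback (v i)).map iB')
    (huniq : ∀ (i : J) (T : Scheme.{u}) (q : T ⟶ S' i) (p : T ⟶ S), q ≫ v i = p →
      ∀ φ ψ : Grp.mk (Red.bc p G) ≅ Grp.mk (Red.bc p G'),
        (Over.pullback p).map iB ≫ φ.hom.hom.hom =
          (bcMapIso p f).hom.hom.hom ≫ (Over.pullback p).map iB' →
        (Over.pullback p).map iB ≫ ψ.hom.hom.hom =
          (bcMapIso p f).hom.hom.hom ≫ (Over.pullback p).map iB' → φ = ψ) :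
    ∃! φ : Grp.mk G ≅ Grp.mk G', iB ≫ φ.hom.hom.hom = f.hom.hom.hom ≫ iB' := by
  choose φ hφ using hex
  -- the values of the local isomorphisms on `B`
  have hφB : ∀ i (T : Over S) (b : T ⟶ B) (t : T ⟶ Over.mk (v i)),
      ev (φ i).hom.hom.hom (b ≫ iB) t = (b ≫ f.hom.hom.hom) ≫ iB' := by
    intro i T b t
    rw [← ev_map (f := v i) iB b t, ev_comp, hφ i, ← ev_comp, ev_map]
    rw [ev_bcMapIso]
  obtain ⟨e, he⟩ := exists_iso v hv φ (by
    intro i j T x t t'
    -- the pull-backs of `φ i` and `φ j` to `T`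
    have key : ∀ (i : J) (t : T ⟶ Over.mk (v i)),
        ∃ e : Grp.mk (Red.bc T.hom G) ≅ Grp.mk (Red.bc T.hom G'),
          (∀ (X : Over S) (x : X ⟶ G) (s : X ⟶ T),
            ev (f := T.hom) e.hom.hom.hom x s = ev (φ i).hom.hom.hom x (s ≫ t)) := by
      intro i t
      obtain ⟨e, he⟩ := exists_iso_of_isIsoFamily (isIsoFamily_pull (isIsoFamily_fam (φ i)) t)
      refine ⟨e, fun X x s => ?_⟩
      rw [he]
      refine (ev_unfam (f := T.hom) (G ◁ t ≫ fam (φ i).hom.hom.hom) x s).trans ?_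
      rw [← Category.assoc, lift_whiskerLeft, lift_fam]
    have key2 : ∀ (i : J) (t : T ⟶ Over.mk (v i))
        (e : Grp.mk (Red.bc T.hom G) ≅ Grp.mk (Red.bc T.hom G')),
        (∀ (X : Over S) (x : X ⟶ G) (s : X ⟶ T),
            ev (f := T.hom) e.hom.hom.hom x s = ev (φ i).hom.hom.hom x (s ≫ t)) →
        (Over.pullback T.hom).map iB ≫ e.hom.hom.hom =
          (bcMapIso T.hom f).hom.hom.hom ≫ (Over.pullback T.hom).map iB' := by
      intro i t e he
      refine eq_of_ev fun X b s => ?_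
      rw [← ev_comp, ← ev_comp, ev_map, ev_map, ev_bcMapIso]
      exact (he X _ s).trans (hφB i X b (s ≫ t))
    obtain ⟨e₁, he₁⟩ := key i t
    obtain ⟨e₂, he₂⟩ := key j t'
    have h12 : e₁ = e₂ := huniq i T.left t.left T.hom (Over.w t) e₁ e₂ (key2 i t e₁ he₁)
      (key2 j t' e₂ he₂)
    have h3 := he₁ T x (𝟙 T)
    have h4 := he₂ T x (𝟙 T)
    rw [Category.id_comp] at h3 h4
    rw [← h3, ← h4, h12])
  refine ⟨e, ?_, fun ψ hψ => ?_⟩
  · refine hom_ext v hv fun i T b t => ?_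
    rw [← Category.assoc, he i T _ t, hφB i T b t, Category.assoc]
  · have h5 : ∀ i, bcMapIso (v i) ψ = φ i := fun i => by
      refine huniq i (S' i) (𝟙 _) (v i) (Category.id_comp _) _ _ ?_ (hφ i)
      change (Over.pullback (v i)).map iB ≫ (Over.pullback (v i)).map ψ.hom.hom.hom =
        (Over.pullback (v i)).map f.hom.hom.hom ≫ (Over.pullback (v i)).map iB'
      rw [← Functor.map_comp, ← Functor.map_comp, hψ]
    have h6 : ψ.hom.hom.hom = e.hom.hom.hom := hom_ext v hv fun i T x t => by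
      rw [he i T x t, ← h5 i, ev_bcMapIso]
    ext1
    exact Grp.hom_ext _ _ h6

end cover

section iterated

lemma bcCompIso_hom {S₁ S₂ : Scheme.{u}} (q : S₂ ⟶ S₁) (g : S₁ ⟶ S) (G : Over S) [GrpObj G] :
    (bcCompIso q g G).hom.hom.hom = (Over.pullbackComp q g).hom.app G := by
  change (Over.pullbackComp q g).hom.app G ≫ 𝟙 _ = _
  exact Category.comp_id _

/-- transitivity of base change is natural -/
lemma bcCompIso_naturality {S₁ S₂ : Scheme.{u}} (q : S₂ ⟶ S₁) (g : S₁ ⟶ S) {G H : Over S} [GrpObj G]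
    [GrpObj H] (a : G ⟶ H) :
    (Over.pullback (q ≫ g)).map a ≫ (bcCompIso q g H).hom.hom.hom =
      (bcCompIso q g G).hom.hom.hom ≫ (Over.pullback q).map ((Over.pullback g).map a) := by
  rw [bcCompIso_hom, bcCompIso_hom]
  exact (Over.pullbackComp q g).hom.naturality a

end iterated

section cover

variable {J : Type u} {S' : J → Scheme.{u}} (v : ∀ i, S' i ⟶ S)
  [∀ i, Flat (v i)] [∀ i, LocallyOfFinitePresentation (v i)]

/-- **Descent**, second form: the uniqueness hypothesis is about the base changes along `q : T ⟶ S'_i` of the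
base changes along `v i`. -/
theorem existsUnique_of_cover' (hv : ∀ s : S, ∃ i, s ∈ Set.range (v i))
    {G G' B B' : Over S} [GrpObj G] [GrpObj G'] [GrpObj B] [GrpObj B']
    (iB : B ⟶ G) (iB' : B' ⟶ G') (f : Grp.mk B ≅ Grp.mk B')
    (hex : ∀ i, ∃ φ : Grp.mk (Red.bc (v i) G) ≅ Grp.mk (Red.bc (v i) G'),
      (Over.pullback (v i)).map iB ≫ φ.hom.hom.hom =
        (bcMapIso (v i) f).hom.hom.hom ≫ (Over.pullback (v i)).map iB')
    (huniq : ∀ (i : J) (T : Scheme.{u}) (q : T ⟶ S' i)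
      (φ ψ : Grp.mk (Red.bc q (Red.bc (v i) G)) ≅ Grp.mk (Red.bc q (Red.bc (v i) G'))),
        (Over.pullback q).map ((Over.pullback (v i)).map iB) ≫ φ.hom.hom.hom =
          (bcMapIso q (bcMapIso (v i) f)).hom.hom.hom ≫
            (Over.pullback q).map ((Over.pullback (v i)).map iB') →
        (Over.pullback q).map ((Over.pullback (v i)).map iB) ≫ ψ.hom.hom.hom =
          (bcMapIso q (bcMapIso (v i) f)).hom.hom.hom ≫
            (Over.pullback q).map ((Over.pullback (v i)).map iB') → φ = ψ) :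
    ∃! φ : Grp.mk G ≅ Grp.mk G', iB ≫ φ.hom.hom.hom = f.hom.hom.hom ≫ iB' := by
  refine existsUnique_of_cover v hv iB iB' f hex ?_
  rintro i T q _ rfl φ ψ hφ hψ
  have key : ∀ φ : Grp.mk (Red.bc (q ≫ v i) G) ≅ Grp.mk (Red.bc (q ≫ v i) G'),
      (Over.pullback (q ≫ v i)).map iB ≫ φ.hom.hom.hom =
          (bcMapIso (q ≫ v i) f).hom.hom.hom ≫ (Over.pullback (q ≫ v i)).map iB' →
      (Over.pullback q).map ((Over.pullback (v i)).map iB) ≫
        ((bcCompIso q (v i) G).symm ≪≫ φ ≪≫ bcCompIso q (v i) G').hom.hom.hom =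
          (bcMapIso q (bcMapIso (v i) f)).hom.hom.hom ≫
            (Over.pullback q).map ((Over.pullback (v i)).map iB') := by
    intro φ hφ
    have hc : ∀ (X : Over S) [GrpObj X], (bcCompIso q (v i) X).hom.hom.hom ≫
        (bcCompIso q (v i) X).inv.hom.hom = 𝟙 _ := fun X _ =>
      congrArg (fun k => k.hom.hom) (bcCompIso q (v i) X).hom_inv_id
    have hc' : ∀ (X : Over S) [GrpObj X], (bcCompIso q (v i) X).inv.hom.hom ≫
        (bcCompIso q (v i) X).hom.hom.hom = 𝟙 _ := fun X _ =>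
      congrArg (fun k => k.hom.hom) (bcCompIso q (v i) X).inv_hom_id
    have hB : IsIso (bcCompIso q (v i) B).hom.hom.hom := ⟨_, hc B, hc' B⟩
    rw [← cancel_epi (bcCompIso q (v i) B).hom.hom.hom]
    change (bcCompIso q (v i) B).hom.hom.hom ≫ (Over.pullback q).map ((Over.pullback (v i)).map iB) ≫
      (bcCompIso q (v i) G).inv.hom.hom ≫ φ.hom.hom.hom ≫ (bcCompIso q (v i) G').hom.hom.hom =
      (bcCompIso q (v i) B).hom.hom.hom ≫
        (Over.pullback q).map ((Over.pullback (v i)).map f.hom.hom.hom) ≫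
            (Over.pullback q).map ((Over.pullback (v i)).map iB')
    rw [← Category.assoc, ← bcCompIso_naturality, Category.assoc, ← Category.assoc (bcCompIso q (v i) G).hom.hom.hom, hc,
      Category.id_comp, ← Category.assoc, hφ, ← Functor.map_comp, ← Functor.map_comp,
      ← bcCompIso_naturality, Functor.map_comp, Category.assoc]
    rfl
  have h1 := huniq i T q _ _ (key φ hφ) (key ψ hψ)
  have h2 : ∀ φ : Grp.mk (Red.bc (q ≫ v i) G) ≅ Grp.mk (Red.bc (q ≫ v i) G'),
      φ = (bcCompIso q (v i) G) ≪≫ ((bcCompIso q (v i) G).symm ≪≫ φ ≪≫ bcCompIso q (v i) G') ≪≫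
        (bcCompIso q (v i) G').symm := by
    intro φ
    simp
  rw [h2 φ, h2 ψ, h1]

end cover

end Groth.Agent.Sga3B.BorDesc613
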