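import Groth.Prelude.Def_Red

set_option autoImplicit false
open CategoryTheory MonoidalCategory CartesianMonoidalCategory MonObj GrpObj AlgebraicGeometry
universe u

namespace Groth.Agent.Sga3B.BcIso

variable {S S' S'' : Scheme.{u}}

/-- Base change of a group isomorphism. -/
noncomputable def bcMapIso (f : S' ⟶ S) {G H : Over S} [GrpObj G] [GrpObj H] (e : Grp.mk G ≅ Grp.mk H) :
    Grp.mk (Red.bc f G) ≅ Grp.mk (Red.bc f H) :=
  (Over.pullback f).mapGrp.mapIso e

/-- Base change of a group homomorphism. -/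
noncomputable def bcMap (f : S' ⟶ S) {G H : Over S} [GrpObj G] [GrpObj H] (e : Grp.mk G ⟶ Grp.mk H) :
    Grp.mk (Red.bc f G) ⟶ Grp.mk (Red.bc f H) :=
  (Over.pullback f).mapGrp.map e

/-- Transitivity of base change, for group schemes. -/
noncomputable def bcCompIso (q : S'' ⟶ S') (g : S' ⟶ S) (G : Over S) [GrpObj G] :
    Grp.mk (Red.bc (q ≫ g) G) ≅ Grp.mk (Red.bc q (Red.bc g G)) :=
  (Functor.mapGrpNatIso (Over.pullbackComp q g)).app (Grp.mk G) ≪≫
    (Functor.mapGrpCompIso (F := Over.pullback g) (G := Over.pullback q)).app (Grp.mk G)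

/-- Base change along equal morphisms. -/
noncomputable def bcCongrIso {f g : S' ⟶ S} (h : f = g) (G : Over S) [GrpObj G] :
    Grp.mk (Red.bc f G) ≅ Grp.mk (Red.bc g G) :=
  eqToIso (by rw [h])

/-- Base change along the identity. -/
noncomputable def bcIdIso (G : Over S) [GrpObj G] : Grp.mk (Red.bc (𝟙 S) G) ≅ Grp.mk G :=
  (Functor.mapGrpNatIso Over.pullbackId).app (Grp.mk G) ≪≫
    (Functor.mapGrpIdIso).app (Grp.mk G)

/-- Isomorphisms of group schemes over `S'` are preserved by base change, transitivity included. -/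
lemma nonempty_iso_bc_of_comp {q : S'' ⟶ S'} {g : S' ⟶ S} {h : S'' ⟶ S} (hh : q ≫ g = h)
    {G H : Over S} [GrpObj G] [GrpObj H]
    (e : Nonempty (Grp.mk (Red.bc g G) ≅ Grp.mk (Red.bc g H))) :
    Nonempty (Grp.mk (Red.bc h G) ≅ Grp.mk (Red.bc h H)) := by
  subst hh
  obtain ⟨e⟩ := e
  exact ⟨bcCompIso q g G ≪≫ bcMapIso q e ≪≫ (bcCompIso q g H).symm⟩

end Groth.Agent.Sga3B.BcIso
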