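import Groth.Agent.Sga3B.Desc
import Groth.Agent.Sga3B.BcPts

set_option autoImplicit false
open CategoryTheory MonoidalCategory CartesianMonoidalCategory MonObj GrpObj AlgebraicGeometry Opposite
universe u

open scoped TensorProduct

namespace Groth.Agent.Sga3B.DescIso

open Desc

/-- The rational point of `Spec A` given by an algebra map `A →ₐ[R] R`. -/
noncomputable def spPoint {R : CommRingCat.{u}} {A : Type u} [CommRing A] [Algebra R A] (p : A →ₐ[R] R) :
    𝟙_ (Over (Spec R)) ⟶ sp R A :=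
  Functor.LaxMonoidal.ε (algSpec R) ≫ spMap p

/-- Descent of a group isomorphism along an extension of an algebraically closed field:
version for families. -/
theorem nonempty_iso_of_family {K : Type u} [Field K] [IsAlgClosed K]
    {Ω : Type u} [CommRing Ω] [Nontrivial Ω] [Algebra K Ω]
    {X Y : Over (Spec (CommRingCat.of K))} [GrpObj X] [GrpObj Y] [IsAffine X.left] [IsAffine Y.left]
    [LocallyOfFiniteType X.hom] [LocallyOfFiniteType Y.hom]
    (α : X ⊗ sp (.of K) Ω ⟶ Y) (β : Y ⊗ sp (.of K) Ω ⟶ X)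
    (hα : ∀ (T : Over (Spec (CommRingCat.of K))) (x y : T ⟶ X) (t : T ⟶ sp (.of K) Ω),
      lift (x * y) t ≫ α = (lift x t ≫ α) * (lift y t ≫ α))
    (hαβ : ∀ (T : Over (Spec (CommRingCat.of K))) (x : T ⟶ X) (t : T ⟶ sp (.of K) Ω),
      lift (lift x t ≫ α) t ≫ β = x)
    (hβα : ∀ (T : Over (Spec (CommRingCat.of K))) (y : T ⟶ Y) (t : T ⟶ sp (.of K) Ω),
      lift (lift y t ≫ β) t ≫ α = y) : Nonempty (Grp.mk X ≅ Grp.mk Y) := by
  have flat (Z : Over (Spec (CommRingCat.of K))) : Flat Z.hom := inferInstance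
  obtain ⟨T₁, hT₁, H₁⟩ := exists_descend (Ω := Ω) α
  obtain ⟨T₂, hT₂, H₂⟩ := exists_descend (Ω := Ω) β
  let T := T₁ ⊔ T₂
  have hT : T.FG := hT₁.sup hT₂
  obtain ⟨α', hα'⟩ := H₁ T le_sup_left
  obtain ⟨β', hβ'⟩ := H₂ T le_sup_right
  have hv : Function.Injective T.val := Subtype.val_injective
  let io : sp (.of K) Ω ⟶ sp (.of K) T := spMap T.val
  have hα'' {W : Over (Spec (CommRingCat.of K))} (x : W ⟶ X) (t : W ⟶ sp (.of K) Ω) :
      lift x (t ≫ io) ≫ α' = lift x t ≫ α := by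
    rw [← hα', ← Category.assoc, lift_whiskerLeft]
  have hβ'' {W : Over (Spec (CommRingCat.of K))} (x : W ⟶ Y) (t : W ⟶ sp (.of K) Ω) :
      lift x (t ≫ io) ≫ β' = lift x t ≫ β := by
    rw [← hβ', ← Category.assoc, lift_whiskerLeft]
  -- the identities over `T`
  have hαβ' {W : Over (Spec (CommRingCat.of K))} (x : W ⟶ X) (t : W ⟶ sp (.of K) T) :
      lift (lift x t ≫ α') t ≫ β' = x := by
    suffices h : lift α' (snd _ _) ≫ β' = fst X (sp (.of K) T) by
      have := congrArg (fun s => lift x t ≫ s) h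
      simpa [comp_lift_assoc] using this
    apply cancel_left T.val hv
    rw [← Category.assoc, comp_lift, whiskerLeft_snd, hα', hβ'', whiskerLeft_fst]
    simpa using hαβ _ (fst X (sp (.of K) Ω)) (snd _ _)
  have hβα' {W : Over (Spec (CommRingCat.of K))} (x : W ⟶ Y) (t : W ⟶ sp (.of K) T) :
      lift (lift x t ≫ β') t ≫ α' = x := by
    suffices h : lift β' (snd _ _) ≫ α' = fst Y (sp (.of K) T) by
      have := congrArg (fun s => lift x t ≫ s) h
      simpa [comp_lift_assoc] using this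
    apply cancel_left T.val hv
    rw [← Category.assoc, comp_lift, whiskerLeft_snd, hβ', hα'', whiskerLeft_fst]
    simpa using hβα _ (fst Y (sp (.of K) Ω)) (snd _ _)
  have : IsAffine (X ⊗ X).left := by
    change IsAffine (Limits.pullback X.hom X.hom)
    infer_instance
  have hα''' {W : Over (Spec (CommRingCat.of K))} (x y : W ⟶ X) (t : W ⟶ sp (.of K) T) :
      lift (x * y) t ≫ α' = (lift x t ≫ α') * (lift y t ≫ α') := by
    suffices h : lift ((fst (X ⊗ X) (sp (.of K) T) ≫ fst X X) * (fst (X ⊗ X) (sp (.of K) T) ≫ snd X X))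
        (snd _ _) ≫ α' = (lift (fst (X ⊗ X) (sp (.of K) T) ≫ fst X X) (snd _ _) ≫ α') *
        (lift (fst (X ⊗ X) (sp (.of K) T) ≫ snd X X) (snd _ _) ≫ α') by
      have := congrArg (fun s => lift (lift x y) t ≫ s) h
      simpa [MonObj.comp_mul, comp_lift_assoc] using this
    apply cancel_left T.val hv
    rw [MonObj.comp_mul, comp_lift_assoc, comp_lift_assoc, comp_lift_assoc, MonObj.comp_mul,
      whiskerLeft_snd, whiskerLeft_fst_assoc, whiskerLeft_fst_assoc, hα'', hα'', hα'', hα]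
  obtain ⟨p⟩ := Fg.exists_point T hT
  let pt : 𝟙_ (Over (Spec (CommRingCat.of K))) ⟶ sp (.of K) T := spPoint p
  have hf : IsMonHom (lift (𝟙 X) (toUnit X ≫ pt) ≫ α') := by
    apply Pts.isMonHom_of_points
    intro W x y
    simp only [comp_lift_assoc, Category.comp_id, comp_toUnit_assoc]
    rw [hα''']
  refine ⟨Grp.mkIso' ⟨lift (𝟙 X) (toUnit X ≫ pt) ≫ α', lift (𝟙 Y) (toUnit Y ≫ pt) ≫ β', ?_, ?_⟩⟩
  · simp only [comp_lift_assoc, Category.comp_id, comp_toUnit_assoc]
    rw [hαβ']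
  · simp only [comp_lift_assoc, Category.comp_id, comp_toUnit_assoc]
    rw [hβα']

/-- The isomorphism families attached to an isomorphism of base changes. -/
lemma exists_families {S S' : Scheme.{u}} (f : S' ⟶ S) {X Y : Over S} [GrpObj X] [GrpObj Y]
    (e : Grp.mk (Red.bc f X) ≅ Grp.mk (Red.bc f Y)) :
    ∃ (α : X ⊗ Over.mk f ⟶ Y) (β : Y ⊗ Over.mk f ⟶ X),
    (∀ (T : Over S) (x y : T ⟶ X) (t : T ⟶ Over.mk f),
      lift (x * y) t ≫ α = (lift x t ≫ α) * (lift y t ≫ α)) ∧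
    (∀ (T : Over S) (x : T ⟶ X) (t : T ⟶ Over.mk f), lift (lift x t ≫ α) t ≫ β = x) ∧
    (∀ (T : Over S) (y : T ⟶ Y) (t : T ⟶ Over.mk f), lift (lift y t ≫ β) t ≫ α = y) := by
  have h1 : IsMonHom e.hom.hom.hom := inferInstance
  have h2 : e.hom.hom.hom ≫ e.inv.hom.hom = 𝟙 _ :=
    congrArg (fun t => t.hom.hom) e.hom_inv_id
  have h3 : e.inv.hom.hom ≫ e.hom.hom.hom = 𝟙 _ :=
    congrArg (fun t => t.hom.hom) e.inv_hom_id
  refine ⟨BcPts.fam e.hom.hom.hom, BcPts.fam e.inv.hom.hom, ?_, ?_, ?_⟩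
  · intro T x y t
    rw [BcPts.lift_fam, BcPts.lift_fam, BcPts.lift_fam]
    exact BcPts.ev_mul _ _ _ _
  · intro T x t
    rw [BcPts.lift_fam, BcPts.lift_fam, BcPts.ev_comp]
    erw [h2]
    rw [BcPts.ev_id]
  · intro T x t
    rw [BcPts.lift_fam, BcPts.lift_fam, BcPts.ev_comp]
    erw [h3]
    rw [BcPts.ev_id]

/-- Descent of isomorphisms of affine group schemes of finite type along an extension of an
algebraically closed field. -/
theorem descend_algClosed {K : Type u} [Field K] [IsAlgClosed K]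
    {Ω : Type u} [CommRing Ω] [Nontrivial Ω] [Algebra K Ω]
    {X Y : Over (Spec (CommRingCat.of K))} [GrpObj X] [GrpObj Y] [IsAffine X.left] [IsAffine Y.left]
    [LocallyOfFiniteType X.hom] [LocallyOfFiniteType Y.hom]
    (h : Nonempty (Grp.mk (Red.bc (Spec.map (CommRingCat.ofHom (algebraMap K Ω))) X) ≅
      Grp.mk (Red.bc (Spec.map (CommRingCat.ofHom (algebraMap K Ω))) Y))) :
    Nonempty (Grp.mk X ≅ Grp.mk Y) := by
  obtain ⟨e⟩ := h
  obtain ⟨α, β, h1, h2, h3⟩ := exists_families _ e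
  exact nonempty_iso_of_family (Ω := Ω) α β h1 h2 h3

end Groth.Agent.Sga3B.DescIso
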