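import Mathlib.RingTheory.Smooth.Basic
import Mathlib.RingTheory.Ideal.Quotient.Nilpotent
import Mathlib.Algebra.MonoidAlgebra.Basic
import Mathlib.LinearAlgebra.FreeModule.Basic
import Mathlib.RingTheory.FinitePresentation
import Mathlib.RingTheory.FiniteType

set_option autoImplicit false
universe u v

namespace Groth.Agent.Sga3B.DiagSmooth

/-- Units lift along square zero extensions. -/
lemma exists_unit_lift {B : Type v} [CommRing B] (I : Ideal B) (hI : I ^ 2 = ⊥) (u : (B ⧸ I)ˣ) :
    ∃ v : Bˣ, Ideal.Quotient.mk I v = u := by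
  obtain ⟨x, hx⟩ := Ideal.Quotient.mk_surjective (u : B ⧸ I)
  have hnil : IsNilpotent I := ⟨2, hI⟩
  have : IsUnit x := (IsNilpotent.isUnit_quotient_mk_iff hnil).mp (by rw [hx]; exact u.isUnit)
  obtain ⟨v, rfl⟩ := this
  exact ⟨v, hx⟩

/-- The group algebra of a free abelian group is formally smooth. -/
instance formallySmooth (R : Type u) [CommRing R] (M : Type v) [AddCommGroup M] [Module.Free ℤ M] :
    Algebra.FormallySmooth R (MonoidAlgebra R (Multiplicative M)) := by
  rw [Algebra.FormallySmooth.iff_comp_surjective]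
  intro B _ _ I hI f
  let b := Module.Free.chooseBasis ℤ M
  let φ : Multiplicative M →* (B ⧸ I)ˣ :=
    MonoidHom.toHomUnits ((MonoidAlgebra.lift R (B ⧸ I) (Multiplicative M)).symm f)
  have hφ (m : Multiplicative M) : (φ m : B ⧸ I) = f (MonoidAlgebra.single m 1) := rfl
  choose v hv using fun i => exists_unit_lift I hI (φ (Multiplicative.ofAdd (b i)))
  let ψ : M →ₗ[ℤ] Additive Bˣ := b.constr ℤ (fun i => Additive.ofMul (v i))
  let ψ' : Multiplicative M →* Bˣ := AddMonoidHom.toMultiplicativeLeft ψ.toAddMonoidHom
  have h1 : (Units.map (Ideal.Quotient.mk I : B →* B ⧸ I)).comp ψ' = φ := by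
    have h2 : (AddMonoidHom.toIntLinearMap (MonoidHom.toAdditiveRight
        ((Units.map (Ideal.Quotient.mk I : B →* B ⧸ I)).comp ψ'))) =
        (AddMonoidHom.toIntLinearMap (MonoidHom.toAdditiveRight φ)) := by
      apply b.ext
      intro i
      apply Additive.toMul.injective
      apply Units.ext
      simp [ψ', ψ, hv]
    have h3 := congrArg (fun t => t.toAddMonoidHom) h2
    apply MonoidHom.ext
    intro x
    have := DFunLike.congr_fun h3 x.toAdd
    simpa using this
  refine ⟨MonoidAlgebra.lift R B (Multiplicative M) ((Units.coeHom B).comp ψ'), ?_⟩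
  apply MonoidAlgebra.algHom_ext
  · intro m
    have := congrArg Units.val (DFunLike.congr_fun h1 m)
    simpa [hφ] using this
  · ext

/-- The group algebra of a free abelian group of finite rank is smooth. -/
instance smooth (R : Type u) [CommRing R] [IsNoetherianRing R] (M : Type v) [AddCommGroup M]
    [Module.Free ℤ M] [Module.Finite ℤ M] :
    Algebra.Smooth R (MonoidAlgebra R (Multiplicative M)) where
  finitePresentation := by
    have : AddGroup.FG M := Module.Finite.iff_addGroup_fg.mp inferInstance
    exact Algebra.FinitePresentation.of_finiteType.mp inferInstance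

end Groth.Agent.Sga3B.DiagSmooth
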