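import Groth.Agent.Sga3B.FpqcLoc
import Groth.Agent.Sga3B.BcIso
import Groth.Agent.Sga3B.DescIso
import Groth.Agent.Sga3B.DiagSmooth
import Groth.Agent.Etbase.FpqcDescent
import Mathlib.AlgebraicGeometry.Morphisms.FinitePresentation
import Mathlib.AlgebraicGeometry.Morphisms.LocalFlatDescent
import Mathlib.RingTheory.FinitePresentation

set_option autoImplicit false
open CategoryTheory MonoidalCategory CartesianMonoidalCategory MonObj GrpObj AlgebraicGeometry
universe u

namespace Groth.Agent.Sga3B.TorusAlgClosed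

open Groth.Agent.Sga3B

variable {S S' : Scheme.{u}}

/-- Base change of a diagonalisable group. -/
noncomputable def dsBcIso (g : S' ⟶ S) (M : Type) [AddCommGroup M] :
    Grp.mk (Red.bc g (Red.DS S M)) ≅ Grp.mk (Red.DS S' M) :=
  (BcIso.bcCompIso g (Limits.IsTerminal.from specULiftZIsTerminal S) (Red.diag (ULift.{u} ℤ) M)).symm ≪≫
    BcIso.bcCongrIso (specULiftZIsTerminal.hom_ext _ _) _

/-- Base change of split tori. -/
lemma isSplitTorusWith_bc (g : S' ⟶ S) {M : Type} [AddCommGroup M] {T : Over S} [GrpObj T]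
    (h : Red.IsSplitTorusWith M T) : Red.IsSplitTorusWith M (Red.bc g T) := by
  obtain ⟨e⟩ := h
  exact ⟨BcIso.bcMapIso g e ≪≫ dsBcIso g M⟩

/-- A group isomorphism preserves properties of the structure morphism. -/
lemma prop_of_grp_iso {P : MorphismProperty Scheme.{u}} [P.RespectsIso] {X Y : Over S} [GrpObj X]
    [GrpObj Y] (e : Grp.mk X ≅ Grp.mk Y) (h : P Y.hom) : P X.hom := by
  let e' : X ≅ Y := (Grp.forget _).mapIso e
  rw [← Over.w e'.hom]
  exact (P.cancel_left_of_respectsIso e'.hom.left Y.hom).mpr h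

lemma prop_of_isSplitTorusWith {P : MorphismProperty Scheme.{u}} [P.IsStableUnderBaseChange]
    {M : Type} [AddCommGroup M]
    (hP : P (Red.diag (ULift.{u} ℤ) M).hom) {T : Over S} [GrpObj T]
    (h : Red.IsSplitTorusWith M T) : P T.hom := by
  obtain ⟨e⟩ := h
  refine prop_of_grp_iso e ?_
  exact P.pullback_snd _ _ hP

/-- Properties of the structure morphism of a torus which are fpqc local on the base hold as soon as
they hold for `Spec ℤ[ℤ^r]`. -/
theorem prop_of_isTorus {P : MorphismProperty Scheme.{u}} [IsZariskiLocalAtTarget P]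
    [P.IsStableUnderBaseChange] [P.DescendsAlong (@Surjective ⊓ @Flat ⊓ @QuasiCompact)]
    (hP : ∀ r : ℕ, P (Red.diag (ULift.{u} ℤ) (Fin r → ℤ)).hom) {T : Over S} [GrpObj T]
    (h : Red.IsTorus T) : P T.hom := by
  obtain ⟨S', f, hf, -, hc, h⟩ := h
  refine FpqcLoc.of_fpqc_cover T.hom f hc fun s' => ?_
  obtain ⟨U, hU, r, hr⟩ := h s'
  exact ⟨U, hU, prop_of_isSplitTorusWith (hP r) hr⟩

instance diag_isAffineHom (M : Type) [AddCommGroup M] : IsAffineHom (Red.diag (ULift.{u} ℤ) M).hom := by
  change IsAffineHom (Spec.map _)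
  infer_instance

instance diag_smooth (M : Type) [AddCommGroup M] [Module.Free ℤ M] [Module.Finite ℤ M] :
    Smooth (Red.diag (ULift.{u} ℤ) M).hom := by
  change Smooth (Spec.map (CommRingCat.ofHom
    (algebraMap (ULift.{u} ℤ) (MonoidAlgebra (ULift.{u} ℤ) (Multiplicative M)))))
  rw [HasRingHomProperty.Spec_iff (P := @Smooth)]
  have : IsNoetherianRing (ULift.{u} ℤ) := isNoetherianRing_of_ringEquiv ℤ ULift.ringEquiv.symm
  simp only [CommRingCat.hom_ofHom, RingHom.smooth_algebraMap]
  infer_instance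

/-- A torus is affine over its base. -/
lemma isAffineHom_of_isTorus {T : Over S} [GrpObj T] (h : Red.IsTorus T) : IsAffineHom T.hom := by
  have := Etbase.FpqcDescent.descendsAlong_isAffineHom.{u}
  exact prop_of_isTorus (P := @IsAffineHom) (fun _ => inferInstance) h

/-- A torus is smooth over its base. -/
lemma smooth_of_isTorus {T : Over S} [GrpObj T] (h : Red.IsTorus T) : Smooth T.hom :=
  prop_of_isTorus (P := @Smooth) (fun _ => inferInstance) h

lemma surjective_of_grpObj (G : Over S) [GrpObj G] : Surjective G.hom := by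
  constructor
  intro s
  refine ⟨η[G].left s, ?_⟩
  rw [← Scheme.Hom.comp_apply, Over.w]
  rfl

/-- Tori over an algebraically closed field are split. -/
theorem exists_isSplitTorusWith {K : Type u} [Field K] [IsAlgClosed K]
    {T : Over (Spec (CommRingCat.of K))} [GrpObj T] (h : Red.IsTorus T) :
    ∃ r : ℕ, Red.IsSplitTorusWith (Fin r → ℤ) T := by
  have h1 := isAffineHom_of_isTorus h
  have h2 := smooth_of_isTorus h
  obtain ⟨S', f, hf, hs, hc, h⟩ := h
  obtain ⟨s', -⟩ := f.surjective (IsLocalRing.closedPoint K)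
  obtain ⟨U, hU, r, hr⟩ := h s'
  refine ⟨r, ?_⟩
  let x : U.toScheme := ⟨s', hU⟩
  let q : Spec (U.toScheme.residueField x) ⟶ U.toScheme := U.toScheme.fromSpecResidueField x
  let φ : K →+* U.toScheme.residueField x := (Spec.preimage (q ≫ U.ι ≫ f)).hom
  let := φ.toAlgebra
  have hφ : Spec.map (CommRingCat.ofHom (algebraMap K (U.toScheme.residueField x))) =
      q ≫ U.ι ≫ f := Spec.map_preimage _
  have h3 := isSplitTorusWith_bc q hr
  obtain ⟨e⟩ := h3
  have a1 : IsAffine T.left := isAffine_of_isAffineHom T.hom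
  have a2 : IsAffine (Red.DS (Spec (CommRingCat.of K)) (Fin r → ℤ)).left := by
    have : IsAffineHom (Red.DS (Spec (CommRingCat.of K)) (Fin r → ℤ)).hom := by
      change IsAffineHom (Limits.pullback.snd _ _)
      infer_instance
    exact isAffine_of_isAffineHom (Red.DS (Spec (CommRingCat.of K)) (Fin r → ℤ)).hom
  have a3 : LocallyOfFiniteType T.hom := inferInstance
  have a4 : LocallyOfFiniteType (Red.DS (Spec (CommRingCat.of K)) (Fin r → ℤ)).hom := by
    change LocallyOfFiniteType (Limits.pullback.snd _ _)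
    infer_instance
  refine DescIso.descend_algClosed (Ω := U.toScheme.residueField x) ⟨?_⟩
  refine ?_ ≪≫ BcIso.bcCompIso q (U.ι ≫ f) T ≪≫ e ≪≫ (dsBcIso _ (Fin r → ℤ)).symm
  exact BcIso.bcCongrIso hφ T

end Groth.Agent.Sga3B.TorusAlgClosed
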