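import Groth.Agent.Sga3B.DSRigid
import Groth.Agent.Sga3B.TorusAlgClosed
import Groth.Agent.Sga3B.BorDesc613

/-!
# Homomorphisms of diagonalisable groups are locally on the base given by homomorphisms of character groups
-/

set_option autoImplicit false
universe u
open CategoryTheory MonoidalCategory CartesianMonoidalCategory MonObj GrpObj AlgebraicGeometry

namespace Groth.Agent.Sga3B.BorLoc613

open InfConj InfConjFam DSPts DSRigid

section alg

variable {R : Type u} [CommRing R]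

/-- A unit of `R[Γ]` has a coefficient outside a given prime ideal. -/
lemma exists_coeff_notMem {Γ : Type} [CommGroup Γ] (x : MonoidAlgebra R Γ) (hu : IsUnit x)
    (𝔭 : Ideal R) [𝔭.IsPrime] : ∃ γ, x.coeff γ ∉ 𝔭 := by
  by_contra h
  push Not at h
  let θ := MonoidAlgebra.mapRingHom Γ (Ideal.Quotient.mk 𝔭)
  have h1 : θ x = 0 := by
    ext γ
    rw [MonoidAlgebra.coeff_mapRingHom]
    simpa using Ideal.Quotient.eq_zero_iff_mem.mpr (h γ)
  have h2 : IsUnit (θ x) := hu.map θ
  rw [h1] at h2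
  exact not_isUnit_zero h2

/-- Multiplicative families of group-like units of `R[M]` come from a homomorphism near a prime ideal. -/
theorem exists_hom {M N : Type} [AddCommGroup M] [AddCommGroup N]
    (ψ : Multiplicative N →* MonoidAlgebra R (Multiplicative M))
    (hψ : ∀ n, dg R (Multiplicative M) (ψ n) =
      inc₁ R (Multiplicative M) (ψ n) * inc₂ R (Multiplicative M) (ψ n)) (𝔭 : Ideal R) [𝔭.IsPrime] :
    ∃ φ : Multiplicative N →* Multiplicative M, ∀ n, ∃ e : R, e ∉ 𝔭 ∧
      e • ψ n = MonoidAlgebra.single (φ n) e := by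
  have h1 : ∀ n, ∃ γ : Multiplicative M, ∃ e : R, e ∉ 𝔭 ∧ e • ψ n = MonoidAlgebra.single γ e := by
    intro n
    obtain ⟨γ, hγ⟩ := exists_coeff_notMem (ψ n) ((Group.isUnit n).map ψ) 𝔭
    refine ⟨γ, (ψ n).coeff γ, hγ, ?_⟩
    rw [← dg_apply_coeff, hψ, inc_mul_apply_coeff]
  choose φ₀ e he hφ₀ using h1
  refine ⟨MonoidHom.mk' φ₀ fun a b => ?_, fun n => ⟨e n, he n, hφ₀ n⟩⟩
  by_contra hne
  have h2 : (e a * e b * e (a * b)) • ψ (a * b) =
      MonoidAlgebra.single (φ₀ a * φ₀ b) (e a * e b * e (a * b)) := by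
    have h3 : (e a * e b * e (a * b)) • ψ (a * b) = e (a * b) • ((e a • ψ a) * (e b • ψ b)) := by
      rw [map_mul, smul_mul_smul_comm, smul_smul]
      congr 1
      ring
    rw [h3, hφ₀, hφ₀, MonoidAlgebra.single_mul_single, MonoidAlgebra.smul_single]
    congr 1
    simp only [smul_eq_mul]
    ring
  have h4 : (e a * e b * e (a * b)) • ψ (a * b) =
      MonoidAlgebra.single (φ₀ (a * b)) (e a * e b * e (a * b)) := by
    rw [mul_smul, hφ₀, MonoidAlgebra.smul_single]
    rfl
  rw [h4] at h2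
  have h5 := congrArg (fun x : MonoidAlgebra R (Multiplicative M) => x.coeff (φ₀ (a * b))) h2
  have h6 : e a * e b * e (a * b) = 0 := by
    simpa [Finsupp.single_apply, Ne.symm hne] using h5
  have h7 : e a * e b * e (a * b) ∈ 𝔭 := by rw [h6]; exact 𝔭.zero_mem
  rcases Ideal.IsPrime.mem_or_mem ‹_› h7 with h8 | h8
  · rcases Ideal.IsPrime.mem_or_mem ‹_› h8 with h9 | h9
    · exact he _ h9
    · exact he _ h9
  · exact he _ h8

end alg

section affine

variable {R : Type u} [CommRing R]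

/-- The function on a `Spec R`-scheme given by an element of `R`. -/
noncomputable def gl (T : Over (Spec (CommRingCat.of R))) : R →+* Γ(T.left, ⊤) :=
  ((Scheme.ΓSpecIso (.of R)).inv ≫ T.hom.appTop).hom

/-- A homomorphism of diagonalisable groups over `Spec R` agrees with `D(φ)` near a prime of `R`. -/
theorem exists_affine {M N : Type} [AddCommGroup M] [AddCommGroup N] [Module.Finite ℤ N]
    (f : Red.DS (Spec (.of R)) M ⟶ Red.DS (Spec (.of R)) N) [IsMonHom f] (𝔭 : Ideal R) [𝔭.IsPrime] :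
    ∃ g : R, g ∉ 𝔭 ∧ ∃ φ : N →+ M, ∀ (T : Over (Spec (CommRingCat.of R)))
      (q : T ⟶ Red.DS (Spec (.of R)) M), IsUnit (gl T g) → q ≫ f = q ≫ Red.DSmap (Spec (.of R)) φ := by
  classical
  obtain ⟨ψ, hψ⟩ := exists_eq_charPt (univPt R M ≫ f)
  have hψ2 : ∀ n, dg R (Multiplicative M) (ψ n) = inc₁ R (Multiplicative M) (ψ n) * inc₂ R (Multiplicative M) (ψ n) := by
    have h1 : ptMap (dg R (Multiplicative M)) ≫ univPt R M ≫ f =
        (ptMap (inc₁ R (Multiplicative M)) ≫ univPt R M ≫ f) * (ptMap (inc₂ R (Multiplicative M)) ≫ univPt R M ≫ f) := by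
      rw [← Category.assoc, ptMap_dg_univPt]
      refine (MonObj.mul_comp _ _ f).trans ?_
      rw [Category.assoc, Category.assoc]
    rw [hψ, ptMap_charPt, ptMap_charPt, ptMap_charPt, ← charPt_mul] at h1
    have h2 := charPt_injective h1
    intro n
    exact congr($h2 n)
  obtain ⟨φ', hφ'⟩ := exists_hom ψ hψ2 𝔭
  choose e he hφ using hφ'
  have hN : Monoid.FG (Multiplicative N) := by
    have : AddGroup.FG N := Module.Finite.iff_addGroup_fg.mp inferInstance
    have : AddMonoid.FG N := AddGroup.fg_iff_addMonoid_fg.mp this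
    exact AddMonoid.fg_iff_mul_fg.mp this
  obtain ⟨F, hF⟩ := hN.fg_top
  refine ⟨∏ n ∈ F, e n, ?_, AddMonoidHom.toMultiplicative.symm φ', ?_⟩
  · intro h
    obtain ⟨n, -, hn⟩ := (Ideal.IsPrime.prod_mem_iff (p := 𝔭)).mp h
    exact he n hn
  intro T q hg
  obtain ⟨h, rfl⟩ := exists_eq_comp_charPt q
  let θ : MonoidAlgebra R (Multiplicative M) →+* Γ(T.left, ⊤) :=
    (h.left.appTop.hom).comp (gPt R (MonoidAlgebra R (Multiplicative M)))
  have hθ : ∀ r : R, θ (algebraMap R _ r) = gl T r := by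
    intro r
    have h1 : h.left ≫ Spec.map (CommRingCat.ofHom (algebraMap R (MonoidAlgebra R (Multiplicative M)))) =
      T.hom := Over.w h
    have h2 : (Scheme.ΓSpecIso (.of R)).inv ≫ T.hom.appTop =
        CommRingCat.ofHom (algebraMap R (MonoidAlgebra R (Multiplicative M))) ≫
          (Scheme.ΓSpecIso (.of (MonoidAlgebra R (Multiplicative M)))).inv ≫ h.left.appTop := by
      rw [← h1, Scheme.Hom.comp_appTop, ← Scheme.ΓSpecIso_inv_naturality_assoc]
    exact congr($h2 r).symm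
  have hunit : ∀ n ∈ F, IsUnit (gl T (e n)) := by
    intro n hn
    refine isUnit_of_dvd_unit ?_ hg
    exact map_dvd _ (Finset.dvd_prod_of_mem e hn)
  have key : ∀ n, θ (ψ n) = θ (MonoidAlgebra.single (φ' n) 1) := by
    let θ₁ : Multiplicative N →* Γ(T.left, ⊤) := (θ : MonoidAlgebra R (Multiplicative M) →* Γ(T.left, ⊤)).comp ψ
    let θ₂ : Multiplicative N →* Γ(T.left, ⊤) := (θ : MonoidAlgebra R (Multiplicative M) →* Γ(T.left, ⊤)).comp
      ((MonoidAlgebra.of R (Multiplicative M)).comp φ')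
    have h3 : θ₁ = θ₂ := by
      refine MonoidHom.eq_of_eqOn_denseM hF fun n hn => ?_
      change θ (ψ n) = θ (MonoidAlgebra.single (φ' n) 1)
      refine (hunit n hn).mul_left_cancel ?_
      rw [← hθ, ← map_mul, ← map_mul, ← Algebra.smul_def, ← Algebra.smul_def, hφ,
        MonoidAlgebra.smul_single, smul_eq_mul, _root_.mul_one]
    exact fun n => congr($h3 n)
  rw [Category.assoc, Category.assoc, hψ]
  have h4 : univPt R M ≫ Red.DSmap (Spec (.of R)) (AddMonoidHom.toMultiplicative.symm φ') =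
      charPt ((MonoidAlgebra.of R (Multiplicative M)).comp φ') := by
    rw [univPt, charPt, dsEquiv_DSmap]
    rfl
  rw [h4, charPt, charPt, dsEquiv_naturality, dsEquiv_naturality]
  congr 1
  exact MonoidHom.ext key

end affine

section near

variable {S : Scheme.{u}}

lemma isUnit_gl {R : Type u} [CommRing R] (T : Over (Spec (CommRingCat.of R))) (g : R)
    (h : Set.range T.hom ⊆ (PrimeSpectrum.basicOpen g : Set (PrimeSpectrum R))) : IsUnit (gl T g) := by
  refine RingedSpace.isUnit_of_isUnit_germ _ ⊤ _ fun x hx => ?_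
  have h1 : x ∈ T.left.basicOpen (gl T g) := by
    have h2 : T.hom ⁻¹ᵁ (Spec (CommRingCat.of R)).basicOpen ((Scheme.ΓSpecIso (CommRingCat.of R)).inv g) =
        T.left.basicOpen (gl T g) := Scheme.preimage_basicOpen_top _ _
    rw [← h2]
    change T.hom x ∈ (Spec (CommRingCat.of R)).basicOpen ((Scheme.ΓSpecIso (CommRingCat.of R)).inv g)
    rw [basicOpen_eq_of_affine]
    exact h ⟨x, rfl⟩
  exact (Scheme.mem_basicOpen_top _ _ _).mp h1

/-- **Homomorphisms of diagonalisable groups are locally constant**: near a point `s` of `S`, a homomorphism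
`D(M) ⟶ D(N)`, `N` finitely generated, is given by a homomorphism `N → M`. -/
theorem exists_near {M N : Type} [AddCommGroup M] [AddCommGroup N] [Module.Finite ℤ N]
    (f : Red.DS S M ⟶ Red.DS S N) [IsMonHom f] (s : S) :
    ∃ U : S.Opens, s ∈ U ∧ ∃ φ : N →+ M, ∀ (T : Over S) (q : T ⟶ Red.DS S M),
      Set.range T.hom ⊆ (U : Set S) → q ≫ f = q ≫ Red.DSmap S φ := by
  obtain ⟨_, ⟨V, hV, rfl⟩, hsV, -⟩ := S.isBasis_affineOpens.exists_subset_of_mem_open
    (Set.mem_univ s) isOpen_univ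
  let R := Γ(S, V)
  let x : Spec (CommRingCat.of R) ⟶ S := hV.fromSpec
  have hx : IsOpenImmersion x := inferInstanceAs (IsOpenImmersion hV.fromSpec)
  obtain ⟨y, hy⟩ : s ∈ Set.range x := by
    have : Set.range hV.fromSpec = (V : Set S) := hV.range_fromSpec
    exact this ▸ hsV
  let f' : Red.DS (Spec (CommRingCat.of R)) M ⟶ Red.DS (Spec (CommRingCat.of R)) N :=
    untr x (tr x (𝟙 _) ≫ f)
  have hf : ∀ {T : Over (Spec (CommRingCat.of R))} (q : T ⟶ Red.DS (Spec (CommRingCat.of R)) M),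
      q ≫ f' = untr x (tr x q ≫ f) := by
    intro T q
    rw [← untr_comp, ← Category.assoc, ← tr_comp, Category.comp_id]
  have hmon : IsMonHom f' := InfConjFam.isMonHom_of_mul _ fun T q q' => by
    have h1 : (tr x q * tr x q') ≫ f = (tr x q ≫ f) * (tr x q' ≫ f) := MonObj.mul_comp _ _ f
    rw [hf, hf, hf, tr_mul, h1, untr_mul]
  obtain ⟨g, hg, φ, hφ⟩ := exists_affine f' y.asIdeal
  refine ⟨x ''ᵁ (PrimeSpectrum.basicOpen g), ⟨y, hg, hy⟩, φ, ?_⟩
  intro T q hT
  have hTx : Set.range T.hom ⊆ Set.range x := fun z hz => by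
    obtain ⟨w, -, hw⟩ := hT hz
    exact ⟨w, hw⟩
  let t : T.left ⟶ Spec (CommRingCat.of R) := IsOpenImmersion.lift x T.hom hTx
  have ht : t ≫ x = T.hom := IsOpenImmersion.lift_fac _ _ _
  let T' : Over (Spec (CommRingCat.of R)) := Over.mk t
  let e : T ⟶ (Over.map x).obj T' := Over.homMk (𝟙 _) (by
    simp only [T', Over.map_obj_hom, Over.mk_hom]
    erw [Category.id_comp]
    exact ht)
  let q' : T' ⟶ Red.DS (Spec (CommRingCat.of R)) M := dsEquiv T' M (dsChar q : Multiplicative M →* Γ(T.left, ⊤))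
  have h1 : e ≫ tr x q' = q := by
    unfold tr
    rw [dsEquiv_naturality, dsChar_dsEquiv]
    refine Eq.trans ?_ (dsEquiv_dsChar q)
    congr 1
  have hg' : IsUnit (gl T' g) := by
    refine isUnit_gl T' g ?_
    rintro _ ⟨z, rfl⟩
    have h2 : T.hom z ∈ ((x ''ᵁ (PrimeSpectrum.basicOpen g) : S.Opens) : Set S) := hT ⟨z, rfl⟩
    obtain ⟨w, hw, hwz⟩ := h2
    have h3 : x (t z) = x w := by
      rw [← Scheme.Hom.comp_apply, ht]
      exact hwz.symm
    have h4 : t z = w := x.isOpenEmbedding.injective h3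
    change t z ∈ _
    rw [h4]
    exact hw
  have h2 : tr x (q' ≫ f') = tr x q' ≫ f := by rw [hf, tr_untr]
  rw [← h1, Category.assoc, ← h2, hφ T' q' hg', tr_DSmap, Category.assoc]

/-- Agreement on points over `U` gives equality after base change along a morphism with image in `U`. -/
theorem bc_eq {X Y : Over S} (a b : X ⟶ Y) (U : S.Opens)
    (h : ∀ (T : Over S) (q : T ⟶ X), Set.range T.hom ⊆ (U : Set S) → q ≫ a = q ≫ b)
    {S' : Scheme.{u}} (v : S' ⟶ S) (hv : Set.range v ⊆ (U : Set S)) :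
    (Over.pullback v).map a = (Over.pullback v).map b := by
  refine BorDesc613.eq_of_ev fun T x t => ?_
  rw [BorDesc613.ev_map, BorDesc613.ev_map]
  refine h T x ?_
  rintro _ ⟨z, rfl⟩
  have h1 : t.left ≫ v = T.hom := Over.w t
  rw [← h1, Scheme.Hom.comp_apply]
  exact hv ⟨_, rfl⟩

/-- `φ ↦ D(φ)` is injective, even locally at a point of `S`. -/
theorem eq_of_DSmap {M N : Type} [AddCommGroup M] [AddCommGroup N] (φ φ' : N →+ M) (U : S.Opens) {s : S}
    (hs : s ∈ U) (h : ∀ (T : Over S) (q : T ⟶ Red.DS S M), Set.range T.hom ⊆ (U : Set S) →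
      q ≫ Red.DSmap S φ = q ≫ Red.DSmap S φ') : φ = φ' := by
  let κ := S.residueField s
  let A := MonoidAlgebra κ (Multiplicative M)
  let T : Over S := Over.mk (Spec.map (CommRingCat.ofHom (algebraMap κ A)) ≫ S.fromSpecResidueField s)
  have hT : Set.range T.hom ⊆ (U : Set S) := by
    rintro _ ⟨z, rfl⟩
    have h1 : T.hom z ∈ Set.range (S.fromSpecResidueField s) := by
      change (Spec.map (CommRingCat.ofHom (algebraMap κ A)) ≫ S.fromSpecResidueField s) z ∈ _
      rw [Scheme.Hom.comp_apply]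
      exact ⟨_, rfl⟩
    rw [Scheme.range_fromSpecResidueField, Set.mem_singleton_iff] at h1
    rw [h1]
    exact hs
  let r : A →+* Γ(T.left, ⊤) := (Scheme.ΓSpecIso (CommRingCat.of A)).inv.hom
  have hr : Function.Injective r :=
    (ConcreteCategory.bijective_of_isIso (Scheme.ΓSpecIso (CommRingCat.of A)).inv).1
  let χ : Multiplicative M →* Γ(T.left, ⊤) :=
    (r : A →* Γ(T.left, ⊤)).comp (MonoidAlgebra.of κ (Multiplicative M))
  have h1 := h T (dsEquiv T M χ) hT
  rw [dsEquiv_DSmap, dsEquiv_DSmap] at h1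
  have h2 := (dsEquiv T N).injective h1
  ext n
  have h3 : r (MonoidAlgebra.single (Multiplicative.ofAdd (φ n)) 1) =
      r (MonoidAlgebra.single (Multiplicative.ofAdd (φ' n)) 1) :=
    DFunLike.congr_fun h2 (Multiplicative.ofAdd n)
  have h4 : MonoidAlgebra.of κ (Multiplicative M) (Multiplicative.ofAdd (φ n)) =
    MonoidAlgebra.of κ (Multiplicative M) (Multiplicative.ofAdd (φ' n)) := hr h3
  exact Multiplicative.ofAdd.injective (MonoidAlgebra.of_injective h4)

/-- **Isomorphisms of diagonalisable groups are locally constant.** -/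
theorem exists_near_iso {M M' : Type} [AddCommGroup M] [AddCommGroup M'] [Module.Finite ℤ M]
    [Module.Finite ℤ M'] (e : Grp.mk (Red.DS S M) ≅ Grp.mk (Red.DS S M')) (s : S) :
    ∃ U : S.Opens, s ∈ U ∧ ∃ ε : M' ≃+ M, ∀ (T : Over S) (q : T ⟶ Red.DS S M),
      Set.range T.hom ⊆ (U : Set S) → q ≫ e.hom.hom.hom = q ≫ Red.DSmap S ε.toAddMonoidHom := by
  obtain ⟨U₁, hs₁, φ, hφ⟩ := exists_near e.hom.hom.hom s
  obtain ⟨U₂, hs₂, ψ, hψ⟩ := exists_near e.inv.hom.hom s
  have h1 : e.hom.hom.hom ≫ e.inv.hom.hom = 𝟙 _ := congrArg (fun k => k.hom.hom) e.hom_inv_id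
  have h2 : e.inv.hom.hom ≫ e.hom.hom.hom = 𝟙 _ := congrArg (fun k => k.hom.hom) e.inv_hom_id
  have hid : ∀ (M : Type) [AddCommGroup M] (T : Over S) (q : T ⟶ Red.DS S M),
      q ≫ Red.DSmap S (AddMonoidHom.id M) = q := by
    intro M _ T q
    refine (dsEquiv T M).symm.injective ?_
    change dsChar _ = dsChar _
    rw [dsChar_DSmap]
    rfl
  have hcomp : ∀ (M N L : Type) [AddCommGroup M] [AddCommGroup N] [AddCommGroup L]
      (φ : M →+ N) (ψ : L →+ M) (T : Over S) (q : T ⟶ Red.DS S N),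
      (q ≫ Red.DSmap S φ) ≫ Red.DSmap S ψ = q ≫ Red.DSmap S (φ.comp ψ) := by
    intro M N L _ _ _ φ ψ T q
    refine (dsEquiv T L).symm.injective ?_
    change dsChar _ = dsChar _
    rw [dsChar_DSmap, dsChar_DSmap, dsChar_DSmap]
    rfl
  have h3 : φ.comp ψ = AddMonoidHom.id M := by
    refine eq_of_DSmap _ _ (U₁ ⊓ U₂) (s := s) ⟨hs₁, hs₂⟩ fun T q hT => ?_
    rw [hid, ← hcomp, ← hφ T q (hT.trans fun x hx => hx.1), ← hψ T _ (hT.trans fun x hx => hx.2),
      Category.assoc, h1, Category.comp_id]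
  have h4 : ψ.comp φ = AddMonoidHom.id M' := by
    refine eq_of_DSmap _ _ (U₁ ⊓ U₂) (s := s) ⟨hs₁, hs₂⟩ fun T q hT => ?_
    rw [hid, ← hcomp, ← hψ T q (hT.trans fun x hx => hx.2), ← hφ T _ (hT.trans fun x hx => hx.1),
      Category.assoc, h2, Category.comp_id]
  refine ⟨U₁, hs₁, AddMonoidHom.toAddEquiv φ ψ h4 h3, fun T q hT => ?_⟩
  rw [hφ T q hT]
  rfl

end near

section bc

variable {S S' : Scheme.{u}}

lemma bcCongrIso_naturality {f g : S' ⟶ S} (h : f = g) {G H : Over S} [GrpObj G] [GrpObj H] (a : G ⟶ H) :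
    (Over.pullback f).map a ≫ (BcIso.bcCongrIso h H).hom.hom.hom =
      (BcIso.bcCongrIso h G).hom.hom.hom ≫ (Over.pullback g).map a := by
  subst h
  exact (Category.comp_id _).trans (Category.id_comp _).symm

/-- The identification `(D_S(M))_{S'} = D_{S'}(M)` is natural in `M`. -/
theorem dsBcIso_naturality (v : S' ⟶ S) {M N : Type} [AddCommGroup M] [AddCommGroup N] (φ : N →+ M) :
    (Over.pullback v).map (Red.DSmap S φ) ≫ (TorusAlgClosed.dsBcIso v N).hom.hom.hom =
      (TorusAlgClosed.dsBcIso v M).hom.hom.hom ≫ Red.DSmap S' φ := by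
  have h1 := BorDesc613.bcCompIso_naturality v (Limits.IsTerminal.from specULiftZIsTerminal S)
    (Red.diagMap (ULift.{u} ℤ) φ)
  have h2 := bcCongrIso_naturality (specULiftZIsTerminal.hom_ext
    (v ≫ Limits.IsTerminal.from specULiftZIsTerminal S) (Limits.IsTerminal.from specULiftZIsTerminal S'))
    (Red.diagMap (ULift.{u} ℤ) φ)
  have hc : ∀ (X : Over (Spec (CommRingCat.of (ULift.{u} ℤ)))) [GrpObj X],
      (BcIso.bcCompIso v (Limits.IsTerminal.from specULiftZIsTerminal S) X).inv.hom.hom ≫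
        (BcIso.bcCompIso v (Limits.IsTerminal.from specULiftZIsTerminal S) X).hom.hom.hom = 𝟙 _ := fun X _ =>
      congrArg (fun k => k.hom.hom)
        (BcIso.bcCompIso v (Limits.IsTerminal.from specULiftZIsTerminal S) X).inv_hom_id
  have hc' : ∀ (X : Over (Spec (CommRingCat.of (ULift.{u} ℤ)))) [GrpObj X],
      (BcIso.bcCompIso v (Limits.IsTerminal.from specULiftZIsTerminal S) X).hom.hom.hom ≫
        (BcIso.bcCompIso v (Limits.IsTerminal.from specULiftZIsTerminal S) X).inv.hom.hom = 𝟙 _ := fun X _ =>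
      congrArg (fun k => k.hom.hom)
        (BcIso.bcCompIso v (Limits.IsTerminal.from specULiftZIsTerminal S) X).hom_inv_id
  have h3 : (Over.pullback v).map (Red.DSmap S φ) ≫
      (BcIso.bcCompIso v (Limits.IsTerminal.from specULiftZIsTerminal S)
        (Red.diag (ULift.{u} ℤ) N)).inv.hom.hom =
      (BcIso.bcCompIso v (Limits.IsTerminal.from specULiftZIsTerminal S)
        (Red.diag (ULift.{u} ℤ) M)).inv.hom.hom ≫
        (Over.pullback (v ≫ Limits.IsTerminal.from specULiftZIsTerminal S)).map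
          (Red.diagMap (ULift.{u} ℤ) φ) := by
    rw [← Category.comp_id ((Over.pullback (v ≫ Limits.IsTerminal.from specULiftZIsTerminal S)).map
          (Red.diagMap (ULift.{u} ℤ) φ)), ← hc' (Red.diag (ULift.{u} ℤ) N),
      ← Category.assoc ((Over.pullback (v ≫ Limits.IsTerminal.from specULiftZIsTerminal S)).map
          (Red.diagMap (ULift.{u} ℤ) φ)), h1, Category.assoc, ← Category.assoc, hc, Category.id_comp]
    rfl
  change (Over.pullback v).map (Red.DSmap S φ) ≫
      (BcIso.bcCompIso v (Limits.IsTerminal.from specULiftZIsTerminal S)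
        (Red.diag (ULift.{u} ℤ) N)).inv.hom.hom ≫ (BcIso.bcCongrIso _ _).hom.hom.hom =
      ((BcIso.bcCompIso v (Limits.IsTerminal.from specULiftZIsTerminal S)
        (Red.diag (ULift.{u} ℤ) M)).inv.hom.hom ≫ (BcIso.bcCongrIso _ _).hom.hom.hom) ≫
        (Over.pullback (Limits.IsTerminal.from specULiftZIsTerminal S')).map
          (Red.diagMap (ULift.{u} ℤ) φ)
  rw [← Category.assoc, h3, Category.assoc, h2, Category.assoc]

/-- an affine open neighbourhood, as an open immersion from a spectrum -/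
lemma exists_spec_nhd (U : S.Opens) {s : S} (hs : s ∈ U) :
    ∃ (R : CommRingCat.{u}) (v : Spec R ⟶ S), IsOpenImmersion v ∧ s ∈ Set.range v ∧
      Set.range v ⊆ (U : Set S) := by
  obtain ⟨_, ⟨V, hV, rfl⟩, hsV, hle⟩ := S.isBasis_affineOpens.exists_subset_of_mem_open hs U.2
  refine ⟨Γ(S, V), hV.fromSpec, inferInstance, ?_, ?_⟩
  · rw [hV.range_fromSpec]
    exact hsV
  · rw [hV.range_fromSpec]
    exact hle

/-- **Local constancy of homomorphisms**, base change form. -/
theorem exists_spec_hom {M N : Type} [AddCommGroup M] [AddCommGroup N] [Module.Finite ℤ N]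
    (f : Red.DS S M ⟶ Red.DS S N) [IsMonHom f] (s : S) :
    ∃ (R : CommRingCat.{u}) (v : Spec R ⟶ S) (φ : N →+ M), IsOpenImmersion v ∧ s ∈ Set.range v ∧
      (Over.pullback v).map f = (Over.pullback v).map (Red.DSmap S φ) ∧
      (Over.pullback v).map f ≫ (TorusAlgClosed.dsBcIso v N).hom.hom.hom =
        (TorusAlgClosed.dsBcIso v M).hom.hom.hom ≫ Red.DSmap (Spec R) φ := by
  obtain ⟨U, hs, φ, hφ⟩ := exists_near f s
  obtain ⟨R, v, h1, h2, h3⟩ := exists_spec_nhd U hs
  have h4 := bc_eq f (Red.DSmap S φ) U hφ v h3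
  exact ⟨R, v, φ, h1, h2, h4, by rw [h4, dsBcIso_naturality]⟩

/-- **Local constancy of isomorphisms**, base change form. -/
theorem exists_spec_iso {M M' : Type} [AddCommGroup M] [AddCommGroup M'] [Module.Finite ℤ M]
    [Module.Finite ℤ M'] (e : Grp.mk (Red.DS S M) ≅ Grp.mk (Red.DS S M')) (s : S) :
    ∃ (R : CommRingCat.{u}) (v : Spec R ⟶ S) (ε : M' ≃+ M), IsOpenImmersion v ∧ s ∈ Set.range v ∧
      (Over.pullback v).map e.hom.hom.hom = (Over.pullback v).map (Red.DSmap S ε.toAddMonoidHom) ∧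
      (Over.pullback v).map e.hom.hom.hom ≫ (TorusAlgClosed.dsBcIso v M').hom.hom.hom =
        (TorusAlgClosed.dsBcIso v M).hom.hom.hom ≫ Red.DSmap (Spec R) ε.toAddMonoidHom := by
  obtain ⟨U, hs, ε, hε⟩ := exists_near_iso e s
  obtain ⟨R, v, h1, h2, h3⟩ := exists_spec_nhd U hs
  have h4 := bc_eq e.hom.hom.hom (Red.DSmap S ε.toAddMonoidHom) U hε v h3
  exact ⟨R, v, ε, h1, h2, h4, by rw [h4, dsBcIso_naturality]⟩

end bc

end Groth.Agent.Sga3B.BorLoc613
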