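import Groth.Agent.Sga3B.BcIso
import Mathlib.AlgebraicGeometry.Morphisms.FormallyUnramified
import Mathlib.AlgebraicGeometry.Morphisms.Etale
import Mathlib.AlgebraicGeometry.Morphisms.Preimmersion
import Mathlib.FieldTheory.IsAlgClosed.Basic

/-!
# Morphisms with algebraic residue field extensions, and geometric points
-/

set_option autoImplicit false
open CategoryTheory MonoidalCategory CartesianMonoidalCategory MonObj GrpObj AlgebraicGeometry
universe u

namespace Groth.Agent.Sga3B.ResAlg

variable {X Y Z : Scheme.{u}}

/-- all residue field extensions of `f` are algebraic -/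
class AlgRes (f : X ⟶ Y) : Prop where
  isIntegral : ∀ x, (f.residueFieldMap x).hom.IsIntegral

instance algRes_comp (f : X ⟶ Y) (g : Y ⟶ Z) [AlgRes f] [AlgRes g] : AlgRes (f ≫ g) where
  isIntegral x := by
    have h : (f ≫ g).residueFieldMap x = g.residueFieldMap (f x) ≫ f.residueFieldMap x :=
      Scheme.residueFieldMap_comp f g x
    exact (congrArg (fun t : Z.residueField (g (f x)) ⟶ X.residueField x => t.hom.IsIntegral) h).mpr
      (RingHom.IsIntegral.trans _ _ (AlgRes.isIntegral (f := g) _) (AlgRes.isIntegral (f := f) _))

instance algRes_of_isOpenImmersion (f : X ⟶ Y) [IsOpenImmersion f] : AlgRes f where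
  isIntegral x := by
    have h : Function.Surjective (f.residueFieldMap x).hom :=
      ((ConcreteCategory.isIso_iff_bijective (f.residueFieldMap x)).mp inferInstance).2
    exact RingHom.isIntegral_of_surjective _ h

instance algRes_of_isPreimmersion (f : X ⟶ Y) [IsPreimmersion f] : AlgRes f where
  isIntegral x := by
    refine RingHom.isIntegral_of_surjective _ ?_
    intro a
    obtain ⟨b, rfl⟩ := IsLocalRing.residue_surjective a
    obtain ⟨c, rfl⟩ := f.stalkMap_surjective x b
    exact ⟨IsLocalRing.residue _ c, rfl⟩

/-- étale (more generally unramified) morphisms have algebraic residue extensions -/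
instance algRes_of_formallyUnramified (f : X ⟶ Y) [FormallyUnramified f] [LocallyOfFiniteType f] : AlgRes f where
  isIntegral x := by
    let : Algebra (Y.residueField (f.base x)) (X.residueField x) := (f.residueFieldMap x).hom.toAlgebra
    have h : Algebra.IsSeparable (Y.residueField (f.base x)) (X.residueField x) := inferInstance
    have h2 : Algebra.IsAlgebraic (Y.residueField (f.base x)) (X.residueField x) := inferInstance
    exact fun a => (Algebra.IsAlgebraic.isAlgebraic a).isIntegral

lemma surjective_toResidueField (L : Type u) [Field L] (x : Spec (CommRingCat.of L)) :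
    Function.Surjective ((Scheme.ΓSpecIso (CommRingCat.of L)).inv ≫
      (Spec (CommRingCat.of L)).presheaf.germ ⊤ x trivial ≫ (Spec (CommRingCat.of L)).residue x).hom := by
  rw [← Scheme.Spec.algebraMap_residueFieldIso_inv, CommRingCat.hom_comp]
  refine Function.Surjective.comp (g := (Scheme.Spec.residueFieldIso (CommRingCat.of L) x).inv.hom) ?_ ?_
  · exact ((ConcreteCategory.isIso_iff_bijective (Scheme.Spec.residueFieldIso (CommRingCat.of L) x).inv).mp
      inferInstance).2
  · have hmax : x.asIdeal.IsMaximal := inferInstance
    have h1 := (Ideal.bijective_algebraMap_quotient_residueField x.asIdeal).2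
    intro a
    obtain ⟨b, rfl⟩ := h1 a
    obtain ⟨c, rfl⟩ := Ideal.Quotient.mk_surjective b
    exact ⟨c, rfl⟩

/-- A morphism from the spectrum of a field to an affine scheme given by an integral ring map has algebraic residue
extension. -/
lemma algRes_SpecMap {A : CommRingCat.{u}} (L : Type u) [Field L] (φ : A ⟶ CommRingCat.of L)
    (hφ : φ.hom.IsIntegral) : AlgRes (Spec.map φ) where
  isIntegral x := by
    have e1 : ((Scheme.ΓSpecIso A).inv ≫ (Spec A).Γevaluation ((Spec.map φ) x)) ≫ (Spec.map φ).residueFieldMap x =
        φ ≫ (Scheme.ΓSpecIso (CommRingCat.of L)).inv ≫ (Spec (CommRingCat.of L)).Γevaluation x := by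
      rw [Category.assoc, Scheme.Γevaluation_naturality, ← Scheme.ΓSpecIso_inv_naturality_assoc]
    have e2 := congrArg CommRingCat.Hom.hom e1
    rw [CommRingCat.hom_comp] at e2
    refine RingHom.IsIntegral.tower_top (f := ((Scheme.ΓSpecIso A).inv ≫ (Spec A).Γevaluation ((Spec.map φ) x)).hom) _ ?_
    rw [e2, CommRingCat.hom_comp]
    exact RingHom.IsIntegral.trans _ _ hφ (RingHom.isIntegral_of_surjective _ (surjective_toResidueField L x))

instance algRes_geomPt (s : X) : AlgRes (Red.geomPt s) := by
  have h1 : AlgRes (Spec.map (CommRingCat.ofHom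
      (algebraMap (X.residueField s) (AlgebraicClosure (X.residueField s))))) :=
    algRes_SpecMap _ _ (fun a => (Algebra.IsIntegral.isIntegral (R := X.residueField s) a))
  infer_instance

/-- If the residue extension of `f` at `x` is algebraic, the geometric point over `x` is the geometric point over
`f x` up to an isomorphism. -/
theorem exists_iso_geomPt (f : X ⟶ Y) [AlgRes f] (x : X) :
    ∃ θ : Spec (CommRingCat.of (AlgebraicClosure (X.residueField x))) ⟶
        Spec (CommRingCat.of (AlgebraicClosure (Y.residueField (f x)))),
      IsIso θ ∧ θ ≫ Red.geomPt (f x) = Red.geomPt x ≫ f := by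
  let k := Y.residueField (f x)
  let k' := X.residueField x
  let a1 : Algebra k k' := (f.residueFieldMap x).hom.toAlgebra
  have a4 : Algebra.IsAlgebraic k k' := ⟨fun a => IsIntegral.isAlgebraic (R := k) (AlgRes.isIntegral (f := f) x a)⟩
  have a5 : Algebra.IsAlgebraic k (AlgebraicClosure k') := Algebra.IsAlgebraic.trans k k' (AlgebraicClosure k')
  have a6 : IsAlgClosure k (AlgebraicClosure k') := ⟨inferInstance, a5⟩
  let e : AlgebraicClosure k ≃ₐ[k] AlgebraicClosure k' := IsAlgClosure.equiv k _ _
  refine ⟨Spec.map (CommRingCat.ofHom e.toRingEquiv.toRingHom), ?_, ?_⟩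
  · have : IsIso (CommRingCat.ofHom e.toRingEquiv.toRingHom) :=
      (RingEquiv.toCommRingCatIso e.toRingEquiv).isIso_hom
    infer_instance
  · rw [Red.geomPt, Red.geomPt, Category.assoc, ← Scheme.Hom.SpecMap_residueFieldMap_fromSpecResidueField,
      ← Category.assoc, ← Category.assoc, ← Spec.map_comp, ← Spec.map_comp]
    congr 2
    ext a
    exact e.commutes a

end Groth.Agent.Sga3B.ResAlg
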