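import Groth.Agent.Sga3B.RedIso
import Groth.Agent.Sga3B.ResAlg

/-!
# Naturality of the base change isomorphisms
-/

set_option autoImplicit false
open CategoryTheory MonoidalCategory CartesianMonoidalCategory MonObj GrpObj AlgebraicGeometry
universe u

namespace Groth.Agent.Sga3B.BcNat

open Groth.Agent.Sga3B Groth.Agent.Sga3B.RedIso

variable {S S' S'' : Scheme.{u}}

lemma und_bcCompIso (q : S'' ⟶ S') (g : S' ⟶ S) (G : Over S) [GrpObj G] :
    (und (BcIso.bcCompIso q g G)).hom = (Over.pullbackComp q g).hom.app G := by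
  dsimp [und, BcIso.bcCompIso]
  simp
  rfl

lemma und_bcIdIso (G : Over S) [GrpObj G] :
    (und (BcIso.bcIdIso G)).hom = (Over.pullbackId (X := S)).hom.app G := by
  dsimp [und, BcIso.bcIdIso]
  simp
  exact Category.comp_id _

@[simp] lemma und_trans {G H I : Over S} [GrpObj G] [GrpObj H] [GrpObj I] (e : Grp.mk G ≅ Grp.mk H)
    (e' : Grp.mk H ≅ Grp.mk I) : (und (e ≪≫ e')).hom = (und e).hom ≫ (und e').hom := rfl

@[simp] lemma und_symm {G H : Over S} [GrpObj G] [GrpObj H] (e : Grp.mk G ≅ Grp.mk H) :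
    (und e.symm).hom = (und e).inv := rfl

@[simp] lemma und_bcMapIso (f : S' ⟶ S) {G H : Over S} [GrpObj G] [GrpObj H] (e : Grp.mk G ≅ Grp.mk H) :
    (und (BcIso.bcMapIso f e)).hom = (Over.pullback f).map (und e).hom := rfl

lemma comp_nat (q : S'' ⟶ S') (g : S' ⟶ S) {G H : Over S} [GrpObj G] [GrpObj H] (i : G ⟶ H) :
    (und (BcIso.bcCompIso q g G)).hom ≫ (Over.pullback q).map ((Over.pullback g).map i) =
      (Over.pullback (q ≫ g)).map i ≫ (und (BcIso.bcCompIso q g H)).hom := by
  rw [und_bcCompIso, und_bcCompIso]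
  exact ((Over.pullbackComp q g).hom.naturality i).symm

lemma comp_nat_inv (q : S'' ⟶ S') (g : S' ⟶ S) {G H : Over S} [GrpObj G] [GrpObj H] (i : G ⟶ H) :
    (und (BcIso.bcCompIso q g G)).inv ≫ (Over.pullback (q ≫ g)).map i =
      (Over.pullback q).map ((Over.pullback g).map i) ≫ (und (BcIso.bcCompIso q g H)).inv := by
  rw [Iso.inv_comp_eq, ← Category.assoc, comp_nat, Category.assoc, Iso.hom_inv_id, Category.comp_id]

lemma id_nat {G H : Over S} [GrpObj G] [GrpObj H] (i : G ⟶ H) :
    (und (BcIso.bcIdIso G)).hom ≫ i = (Over.pullback (𝟙 S)).map i ≫ (und (BcIso.bcIdIso H)).hom := by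
  rw [und_bcIdIso, und_bcIdIso]
  exact ((Over.pullbackId (X := S)).hom.naturality i).symm

lemma congr_nat {f g : S' ⟶ S} (h : f = g) {G H : Over S} [GrpObj G] [GrpObj H] (i : G ⟶ H) :
    (und (BcIso.bcCongrIso h G)).hom ≫ (Over.pullback g).map i =
      (Over.pullback f).map i ≫ (und (BcIso.bcCongrIso h H)).hom := by
  subst h
  simp only [BcIso.bcCongrIso, und, eqToIso_refl, Functor.mapIso_refl, Iso.refl_hom]
  exact (Category.id_comp _).trans (Category.comp_id _).symm

section Iso

variable (f : S' ⟶ S) [IsIso f]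

lemma unbc'_nat {G H : Over S} [GrpObj G] [GrpObj H] (i : G ⟶ H) :
    (Over.pullback (CategoryTheory.inv f)).map ((Over.pullback f).map i) ≫ (und (unbcIso' f H)).hom =
      (und (unbcIso' f G)).hom ≫ i := by
  simp only [unbcIso', und_trans, und_symm, Category.assoc]
  rw [id_nat, ← Category.assoc (und (BcIso.bcCongrIso _ G)).hom, congr_nat, Category.assoc,
    ← Category.assoc ((und (BcIso.bcCompIso _ _ G)).inv), comp_nat_inv, Category.assoc]

lemma unbc_nat {G H : Over S'} [GrpObj G] [GrpObj H] (i : G ⟶ H) :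
    (Over.pullback f).map ((Over.pullback (CategoryTheory.inv f)).map i) ≫ (und (unbcIso f H)).hom =
      (und (unbcIso f G)).hom ≫ i := by
  simp only [unbcIso, und_trans, und_symm, Category.assoc]
  rw [id_nat, ← Category.assoc (und (BcIso.bcCongrIso _ G)).hom, congr_nat, Category.assoc,
    ← Category.assoc ((und (BcIso.bcCompIso _ _ G)).inv), comp_nat_inv, Category.assoc]

/-- Base change along an isomorphism reflects isomorphisms. -/
lemma isIso_of_bc {G H : Over S} [GrpObj G] [GrpObj H] (i : G ⟶ H) [h : IsIso ((Over.pullback f).map i)] :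
    IsIso i := by
  have h1 := unbc'_nat f i
  have h2 : i = (und (unbcIso' f G)).inv ≫
      (Over.pullback (CategoryTheory.inv f)).map ((Over.pullback f).map i) ≫ (und (unbcIso' f H)).hom := by
    rw [h1, Iso.inv_hom_id_assoc]
  rw [h2]
  infer_instance

end Iso

/-- The comparison isomorphism of geometric fibres when the residue extension is algebraic. -/
noncomputable def fibIso {T T' : Scheme.{u}} {θ : T' ⟶ T} {g : T ⟶ S} {g' : T' ⟶ S'} {f : S' ⟶ S}
    (h : θ ≫ g = g' ≫ f) (G : Over S) [GrpObj G] :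
    Grp.mk (Red.bc g' (Red.bc f G)) ≅ Grp.mk (Red.bc θ (Red.bc g G)) :=
  (BcIso.bcCompIso g' f G).symm ≪≫ BcIso.bcCongrIso h.symm G ≪≫ BcIso.bcCompIso θ g G

lemma fib_nat {T T' : Scheme.{u}} {θ : T' ⟶ T} {g : T ⟶ S} {g' : T' ⟶ S'} {f : S' ⟶ S}
    (h : θ ≫ g = g' ≫ f) {G H : Over S} [GrpObj G] [GrpObj H] (i : G ⟶ H) :
    (Over.pullback g').map ((Over.pullback f).map i) ≫ (und (fibIso h H)).hom =
      (und (fibIso h G)).hom ≫ (Over.pullback θ).map ((Over.pullback g).map i) := by
  simp only [fibIso, und_trans, und_symm, Category.assoc]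
  rw [comp_nat, ← Category.assoc (und (BcIso.bcCongrIso _ G)).hom, congr_nat, Category.assoc,
    ← Category.assoc ((und (BcIso.bcCompIso _ _ G)).inv), comp_nat_inv, Category.assoc]

end Groth.Agent.Sga3B.BcNat
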