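import Groth.Agent.Sga4B.DimBC
import Groth.Agent.Desc.DimMap
import Groth.Agent.S3022
import Groth.Prelude.Def_Red

/-!
# Dimension of geometric fibres
-/

set_option autoImplicit false
open CategoryTheory MonoidalCategory CartesianMonoidalCategory MonObj GrpObj AlgebraicGeometry Limits
universe u

namespace Groth.Agent.Sga3B.DimFib

/-- Base field extension does not change the dimension of a scheme locally of finite type. -/
theorem topologicalKrullDim_baseChange_eq {k Ω : CommRingCat.{u}} (hk : IsField k) (hΩ : IsField Ω)
    {X U : Scheme.{u}} (a : X ⟶ Spec k) [LocallyOfFiniteType a] (b : Spec Ω ⟶ Spec k)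
    (g : U ⟶ X) (h : U ⟶ Spec Ω) (sq : IsPullback g h a b) :
    topologicalKrullDim U = topologicalKrullDim X := by
  apply le_antisymm
  · exact Sga4B.DimBC.topologicalKrullDim_baseChange_le hk hΩ a b g h sq
  · let := hk.toField
    let := hΩ.toField
    haveI : Surjective b := by
      constructor
      intro x
      haveI : Subsingleton ↥(Spec k) := inferInstanceAs (Subsingleton (PrimeSpectrum k))
      haveI : Nonempty ↥(Spec Ω) := inferInstanceAs (Nonempty (PrimeSpectrum Ω))
      exact ⟨Classical.arbitrary _, Subsingleton.elim _ _⟩
    haveI : Flat b := by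
      obtain ⟨ψ, rfl⟩ := Spec.map_surjective b
      rw [Flat.SpecMap_iff]
      algebraize [ψ.hom]
      change Module.Flat k Ω
      infer_instance
    haveI : Surjective g := MorphismProperty.of_isPullback sq.flip (inferInstance : Surjective b)
    haveI : Flat g := MorphismProperty.of_isPullback sq.flip (inferInstance : Flat b)
    exact Desc.DimMap.topologicalKrullDim_le_of_generalizingMap g g.continuous
      (Flat.generalizingMap g) g.surjective

theorem topologicalKrullDim_pullback_geomPt {X S : Scheme.{u}} (s : S) (f : X ⟶ S)
    [LocallyOfFiniteType f] :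
    topologicalKrullDim ↥(pullback f (Red.geomPt s)) = topologicalKrullDim ↥(f.base ⁻¹' {s}) := by
  have h1 : topologicalKrullDim (f.fiber s) = topologicalKrullDim (f ⁻¹' {s}) :=
    IsHomeomorph.topologicalKrullDim_eq (f.fiberHomeo s) (f.fiberHomeo s).isHomeomorph
  refine Eq.trans ?_ h1
  let b : Spec (CommRingCat.of (AlgebraicClosure (S.residueField s))) ⟶ Spec (S.residueField s) :=
    Spec.map (CommRingCat.ofHom (algebraMap (S.residueField s) (AlgebraicClosure (S.residueField s))))
  have sq1 : IsPullback (pullback.fst f (S.fromSpecResidueField s)) (pullback.snd f (S.fromSpecResidueField s))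
      f (S.fromSpecResidueField s) := IsPullback.of_hasPullback _ _
  have sq2 : IsPullback (pullback.fst f (Red.geomPt s)) (pullback.snd f (Red.geomPt s)) f (Red.geomPt s) :=
    IsPullback.of_hasPullback _ _
  have sq3 : IsPullback (sq1.lift (pullback.fst f (Red.geomPt s)) (pullback.snd f (Red.geomPt s) ≫ b)
      (by rw [Category.assoc]; exact sq2.w))
      (pullback.snd f (Red.geomPt s)) (pullback.snd f (S.fromSpecResidueField s)) b := by
    refine IsPullback.of_right (t := sq1) ?_ (by simp)
    rw [IsPullback.lift_fst]
    exact sq2
  have h0 : LocallyOfFiniteType (pullback.snd f (S.fromSpecResidueField s)) := inferInstance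
  exact @topologicalKrullDim_baseChange_eq (S.residueField s)
    (CommRingCat.of (AlgebraicClosure (S.residueField s))) (Field.toIsField _) (Field.toIsField _) _ _
    (pullback.snd f (S.fromSpecResidueField s)) h0 b _ _ sq3

theorem topologicalKrullDim_geomFibre {S : Scheme.{u}} (s : S) (X : Over S) [LocallyOfFiniteType X.hom] :
    topologicalKrullDim ↥(Red.geomFibre s X).left = topologicalKrullDim ↥(X.hom.base ⁻¹' {s}) :=
  topologicalKrullDim_pullback_geomPt s X.hom

/-- The dimension of the geometric fibres of a flat, locally finitely presented group scheme is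
locally constant. -/
theorem isLocallyConstant_dim_geomFibre (S : Scheme.{u}) (G : Over S) [GrpObj G] [Flat G.hom]
    [LocallyOfFinitePresentation G.hom] :
    IsLocallyConstant (fun s : S => topologicalKrullDim ↥(Red.geomFibre s G).left) := by
  have h := Groth.Agent.S3022.result S G
  have : (fun s : S => topologicalKrullDim ↥(Red.geomFibre s G).left) =
      (fun s : S => topologicalKrullDim ↥(G.hom.base ⁻¹' {s})) := by
    ext s
    rw [topologicalKrullDim_geomFibre]
  rw [this]; exact h

end Groth.Agent.Sga3B.DimFib
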