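import Groth.Prelude.Def_Red2
import Groth.Agent.Sga3B.DSPts

/-!
# Points of `Red.Ga S`

For `T : Over S`, the group `T ⟶ Red.Ga S` is the additive group `Γ(T.left, ⊤)`:
`gaEquiv T : Multiplicative Γ(T.left, ⊤) ≃* (T ⟶ Red.Ga S)` with inverse `Red.gaFn`.
-/

set_option autoImplicit false
universe u
open CategoryTheory MonoidalCategory CartesianMonoidalCategory MonObj GrpObj AlgebraicGeometry Limits
open scoped TensorProduct

namespace Groth.Agent.Sga3B.GaPts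

open DSPts

/-- the symmetric algebra on one generator over `ℤ` (`ULift`ed). -/
abbrev SymZ : Type u := SymmetricAlgebra (ULift.{u} ℤ) (ULift.{u} ℤ)

/-- the generator -/
noncomputable abbrev gen : SymZ.{u} := SymmetricAlgebra.ι (ULift.{u} ℤ) (ULift.{u} ℤ) (ULift.up 1)

lemma ι_eq_aux {R : Type u} [CommRing R] (c : R) :
    SymmetricAlgebra.ι R R c = algebraMap R _ c * SymmetricAlgebra.ι R R 1 := by
  rw [← Algebra.smul_def, ← map_smul, smul_eq_mul, _root_.mul_one]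

lemma ι_eq (c : ULift.{u} ℤ) :
    SymmetricAlgebra.ι (ULift.{u} ℤ) (ULift.{u} ℤ) c = algebraMap (ULift.{u} ℤ) SymZ.{u} c * gen.{u} :=
  ι_eq_aux c

lemma algHom_ext {B : Type u} [CommRing B] [Algebra (ULift.{u} ℤ) B] {f g : SymZ.{u} →ₐ[ULift.{u} ℤ] B}
    (h : f gen = g gen) : f = g := by
  apply SymmetricAlgebra.algHom_ext
  refine DFunLike.ext _ _ fun c => ?_
  change f (SymmetricAlgebra.ι _ _ _) = g (SymmetricAlgebra.ι _ _ _)
  rw [ι_eq, map_mul, map_mul, h, AlgHom.commutes, AlgHom.commutes]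

attribute [local instance 10] ULift.algebra'

section

variable {E : Type u} [CommRing E]

/-- The algebra hom `ℤ[X] → E`, `X ↦ x`. -/
noncomputable def gaAlgHom (x : E) : SymZ.{u} →ₐ[ULift.{u} ℤ] E :=
  SymmetricAlgebra.lift (LinearMap.toSpanSingleton (ULift.{u} ℤ) E x)

@[simp] lemma gaAlgHom_gen (x : E) : gaAlgHom x gen = x := by
  rw [gaAlgHom, gen, SymmetricAlgebra.lift_ι_apply, LinearMap.toSpanSingleton_apply]
  exact one_smul _ _

/-- Every ring hom from `SymZ` is an algebra hom. -/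
noncomputable def toAlg (f : SymZ.{u} →+* E) : SymZ.{u} →ₐ[ULift.{u} ℤ] E :=
  { f with
    commutes' := fun r => RingHom.congr_fun (uliftInt_ringHom_ext
      (f.comp (algebraMap (ULift.{u} ℤ) SymZ.{u})) (algebraMap (ULift.{u} ℤ) E)) r }

lemma ringHom_ext {f g : SymZ.{u} →+* E} (h : f gen = g gen) : f = g := by
  have : toAlg f = toAlg g := algHom_ext h
  ext x
  exact congr($this x)

/-- The ring hom `ℤ[X] → E`, `X ↦ x`. -/
noncomputable def gaHom (x : E) : SymZ.{u} →+* E := (gaAlgHom x).toRingHom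

@[simp] lemma gaHom_gen (x : E) : gaHom x gen = x := gaAlgHom_gen x

lemma gaHom_apply_gen (f : SymZ.{u} →+* E) : gaHom (f gen) = f := ringHom_ext (by simp)

lemma comp_gaHom {E' : Type u} [CommRing E'] (x : E) (φ : E →+* E') :
    φ.comp (gaHom x) = gaHom (φ x) := ringHom_ext (by simp)

lemma gaAlgHom_add (x y : E) :
    WithConv.toConv (gaAlgHom (x + y)) = WithConv.toConv (gaAlgHom x) * WithConv.toConv (gaAlgHom y) := by
  apply WithConv.ofConv_injective
  apply algHom_ext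
  rw [AlgHom.convMul_def]
  simp only [AlgHom.comp_apply, gaAlgHom_gen]
  have : (Bialgebra.comulAlgHom (ULift.{u} ℤ) SymZ.{u}) gen = gen ⊗ₜ 1 + 1 ⊗ₜ gen :=
    SymmetricAlgebra.comul_ι _ _ _
  rw [this]
  simp

end

lemma appTop_toSpecΓ_comp {X : Scheme.{u}} {A : Type u} [CommRing A] (φ : A →+* Γ(X, ⊤)) (a : A) :
    (X.toSpecΓ ≫ Spec.map (CommRingCat.ofHom φ)).appTop ((Scheme.ΓSpecIso (CommRingCat.of A)).inv a) =
      φ a := by
  have h1 : (CommRingCat.ofHom φ ≫ (Scheme.ΓSpecIso (CommRingCat.of Γ(X, ⊤))).inv) a = _ :=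
    congr($(Scheme.ΓSpecIso_inv_naturality (CommRingCat.ofHom φ)) a)
  have h2 : X.toSpecΓ.appTop ((Scheme.ΓSpecIso (CommRingCat.of Γ(X, ⊤))).inv (φ a)) = φ a := by
    have := congr($(Scheme.toSpecΓ_appTop X) ((Scheme.ΓSpecIso Γ(X, ⊤)).inv (φ a)))
    refine this.trans ?_
    change ((Scheme.ΓSpecIso Γ(X, ⊤)).inv ≫ (Scheme.ΓSpecIso Γ(X, ⊤)).hom) (φ a) = φ a
    rw [Iso.inv_hom_id]
    rfl
  rw [Scheme.Hom.comp_appTop]
  change X.toSpecΓ.appTop (((Scheme.ΓSpecIso (CommRingCat.of A)).inv ≫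
    Scheme.Hom.appTop (Spec.map (CommRingCat.ofHom φ))) a) = φ a
  rw [← h1]
  exact h2

section

variable {S : Scheme.{u}}

/-- point of `GaZ` given by a function -/
noncomputable def gaZPt (T : Over S) (x : Γ(T.left, ⊤)) :
    toZ T ⟶ Red.GaZ :=
  (Over.homMk (V := (Spec (.of Γ(T.left, ⊤))).asOver (Spec (.of (ULift.{u} ℤ)))) T.left.toSpecΓ
    (toZ_isOver _)) ≫ Spec.mapMulEquiv (WithConv.toConv (gaAlgHom x))

lemma gaZPt_mul (T : Over S) (x y : Γ(T.left, ⊤)) :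
    gaZPt T (x + y) = gaZPt T x * gaZPt T y := by
  rw [gaZPt, gaZPt, gaZPt, gaAlgHom_add, map_mul, comp_mul]

lemma gaZPt_left (T : Over S) (x : Γ(T.left, ⊤)) :
    (gaZPt T x).left = T.left.toSpecΓ ≫ Spec.map (CommRingCat.ofHom (gaHom x)) := rfl

lemma gaZPt_bijective (T : Over S) : Function.Bijective (gaZPt T) := by
  constructor
  · intro x y h
    have h2 := congr($(h).left)
    rw [gaZPt_left, gaZPt_left] at h2
    have h3 := (ΓSpec.adjunction.homEquiv T.left (.op (.of SymZ.{u}))).injective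
       (a₁ := (CommRingCat.ofHom (gaHom x)).op) (a₂ := (CommRingCat.ofHom (gaHom y)).op) h2
    have h4 := Quiver.Hom.op_inj h3
    have h5 := congr(CommRingCat.Hom.hom $h4 gen)
    simpa using h5
  · intro g
    obtain ⟨f, hf⟩ := (ΓSpec.adjunction.homEquiv T.left (.op (.of SymZ.{u}))).surjective g.left
    let φ : SymZ.{u} →+* Γ(T.left, ⊤) := f.unop.hom
    refine ⟨φ gen, ?_⟩
    ext1
    rw [gaZPt_left, gaHom_apply_gen φ, ← hf]
    rfl

/-- points of `GaZ` with values in `T` -/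
noncomputable def gaZEquiv (T : Over S) :
    Multiplicative Γ(T.left, ⊤) ≃* (toZ T ⟶ Red.GaZ) where
  toEquiv := Multiplicative.toAdd.trans (Equiv.ofBijective _ (gaZPt_bijective T))
  map_mul' x y := gaZPt_mul T x.toAdd y.toAdd

/-- The point of `Ga S` attached to a function. -/
noncomputable def gaEquiv (T : Over S) : Multiplicative Γ(T.left, ⊤) ≃* (T ⟶ Red.Ga S) :=
  (gaZEquiv T).trans (bcEquiv (Limits.IsTerminal.from specULiftZIsTerminal S) T Red.GaZ)

/-- The `T`-point of `Ga S` with coordinate `x`. -/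
noncomputable def gaPt (T : Over S) (x : Γ(T.left, ⊤)) : T ⟶ Red.Ga S :=
  gaEquiv T (Multiplicative.ofAdd x)

lemma gaPt_fst (T : Over S) (x : Γ(T.left, ⊤)) :
    (gaPt T x).left ≫ pullback.fst _ _ = T.left.toSpecΓ ≫ Spec.map (CommRingCat.ofHom (gaHom x)) :=
  bcEquiv_fst _ _ _ _

@[simp] lemma gaFn_gaPt (T : Over S) (x : Γ(T.left, ⊤)) : Red.gaFn (gaPt T x) = x := by
  rw [Red.gaFn, gaPt_fst, Red.gaCoord]
  exact (appTop_toSpecΓ_comp (gaHom x) gen).trans (gaHom_gen x)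

@[simp] lemma gaPt_gaFn (T : Over S) (x : T ⟶ Red.Ga S) : gaPt T (Red.gaFn x) = x := by
  obtain ⟨y, rfl⟩ := (gaEquiv T).surjective x
  change gaPt T (Red.gaFn (gaPt T y.toAdd)) = gaPt T y.toAdd
  rw [gaFn_gaPt]

lemma gaFn_injective (T : Over S) : Function.Injective (Red.gaFn : (T ⟶ Red.Ga S) → _) :=
  fun x y h => by rw [← gaPt_gaFn T x, h, gaPt_gaFn]

lemma gaPt_add (T : Over S) (x y : Γ(T.left, ⊤)) : gaPt T (x + y) = gaPt T x * gaPt T y := by
  rw [gaPt, ofAdd_add, map_mul]; rfl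

lemma gaFn_mul {T : Over S} (x y : T ⟶ Red.Ga S) : Red.gaFn (x * y) = Red.gaFn x + Red.gaFn y := by
  conv_lhs => rw [← gaPt_gaFn T x, ← gaPt_gaFn T y, ← gaPt_add, gaFn_gaPt]

@[simp] lemma gaFn_one {T : Over S} : Red.gaFn (1 : T ⟶ Red.Ga S) = 0 := by
  have h := gaFn_mul (1 : T ⟶ Red.Ga S) 1
  have h2 : (1 : T ⟶ Red.Ga S) * 1 = 1 := _root_.mul_one (1 : T ⟶ Red.Ga S)
  rw [h2] at h
  simpa using h

lemma gaFn_inv {T : Over S} (x : T ⟶ Red.Ga S) : Red.gaFn (x⁻¹) = - Red.gaFn x := by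
  have := gaFn_mul x x⁻¹
  rw [mul_inv_cancel, gaFn_one] at this
  exact eq_neg_of_add_eq_zero_right this.symm

lemma gaFn_comp {T T' : Over S} (h : T' ⟶ T) (x : T ⟶ Red.Ga S) :
    Red.gaFn (h ≫ x) = h.left.appTop (Red.gaFn x) := by
  rw [Red.gaFn, Red.gaFn, Over.comp_left, Category.assoc, Scheme.Hom.comp_appTop]
  rfl

lemma comp_gaPt {T T' : Over S} (h : T' ⟶ T) (x : Γ(T.left, ⊤)) :
    h ≫ gaPt T x = gaPt T' (h.left.appTop x) := by
  apply gaFn_injective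
  rw [gaFn_comp, gaFn_gaPt, gaFn_gaPt]

end

section gm

variable {S : Scheme.{u}}

/-- `gmFn` in terms of the character of a point. -/
lemma gmFn_eq {T : Over S} (t : T ⟶ Red.Gm S) :
    Red.gmFn t = dsChar t (Multiplicative.ofAdd 1) := by
  obtain ⟨χ, rfl⟩ := (dsEquiv T ℤ).surjective t
  rw [dsChar_dsEquiv]
  have h0 : (dsEquiv T ℤ χ).left ≫ pullback.fst _ _ =
      T.left.toSpecΓ ≫ Spec.map (CommRingCat.ofHom (charHom χ)) := dsFst_dsEquiv T ℤ χ
  rw [Red.gmFn, h0, Red.gmCoord]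
  exact (appTop_toSpecΓ_comp (charHom χ) _).trans (charHom_single χ _)

/-- `gmFn` of the character `χ_m` of a point of `D_S(M)`. -/
lemma gmFn_chi {T : Over S} {M : Type} [AddCommGroup M] (t : T ⟶ Red.DS S M) (m : M) :
    Red.gmFn (t ≫ Red.chi S m) = dsChar t (Multiplicative.ofAdd m) := by
  rw [gmFn_eq, Red.chi, dsChar_DSmap]
  simp

end gm

end Groth.Agent.Sga3B.GaPts
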