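import Groth.Prelude.Def_Red2
import Groth.Agent.Sga3B.TorusBc
import Groth.Agent.Sga3B.BcNat
import Groth.Agent.Sga3B.DSPts
import Groth.Agent.Sga3B.GaPts
import Groth.Agent.Sga3B.DimFib

/-!
# Base change of splittings and pinnings of reductive groups along an arbitrary morphism
-/

set_option autoImplicit false
open CategoryTheory MonoidalCategory CartesianMonoidalCategory MonObj GrpObj AlgebraicGeometry Limits
universe u

namespace Groth.Agent.Sga3B.SplitBc264

open Groth.Agent.Sga3B Groth.Agent.Sga3B.RedIso Groth.Agent.Sga3B.BcNat Groth.Agent.Sga3B.DSPts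
  Groth.Agent.Sga3B.GaPts

variable {S S' S'' : Scheme.{u}}

lemma pullbackComp_left (q : S'' ⟶ S') (g : S' ⟶ S) (X : Over S) :
    ((Over.pullbackComp q g).hom.app X).left ≫ pullback.fst (pullback.snd X.hom g) q ≫
      pullback.fst X.hom g = pullback.fst X.hom (q ≫ g) := by
  have h := conjugateEquiv_counit (Over.mapPullbackAdj (q ≫ g))
    ((Over.mapPullbackAdj q).comp (Over.mapPullbackAdj g)) (Over.mapComp q g).inv X
  have h2 := congrArg (fun z => z.left) h
  simp at h2
  exact h2

lemma bcCongrIso_left {f g : S' ⟶ S} (h : f = g) (G : Over S) [GrpObj G] :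
    (BcIso.bcCongrIso h G).hom.hom.hom.left ≫ pullback.fst G.hom g = pullback.fst G.hom f := by
  subst h
  exact Category.id_comp _

lemma bcCongrIso_inv_left {f g : S' ⟶ S} (h : f = g) (G : Over S) [GrpObj G] :
    (BcIso.bcCongrIso h G).inv.hom.hom.left ≫ pullback.fst G.hom f = pullback.fst G.hom g := by
  subst h
  exact Category.id_comp _

lemma bcCompIso_left (q : S'' ⟶ S') (g : S' ⟶ S) (G : Over S) [GrpObj G] :
    (BcIso.bcCompIso q g G).hom.hom.hom.left ≫ pullback.fst (Red.bc g G).hom q ≫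
      pullback.fst G.hom g = pullback.fst G.hom (q ≫ g) := by
  have h1 : (BcIso.bcCompIso q g G).hom.hom.hom.left = ((Over.pullbackComp q g).hom.app G).left := by
    change ((Over.pullbackComp q g).hom.app G).left ≫ 𝟙 _ = _
    rw [Category.comp_id]
  rw [h1]
  exact pullbackComp_left q g G

/-- The base change of a group over `Spec ℤ` to `S`. -/
noncomputable abbrev ofZ (S : Scheme.{u}) (D : Over (Spec (CommRingCat.of (ULift.{u} ℤ)))) : Over S :=
  Red.bc (Limits.IsTerminal.from specULiftZIsTerminal S) D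

/-- The coordinate part of a point of `D_S`. -/
noncomputable def zFst {S : Scheme.{u}} {D : Over (Spec (CommRingCat.of (ULift.{u} ℤ)))} {X : Over S}
    (x : X ⟶ ofZ S D) : X.left ⟶ D.left := x.left ≫ pullback.fst _ _

/-- Base change of a group coming from `Spec ℤ`. -/
noncomputable def zBcIso (f : S' ⟶ S) (D : Over (Spec (CommRingCat.of (ULift.{u} ℤ)))) [GrpObj D] :
    Grp.mk (Red.bc f (ofZ S D)) ≅ Grp.mk (ofZ S' D) :=
  (BcIso.bcCompIso f (Limits.IsTerminal.from specULiftZIsTerminal S) D).symm ≪≫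
    BcIso.bcCongrIso (specULiftZIsTerminal.hom_ext _ _) _

lemma zBcIso_left (f : S' ⟶ S) (D : Over (Spec (CommRingCat.of (ULift.{u} ℤ)))) [GrpObj D] :
    (zBcIso f D).inv.hom.hom.left ≫ pullback.fst (ofZ S D).hom f ≫
      pullback.fst D.hom (specULiftZIsTerminal.from S) =
      pullback.fst D.hom (specULiftZIsTerminal.from S') := by
  have h1 : (zBcIso f D).inv.hom.hom.left =
    (BcIso.bcCongrIso (specULiftZIsTerminal.hom_ext _ _) D).inv.hom.hom.left ≫
    (BcIso.bcCompIso f (specULiftZIsTerminal.from S) D).hom.hom.hom.left := rfl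
  rw [h1, Category.assoc]
  refine (congrArg (fun z => (BcIso.bcCongrIso (specULiftZIsTerminal.hom_ext _ _)
      D).inv.hom.hom.left ≫ z) (bcCompIso_left f (specULiftZIsTerminal.from S) D)).trans ?_
  exact bcCongrIso_inv_left _ _

lemma zBcIso_hom_left (f : S' ⟶ S) (D : Over (Spec (CommRingCat.of (ULift.{u} ℤ)))) [GrpObj D] :
    (zBcIso f D).hom.hom.hom.left ≫ pullback.fst D.hom (specULiftZIsTerminal.from S') =
    pullback.fst (ofZ S D).hom f ≫ pullback.fst D.hom (specULiftZIsTerminal.from S) := by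
  rw [← zBcIso_left f D, ← Category.assoc]
  have h1 : (zBcIso f D).hom.hom.hom.left ≫ (zBcIso f D).inv.hom.hom.left = 𝟙 _ := by
    have := congrArg (fun z : Grp.mk (Red.bc f (ofZ S D)) ⟶ Grp.mk (Red.bc f (ofZ S D)) => z.hom.hom.left)
      (zBcIso f D).hom_inv_id
    exact this
  rw [h1]
  exact Category.id_comp _

/-- The coordinates of a point of `bc f D_S`. -/
lemma zFst_zBcIso (f : S' ⟶ S) (D : Over (Spec (CommRingCat.of (ULift.{u} ℤ)))) [GrpObj D]
    {X : Over S'} (x : X ⟶ Red.bc f (ofZ S D)) :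
    zFst (x ≫ (zBcIso f D).hom.hom.hom) = zFst ((bcEquiv f X (ofZ S D)).symm x) := by
  rw [zFst, zFst, bcEquiv_symm_left, Category.assoc]
  change (x.left ≫ (zBcIso f D).hom.hom.hom.left) ≫ pullback.fst D.hom (specULiftZIsTerminal.from S') = _
  rw [Category.assoc, zBcIso_hom_left]

section DS

variable (f : S' ⟶ S) {M N : Type} [AddCommGroup M] [AddCommGroup N]

lemma dsChar_eq_of_dsFst {X : Over S'} (x : X ⟶ Red.DS S' M) (y : (Over.map f).obj X ⟶ Red.DS S M)
    (h : dsFst x = dsFst y) : dsChar x = dsChar y := by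
  obtain ⟨χ, rfl⟩ := (dsEquiv X M).surjective x
  have h2 : y = dsEquiv ((Over.map f).obj X) M χ := by
    apply ds_ext
    rw [← h, dsFst_dsEquiv, dsFst_dsEquiv]
    rfl
  rw [h2, dsChar_dsEquiv, dsChar_dsEquiv]

/-- The character of a point of the base change of `D_S(M)`. -/
lemma dsChar_dsBcIso {X : Over S'} (x : X ⟶ Red.bc f (Red.DS S M)) :
    dsChar (x ≫ (TorusAlgClosed.dsBcIso f M).hom.hom.hom) =
      dsChar ((bcEquiv f X (Red.DS S M)).symm x) :=
  dsChar_eq_of_dsFst f _ _ (zFst_zBcIso f (Red.diag (ULift.{u} ℤ) M) x)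

/-- Naturality of the base change isomorphism of `D_S(M)` in `M`. -/
lemma DSmap_bc (φ : M →+ N) :
    (Over.pullback f).map (Red.DSmap S φ) ≫ (TorusAlgClosed.dsBcIso f M).hom.hom.hom =
      (TorusAlgClosed.dsBcIso f N).hom.hom.hom ≫ Red.DSmap S' φ := by
  rw [← dsEquiv_dsChar ((Over.pullback f).map (Red.DSmap S φ) ≫ (TorusAlgClosed.dsBcIso f M).hom.hom.hom),
    ← dsEquiv_dsChar ((TorusAlgClosed.dsBcIso f N).hom.hom.hom ≫ Red.DSmap S' φ)]
  congr 1
  rw [dsChar_dsBcIso, dsChar_DSmap]
  have h1 := dsChar_dsBcIso f (𝟙 (Red.bc f (Red.DS S N)))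
  rw [Category.id_comp] at h1
  rw [h1, ← dsChar_DSmap]
  congr 1
  apply (bcEquiv f _ _).injective
  rw [MulEquiv.apply_symm_apply, ← bcEquiv_comp, MulEquiv.apply_symm_apply, Category.id_comp]

end DS

section Ga

variable (f : S' ⟶ S)

/-- Base change of `𝔾_a`. -/
noncomputable def gaBcIso : Grp.mk (Red.bc f (Red.Ga S)) ≅ Grp.mk (Red.Ga S') := zBcIso f Red.GaZ

/-- The coordinate of a point of the base change of `𝔾_a`. -/
lemma gaFn_gaBcIso {X : Over S'} (x : X ⟶ Red.bc f (Red.Ga S)) :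
    Red.gaFn (x ≫ (gaBcIso f).hom.hom.hom) = Red.gaFn ((bcEquiv f X (Red.Ga S)).symm x) := by
  have h := zFst_zBcIso f Red.GaZ x
  exact congrArg (fun z : X.left ⟶ Red.GaZ.left => z.appTop Red.gaCoord) h

end Ga

section RootHom

variable (f : S' ⟶ S) {T G : Over S} [GrpObj T] [GrpObj G]

/-- The base change of a morphism over `S` forms a cartesian square with the projections. -/
lemma isPullback_map_left {Z Y : Over S} (i : Z ⟶ Y) :
    IsPullback (pullback.fst Z.hom f) ((Over.pullback f).map i).left i.left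
      (pullback.fst Y.hom f) := by
  have hw : i.left ≫ Y.hom = Z.hom := Over.w i
  have h2 : IsPullback (pullback.fst Z.hom f) (pullback.snd Z.hom f) (i.left ≫ Y.hom) f := by
    rw [hw]
    exact IsPullback.of_hasPullback Z.hom f
  have h1 : pullback.fst Z.hom f ≫ i.left =
      ((Over.pullback f).map i).left ≫ pullback.fst Y.hom f :=
    (pullback.lift_fst _ _ _).symm
  have h3 : ((Over.pullback f).map i).left ≫ pullback.snd Y.hom f = pullback.snd Z.hom f :=
    pullback.lift_snd _ _ _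
  refine IsPullback.of_bot (h₂₁ := pullback.fst Y.hom f) (v₂₁ := pullback.snd Y.hom f)
    (v₂₂ := Y.hom) (h₃₁ := f) ?_ h1 (IsPullback.of_hasPullback Y.hom f)
  rw [h3]
  exact h2

/-- Base change of closed immersions over `S`. -/
lemma isClosedImmersion_bc {X Y : Over S} (i : X ⟶ Y) (h : IsClosedImmersion i.left) :
    IsClosedImmersion ((Over.pullback f).map i).left :=
  MorphismProperty.of_isPullback (P := @IsClosedImmersion) (isPullback_map_left f i) h

lemma map_hom_inv {H K : Over S'} [GrpObj H] [GrpObj K] (e : Grp.mk H ≅ Grp.mk K) :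
    e.hom.hom.hom ≫ e.inv.hom.hom = 𝟙 H :=
  (und e).hom_inv_id

lemma map_inv_hom {H K : Over S'} [GrpObj H] [GrpObj K] (e : Grp.mk H ≅ Grp.mk K) :
    e.inv.hom.hom ≫ e.hom.hom.hom = 𝟙 K :=
  (und e).inv_hom_id

/-- Conjugation of points of the base change. -/
lemma bcEquiv_conj {X : Over S'} (a b : (Over.map f).obj X ⟶ G) :
    bcEquiv f X G (a * b * a⁻¹) = bcEquiv f X G a * bcEquiv f X G b * (bcEquiv f X G a)⁻¹ := by
  rw [map_mul, map_mul, map_inv]

/-- **Base change of root homomorphisms.** -/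
theorem isRootHom_bc {M : Type} [AddCommGroup M] {i : T ⟶ G} (e : Grp.mk T ≅ Grp.mk (Red.DS S M)) (m : M)
    {u : Red.Ga S ⟶ G} (h : Red.IsRootHom i (e.hom.hom.hom ≫ Red.chi S m) u) :
    Red.IsRootHom ((Over.pullback f).map i)
      ((BcIso.bcMapIso f e ≪≫ TorusAlgClosed.dsBcIso f M).hom.hom.hom ≫ Red.chi S' m)
      ((gaBcIso f).inv.hom.hom ≫ (Over.pullback f).map u) := by
  obtain ⟨h1, h2, h3⟩ := h
  refine ⟨?_, ?_, ?_⟩
  · have : IsMonHom (gaBcIso f).inv.hom.hom := (gaBcIso f).inv.hom.isMonHom_hom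
    infer_instance
  · have := isClosedImmersion_bc f u h2
    have h4 : IsIso (gaBcIso f).inv.hom.hom.left := by
      have : IsIso (und (gaBcIso f)).inv := inferInstance
      exact inferInstanceAs (IsIso (und (gaBcIso f)).inv.left)
    rw [Over.comp_left]
    infer_instance
  · intro X t x
    obtain ⟨y, hy1, hy2⟩ := h3 ((Over.map f).obj X) ((bcEquiv f X T).symm t)
      ((bcEquiv f X (Red.Ga S)).symm (x ≫ (gaBcIso f).inv.hom.hom))
    refine ⟨bcEquiv f X (Red.Ga S) y ≫ (gaBcIso f).hom.hom.hom, ?_, ?_⟩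
    · rw [Category.assoc, ← Category.assoc (gaBcIso f).hom.hom.hom, map_hom_inv, Category.id_comp,
        bcEquiv_comp, hy1, bcEquiv_conj, ← bcEquiv_comp, ← bcEquiv_comp, MulEquiv.apply_symm_apply,
        MulEquiv.apply_symm_apply, Category.assoc]
    · rw [gaFn_gaBcIso, MulEquiv.symm_apply_apply]
      refine hy2.trans ?_
      congr 1
      · rw [← Category.assoc, ← Category.assoc, gmFn_chi, gmFn_chi]
        have h5 : t ≫ (BcIso.bcMapIso f e ≪≫ TorusAlgClosed.dsBcIso f M).hom.hom.hom =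
            (t ≫ (Over.pullback f).map e.hom.hom.hom) ≫ (TorusAlgClosed.dsBcIso f M).hom.hom.hom :=
          (Category.assoc _ _ _).symm
        rw [h5, dsChar_dsBcIso]
        congr 2
        apply (bcEquiv f X _).injective
        rw [MulEquiv.apply_symm_apply, ← bcEquiv_comp, MulEquiv.apply_symm_apply]
      · rw [← gaFn_gaBcIso, Category.assoc, map_inv_hom, Category.comp_id]

/-- The base change of an `S`-point. -/
noncomputable def secBc (n : 𝟙_ (Over S) ⟶ G) : 𝟙_ (Over S') ⟶ Red.bc f G :=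
  bcEquiv f (𝟙_ (Over S')) G (toUnit _ ≫ n)

omit [GrpObj T] in
lemma toUnit_secBc (n : 𝟙_ (Over S) ⟶ G) (X : Over S') :
    toUnit X ≫ secBc f n = bcEquiv f X G (toUnit ((Over.map f).obj X) ≫ n) := by
  rw [secBc, bcEquiv_naturality, ← Category.assoc]
  congr 2

/-- Base change of the reflections. -/
theorem refl_bc {M : Type} [AddCommGroup M] {i : T ⟶ G} (e : Grp.mk T ≅ Grp.mk (Red.DS S M)) (φ : M →+ M)
    (n : 𝟙_ (Over S) ⟶ G)
    (h : ∀ (X : Over S) (t : X ⟶ T), (toUnit X ≫ n) * (t ≫ i) * (toUnit X ≫ n)⁻¹ =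
      t ≫ e.hom.hom.hom ≫ Red.DSmap S φ ≫ e.inv.hom.hom ≫ i) (X : Over S') (t : X ⟶ Red.bc f T) :
    (toUnit X ≫ secBc f n) * (t ≫ (Over.pullback f).map i) * (toUnit X ≫ secBc f n)⁻¹ =
      t ≫ (BcIso.bcMapIso f e ≪≫ TorusAlgClosed.dsBcIso f M).hom.hom.hom ≫ Red.DSmap S' φ ≫
        (BcIso.bcMapIso f e ≪≫ TorusAlgClosed.dsBcIso f M).inv.hom.hom ≫ (Over.pullback f).map i := by
  have h1 := h ((Over.map f).obj X) ((bcEquiv f X T).symm t)
  have h2 := congrArg (bcEquiv f X G) h1
  have h6 : bcEquiv f X G ((bcEquiv f X T).symm t ≫ i) = t ≫ (Over.pullback f).map i := by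
    rw [← bcEquiv_comp, MulEquiv.apply_symm_apply]
  rw [bcEquiv_conj, h6, ← toUnit_secBc] at h2
  rw [h2]
  have h3 : bcEquiv f X G ((bcEquiv f X T).symm t ≫ e.hom.hom.hom ≫ Red.DSmap S φ ≫ e.inv.hom.hom ≫ i) =
      t ≫ (Over.pullback f).map (e.hom.hom.hom ≫ Red.DSmap S φ ≫ e.inv.hom.hom ≫ i) := by
    rw [← bcEquiv_comp, MulEquiv.apply_symm_apply]
  rw [h3]
  congr 1
  have h4 : (BcIso.bcMapIso f e ≪≫ TorusAlgClosed.dsBcIso f M).hom.hom.hom =
    (Over.pullback f).map e.hom.hom.hom ≫ (TorusAlgClosed.dsBcIso f M).hom.hom.hom := rfl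
  have h5 : (BcIso.bcMapIso f e ≪≫ TorusAlgClosed.dsBcIso f M).inv.hom.hom =
    (TorusAlgClosed.dsBcIso f M).inv.hom.hom ≫ (Over.pullback f).map e.inv.hom.hom := rfl
  rw [h4, h5, Category.assoc, ← Category.assoc _ (Red.DSmap S' φ), ← DSmap_bc]
  simp only [Functor.map_comp, Category.assoc]
  rw [← Category.assoc (TorusAlgClosed.dsBcIso f M).hom.hom.hom, map_hom_inv, Category.id_comp]

end RootHom

section Dim

/-- The geometric point over `f s'` is a base change of the geometric point over `s'`. -/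
lemma exists_geomPt (f : S' ⟶ S) (s' : S') :
    ∃ θ : Spec (CommRingCat.of (AlgebraicClosure (S'.residueField s'))) ⟶
        Spec (CommRingCat.of (AlgebraicClosure (S.residueField (f s')))),
      θ ≫ Red.geomPt (f s') = Red.geomPt s' ≫ f := by
  let k := S.residueField (f s')
  let k' := S'.residueField s'
  let a1 : Algebra k k' := (f.residueFieldMap s').hom.toAlgebra
  let a2 : Algebra k (AlgebraicClosure k') := ((algebraMap k' (AlgebraicClosure k')).comp (algebraMap k k')).toAlgebra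
  let e : AlgebraicClosure k →ₐ[k] AlgebraicClosure k' := IsAlgClosed.lift
  refine ⟨Spec.map (CommRingCat.ofHom e.toRingHom), ?_⟩
  rw [Red.geomPt, Red.geomPt, Category.assoc, ← Scheme.Hom.SpecMap_residueFieldMap_fromSpecResidueField,
    ← Category.assoc, ← Category.assoc, ← Spec.map_comp, ← Spec.map_comp]
  congr 2
  ext a
  exact e.commutes a

/-- Dimensions of geometric fibres are invariant under base change. -/
theorem dim_geomFibre_bc (f : S' ⟶ S) (G : Over S) [LocallyOfFiniteType G.hom] (s' : S') :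
    topologicalKrullDim ↥(Red.geomFibre s' (Red.bc f G)).left =
      topologicalKrullDim ↥(Red.geomFibre (f s') G).left := by
  obtain ⟨θ, hθ⟩ := exists_geomPt f s'
  have sq1 : IsPullback (pullback.fst (Red.bc f G).hom (Red.geomPt s') ≫ pullback.fst G.hom f)
      (pullback.snd (Red.bc f G).hom (Red.geomPt s')) G.hom (Red.geomPt s' ≫ f) :=
    (IsPullback.of_hasPullback (Red.bc f G).hom (Red.geomPt s')).paste_horiz
      (IsPullback.of_hasPullback G.hom f)
  rw [← hθ] at sq1
  have sq2 := IsPullback.of_hasPullback G.hom (Red.geomPt (f s'))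
  have sq3 : IsPullback (sq2.lift (pullback.fst (Red.bc f G).hom (Red.geomPt s') ≫ pullback.fst G.hom f)
      (pullback.snd (Red.bc f G).hom (Red.geomPt s') ≫ θ) (by rw [sq1.w, Category.assoc]))
      (pullback.snd (Red.bc f G).hom (Red.geomPt s')) (pullback.snd G.hom (Red.geomPt (f s'))) θ := by
    refine IsPullback.of_right (t := sq2) ?_ (by simp)
    rw [IsPullback.lift_fst]
    exact sq1
  exact @DimFib.topologicalKrullDim_baseChange_eq
    (CommRingCat.of (AlgebraicClosure (S.residueField (f s'))))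
    (CommRingCat.of (AlgebraicClosure (S'.residueField s'))) (Field.toIsField _) (Field.toIsField _) _ _
    (pullback.snd G.hom (Red.geomPt (f s'))) inferInstance θ _ _ sq3

end Dim

section Cent

variable (f : S' ⟶ S) {H G Z : Over S} [GrpObj H] [GrpObj G] [GrpObj Z]

/-- **Base change of centralizers.** -/
theorem isCentralizerOf_bc {i : H ⟶ G} {j : Z ⟶ G} (h : Red.IsCentralizerOf i j) :
    Red.IsCentralizerOf ((Over.pullback f).map i) ((Over.pullback f).map j) := by
  obtain ⟨h1, h2, h3⟩ := h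
  refine ⟨inferInstance, inferInstance, fun X g => ⟨?_, fun hg => ?_⟩⟩
  · rintro ⟨z, rfl⟩ X' x h'
    have h4 := (h3 ((Over.map f).obj X) ((bcEquiv f X Z).symm z ≫ j)).mp ⟨_, rfl⟩
      ((Over.map f).obj X') ((Over.map f).map x) ((bcEquiv f X' H).symm h')
    have h5 := congrArg (bcEquiv f X' G) h4
    have h6 : bcEquiv f X' G ((bcEquiv f X' H).symm h' ≫ i) = h' ≫ (Over.pullback f).map i := by
      rw [← bcEquiv_comp, MulEquiv.apply_symm_apply]
    have h7 : bcEquiv f X' G ((Over.map f).map x ≫ (bcEquiv f X Z).symm z ≫ j) =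
        x ≫ z ≫ (Over.pullback f).map j := by
      rw [← bcEquiv_naturality, ← bcEquiv_comp, MulEquiv.apply_symm_apply]
    rw [map_mul, map_mul, h6, h7] at h5
    exact h5
  · obtain ⟨z, hz⟩ := (h3 ((Over.map f).obj X) ((bcEquiv f X G).symm g)).mpr (by
      intro X' x h'
      let X₁ : Over S' := Over.mk (x.left ≫ X.hom)
      let x₁ : X₁ ⟶ X := Over.homMk x.left rfl
      let ε : (Over.map f).obj X₁ ≅ X' := Over.isoMk (Iso.refl _) (by
        have := Over.w x
        simp only [Over.map_obj_hom] at this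
        simp [X₁, this])
      have h4 := hg X₁ x₁ (bcEquiv f X₁ H (ε.hom ≫ h'))
      have h5 : x₁ ≫ g = bcEquiv f X₁ G (ε.hom ≫ x ≫ (bcEquiv f X G).symm g) := by
        have h6 : ε.hom ≫ x = (Over.map f).map x₁ := by
          ext1
          simp [ε, x₁]
        rw [← Category.assoc, h6, ← bcEquiv_naturality, MulEquiv.apply_symm_apply]
      rw [bcEquiv_comp, h5, ← map_mul, ← map_mul] at h4
      have h7 := (bcEquiv f X₁ G).injective h4
      rw [Category.assoc, ← MonObj.comp_mul, ← MonObj.comp_mul] at h7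
      exact (cancel_epi ε.hom).mp h7)
    refine ⟨bcEquiv f X Z z, ?_⟩
    rw [bcEquiv_comp, hz, MulEquiv.apply_symm_apply]

/-- Points of a torus over an algebraically closed field commute. -/
theorem torus_comm {K : Type u} [Field K] [IsAlgClosed K] {T : Over (Spec (CommRingCat.of K))} [GrpObj T]
    (h : Red.IsTorus T) {X : Over (Spec (CommRingCat.of K))} (x y : X ⟶ T) : x * y = y * x := by
  obtain ⟨r, ⟨e⟩⟩ := TorusAlgClosed.exists_isSplitTorusWith h
  obtain ⟨φ, h1, h2⟩ : ∃ φ : T ⟶ Red.DS (Spec (CommRingCat.of K)) (Fin r → ℤ), Mono φ ∧ IsMonHom φ :=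
    ⟨e.hom.hom.hom, inferInstanceAs (Mono (und e).hom), e.hom.hom.isMonHom_hom⟩
  rw [← cancel_mono φ]
  have h3 := MonObj.mul_comp x y φ
  have h4 := MonObj.mul_comp y x φ
  rw [h3, h4]
  apply (dsEquiv X (Fin r → ℤ)).symm.injective
  rw [map_mul, map_mul, _root_.mul_comm]

/-- A torus which is its own centralizer is a maximal torus. -/
theorem isMaximalTorus_of_isCentralizerOf {T G : Over S} [GrpObj T] [GrpObj G] {i : T ⟶ G}
    (hT : Red.IsTorus T) (h : Red.IsCentralizerOf i i) : Red.IsMaximalTorus i := by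
  refine ⟨h.1, h.2.1, hT, fun s T' _ j _ _ g hT' hg => ?_⟩
  obtain ⟨h1, h2, h3⟩ := isCentralizerOf_bc (Red.geomPt s) h
  obtain ⟨z, hz⟩ := (h3 T' j).mpr (by
    intro X x t
    rw [← hg, ← Category.assoc, ← MonObj.mul_comp, ← MonObj.mul_comp, torus_comm hT'])
  refine ⟨z, ?_, ?_⟩
  · rw [← cancel_mono ((Over.pullback (Red.geomPt s)).map i), Category.assoc, hz, hg,
      Category.id_comp]
  · rw [← cancel_mono j, Category.assoc, hg, hz, Category.id_comp]

/-- Base change of a self-centralizing torus is a maximal torus. -/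
theorem isMaximalTorus_bc {T G : Over S} [GrpObj T] [GrpObj G] {i : T ⟶ G}
    (hT : Red.IsTorus T) (h : Red.IsCentralizerOf i i) :
    Red.IsMaximalTorus ((Over.pullback f).map i) :=
  isMaximalTorus_of_isCentralizerOf (TorusBc.isTorus_bc f hT) (isCentralizerOf_bc f h)

end Cent

section Split

variable (f : S' ⟶ S) {G : Over S} [GrpObj G]

/-- **Base change of splittings** along an arbitrary morphism, given the base change of the
reductivity of `G` and of the maximality of the torus. -/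
noncomputable def splitRedBc (D : Red.SplitRed G) (hred : Red.IsReductive (Red.bc f G))
    (hmax : Red.IsMaximalTorus ((Over.pullback f).map D.i)) : Red.SplitRed (Red.bc f G) where
  T := Red.bc f D.T
  i := (Over.pullback f).map D.i
  M := D.M
  idx := D.idx
  P := D.P
  pairing_eq := D.pairing_eq
  u a := (gaBcIso f).inv.hom.hom ≫ (Over.pullback f).map (D.u a)
  reductive := hred
  maximalTorus := hmax
  split := BcIso.bcMapIso f D.split ≪≫ TorusAlgClosed.dsBcIso f D.M
  rootHom a := isRootHom_bc f D.split (D.P.root a) (D.rootHom a)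
  refl a := by
    obtain ⟨n, hn⟩ := D.refl a
    exact ⟨secBc f n, refl_bc f D.split _ n hn⟩
  dim_fibre s' := by
    have : Smooth G.hom := D.reductive.2.1
    rw [dim_geomFibre_bc, D.dim_fibre]

/-- **Base change of pinnings.** -/
noncomputable def pinningBc (D : Red.Pinning G) (hred : Red.IsReductive (Red.bc f G))
    (hmax : Red.IsMaximalTorus ((Over.pullback f).map D.i)) : Red.Pinning (Red.bc f G) where
  toSplitRed := splitRedBc f D.toSplitRed hred hmax
  base := D.base

end Split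

end Groth.Agent.Sga3B.SplitBc264
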