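import Groth.Agent.Sga3B.BorTransp991
import Groth.Agent.Sga3B.BorLoc613
import Groth.Agent.Sga3B.SplitBc264

/-!
# Splittings of corresponding tori are compatible locally on the base
-/

set_option autoImplicit false
open CategoryTheory MonoidalCategory CartesianMonoidalCategory MonObj GrpObj AlgebraicGeometry
universe u

namespace Groth.Agent.Sga3B.BorTorC613
open Groth.Agent.Sga3B.BcIso Groth.Agent.Sga3B.BorTransp991 Groth.Agent.Sga3B.SplitBc264

variable {S : Scheme.{u}} {G G' B B' : Over S} [GrpObj G] [GrpObj G'] [GrpObj B] [GrpObj B']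

/-- If the tori of `D` and `D'` correspond through `f`, then locally on `S` the splittings are related by an
isomorphism of the character groups. -/
theorem exists_torCompat (iB : B ⟶ G) (iB' : B' ⟶ G') (f : Grp.mk B ≅ Grp.mk B') (D : Red.SplitRed G)
    (D' : Red.SplitRed G') (j : D.T ⟶ B) (hj : j ≫ iB = D.i) (τ : Grp.mk D.T ≅ Grp.mk D'.T)
    (hτ : j ≫ f.hom.hom.hom ≫ iB' = τ.hom.hom.hom ≫ D'.i) (s : S) :
    ∃ (R : CommRingCat.{u}) (v : Spec R ⟶ S) (e : D'.M ≃+ D.M), IsOpenImmersion v ∧ s ∈ Set.range v ∧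
      ∀ (h1 : Red.IsReductive (Red.bc v G)) (h2 : Red.IsMaximalTorus ((Over.pullback v).map D.i))
        (h3 : Red.IsReductive (Red.bc v G')) (h4 : Red.IsMaximalTorus ((Over.pullback v).map D'.i)),
        TorCompat ((Over.pullback v).map iB) ((Over.pullback v).map iB') (bcMapIso v f)
          (splitRedBc v D h1 h2) (splitRedBc v D' h3 h4) e := by
  let E : Grp.mk (Red.DS S D.M) ≅ Grp.mk (Red.DS S D'.M) := D.split.symm ≪≫ τ ≪≫ D'.split
  obtain ⟨R, v, e, hv, hs, h5, h6⟩ := BorLoc613.exists_spec_iso E s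
  refine ⟨R, v, e, hv, hs, fun h1 h2 h3 h4 => ⟨(Over.pullback v).map j, ?_, ?_⟩⟩
  · change (Over.pullback v).map j ≫ (Over.pullback v).map iB = (Over.pullback v).map D.i
    rw [← Functor.map_comp, hj]
  · have hE : E.hom.hom.hom = D.split.inv.hom.hom ≫ τ.hom.hom.hom ≫ D'.split.hom.hom.hom := rfl
    have h7 : D.split.hom.hom.hom ≫ E.hom.hom.hom ≫ D'.split.inv.hom.hom = τ.hom.hom.hom := by
      rw [hE, Category.assoc, Category.assoc, split_hom_inv, Category.comp_id, ← Category.assoc,
        split_hom_inv, Category.id_comp]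
    change (Over.pullback v).map j ≫ (Over.pullback v).map f.hom.hom.hom ≫ (Over.pullback v).map iB' =
      ((Over.pullback v).map D.split.hom.hom.hom ≫ (TorusAlgClosed.dsBcIso v D.M).hom.hom.hom) ≫
        Red.DSmap (Spec R) e.toAddMonoidHom ≫
        ((TorusAlgClosed.dsBcIso v D'.M).inv.hom.hom ≫ (Over.pullback v).map D'.split.inv.hom.hom) ≫
          (Over.pullback v).map D'.i
    rw [← Functor.map_comp, ← Functor.map_comp, hτ, ← h7]
    have h8 : (TorusAlgClosed.dsBcIso v D'.M).hom.hom.hom ≫ (TorusAlgClosed.dsBcIso v D'.M).inv.hom.hom =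
        𝟙 _ := congrArg (fun f => f.hom.hom) (TorusAlgClosed.dsBcIso v D'.M).hom_inv_id
    have h9 : (TorusAlgClosed.dsBcIso v D.M).hom.hom.hom ≫ Red.DSmap (Spec R) e.toAddMonoidHom ≫
        (TorusAlgClosed.dsBcIso v D'.M).inv.hom.hom = (Over.pullback v).map E.hom.hom.hom := by
      rw [← Category.assoc, ← h6, Category.assoc, h8, Category.comp_id]
    simp only [Category.assoc, Functor.map_comp]
    rw [← Category.assoc (Red.DSmap (Spec R) e.toAddMonoidHom), ← Category.assoc
      (TorusAlgClosed.dsBcIso v D.M).hom.hom.hom, h9]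

end Groth.Agent.Sga3B.BorTorC613
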