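import Groth.Agent.Sga3B.BorAsm613
import Groth.Agent.Sga3B.BorTorC613
import Groth.Agent.Sga3B.BorCompat988
import Groth.Agent.Sga3B.BorSpan613
import Groth.Agent.Sga3B.AlgBc
import Groth.Agent.Sga3B.Parab.RedCover147

/-!
# Final assembly of S2988 from its blocks

The blocks are stated as propositions (`HLB`, `HT`, ...) and are discharged elsewhere.
-/

set_option autoImplicit false
open CategoryTheory MonoidalCategory CartesianMonoidalCategory MonObj GrpObj AlgebraicGeometry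
universe u

namespace Groth.Agent.Sga3B.BorFin613
open Groth.Agent.Sga3B.BcIso Groth.Agent.Sga3B.BorAsm613 Groth.Agent.Sga3B.BorStd991
  Groth.Agent.Sga3B.BorTransp991 Groth.Agent.Sga3B.BorCompat988 Groth.Agent.Sga3B.SplitBc264

/-- (LB) A Borel subgroup is standard with respect to a pinning, étale locally. -/
def HLB : Prop :=
  ∀ {S : Scheme.{u}} {G B : Over S} [GrpObj G] [GrpObj B] (_ : Red.IsReductive G) (iB : B ⟶ G)
    (_ : Red.IsBorel iB) (s : S),
    ∃ (R : CommRingCat.{u}) (v : Spec R ⟶ S), Etale v ∧ s ∈ Set.range v ∧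
      ∃ D : Red.Pinning (Red.bc v G), IsStd ((Over.pullback v).map iB) D

/-- (HT) The image in `G'` of the torus of a splitting of `G` is the torus of a splitting of `G'`, Zariski locally. -/
def HT : Prop :=
  ∀ {S : Scheme.{u}} {G G' B B' : Over S} [GrpObj G] [GrpObj G'] [GrpObj B] [GrpObj B']
    (_ : Red.IsReductive G) (_ : Red.IsReductive G') (iB : B ⟶ G) (_ : Red.IsBorel iB) (iB' : B' ⟶ G')
    (_ : Red.IsBorel iB') (f : Grp.mk B ≅ Grp.mk B') (D : Red.SplitRed G) (j : D.T ⟶ B)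
    (_ : j ≫ iB = D.i) (s : S),
    ∃ (R : CommRingCat.{u}) (v : Spec R ⟶ S), IsOpenImmersion v ∧ s ∈ Set.range v ∧
      ∃ (D' : Red.SplitRed (Red.bc v G')) (τ : Grp.mk (Red.bc v D.T) ≅ Grp.mk D'.T),
        (Over.pullback v).map (j ≫ f.hom.hom.hom ≫ iB') = τ.hom.hom.hom ≫ D'.i

/-- (SplitT) A split maximal torus of a reductive group is the torus of a splitting, Zariski locally. -/
def SplitT : Prop :=
  ∀ {S : Scheme.{u}} {G T : Over S} [GrpObj G] [GrpObj T] (_ : Red.IsReductive G) (i : T ⟶ G)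
    (_ : Red.IsMaximalTorus i) {M : Type} [AddCommGroup M] [Module.Finite ℤ M] [Module.Free ℤ M]
    (_ : Grp.mk T ≅ Grp.mk (Red.DS S M)) (s : S),
    ∃ (R : CommRingCat.{u}) (v : Spec R ⟶ S), IsOpenImmersion v ∧ s ∈ Set.range v ∧
      ∃ (D : Red.SplitRed (Red.bc v G)) (τ : Grp.mk (Red.bc v T) ≅ Grp.mk D.T),
        (Over.pullback v).map i = τ.hom.hom.hom ≫ D.i

/-- (T1) Maximal tori of `G` contained in a Borel subgroup `B` are carried by `B ≅ B'` to maximal tori of `G'`. -/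
def HMax : Prop :=
  ∀ {S : Scheme.{u}} {G G' B B' T : Over S} [GrpObj G] [GrpObj G'] [GrpObj B] [GrpObj B'] [GrpObj T]
    (_ : Red.IsReductive G) (_ : Red.IsReductive G') (iB : B ⟶ G) (_ : Red.IsBorel iB) (iB' : B' ⟶ G')
    (_ : Red.IsBorel iB') (f : Grp.mk B ≅ Grp.mk B') (j : T ⟶ B) (_ : Red.IsMaximalTorus (j ≫ iB)),
    Red.IsMaximalTorus (j ≫ f.hom.hom.hom ≫ iB')

/-- (HS) Corresponding splittings have corresponding roots. -/
def HS : Prop :=
  ∀ {S : Scheme.{u}} [Nonempty S] {G G' B B' : Over S} [GrpObj G] [GrpObj G'] [GrpObj B] [GrpObj B']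
    (_ : Red.IsReductive G) (_ : Red.IsReductive G') (iB : B ⟶ G) (_ : Red.IsBorel iB) (iB' : B' ⟶ G')
    (_ : Red.IsBorel iB') (f : Grp.mk B ≅ Grp.mk B') (D : Red.SplitRed G) (D' : Red.SplitRed G')
    (e : D'.M ≃+ D.M) (_ : TorCompat iB iB' f D D' e) (a' : D'.idx),
    ∃ a : D.idx, e (D'.P.root a') = D.P.root a

/-- (RC) Characterisation of the roots by root homomorphisms. -/
def HRC : Prop :=
  ∀ {S : Scheme.{u}} [Nonempty S] {G : Over S} [GrpObj G] (D : Red.SplitRed G) (m : D.M)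
    (v : Red.Ga S ⟶ G), m ≠ 0 → Red.IsRootHom D.i (D.split.hom.hom.hom ≫ Red.chi S m) v →
    ∃ a : D.idx, D.P.root a = m

/-- (S2962, easy direction) Points of the torus killed by the roots are central. -/
def HCent : Prop :=
  ∀ {S : Scheme.{u}} {G : Over S} [GrpObj G] (D : Red.SplitRed G) (X : Over S) (t : X ⟶ D.T),
    (∀ a : D.idx, t ≫ D.split.hom.hom.hom ≫ Red.chi S (D.P.root a) = 1) →
      ∀ h : X ⟶ G, (t ≫ D.i) * h = h * (t ≫ D.i)

/-- (EX) An isomorphism inducing the correspondence of pinnings agrees with `f` on the positive root groups. -/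
def HEX : Prop :=
  ∀ {S : Scheme.{u}} [Nonempty S] {G G' B B' : Over S} [GrpObj G] [GrpObj G'] [GrpObj B] [GrpObj B']
    (_ : Red.IsReductive G) (_ : Red.IsReductive G') (iB : B ⟶ G) (_ : Red.IsBorel iB) (iB' : B' ⟶ G')
    (_ : Red.IsBorel iB') (f : Grp.mk B ≅ Grp.mk B') (D : Red.Pinning G) (D' : Red.Pinning G')
    (h : RootPairing.Equiv D'.P D.P) (_ : Compat iB iB' f D D' h) (_ : IsStd iB D)
    (_ : ∀ a' : D'.idx, D.base.IsPos (h.indexEquiv a') → ∃ v : Red.Ga S ⟶ B,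
      v ≫ iB = D.u (h.indexEquiv a') ∧ v ≫ f.hom.hom.hom ≫ iB' = D'.u a')
    (φ : G ⟶ G') (_ : Ind D D' h φ) (a' : D'.idx), D'.base.IsPos a' →
      ∃ v : Red.Ga S ⟶ B, v ≫ iB = D.u (h.indexEquiv a') ∧
        v ≫ f.hom.hom.hom ≫ iB' = D.u (h.indexEquiv a') ≫ φ

/-- (BCS) Base change of standard Borel subgroups. -/
def HStdBc : Prop :=
  ∀ {S S' : Scheme.{u}} (q : S' ⟶ S) {G B : Over S} [GrpObj G] [GrpObj B] (iB : B ⟶ G)
    (D : Red.Pinning G) (h1 : Red.IsReductive (Red.bc q G))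
    (h2 : Red.IsMaximalTorus ((Over.pullback q).map D.i)), IsStd iB D →
    IsStd ((Over.pullback q).map iB) (pinningBc q D h1 h2)

/-- (CBC) Base change of compatible pinnings. -/
def HCompatBc : Prop :=
  ∀ {S S' : Scheme.{u}} (q : S' ⟶ S) {G G' B B' : Over S} [GrpObj G] [GrpObj G'] [GrpObj B] [GrpObj B']
    (iB : B ⟶ G) (iB' : B' ⟶ G') (f : Grp.mk B ≅ Grp.mk B') (D : Red.Pinning G) (D' : Red.Pinning G')
    (h : RootPairing.Equiv D'.P D.P) (h1 : Red.IsReductive (Red.bc q G))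
    (h2 : Red.IsMaximalTorus ((Over.pullback q).map D.i)) (h3 : Red.IsReductive (Red.bc q G'))
    (h4 : Red.IsMaximalTorus ((Over.pullback q).map D'.i)), Compat iB iB' f D D' h →
    Compat ((Over.pullback q).map iB) ((Over.pullback q).map iB') (bcMapIso q f)
      (pinningBc q D h1 h2) (pinningBc q D' h3 h4) h

variable {S : Scheme.{u}} {G G' B B' : Over S} [GrpObj G] [GrpObj G'] [GrpObj B] [GrpObj B']

/-- `HT` follows from `HMax` and `SplitT`. -/
theorem hT_of (hmax : HMax.{u}) (hsplit : SplitT.{u}) : HT.{u} := by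
  intro S G G' B B' _ _ _ _ hG hG' iB hB iB' hB' f D j hj s
  have h1 : Red.IsMaximalTorus (j ≫ f.hom.hom.hom ≫ iB') :=
    hmax hG hG' iB hB iB' hB' f j (by rw [hj]; exact D.maximalTorus)
  exact hsplit hG' _ h1 D.split s

/-- Compatible pinnings and an extension give the extension property over every étale base change. -/
theorem good_of_compat (hiso : IsoThm.{u}) (hcbc : HCompatBc.{u}) (hG : Red.IsReductive G)
    (hG' : Red.IsReductive G') {iB : B ⟶ G} {iB' : B' ⟶ G'} {f : Grp.mk B ≅ Grp.mk B'}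
    {D : Red.Pinning G} {D' : Red.Pinning G'} {h : RootPairing.Equiv D'.P D.P}
    (hc : Compat iB iB' f D D' h) (hex : Ext1 iB iB' f) : Good iB iB' f := by
  intro T q hq
  obtain ⟨φ, hφ, -⟩ := hex
  have hφq : (Over.pullback q).map iB ≫ (bcMapIso q φ).hom.hom.hom =
      (bcMapIso q f).hom.hom.hom ≫ (Over.pullback q).map iB' := by
    change (Over.pullback q).map iB ≫ (Over.pullback q).map φ.hom.hom.hom =
      (Over.pullback q).map f.hom.hom.hom ≫ (Over.pullback q).map iB'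
    rw [← Functor.map_comp, hφ, Functor.map_comp]
  exact ⟨bcMapIso q φ, hφq, fun ψ hψ => ext_unique hiso
    (hcbc q iB iB' f D D' h (AlgBc.isReductive_bc q hG) (AlgBc.isMaximalTorus_bc q D.maximalTorus)
      (AlgBc.isReductive_bc q hG') (AlgBc.isMaximalTorus_bc q D'.maximalTorus) hc) ψ _ hψ hφq⟩

/-- The extension property over a base with compatible splittings. -/
theorem good_of_torCompat (hiso : IsoThm.{u}) (hcbc : HCompatBc.{u}) (hHS : HS.{u}) (hRC : HRC.{u})
    (hcent : HCent.{u}) (hEX : HEX.{u}) (hG : Red.IsSemisimple G) (hG' : Red.IsReductive G')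
    {iB : B ⟶ G} (hB : Red.IsBorel iB) {iB' : B' ⟶ G'} (hB' : Red.IsBorel iB')
    {f : Grp.mk B ≅ Grp.mk B'} {D : Red.Pinning G} (hstd : IsStd iB D) {D' : Red.SplitRed G'}
    {e : D'.M ≃+ D.M} (ht : TorCompat iB iB' f D.toSplitRed D' e) [Nonempty S] : Good iB iB' f := by
  have hG1 : Red.IsReductive G := ⟨hG.1, hG.2.1, fun s => (hG.2.2 s).1⟩
  have i1 : IsMonHom iB := hB.1
  have i2 : IsClosedImmersion iB.left := hB.2.1
  have i3 : IsMonHom iB' := hB'.1
  have i4 : IsClosedImmersion iB'.left := hB'.2.1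
  obtain ⟨D'', h, hc, hpos⟩ := exists_pinning ht hstd (fun m v hm hv => hRC D' m v hm hv)
    (hHS hG1 hG' iB hB iB' hB' f D.toSplitRed D' e ht)
    (BorSpan613.exists_zsmul_mem_span D.toSplitRed hG (hcent D.toSplitRed))
  exact good_of_compat hiso hcbc hG1 hG' hc (existsUnique_ext hiso hc hstd fun φ hφ a' ha' =>
    hEX hG1 hG' iB hB iB' hB' f D D'' h hc hstd hpos φ hφ a' ha')

/-- The extension property over a base with a pinning for which `B` is standard. -/
theorem good_of_isStd (hiso : IsoThm.{u}) (hcbc : HCompatBc.{u}) (hHS : HS.{u}) (hRC : HRC.{u})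
    (hcent : HCent.{u}) (hEX : HEX.{u}) (hT : HT.{u}) (hsbc : HStdBc.{u})
    (hG : Red.IsSemisimple G) (hG' : Red.IsReductive G')
    {iB : B ⟶ G} (hB : Red.IsBorel iB) {iB' : B' ⟶ G'} (hB' : Red.IsBorel iB')
    {f : Grp.mk B ≅ Grp.mk B'} {D : Red.Pinning G} (hstd : IsStd iB D) : Good iB iB' f := by
  have hG1 : Red.IsReductive G := ⟨hG.1, hG.2.1, fun s => (hG.2.2 s).1⟩
  refine good_of_local fun s => ?_
  obtain ⟨j, hj⟩ := hstd.torus
  obtain ⟨R, v, hv, hs, D', τ, hτ⟩ := hT hG1 hG' iB hB iB' hB' f D.toSplitRed j hj s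
  refine ⟨Spec R, v, inferInstance, hs, ?_⟩
  have hGv := AlgBc.isSemisimple_bc v hG
  have hGv1 := AlgBc.isReductive_bc v hG1
  have hGv' := AlgBc.isReductive_bc v hG'
  have hBv := Parab.RedCover147.isBorel_bc v hB
  have hBv' := Parab.RedCover147.isBorel_bc v hB'
  have hmax := AlgBc.isMaximalTorus_bc v D.maximalTorus
  have hstdv := hsbc v iB D hGv1 hmax hstd
  refine good_of_local fun s₁ => ?_
  obtain ⟨R₁, w, e, hw, hs₁, ht⟩ := BorTorC613.exists_torCompat ((Over.pullback v).map iB)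
    ((Over.pullback v).map iB') (bcMapIso v f) (splitRedBc v D.toSplitRed hGv1 hmax) D'
    ((Over.pullback v).map j) (by
      change (Over.pullback v).map j ≫ (Over.pullback v).map iB = (Over.pullback v).map D.i
      rw [← Functor.map_comp, hj]) τ (by
      change (Over.pullback v).map j ≫ (Over.pullback v).map f.hom.hom.hom ≫
        (Over.pullback v).map iB' = _
      rw [← Functor.map_comp, ← Functor.map_comp, hτ]
      rfl) s₁
  refine ⟨Spec R₁, w, inferInstance, hs₁, ?_⟩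
  have hne : Nonempty (Spec R₁ : Scheme.{u}) := by
    obtain ⟨y, -⟩ := hs₁
    exact ⟨y⟩
  have hmaxw := AlgBc.isMaximalTorus_bc w hmax
  have hGw1 := AlgBc.isReductive_bc w hGv1
  have hGw' := AlgBc.isReductive_bc w hGv'
  have hmaxw' := AlgBc.isMaximalTorus_bc w D'.maximalTorus
  exact good_of_torCompat hiso hcbc hHS hRC hcent hEX (AlgBc.isSemisimple_bc w hGv) hGw'
    (Parab.RedCover147.isBorel_bc w hBv) (Parab.RedCover147.isBorel_bc w hBv')
    (D := pinningBc w (pinningBc v D hGv1 hmax) hGw1 hmaxw)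
    (hsbc w _ (pinningBc v D hGv1 hmax) hGw1 hmaxw hstdv) (ht hGw1 hmaxw hGw' hmaxw')

/-- **S2988 from its blocks.** -/
theorem main (hiso : IsoThm.{u}) (hcbc : HCompatBc.{u}) (hHS : HS.{u}) (hRC : HRC.{u})
    (hcent : HCent.{u}) (hEX : HEX.{u}) (hmax : HMax.{u}) (hsplit : SplitT.{u}) (hsbc : HStdBc.{u})
    (hLB : HLB.{u})
    (hG : Red.IsSemisimple G) (hG' : Red.IsSemisimple G') (iB : B ⟶ G) (hB : Red.IsBorel iB)
    (iB' : B' ⟶ G') (hB' : Red.IsBorel iB') (f : Grp.mk B ≅ Grp.mk B') :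
    ∃! φ : Grp.mk G ≅ Grp.mk G', iB ≫ φ.hom.hom.hom = f.hom.hom.hom ≫ iB' := by
  have hG1 : Red.IsReductive G := ⟨hG.1, hG.2.1, fun s => (hG.2.2 s).1⟩
  have hG1' : Red.IsReductive G' := ⟨hG'.1, hG'.2.1, fun s => (hG'.2.2 s).1⟩
  refine ext1_of_local fun s => ?_
  obtain ⟨R, v, hv, hs, D, hD⟩ := hLB hG1 iB hB s
  refine ⟨Spec R, v, hv, hs, ?_⟩
  have hqf := Groth.Agent.Desc.LQF.of_etale v
  exact good_of_isStd hiso hcbc hHS hRC hcent hEX (hT_of hmax hsplit) hsbc
    (AlgBc.isSemisimple_bc v hG) (AlgBc.isReductive_bc v hG1')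
    (Parab.RedCover147.isBorel_bc v hB) (Parab.RedCover147.isBorel_bc v hB') hD

end Groth.Agent.Sga3B.BorFin613
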