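import Groth.Agent.Books.AffBridge
import Groth.Agent.Books.DynBasic

/-!
# Points of an affine group scheme `Spec A` over `Spec R` with values in any `R`-scheme

`Fn T` is the ring of global functions of `T : Over (Spec R)` with its `R`-algebra structure.
`affEquiv : WithConv (A →ₐ[R] Fn T) ≃* (T ⟶ SpecOver R A)`, natural in `T` (`comp_affPt`) and in `A`
(`affPt_specMap`).
-/

set_option autoImplicit false
universe u
open CategoryTheory MonoidalCategory CartesianMonoidalCategory MonObj GrpObj AlgebraicGeometry Limits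
open scoped TensorProduct

namespace Groth.Agent.Sga3B.AffPts

open Groth.Agent.Books.AffBridge Groth.Agent.Books.DynBasic

variable {R : Type u} [CommRing R]

/-- Global functions on a scheme over `Spec R`. -/
def Fn (T : Over (Spec (CommRingCat.of R))) : Type u := Γ(T.left, ⊤)

noncomputable instance (T : Over (Spec (CommRingCat.of R))) : CommRing (Fn T) :=
  inferInstanceAs (CommRing Γ(T.left, ⊤))

noncomputable instance (T : Over (Spec (CommRingCat.of R))) : Algebra R (Fn T) :=
  ((Scheme.ΓSpecIso (CommRingCat.of R)).inv ≫ T.hom.appTop).hom.toAlgebra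

lemma algebraMap_fn (T : Over (Spec (CommRingCat.of R))) :
    CommRingCat.ofHom (algebraMap R (Fn T)) = (Scheme.ΓSpecIso (CommRingCat.of R)).inv ≫ T.hom.appTop :=
  rfl

/-- pullback of functions as an `R`-algebra map -/
noncomputable def fnMap {T T' : Over (Spec (CommRingCat.of R))} (h : T' ⟶ T) : Fn T →ₐ[R] Fn T' where
  __ := h.left.appTop.hom
  commutes' r := by
    have : ((Scheme.ΓSpecIso (CommRingCat.of R)).inv ≫ T.hom.appTop) ≫ h.left.appTop =
        (Scheme.ΓSpecIso (CommRingCat.of R)).inv ≫ T'.hom.appTop := by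
      rw [Category.assoc, ← Scheme.Hom.comp_appTop, Over.w]
    exact congr(CommRingCat.Hom.hom $this r)

lemma fnMap_apply {T T' : Over (Spec (CommRingCat.of R))} (h : T' ⟶ T) (x : Fn T) :
    fnMap h x = h.left.appTop x := rfl

/-- The canonical morphism `T ⟶ Spec Γ(T)` over `Spec R`. -/
noncomputable def toSpecFn (T : Over (Spec (CommRingCat.of R))) : T ⟶ SpecOver R (Fn T) :=
  Over.homMk T.left.toSpecΓ (by
    change T.left.toSpecΓ ≫ Spec.map (CommRingCat.ofHom (algebraMap R (Fn T))) = T.hom
    change T.left.toSpecΓ ≫ Spec.map ((Scheme.ΓSpecIso (CommRingCat.of R)).inv ≫ T.hom.appTop) = _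
    rw [Spec.map_comp]
    rw [← Category.assoc, ← Scheme.toSpecΓ_naturality, Category.assoc,
      toSpecΓ_SpecMap_ΓSpecIso_inv, Category.comp_id])

lemma toSpecFn_left (T : Over (Spec (CommRingCat.of R))) : (toSpecFn T).left = T.left.toSpecΓ := rfl

lemma toSpecFn_naturality {T T' : Over (Spec (CommRingCat.of R))} (h : T' ⟶ T) :
    h ≫ toSpecFn T = toSpecFn T' ≫ specMap R (fnMap h) := by
  ext1
  exact Scheme.toSpecΓ_naturality h.left

section

variable {A B : Type u} [CommRing A] [Algebra R A] [CommRing B] [Algebra R B]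

/-- The point of `Spec A` given by an algebra map to the functions. -/
noncomputable def affPt (T : Over (Spec (CommRingCat.of R))) (g : A →ₐ[R] Fn T) : T ⟶ SpecOver R A :=
  toSpecFn T ≫ specMap R g

lemma comp_affPt {T T' : Over (Spec (CommRingCat.of R))} (h : T' ⟶ T) (g : A →ₐ[R] Fn T) :
    h ≫ affPt T g = affPt T' ((fnMap h).comp g) := by
  rw [affPt, ← Category.assoc, toSpecFn_naturality, Category.assoc, ← specMap_comp]
  rfl

lemma affPt_specMap (T : Over (Spec (CommRingCat.of R))) (g : A →ₐ[R] Fn T) (f : B →ₐ[R] A) :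
    affPt T g ≫ specMap R f = affPt T (g.comp f) := by
  rw [affPt, Category.assoc, ← specMap_comp]
  rfl

lemma affPt_bijective (T : Over (Spec (CommRingCat.of R))) :
    Function.Bijective (affPt T : (A →ₐ[R] Fn T) → (T ⟶ SpecOver R A)) := by
  constructor
  · intro x y h
    have h2 : (affPt T x).left = (affPt T y).left := by rw [h]
    have h3 := (ΓSpec.adjunction.homEquiv T.left (.op (.of A))).injective
       (a₁ := (CommRingCat.ofHom x.toRingHom).op) (a₂ := (CommRingCat.ofHom y.toRingHom).op) h2
    have h4 := Quiver.Hom.op_inj h3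
    ext a
    exact congr(CommRingCat.Hom.hom $h4 a)
  · intro g
    obtain ⟨f, hf⟩ := (ΓSpec.adjunction.homEquiv T.left (.op (.of A))).surjective g.left
    have hf' : T.left.toSpecΓ ≫ Spec.map f.unop = g.left := hf
    let φ : A →+* Γ(T.left, ⊤) := f.unop.hom
    refine ⟨{ φ with commutes' := fun r => ?_ }, ?_⟩
    · have h1 : T.left.toSpecΓ ≫ Spec.map (CommRingCat.ofHom (algebraMap R A) ≫ f.unop) =
          T.left.toSpecΓ ≫ Spec.map (CommRingCat.ofHom (algebraMap R (Fn T))) := by
        have e1 := Over.w (toSpecFn T)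
        have e2 := Over.w g
        rw [Spec.map_comp, ← Category.assoc, hf']
        exact e2.trans e1.symm
      have h2 := (ΓSpec.adjunction.homEquiv T.left (.op (.of R))).injective
       (a₁ := (CommRingCat.ofHom (algebraMap R A) ≫ f.unop).op)
       (a₂ := (CommRingCat.ofHom (algebraMap R (Fn T))).op) h1
      exact congr(CommRingCat.Hom.hom $(Quiver.Hom.op_inj h2) r)
    · ext1
      exact hf'

/-- `Fn T` for an affine `T = Spec B`. -/
noncomputable def fnSpec (B : Type u) [CommRing B] [Algebra R B] : Fn (SpecOver R B) ≃ₐ[R] B :=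
  { (Scheme.ΓSpecIso (CommRingCat.of B)).commRingCatIsoToRingEquiv with
    commutes' := fun r => by
      have h : (Scheme.ΓSpecIso (CommRingCat.of R)).inv ≫
          (Spec.map (CommRingCat.ofHom (algebraMap R B))).appTop ≫
          (Scheme.ΓSpecIso (CommRingCat.of B)).hom = CommRingCat.ofHom (algebraMap R B) := by
        rw [Scheme.ΓSpecIso_naturality, Iso.inv_hom_id_assoc]
      exact congr(CommRingCat.Hom.hom $h r) }

lemma affPt_spec (g : A →ₐ[R] Fn (SpecOver R B)) :
    affPt (SpecOver R B) g = specMap R ((fnSpec (R := R) B).toAlgHom.comp g) := by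
  rw [affPt, specMap_comp]
  congr 1
  ext1
  change (Spec (CommRingCat.of B)).toSpecΓ = Spec.map ((Scheme.ΓSpecIso (CommRingCat.of B)).hom)
  rw [← cancel_epi (Spec.map (Scheme.ΓSpecIso (CommRingCat.of B)).inv),
    SpecMap_ΓSpecIso_inv_toSpecΓ, ← Spec.map_comp, Iso.hom_inv_id, Spec.map_id]

end

section

variable {A : Type u} [CommRing A] [Bialgebra R A]

lemma affPt_mul (T : Over (Spec (CommRingCat.of R))) (f g : WithConv (A →ₐ[R] Fn T)) :
    affPt T (f * g).ofConv = affPt T f.ofConv * affPt T g.ofConv := by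
  rw [affPt, specMap_mul, MonObj.comp_mul]
  rfl

/-- Points of `Spec A` with values in an arbitrary `R`-scheme `T`. -/
noncomputable def affEquiv (T : Over (Spec (CommRingCat.of R))) :
    WithConv (A →ₐ[R] Fn T) ≃* (T ⟶ SpecOver R A) where
  toEquiv := (WithConv.equiv _).trans (Equiv.ofBijective _ (affPt_bijective T))
  map_mul' f g := affPt_mul T f g

lemma affEquiv_apply (T : Over (Spec (CommRingCat.of R))) (f : WithConv (A →ₐ[R] Fn T)) :
    affEquiv T f = affPt T f.ofConv := rfl

end

section

variable {A : Type u} [CommRing A] [HopfAlgebra R A]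

lemma affPt_inv (T : Over (Spec (CommRingCat.of R))) (f : WithConv (A →ₐ[R] Fn T)) :
    affPt T (f⁻¹).ofConv = (affPt T f.ofConv)⁻¹ := by
  rw [← affEquiv_apply, map_inv, affEquiv_apply]

end

end Groth.Agent.Sga3B.AffPts
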