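import Groth.Agent.Sga3B.DSPts
import Groth.Agent.Sga3B.AffPts
import Groth.Agent.Sga3B.Pts
import Mathlib.RingTheory.Bialgebra.MonoidAlgebra

/-!
# `D_S(M)` over an affine base `S = Spec R` is `Spec R[M]`

* `dsTo : Red.DS (Spec R) M ⟶ SpecOver R R[M]`, an isomorphism and a homomorphism of groups;
* `exists_pi`: a homomorphism `i : T ⟶ G` from a split torus to `G ≅ Spec A` is given by a
  bialgebra map `π : A → R[M]`.
-/

set_option autoImplicit false
universe u
open CategoryTheory MonoidalCategory CartesianMonoidalCategory MonObj GrpObj AlgebraicGeometry Limits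
open scoped TensorProduct

namespace Groth.Agent.Sga3B.DSAff

open Groth.Agent.Books.AffBridge Groth.Agent.Books.DynBasic DSPts AffPts

variable {R : Type u} [CommRing R] {M : Type} [AddCommGroup M]

/-- The algebra map `R[M] → B` given by a character. -/
noncomputable abbrev chAlg {B : Type u} [CommRing B] [Algebra R B] (χ : Multiplicative M →* B) :
    MonoidAlgebra R (Multiplicative M) →ₐ[R] B := MonoidAlgebra.lift R B (Multiplicative M) χ

lemma comp_chAlg {B C : Type u} [CommRing B] [Algebra R B] [CommRing C] [Algebra R C] (f : B →ₐ[R] C)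
    (χ : Multiplicative M →* B) : f.comp (chAlg χ) = chAlg ((f : B →* C).comp χ) := by
  ext; simp

/-- the character of a point of `D_S(M)`, with values in `Fn`. -/
noncomputable def fnChar {T : Over (Spec (CommRingCat.of R))} (t : T ⟶ Red.DS (Spec (CommRingCat.of R)) M) :
    Multiplicative M →* Fn T := dsChar t

lemma fnMap_fnChar {T T' : Over (Spec (CommRingCat.of R))} (h : T' ⟶ T)
    (t : T ⟶ Red.DS (Spec (CommRingCat.of R)) M) :
    ((fnMap h : Fn T →ₐ[R] Fn T') : Fn T →* Fn T').comp (fnChar t) = fnChar (h ≫ t) := by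
  refine MonoidHom.ext fun m => ?_
  exact (DFunLike.congr_fun (dsChar_comp h t) m).symm

lemma fnChar_mul {T : Over (Spec (CommRingCat.of R))} (t t' : T ⟶ Red.DS (Spec (CommRingCat.of R)) M) :
    fnChar (t * t') = fnChar t * fnChar t' := dsChar_mul t t'

variable (R M) in
/-- The comparison `D_S(M) ⟶ Spec R[M]`. -/
noncomputable def dsTo : Red.DS (Spec (CommRingCat.of R)) M ⟶ SpecOver R (MonoidAlgebra R (Multiplicative M)) :=
  affPt _ (chAlg (fnChar (𝟙 (Red.DS (Spec (CommRingCat.of R)) M))))

/-- `dsTo` on points. -/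
lemma comp_dsTo {T : Over (Spec (CommRingCat.of R))} (t : T ⟶ Red.DS (Spec (CommRingCat.of R)) M) :
    t ≫ dsTo R M = affPt T (chAlg (fnChar t)) := by
  rw [dsTo, comp_affPt, comp_chAlg, fnMap_fnChar, Category.comp_id]

variable (R M) in
/-- The universal character on `Spec R[M]`. -/
noncomputable def univChar : Multiplicative M →* Fn (SpecOver R (MonoidAlgebra R (Multiplicative M))) :=
  ((fnSpec (R := R) (MonoidAlgebra R (Multiplicative M))).symm.toAlgHom :
    _ →* Fn _).comp (MonoidAlgebra.of R (Multiplicative M))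

variable (R M) in
/-- The comparison `Spec R[M] ⟶ D_S(M)`. -/
noncomputable def dsFrom : SpecOver R (MonoidAlgebra R (Multiplicative M)) ⟶ Red.DS (Spec (CommRingCat.of R)) M :=
  dsEquiv _ M (univChar R M)

lemma fnChar_dsFrom : fnChar (dsFrom R M) = univChar R M := dsChar_dsEquiv _

lemma dsFrom_dsTo : dsFrom R M ≫ dsTo R M = 𝟙 _ := by
  rw [comp_dsTo, fnChar_dsFrom, affPt_spec, comp_chAlg]
  have : chAlg (R := R) (((fnSpec (R := R) (MonoidAlgebra R (Multiplicative M))).toAlgHom :
      Fn _ →* MonoidAlgebra R (Multiplicative M)).comp (univChar R M)) = AlgHom.id R _ := by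
    ext m
    simp [univChar]
  exact (congrArg (specMap R) this).trans (specMap_id R)

lemma dsTo_dsFrom : dsTo R M ≫ dsFrom R M = 𝟙 _ := by
  apply (dsEquiv _ M).symm.injective
  change dsChar _ = dsChar _
  have h2 : (dsTo R M) ≫ affPt _ ((fnSpec (R := R) (MonoidAlgebra R (Multiplicative M))).symm.toAlgHom) =
      dsTo R M := by
    rw [affPt_spec]
    have : (fnSpec (R := R) (MonoidAlgebra R (Multiplicative M))).toAlgHom.comp
        (fnSpec (R := R) (MonoidAlgebra R (Multiplicative M))).symm.toAlgHom = AlgHom.id R _ := by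
      ext; simp
    rw [this, specMap_id, Category.comp_id]
  rw [comp_affPt] at h2
  conv_rhs at h2 => rw [dsTo]
  have h3 := (affPt_bijective _).1 h2
  have h5 : fnChar (dsTo R M ≫ dsFrom R M) = fnChar (𝟙 _) := by
    rw [← fnMap_fnChar, fnChar_dsFrom]
    refine MonoidHom.ext fun m => ?_
    have h4 := DFunLike.congr_fun h3 (MonoidAlgebra.of R (Multiplicative M) m)
    rw [chAlg, MonoidAlgebra.lift_of] at h4
    exact h4
  exact h5

instance : IsIso (dsTo R M) := ⟨dsFrom R M, dsTo_dsFrom, dsFrom_dsTo⟩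
instance : IsIso (dsFrom R M) := ⟨dsTo R M, dsFrom_dsTo, dsTo_dsFrom⟩

/-- characters multiply as points of `Spec R[M]`. -/
lemma chAlg_mul {B : Type u} [CommRing B] [Algebra R B] (χ ψ : Multiplicative M →* B) :
    WithConv.toConv (chAlg (R := R) (χ * ψ)) =
      WithConv.toConv (chAlg (R := R) χ) * WithConv.toConv (chAlg (R := R) ψ) := by
  apply WithConv.ofConv_injective
  rw [AlgHom.convMul_def]
  ext m
  simp

lemma chAlg_one {B : Type u} [CommRing B] [Algebra R B] :
    WithConv.toConv (chAlg (R := R) (1 : Multiplicative M →* B)) = 1 := by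
  apply WithConv.ofConv_injective
  rw [AlgHom.convOne_def]
  ext m
  simp

instance : IsMonHom (dsTo R M) := by
  refine Pts.isMonHom_of_points (G := Red.DS (Spec (CommRingCat.of R)) M)
    (H := SpecOver R (MonoidAlgebra R (Multiplicative M))) (dsTo R M) ?_
  intro X x y
  rw [comp_dsTo, comp_dsTo, comp_dsTo, fnChar_mul]
  have := congrArg (fun z : WithConv (MonoidAlgebra R (Multiplicative M) →ₐ[R] Fn X) => affPt X z.ofConv)
    (chAlg_mul (R := R) (fnChar x) (fnChar y))
  simp only [affPt_mul] at this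
  exact this

instance : IsMonHom (dsFrom R M) := by
  refine Pts.isMonHom_of_points (H := Red.DS (Spec (CommRingCat.of R)) M)
    (G := SpecOver R (MonoidAlgebra R (Multiplicative M))) (dsFrom R M) ?_
  intro X x y
  have h : ((x ≫ dsFrom R M) * (y ≫ dsFrom R M)) ≫ dsTo R M = x * y := by
    rw [MonObj.mul_comp]
    simp only [Category.assoc, dsFrom_dsTo, Category.comp_id]
  rw [← cancel_mono (dsTo R M), h]
  simp only [Category.assoc, dsFrom_dsTo, Category.comp_id]

section

variable {G T : Over (Spec (CommRingCat.of R))} [GrpObj G] [GrpObj T]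
variable {A : Type u} [CommRing A] [HopfAlgebra R A]

/-- A homomorphism from a split torus to `G ≅ Spec A` is given by a bialgebra map `A → R[M]`. -/
theorem exists_pi (i : T ⟶ G) [IsMonHom i]
    (sp : Grp.mk T ≅ Grp.mk (Red.DS (Spec (CommRingCat.of R)) M)) (e : G ≅ SpecOver R A) [IsMonHom e.hom] :
    ∃ π : A →ₐc[R] MonoidAlgebra R (Multiplicative M),
      ∀ (X : Over (Spec (CommRingCat.of R))) (t : X ⟶ T),
        t ≫ i ≫ e.hom = affPt X ((chAlg (fnChar (t ≫ sp.hom.hom.hom))).comp (π : A →ₐ[R] _)) := by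
  obtain ⟨π, hπ⟩ := exists_bialgHom_of_isMonHom R (dsFrom R M ≫ sp.inv.hom.hom ≫ i ≫ e.hom)
  refine ⟨π, fun X t => ?_⟩
  rw [← affPt_specMap, hπ, ← comp_dsTo]
  have h1 : sp.hom.hom.hom ≫ sp.inv.hom.hom = 𝟙 _ := congrArg (fun f => f.hom.hom) sp.hom_inv_id
  have h2 : dsTo R M ≫ dsFrom R M ≫ sp.inv.hom.hom ≫ i ≫ e.hom = sp.inv.hom.hom ≫ i ≫ e.hom := by
    rw [← Category.assoc, dsTo_dsFrom, Category.id_comp]
  simp only [Category.assoc]
  rw [h2, ← Category.assoc sp.hom.hom.hom, h1, Category.id_comp]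

end

end Groth.Agent.Sga3B.DSAff
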