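import Groth.Agent.Sga3B.DsBc

/-!
# Base change of split reductive groups and pinnings
-/

set_option autoImplicit false
open CategoryTheory MonoidalCategory CartesianMonoidalCategory MonObj GrpObj AlgebraicGeometry
universe u

namespace Groth.Agent.Sga3B.SplitBc

open Groth.Agent.Sga3B Groth.Agent.Sga3B.RedIso Groth.Agent.Sga3B.BcNat Groth.Agent.Sga3B.DSPts
  Groth.Agent.Sga3B.DsBc Groth.Agent.Sga3B.AlgBc Groth.Agent.Sga3B.ResAlg

open Limits

variable {S S' S'' : Scheme.{u}}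

lemma isRootHom_bc (f : S' ⟶ S) {T G : Over S} [GrpObj T] [GrpObj G] {i : T ⟶ G} {M : Type} [AddCommGroup M]
    (σ : Grp.mk T ≅ Grp.mk (Red.DS S M)) (m : M) {u : Red.Ga S ⟶ G}
    (h : Red.IsRootHom i (σ.hom.hom.hom ≫ Red.chi S m) u) :
    Red.IsRootHom ((Over.pullback f).map i)
      ((BcIso.bcMapIso f σ ≪≫ constIso f (Red.diag (ULift.{u} ℤ) M)).hom.hom.hom ≫ Red.chi S' m)
      ((und (constIso f Red.GaZ.{u})).inv ≫ (Over.pullback f).map u) := by
  obtain ⟨h1, h2, h3⟩ := h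
  refine ⟨inferInstance, ?_, fun X t x => ?_⟩
  · have c1 : IsClosedImmersion ((Over.pullback f).map u).left :=
      MorphismProperty.overPullbackMap (P := @IsClosedImmersion) _ u h2
    rw [Over.comp_left]
    infer_instance
  · obtain ⟨y₀, hy₀, hy₁⟩ := h3 ((Over.map f).obj X) ((DSPts.bcEquiv f X _).symm t)
      ((DSPts.bcEquiv f X _).symm (x ≫ (und (constIso f Red.GaZ.{u})).inv))
    refine ⟨DSPts.bcEquiv f X _ y₀ ≫ (und (constIso f Red.GaZ.{u})).hom, ?_, ?_⟩
    · rw [Category.assoc, Iso.hom_inv_id_assoc, DSPts.bcEquiv_comp, hy₀, map_mul, map_mul, map_inv,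
        ← DSPts.bcEquiv_comp, ← DSPts.bcEquiv_comp, MulEquiv.apply_symm_apply, MulEquiv.apply_symm_apply,
        Category.assoc]
    · rw [← gaFn_bc f (DSPts.bcEquiv f X _ y₀ ≫ (und (constIso f Red.GaZ.{u})).hom), Category.assoc, Iso.hom_inv_id,
        Category.comp_id, MulEquiv.symm_apply_apply, hy₁, gaFn_bc]
      congr 1
      have e1 := gmFn_bc f m (t ≫ (Over.pullback f).map σ.hom.hom.hom)
      rw [symm_comp, Category.assoc, Category.assoc] at e1
      refine (congrArg Red.gmFn (Category.assoc _ _ _).symm).trans (e1.symm.trans ?_)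
      exact congrArg Red.gmFn (congrArg (fun z => t ≫ z) (Category.assoc _ _ _).symm)

lemma map_refl_aux (f : S' ⟶ S) {T G : Over S} [GrpObj T] [GrpObj G] {M : Type} [AddCommGroup M]
    (σ : Grp.mk T ≅ Grp.mk (Red.DS S M)) (φ : M →+ M) (i : T ⟶ G) :
    (Over.pullback f).map (σ.hom.hom.hom ≫ Red.DSmap S φ ≫ σ.inv.hom.hom ≫ i) =
      (BcIso.bcMapIso f σ ≪≫ constIso f (Red.diag (ULift.{u} ℤ) M)).hom.hom.hom ≫ Red.DSmap S' φ ≫
        (BcIso.bcMapIso f σ ≪≫ constIso f (Red.diag (ULift.{u} ℤ) M)).inv.hom.hom ≫ (Over.pullback f).map i := by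
  have e1 : (BcIso.bcMapIso f σ ≪≫ constIso f (Red.diag (ULift.{u} ℤ) M)).hom.hom.hom =
    (Over.pullback f).map σ.hom.hom.hom ≫ (und (constIso f (Red.diag (ULift.{u} ℤ) M))).hom := rfl
  have e2 : (BcIso.bcMapIso f σ ≪≫ constIso f (Red.diag (ULift.{u} ℤ) M)).inv.hom.hom =
    (und (constIso f (Red.diag (ULift.{u} ℤ) M))).inv ≫ (Over.pullback f).map σ.inv.hom.hom := rfl
  rw [e1, e2, Category.assoc, ← Category.assoc _ (Red.DSmap S' φ), ← constIso_DSmap, Category.assoc, Category.assoc,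
    Iso.hom_inv_id_assoc, Functor.map_comp, Functor.map_comp, Functor.map_comp]

lemma refl_bc (f : S' ⟶ S) {T G : Over S} [GrpObj T] [GrpObj G] {i : T ⟶ G} {M : Type} [AddCommGroup M]
    (σ : Grp.mk T ≅ Grp.mk (Red.DS S M)) (φ : M →+ M)
    (h : ∃ n : 𝟙_ (Over S) ⟶ G, ∀ (X : Over S) (t : X ⟶ T),
      (toUnit X ≫ n) * (t ≫ i) * (toUnit X ≫ n)⁻¹ =
        t ≫ σ.hom.hom.hom ≫ Red.DSmap S φ ≫ σ.inv.hom.hom ≫ i) :
    ∃ n : 𝟙_ (Over S') ⟶ Red.bc f G, ∀ (X : Over S') (t : X ⟶ Red.bc f T),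
      (toUnit X ≫ n) * (t ≫ (Over.pullback f).map i) * (toUnit X ≫ n)⁻¹ =
        t ≫ (BcIso.bcMapIso f σ ≪≫ constIso f (Red.diag (ULift.{u} ℤ) M)).hom.hom.hom ≫ Red.DSmap S' φ ≫
          (BcIso.bcMapIso f σ ≪≫ constIso f (Red.diag (ULift.{u} ℤ) M)).inv.hom.hom ≫ (Over.pullback f).map i := by
  obtain ⟨n, hn⟩ := h
  refine ⟨DSPts.bcEquiv f (𝟙_ (Over S')) G (toUnit _ ≫ n), fun X t => ?_⟩
  have e1 : toUnit X ≫ DSPts.bcEquiv f (𝟙_ (Over S')) G (toUnit _ ≫ n) = DSPts.bcEquiv f X G (toUnit _ ≫ n) := by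
    rw [DSPts.bcEquiv_naturality, ← Category.assoc]
    congr 2
  have e2 : t ≫ (Over.pullback f).map i = DSPts.bcEquiv f X G ((DSPts.bcEquiv f X T).symm t ≫ i) := by
    rw [← DSPts.bcEquiv_comp, MulEquiv.apply_symm_apply]
  rw [e1, e2, ← map_inv, ← map_mul, ← map_mul, hn, ← DSPts.bcEquiv_comp, MulEquiv.apply_symm_apply,
    map_refl_aux f σ φ i]

lemma dim_bc (f : S' ⟶ S) [AlgRes f] (G : Over S) [GrpObj G] (s' : S') :
    topologicalKrullDim ↥(Red.geomFibre s' (Red.bc f G)).left =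
      topologicalKrullDim ↥(Red.geomFibre (f s') G).left := by
  obtain ⟨θ, hθ, hh⟩ := exists_iso_geomPt f s'
  have h1 := IsHomeomorph.topologicalKrullDim_eq _
    (Scheme.homeoOfIso (asIso (und (fibIso hh G)).hom.left)).isHomeomorph
  have h2 := IsHomeomorph.topologicalKrullDim_eq _
    (Scheme.homeoOfIso (asIso (pullback.fst (Red.geomFibre (f s') G).hom θ))).isHomeomorph
  exact h1.trans h2

/-- **Base change of a splitting** along a morphism with algebraic residue extensions (open immersion, étale morphism,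
geometric point). -/
noncomputable def bcSplit (f : S' ⟶ S) [AlgRes f] {G : Over S} [GrpObj G] (D : Red.SplitRed G) :
    Red.SplitRed (Red.bc f G) where
  T := Red.bc f D.T
  i := (Over.pullback f).map D.i
  M := D.M
  idx := D.idx
  P := D.P
  pairing_eq := D.pairing_eq
  u a := (und (constIso f Red.GaZ.{u})).inv ≫ (Over.pullback f).map (D.u a)
  reductive := isReductive_bc f D.reductive
  maximalTorus := isMaximalTorus_bc f D.maximalTorus
  split := BcIso.bcMapIso f D.split ≪≫ constIso f (Red.diag (ULift.{u} ℤ) D.M)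
  rootHom a := isRootHom_bc f D.split (D.P.root a) (D.rootHom a)
  refl a := refl_bc f D.split _ (D.refl a)
  dim_fibre s' := (dim_bc f G s').trans (D.dim_fibre (f s'))

/-- Base change of a pinning. -/
noncomputable def bcPinning (f : S' ⟶ S) [AlgRes f] {G : Over S} [GrpObj G] (D : Red.Pinning G) :
    Red.Pinning (Red.bc f G) where
  toSplitRed := bcSplit f D.toSplitRed
  base := D.base

@[simp] lemma bcSplit_P (f : S' ⟶ S) [AlgRes f] {G : Over S} [GrpObj G] (D : Red.SplitRed G) :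
    (bcSplit f D).P = D.P := rfl

theorem isSplitOfType_bc (f : S' ⟶ S) [AlgRes f] {G : Over S} [GrpObj G] {ι' M' N' : Type} [AddCommGroup M']
    [Module ℤ M'] [AddCommGroup N'] [Module ℤ N'] (Q : RootPairing ι' ℤ M' N') (h : Red.IsSplitOfType Q G) :
    Red.IsSplitOfType Q (Red.bc f G) := by
  obtain ⟨D, hD⟩ := h
  exact ⟨bcSplit f D, hD⟩

end Groth.Agent.Sga3B.SplitBc
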