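import Groth.Agent.Sga3B.ParBc
import Groth.Agent.Etbase.FpqcDescent
import Mathlib.AlgebraicGeometry.Morphisms.LocalFlatDescent

/-!
# Base change with algebraic residue field extensions, II

Pointwise (iff) forms, and the case of an algebraically closed base field.
-/

set_option autoImplicit false
open CategoryTheory MonoidalCategory CartesianMonoidalCategory MonObj GrpObj AlgebraicGeometry
universe u

namespace Groth.Agent.Sga3B.AlgBc

open Groth.Agent.Sga3B Groth.Agent.Sga3B.RedIso Groth.Agent.Sga3B.ResAlg Groth.Agent.Sga3B.BcNat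
  Groth.Agent.Sga3B.TorusBc Groth.Agent.Sga3B.NormBc Groth.Agent.Sga3B.ParBc

variable {S S' : Scheme.{u}}

section BaseIso

variable {K : Type u} [Field K] {K' : Type u} [Field K']
  (θ : Spec (CommRingCat.of K') ⟶ Spec (CommRingCat.of K)) [IsIso θ]

theorem isReductiveOver_bc_iff {G : Over (Spec (CommRingCat.of K))} [GrpObj G] :
    Red.IsReductiveOver K' (Red.bc θ G) ↔ Red.IsReductiveOver K G :=
  ⟨fun h => isReductiveOver_of_iso (unbcIso' θ G) (isReductiveOver_bc (CategoryTheory.inv θ) h),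
    fun h => isReductiveOver_bc θ h⟩

theorem isSemisimpleOver_bc_iff {G : Over (Spec (CommRingCat.of K))} [GrpObj G] :
    Red.IsSemisimpleOver K' (Red.bc θ G) ↔ Red.IsSemisimpleOver K G :=
  ⟨fun h => isSemisimpleOver_of_iso (unbcIso' θ G) (isSemisimpleOver_bc (CategoryTheory.inv θ) h),
    fun h => isSemisimpleOver_bc θ h⟩

theorem isMaxTorOver_bc_iff {T G : Over (Spec (CommRingCat.of K))} [GrpObj T] [GrpObj G] {i : T ⟶ G} :
    IsMaxTorOver ((Over.pullback θ).map i) ↔ IsMaxTorOver i :=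
  ⟨fun h => isMaxTorOver_of_arrow (unbcIso' θ T) (unbcIso' θ G) (unbc'_nat θ i)
      (isMaxTorOver_bc (CategoryTheory.inv θ) h), fun h => isMaxTorOver_bc θ h⟩

theorem isBorelOver_bc_iff {T G : Over (Spec (CommRingCat.of K))} [GrpObj T] [GrpObj G] {i : T ⟶ G} :
    Red.IsBorelOver K' ((Over.pullback θ).map i) ↔ Red.IsBorelOver K i :=
  ⟨fun h => isBorelOver_of_arrow (unbcIso' θ T) (unbcIso' θ G) (unbc'_nat θ i)
      (isBorelOver_bc (CategoryTheory.inv θ) h), fun h => isBorelOver_bc θ h⟩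

theorem isParabolicOver_bc_iff {T G : Over (Spec (CommRingCat.of K))} [GrpObj T] [GrpObj G] {i : T ⟶ G} :
    Red.IsParabolicOver K' ((Over.pullback θ).map i) ↔ Red.IsParabolicOver K i :=
  ⟨fun h => isParabolicOver_of_arrow (unbcIso' θ T) (unbcIso' θ G) (unbc'_nat θ i)
      (isParabolicOver_bc (CategoryTheory.inv θ) h), fun h => isParabolicOver_bc θ h⟩

end BaseIso

section Pointwise

variable (f : S' ⟶ S) [AlgRes f] (s' : S')

/-- pointwise form: the geometric fibre of the base change is reductive iff the original geometric fibre is -/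
theorem isReductiveOver_geomFibre_bc_iff {G : Over S} [GrpObj G] :
    Red.IsReductiveOver (AlgebraicClosure (S'.residueField s')) (Red.geomFibre s' (Red.bc f G)) ↔
      Red.IsReductiveOver (AlgebraicClosure (S.residueField (f s'))) (Red.geomFibre (f s') G) := by
  obtain ⟨θ, hθ, hh⟩ := exists_iso_geomPt f s'
  rw [← isReductiveOver_bc_iff θ]
  exact ⟨fun h => isReductiveOver_of_iso (fibIso hh G) h, fun h => isReductiveOver_of_iso (fibIso hh G).symm h⟩

theorem isSemisimpleOver_geomFibre_bc_iff {G : Over S} [GrpObj G] :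
    Red.IsSemisimpleOver (AlgebraicClosure (S'.residueField s')) (Red.geomFibre s' (Red.bc f G)) ↔
      Red.IsSemisimpleOver (AlgebraicClosure (S.residueField (f s'))) (Red.geomFibre (f s') G) := by
  obtain ⟨θ, hθ, hh⟩ := exists_iso_geomPt f s'
  rw [← isSemisimpleOver_bc_iff θ]
  exact ⟨fun h => isSemisimpleOver_of_iso (fibIso hh G) h, fun h => isSemisimpleOver_of_iso (fibIso hh G).symm h⟩

lemma fib_arrow' {T T' : Scheme.{u}} {θ : T' ⟶ T} {g : T ⟶ S} {g' : T' ⟶ S'} {f : S' ⟶ S}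
    (h : θ ≫ g = g' ≫ f) {G H : Over S} [GrpObj G] [GrpObj H] (i : G ⟶ H) :
    (Over.pullback g').map ((Over.pullback f).map i) ≫ (und (fibIso h H)).hom =
      (und (fibIso h G)).hom ≫ (Over.pullback θ).map ((Over.pullback g).map i) := fib_nat h i

theorem isMaxTorOver_geomFibre_bc_iff {T G : Over S} [GrpObj T] [GrpObj G] {i : T ⟶ G} :
    IsMaxTorOver ((Over.pullback (Red.geomPt s')).map ((Over.pullback f).map i)) ↔
      IsMaxTorOver ((Over.pullback (Red.geomPt (f s'))).map i) := by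
  obtain ⟨θ, hθ, hh⟩ := exists_iso_geomPt f s'
  rw [← isMaxTorOver_bc_iff θ]
  exact ⟨fun h => isMaxTorOver_of_arrow (fibIso hh T) (fibIso hh G) (fib_nat hh i) h,
    fun h => isMaxTorOver_of_arrow (fibIso hh T).symm (fibIso hh G).symm (fib_arrow hh i) h⟩

theorem isBorelOver_geomFibre_bc_iff {T G : Over S} [GrpObj T] [GrpObj G] {i : T ⟶ G} :
    Red.IsBorelOver (AlgebraicClosure (S'.residueField s')) ((Over.pullback (Red.geomPt s')).map ((Over.pullback f).map i)) ↔
      Red.IsBorelOver (AlgebraicClosure (S.residueField (f s'))) ((Over.pullback (Red.geomPt (f s'))).map i) := by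
  obtain ⟨θ, hθ, hh⟩ := exists_iso_geomPt f s'
  rw [← isBorelOver_bc_iff θ]
  exact ⟨fun h => isBorelOver_of_arrow (fibIso hh T) (fibIso hh G) (fib_nat hh i) h,
    fun h => isBorelOver_of_arrow (fibIso hh T).symm (fibIso hh G).symm (fib_arrow hh i) h⟩

theorem isParabolicOver_geomFibre_bc_iff {T G : Over S} [GrpObj T] [GrpObj G] {i : T ⟶ G} :
    Red.IsParabolicOver (AlgebraicClosure (S'.residueField s'))
        ((Over.pullback (Red.geomPt s')).map ((Over.pullback f).map i)) ↔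
      Red.IsParabolicOver (AlgebraicClosure (S.residueField (f s'))) ((Over.pullback (Red.geomPt (f s'))).map i) := by
  obtain ⟨θ, hθ, hh⟩ := exists_iso_geomPt f s'
  rw [← isParabolicOver_bc_iff θ]
  exact ⟨fun h => isParabolicOver_of_arrow (fibIso hh T) (fibIso hh G) (fib_nat hh i) h,
    fun h => isParabolicOver_of_arrow (fibIso hh T).symm (fibIso hh G).symm (fib_arrow hh i) h⟩

end Pointwise

section AlgClosed

variable {K : Type u} [Field K] [IsAlgClosed K]

/-- the geometric point of the spectrum of an algebraically closed field is an isomorphism -/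
instance isIso_geomPt (x : Spec (CommRingCat.of K)) : IsIso (Red.geomPt x) := by
  let φ := (Scheme.ΓSpecIso (CommRingCat.of K)).inv ≫
      (Spec (CommRingCat.of K)).presheaf.germ ⊤ x trivial ≫ (Spec (CommRingCat.of K)).residue x
  let k := (Spec (CommRingCat.of K)).residueField x
  have h1 : Function.Surjective φ.hom := surjective_toResidueField K x
  have h2 : Function.Injective φ.hom := φ.hom.injective
  have h3 : IsIso φ := (ConcreteCategory.isIso_iff_bijective φ).mpr ⟨h2, h1⟩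
  have h4 : IsAlgClosed k := IsAlgClosed.of_ringEquiv K k (RingEquiv.ofBijective φ.hom ⟨h2, h1⟩)
  have h5 : Function.Bijective (algebraMap k (AlgebraicClosure k)) :=
    IsAlgClosed.algebraMap_bijective_of_isIntegral
  have h6 : IsIso (CommRingCat.ofHom (algebraMap k (AlgebraicClosure k))) :=
    (ConcreteCategory.isIso_iff_bijective _).mpr h5
  have h7 : Spec.map φ = (Spec (CommRingCat.of K)).fromSpecResidueField x := by
    have e1 := Scheme.Spec.map_residueFieldIso_inv_eq_fromSpecResidueField (CommRingCat.of K) x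
    rw [← Spec.map_comp, Scheme.Spec.algebraMap_residueFieldIso_inv] at e1
    exact e1
  have h8 : IsIso ((Spec (CommRingCat.of K)).fromSpecResidueField x) := by
    rw [← h7]; infer_instance
  change IsIso (Spec.map _ ≫ _)
  infer_instance


/-- Over an algebraically closed field, a group is reductive iff it is reductive (over that field). -/
theorem isReductive_iff {G : Over (Spec (CommRingCat.of K))} [GrpObj G] :
    Red.IsReductive G ↔ Red.IsReductiveOver K G := by
  constructor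
  · intro h
    exact (isReductiveOver_bc_iff (Red.geomPt (IsLocalRing.closedPoint K : Spec (CommRingCat.of K)))).mp (h.2.2 _)
  · intro h
    have h1 := h.1
    exact ⟨isAffineHom_of_isAffine _, h.2.1, fun s => (isReductiveOver_bc_iff (Red.geomPt s)).mpr h⟩

theorem isSemisimple_iff {G : Over (Spec (CommRingCat.of K))} [GrpObj G] :
    Red.IsSemisimple G ↔ Red.IsSemisimpleOver K G := by
  constructor
  · intro h
    exact (isSemisimpleOver_bc_iff (Red.geomPt (IsLocalRing.closedPoint K : Spec (CommRingCat.of K)))).mp (h.2.2 _)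
  · intro h
    have h1 := h.1.1
    exact ⟨isAffineHom_of_isAffine _, h.1.2.1, fun s => (isSemisimpleOver_bc_iff (Red.geomPt s)).mpr h⟩

theorem isMaximalTorus_iff {T G : Over (Spec (CommRingCat.of K))} [GrpObj T] [GrpObj G] {i : T ⟶ G} :
    Red.IsMaximalTorus i ↔ IsMonHom i ∧ Mono i ∧ Red.IsTorus T ∧ IsMaxTorOver i := by
  constructor
  · rintro ⟨h1, h2, h3, h4⟩
    have h5 : IsMaxTorOver ((Over.pullback (Red.geomPt
      (IsLocalRing.closedPoint K : Spec (CommRingCat.of K)))).map i) := h4 _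
    exact ⟨h1, h2, h3, (isMaxTorOver_bc_iff _).mp h5⟩
  · rintro ⟨h1, h2, h3, h4⟩
    refine ⟨h1, h2, h3, fun s => ?_⟩
    exact isMaxTorOver_bc (Red.geomPt s) h4

theorem isBorel_iff {T G : Over (Spec (CommRingCat.of K))} [GrpObj T] [GrpObj G] {i : T ⟶ G} :
    Red.IsBorel i ↔ Red.IsBorelOver K i := by
  constructor
  · rintro ⟨-, -, -, h4⟩
    exact (isBorelOver_bc_iff (Red.geomPt (IsLocalRing.closedPoint K : Spec (CommRingCat.of K)))).mp (h4 _)
  · intro h
    exact ⟨h.1, h.2.1, h.2.2.1, fun s => isBorelOver_bc (Red.geomPt s) h⟩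

theorem isParabolic_iff {T G : Over (Spec (CommRingCat.of K))} [GrpObj T] [GrpObj G] {i : T ⟶ G} :
    Red.IsParabolic i ↔ Red.IsParabolicOver K i := by
  constructor
  · rintro ⟨-, -, -, h4⟩
    exact (isParabolicOver_bc_iff (Red.geomPt (IsLocalRing.closedPoint K : Spec (CommRingCat.of K)))).mp (h4 _)
  · intro h
    exact ⟨h.1, h.2.1, h.2.2.1, fun s => isParabolicOver_bc (Red.geomPt s) h⟩

end AlgClosed

section Arrow

variable {T G T₁ G₁ : Over S} [GrpObj T] [GrpObj G] [GrpObj T₁] [GrpObj G₁]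

lemma bc_arrow (f : S' ⟶ S) {i : T ⟶ G} {i₁ : T₁ ⟶ G₁} (φ : Grp.mk T ≅ Grp.mk T₁) (ψ : Grp.mk G ≅ Grp.mk G₁)
    (hc : i ≫ (und ψ).hom = (und φ).hom ≫ i₁) :
    (Over.pullback f).map i ≫ (und (BcIso.bcMapIso f ψ)).hom =
      (und (BcIso.bcMapIso f φ)).hom ≫ (Over.pullback f).map i₁ := by
  rw [und_bcMapIso, und_bcMapIso, ← Functor.map_comp, ← Functor.map_comp, hc]

/-- Invariance of "maximal torus" under isomorphism. -/
theorem isMaximalTorus_of_arrow {i : T ⟶ G} {i₁ : T₁ ⟶ G₁} (φ : Grp.mk T ≅ Grp.mk T₁) (ψ : Grp.mk G ≅ Grp.mk G₁)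
    (hc : i ≫ (und ψ).hom = (und φ).hom ≫ i₁) (h : Red.IsMaximalTorus i) : Red.IsMaximalTorus i₁ := by
  obtain ⟨h1, h2, h3, h4⟩ := h
  have e1 : i₁ = (und φ).inv ≫ i ≫ (und ψ).hom := by rw [hc, Iso.inv_hom_id_assoc]
  refine ⟨?_, ?_, isTorus_of_iso φ h3, fun s => ?_⟩
  · rw [e1]; infer_instance
  · rw [e1]; infer_instance
  · have h5 : IsMaxTorOver ((Over.pullback (Red.geomPt s)).map i) := h4 s
    exact isMaxTorOver_of_arrow _ _ (bc_arrow (Red.geomPt s) φ ψ hc) h5

theorem isBorel_of_arrow {i : T ⟶ G} {i₁ : T₁ ⟶ G₁} (φ : Grp.mk T ≅ Grp.mk T₁) (ψ : Grp.mk G ≅ Grp.mk G₁)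
    (hc : i ≫ (und ψ).hom = (und φ).hom ≫ i₁) (h : Red.IsBorel i) : Red.IsBorel i₁ := by
  obtain ⟨h1, h2, h3, h4⟩ := h
  have e1 : i₁ = (und φ).inv ≫ i ≫ (und ψ).hom := by rw [hc, Iso.inv_hom_id_assoc]
  refine ⟨?_, ?_, TorusAlgClosed.prop_of_grp_iso (P := @Smooth) φ.symm h3, fun s => ?_⟩
  · rw [e1]; infer_instance
  · rw [e1, Over.comp_left, Over.comp_left]; infer_instance
  · exact isBorelOver_of_arrow _ _ (bc_arrow (Red.geomPt s) φ ψ hc) (h4 s)

theorem isParabolic_of_arrow {i : T ⟶ G} {i₁ : T₁ ⟶ G₁} (φ : Grp.mk T ≅ Grp.mk T₁) (ψ : Grp.mk G ≅ Grp.mk G₁)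
    (hc : i ≫ (und ψ).hom = (und φ).hom ≫ i₁) (h : Red.IsParabolic i) : Red.IsParabolic i₁ := by
  obtain ⟨h1, h2, h3, h4⟩ := h
  have e1 : i₁ = (und φ).inv ≫ i ≫ (und ψ).hom := by rw [hc, Iso.inv_hom_id_assoc]
  refine ⟨?_, ?_, TorusAlgClosed.prop_of_grp_iso (P := @Smooth) φ.symm h3, fun s => ?_⟩
  · rw [e1]; infer_instance
  · rw [e1, Over.comp_left, Over.comp_left]; infer_instance
  · exact isParabolicOver_of_arrow _ _ (bc_arrow (Red.geomPt s) φ ψ hc) (h4 s)

end Arrow

section Descent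

/-- an open surjective morphism is an fpqc cover in the sense of `Red.IsTorus` -/
lemma qc_cover_of_isOpenMap (f : S' ⟶ S) [Surjective f] (hf : IsOpenMap f.base) (V : S.Opens)
    (hV : IsAffineOpen V) : ∃ W : S'.Opens, IsCompact (W : Set S') ∧ f.base '' (W : Set S') = (V : Set S) := by
  classical
  have key : ∀ v : V, ∃ W : S'.Opens, IsCompact (W : Set S') ∧ v.1 ∈ f.base '' (W : Set S') ∧
      f.base '' (W : Set S') ⊆ (V : Set S) := by
    intro v
    obtain ⟨w, hw⟩ := f.surjective v.1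
    have hw' : w ∈ f ⁻¹ᵁ V := by change f w ∈ V; rw [hw]; exact v.2
    obtain ⟨_, ⟨W, hW, rfl⟩, hwW, hle⟩ := S'.isBasis_affineOpens.exists_subset_of_mem_open hw' (f ⁻¹ᵁ V).2
    refine ⟨W, hW.isCompact, ⟨w, hwW, hw⟩, ?_⟩
    rintro _ ⟨x, hx, rfl⟩
    exact hle hx
  choose W hW hvW hWV using key
  obtain ⟨t, ht⟩ := hV.isCompact.elim_finite_subcover (fun v : V => f.base '' (W v : Set S')) (fun v => hf _ (W v).2)
    (fun x hx => Set.mem_iUnion.mpr ⟨⟨x, hx⟩, hvW ⟨x, hx⟩⟩)
  have e : ((⨆ v ∈ t, W v : S'.Opens) : Set S') = ⋃ v ∈ t, (W v : Set S') := by simp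
  refine ⟨⨆ v ∈ t, W v, ?_, ?_⟩
  · rw [e]
    exact t.isCompact_biUnion fun v _ => hW v
  · rw [e, Set.image_iUnion₂]
    exact Set.Subset.antisymm (Set.iUnion₂_subset fun v _ => hWV v) ht

lemma qc_cover_of_isCompact {X : Scheme.{u}} (p : X ⟶ S)
    (hc : ∀ V : S.Opens, IsAffineOpen V → ∃ W : X.Opens, IsCompact (W : Set X) ∧ p.base '' (W : Set X) = (V : Set S))
    (V : S.Opens) (hV : IsCompact (V : Set S)) :
    ∃ W : X.Opens, IsCompact (W : Set X) ∧ p.base '' (W : Set X) = (V : Set S) := by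
  classical
  have key : ∀ v : V, ∃ A : S.Opens, v.1 ∈ A ∧ A ≤ V ∧ ∃ W : X.Opens, IsCompact (W : Set X) ∧
      p.base '' (W : Set X) = (A : Set S) := by
    intro v
    obtain ⟨_, ⟨A, hA, rfl⟩, hvA, hle⟩ := S.isBasis_affineOpens.exists_subset_of_mem_open v.2 V.2
    exact ⟨A, hvA, hle, hc A hA⟩
  choose A hvA hAV W hW hWA using key
  obtain ⟨t, ht⟩ := hV.elim_finite_subcover (fun v : V => (A v : Set S)) (fun v => (A v).2)
    (fun x hx => Set.mem_iUnion.mpr ⟨⟨x, hx⟩, hvA ⟨x, hx⟩⟩)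
  have e : ((⨆ v ∈ t, W v : X.Opens) : Set X) = ⋃ v ∈ t, (W v : Set X) := by simp
  refine ⟨⨆ v ∈ t, W v, ?_, ?_⟩
  · rw [e]
    exact t.isCompact_biUnion fun v _ => hW v
  · rw [e, Set.image_iUnion₂]
    refine Set.Subset.antisymm (Set.iUnion₂_subset fun v _ => ?_) (ht.trans ?_)
    · rw [hWA]; exact hAV v
    · exact Set.iUnion₂_mono fun v _ => (hWA v).symm.subset

variable (f : S' ⟶ S)

/-- **Reductive groups descend** along fpqc covers with algebraic residue extensions (e.g. étale covers). -/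
theorem isReductive_of_bc [AlgRes f] [Flat f] [Surjective f]
    (hc : ∀ V : S.Opens, IsAffineOpen V → ∃ W : S'.Opens, IsCompact (W : Set S') ∧ f.base '' (W : Set S') = (V : Set S))
    {G : Over S} [GrpObj G] (h : Red.IsReductive (Red.bc f G)) : Red.IsReductive G := by
  obtain ⟨h1, h2, h3⟩ := h
  refine ⟨?_, ?_, ?_⟩
  · have := Etbase.FpqcDescent.descendsAlong_isAffineHom.{u}
    refine FpqcLoc.of_fpqc_cover (P := @IsAffineHom) G.hom f hc fun s' => ⟨⊤, trivial, ?_⟩
    exact FpqcLoc.of_isPullback' (P := @IsAffineHom) (IsPullback.of_hasPullback _ _) h1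
  · refine FpqcLoc.of_fpqc_cover (P := @Smooth) G.hom f hc fun s' => ⟨⊤, trivial, ?_⟩
    exact FpqcLoc.of_isPullback' (P := @Smooth) (IsPullback.of_hasPullback _ _) h2
  · intro s
    obtain ⟨s', rfl⟩ := f.surjective s
    exact (isReductiveOver_geomFibre_bc_iff f s').mp (h3 s')

theorem isSemisimple_of_bc [AlgRes f] [Flat f] [Surjective f]
    (hc : ∀ V : S.Opens, IsAffineOpen V → ∃ W : S'.Opens, IsCompact (W : Set S') ∧ f.base '' (W : Set S') = (V : Set S))
    {G : Over S} [GrpObj G] (h : Red.IsSemisimple (Red.bc f G)) : Red.IsSemisimple G := by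
  obtain ⟨h1, h2, h3⟩ := h
  refine ⟨?_, ?_, ?_⟩
  · have := Etbase.FpqcDescent.descendsAlong_isAffineHom.{u}
    refine FpqcLoc.of_fpqc_cover (P := @IsAffineHom) G.hom f hc fun s' => ⟨⊤, trivial, ?_⟩
    exact FpqcLoc.of_isPullback' (P := @IsAffineHom) (IsPullback.of_hasPullback _ _) h1
  · refine FpqcLoc.of_fpqc_cover (P := @Smooth) G.hom f hc fun s' => ⟨⊤, trivial, ?_⟩
    exact FpqcLoc.of_isPullback' (P := @Smooth) (IsPullback.of_hasPullback _ _) h2
  · intro s
    obtain ⟨s', rfl⟩ := f.surjective s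
    exact (isSemisimpleOver_geomFibre_bc_iff f s').mp (h3 s')

/-- **Tori descend** along fpqc covers. -/
theorem isTorus_of_bc [Flat f] [Surjective f]
    (hc : ∀ V : S.Opens, IsAffineOpen V → ∃ W : S'.Opens, IsCompact (W : Set S') ∧ f.base '' (W : Set S') = (V : Set S))
    {T : Over S} [GrpObj T] (h : Red.IsTorus (Red.bc f T)) : Red.IsTorus T := by
  obtain ⟨X, p, hp, hs, hcp, h⟩ := h
  refine ⟨X, p ≫ f, inferInstance, inferInstance, fun V hV => ?_, fun x => ?_⟩
  · obtain ⟨W, hW, hWV⟩ := hc V hV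
    obtain ⟨W', hW', hWW'⟩ := qc_cover_of_isCompact p hcp W hW
    refine ⟨W', hW', ?_⟩
    have e : (p ≫ f).base = f.base ∘ p.base := by ext x; simp
    rw [e, Set.image_comp, hWW', hWV]
  · obtain ⟨U, hU, r, hr⟩ := h x
    refine ⟨U, hU, r, isSplitTorusWith_of_iso ?_ hr⟩
    exact (BcIso.bcCompIso (U.ι ≫ p) f T).symm ≪≫ BcIso.bcCongrIso (Category.assoc _ _ _) T

end Descent

end Groth.Agent.Sga3B.AlgBc
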