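import Mathlib.LinearAlgebra.RootSystem.BaseExists
import Mathlib.LinearAlgebra.RootSystem.BaseChange
import Mathlib.LinearAlgebra.FreeModule.Finite.Basic
import Mathlib.LinearAlgebra.RootSystem.Hom
import Mathlib.LinearAlgebra.RootSystem.Finite.Nondegenerate

/-!
# Bases of root data over ℤ

Mathlib proves the existence of a base only for root *systems* over a field.  Here: a reduced root datum
`P : RootPairing ι ℤ M N` (`ι` finite, `M` finitely generated) has a base; moreover every additive functional `f` which
does not vanish on the roots is positive exactly on the positive roots of some base.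
-/

set_option autoImplicit false
set_option linter.unusedSectionVars false

open Module Set Function

namespace Groth.Agent.Sga3B.BaseZ

variable {ι M N κ : Type*} [AddCommGroup M] [AddCommGroup N] (P : RootPairing ι ℤ M N)

section Extend

variable [Fintype κ] (b : Basis κ ℤ M)

/-- the dot product as a bilinear form on `κ → ℚ` -/
noncomputable def dot (κ : Type*) [Fintype κ] : (κ → ℚ) →ₗ[ℚ] (κ → ℚ) →ₗ[ℚ] ℚ :=
  LinearMap.mk₂ ℚ (fun x y => ∑ k, x k * y k)
    (fun x y z => by simp [add_mul, Finset.sum_add_distrib])
    (fun c x y => by simp [Finset.mul_sum, mul_assoc])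
    (fun x y z => by simp [mul_add, Finset.sum_add_distrib])
    (fun c x y => by simp only [Pi.smul_apply, smul_eq_mul, Finset.mul_sum]; congr; ext; ring)

theorem dot_apply (x y : κ → ℚ) : dot κ x y = ∑ k, x k * y k := rfl

theorem dot_injective : Injective (dot κ) := by
  classical
  rw [injective_iff_map_eq_zero]
  intro x hx
  ext k
  have := LinearMap.congr_fun hx (Pi.single k 1)
  simpa [dot_apply, Pi.single_apply] using this

theorem dot_flip_injective : Injective (dot κ).flip := by
  have : (dot κ).flip = dot κ := by
    ext x y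
    simp [dot_apply, mul_comm]
  rw [this]; exact dot_injective

/-- coordinates of roots -/
noncomputable def φ : M →ₗ[ℤ] (κ → ℚ) where
  toFun x k := (b.repr x k : ℚ)
  map_add' x y := by ext; simp
  map_smul' c x := by ext; simp

noncomputable def ψ : N →ₗ[ℤ] (κ → ℚ) where
  toFun y k := (P.toLinearMap (b k) y : ℚ)
  map_add' x y := by ext; simp
  map_smul' c x := by ext; simp

theorem φ_apply (x : M) (k : κ) : φ b x k = b.repr x k := rfl
theorem ψ_apply (y : N) (k : κ) : ψ P b y k = P.toLinearMap (b k) y := rfl

theorem φ_injective : Injective (φ b) := by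
  rw [injective_iff_map_eq_zero]
  intro x hx
  apply b.repr.injective
  ext k
  have := congr_fun hx k
  simpa [φ_apply] using this

theorem ψ_injective : Injective (ψ P b) := by
  rw [injective_iff_map_eq_zero]
  intro y hy
  have h1 : P.toLinearMap.flip y = 0 := by
    apply b.ext
    intro k
    have := congr_fun hy k
    simpa [ψ_apply] using this
  exact (injective_iff_map_eq_zero _).mp (LinearMap.IsPerfPair.bijective_right (p := P.toLinearMap)).1 y h1

theorem dot_φ_ψ (x : M) (y : N) : dot κ (φ b x) (ψ P b y) = P.toLinearMap x y := by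
  conv_rhs => rw [← b.sum_repr x, map_sum, LinearMap.sum_apply]
  simp [dot_apply, φ_apply, ψ_apply]

/-- extension of scalars of a root datum to `ℚ`, in coordinates -/
noncomputable def ext : RootPairing ι ℚ (κ → ℚ) (κ → ℚ) where
  toLinearMap := dot κ
  isPerfPair_toLinearMap := LinearMap.IsPerfPair.of_injective dot_injective dot_flip_injective
  root := ⟨fun i => φ b (P.root i), fun i j h => P.root.injective (φ_injective b h)⟩
  coroot := ⟨fun i => ψ P b (P.coroot i), fun i j h => P.coroot.injective (ψ_injective P b h)⟩
  root_coroot_two i := by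
    simp only [Embedding.coeFn_mk, dot_φ_ψ, P.root_coroot_two]; norm_num
  reflectionPerm := P.reflectionPerm
  reflectionPerm_root i j := by
    simp only [Embedding.coeFn_mk, dot_φ_ψ, ← P.reflectionPerm_root, map_sub, map_smul]
    simp [Int.cast_smul_eq_zsmul]
  reflectionPerm_coroot i j := by
    simp only [Embedding.coeFn_mk, dot_φ_ψ, ← P.reflectionPerm_coroot, map_sub, map_smul]
    simp [Int.cast_smul_eq_zsmul]

theorem ext_root (i : ι) : (ext P b).root i = φ b (P.root i) := rfl
theorem ext_coroot (i : ι) : (ext P b).coroot i = ψ P b (P.coroot i) := rfl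
theorem ext_pairing (i j : ι) : (ext P b).pairing i j = P.pairing i j := dot_φ_ψ P b _ _

instance : (ext P b).IsCrystallographic where
  exists_value i j := ⟨P.pairing i j, by rw [ext_pairing]; rfl⟩

theorem exists_int_pair (c d : ℚ) (h : ¬ (c = 0 ∧ d = 0)) :
    ∃ m n : ℤ, ¬ (m = 0 ∧ n = 0) ∧ ∃ t : ℚ, (m : ℚ) = t * c ∧ (n : ℚ) = t * d := by
  refine ⟨c.num * d.den, d.num * c.den, ?_, (c.den * d.den : ℚ), ?_, ?_⟩
  · simpa using h
  · push_cast
    rw [show (c.den : ℚ) * d.den * c = (c.den * c) * d.den by ring, Rat.den_mul_eq_num]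
  · push_cast
    rw [show (c.den : ℚ) * d.den * d = (d.den * d) * c.den by ring, Rat.den_mul_eq_num]

theorem not_linearIndependent_of_ext {i j : ι}
    (h : ¬ LinearIndependent ℚ ![(ext P b).root i, (ext P b).root j]) :
    ¬ LinearIndependent ℤ ![P.root i, P.root j] := by
  rw [LinearIndependent.pair_iff] at h ⊢
  contrapose! h
  intro c d hcd
  by_contra hne
  obtain ⟨m, n, hmn, t, hm, hn⟩ := exists_int_pair c d hne
  apply hmn
  apply h
  apply φ_injective b
  rw [map_add, map_smul, map_smul, map_zero, ← ext_root P b, ← ext_root P b]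
  have h1 : (m : ℚ) • (ext P b).root i + (n : ℚ) • (ext P b).root j = 0 := by
    rw [hm, hn, mul_smul, mul_smul, ← smul_add, hcd, smul_zero]
  simpa [Int.cast_smul_eq_zsmul] using h1

instance [P.IsReduced] : (ext P b).IsReduced where
  eq_or_eq_neg i j h := by
    rcases RootPairing.IsReduced.eq_or_eq_neg (P := P) i j (not_linearIndependent_of_ext P b h) with h1 | h1
    · left; rw [ext_root, ext_root, h1]
    · right; rw [ext_root, ext_root, h1, map_neg]

variable [Fintype ι]

/-- the associated root system over `ℚ` -/
noncomputable abbrev sys : RootPairing ι ℚ (Submodule.span ℚ (range (ext P b).root))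
    (Submodule.span ℚ (range (ext P b).coroot)) := (ext P b).restrictScalars' ℚ

theorem sys_root (i : ι) : ((sys P b).root i : κ → ℚ) = φ b (P.root i) := rfl
theorem sys_coroot (i : ι) : ((sys P b).coroot i : κ → ℚ) = ψ P b (P.coroot i) := rfl

instance : (sys P b).IsCrystallographic where
  exists_value i j := by
    refine ⟨P.pairing i j, ?_⟩
    have := (ext P b).restrictScalars_pairing (K := ℚ) i j
    rw [ext_pairing] at this
    simpa using this.symm

instance [P.IsReduced] : (sys P b).IsReduced where
  eq_or_eq_neg i j h := by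
    have h2 : ¬ LinearIndependent ℚ ![(ext P b).root i, (ext P b).root j] := by
      intro h3
      apply h
      rw [LinearIndependent.pair_iff] at h3 ⊢
      intro s t hst
      exact h3 s t (by simpa using congrArg Subtype.val hst)
    rcases RootPairing.IsReduced.eq_or_eq_neg (P := ext P b) i j h2 with h1 | h1
    · left; exact Subtype.ext h1
    · right; exact Subtype.ext h1

theorem closure_root {s : Set ι} {x : Submodule.span ℚ (range (ext P b).root)}
    (hx : x ∈ AddSubmonoid.closure ((sys P b).root '' s)) :
    ∃ y ∈ AddSubmonoid.closure (P.root '' s), φ b y = x := by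
  induction hx using AddSubmonoid.closure_induction with
  | mem x hx =>
    obtain ⟨i, hi, rfl⟩ := hx
    exact ⟨P.root i, AddSubmonoid.subset_closure ⟨i, hi, rfl⟩, rfl⟩
  | zero => exact ⟨0, zero_mem _, by simp⟩
  | add x y _ _ hx hy =>
    obtain ⟨u, hu, hux⟩ := hx
    obtain ⟨v, hv, hvy⟩ := hy
    exact ⟨u + v, add_mem hu hv, by simp [hux, hvy]⟩

theorem closure_coroot {s : Set ι} {x : Submodule.span ℚ (range (ext P b).coroot)}
    (hx : x ∈ AddSubmonoid.closure ((sys P b).coroot '' s)) :
    ∃ y ∈ AddSubmonoid.closure (P.coroot '' s), ψ P b y = x := by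
  induction hx using AddSubmonoid.closure_induction with
  | mem x hx =>
    obtain ⟨i, hi, rfl⟩ := hx
    exact ⟨P.coroot i, AddSubmonoid.subset_closure ⟨i, hi, rfl⟩, rfl⟩
  | zero => exact ⟨0, zero_mem _, by simp⟩
  | add x y _ _ hx hy =>
    obtain ⟨u, hu, hux⟩ := hx
    obtain ⟨v, hv, hvy⟩ := hy
    exact ⟨u + v, add_mem hu hv, by simp [hux, hvy]⟩

/-- A base of the rational root system gives a base of the root datum. -/
noncomputable def ofSys (B : (sys P b).Base) : P.Base where
  support := B.support
  linearIndepOn_root := by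
    have h1 := B.linearIndepOn_root.restrict_scalars' ℤ
    have h2 := h1.map_injOn ((Submodule.subtype _).restrictScalars ℤ) (by intro x _ y _ h; exact Subtype.ext h)
    refine LinearIndepOn.of_comp (φ b) ?_
    exact h2
  linearIndepOn_coroot := by
    have h1 := B.linearIndepOn_coroot.restrict_scalars' ℤ
    have h2 := h1.map_injOn ((Submodule.subtype _).restrictScalars ℤ) (by intro x _ y _ h; exact Subtype.ext h)
    refine LinearIndepOn.of_comp (ψ P b) ?_
    exact h2
  root_mem_or_neg_mem i := by
    rcases B.root_mem_or_neg_mem i with h | h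
    · obtain ⟨y, hy, h1⟩ := closure_root P b h
      left
      rwa [← φ_injective b (h1.trans (sys_root P b i))]
    · obtain ⟨y, hy, h1⟩ := closure_root P b h
      right
      have h2 : φ b y = φ b (-P.root i) := by rw [h1, map_neg, ← sys_root P b i]; rfl
      rwa [← φ_injective b h2]
  coroot_mem_or_neg_mem i := by
    rcases B.coroot_mem_or_neg_mem i with h | h
    · obtain ⟨y, hy, h1⟩ := closure_coroot P b h
      left
      rwa [← ψ_injective P b (h1.trans (sys_coroot P b i))]
    · obtain ⟨y, hy, h1⟩ := closure_coroot P b h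
      right
      have h2 : ψ P b y = ψ P b (-P.coroot i) := by rw [h1, map_neg, ← sys_coroot P b i]; rfl
      rwa [← ψ_injective P b h2]

/-- the rational extension of an integral functional on `M` -/
noncomputable def fext (f : M →+ ℤ) : (κ → ℚ) →ₗ[ℚ] ℚ where
  toFun x := ∑ k, x k * f (b k)
  map_add' x y := by simp [add_mul, Finset.sum_add_distrib]
  map_smul' c x := by simp [Finset.mul_sum, mul_assoc]

theorem fext_φ (f : M →+ ℤ) (x : M) : fext b f (φ b x) = f x := by
  conv_rhs => rw [← b.sum_repr x, map_sum]
  simp [fext, φ_apply]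

end Extend

variable [Finite ι] [Module.Finite ℤ M] [P.IsReduced]

/-- **Existence of bases with prescribed positivity**: let `f : M → ℤ` be additive, nonzero on all roots.  Then there is
a base whose positive roots are the roots `a` with `f a > 0`. -/
theorem exists_base_isPos (f : M →+ ℤ) (hf : ∀ i, f (P.root i) ≠ 0) :
    ∃ b : P.Base, ∀ i, b.IsPos i ↔ 0 < f (P.root i) := by
  classical
  have : IsReflexive ℤ M := .of_isPerfPair P.toLinearMap
  let _ : Fintype ι := Fintype.ofFinite ι
  let b := Module.Free.chooseBasis ℤ M
  let f' : Submodule.span ℚ (range (ext P b).root) →+ ℚ := ((fext b f).comp (Submodule.subtype _)).toAddMonoidHom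
  have hf'' : ∀ i, f' ((sys P b).root i) = f (P.root i) := fun i => fext_φ b f _
  have hf' : ∀ i, f' ((sys P b).root i) ≠ 0 := by
    intro i; rw [hf'']; exact_mod_cast hf i
  let _ := (sys P b).indexNeg
  let B' : (sys P b).Base := RootPairing.Base.mk' (sys P b) (IsAddIndecomposable.baseOf (sys P b).root f')
    ((sys P b).linearIndepOn_root_baseOf f' hf')
    (fun i ↦ IsAddIndecomposable.mem_or_neg_mem_closure_baseOf (sys P b).root f' i (hf' i) (by simp))
  let B : P.Base := ofSys P b B'
  have hB : ∀ j ∈ B.support, 0 < f (P.root j) := by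
    intro j hj
    have h1 : j ∈ IsAddIndecomposable.baseOf (sys P b).root f' := by
      have : j ∈ B'.support := hj
      simpa [B', RootPairing.Base.mk'] using this
    have h2 := IsAddIndecomposable.baseOf_subset_pos _ _ h1
    simp only [mem_ofPred_eq, hf''] at h2
    exact_mod_cast h2
  refine ⟨B, fun i => ?_⟩
  obtain ⟨c, hc, hpos, hsum⟩ := B.exists_root_eq_sum_int i
  rw [RootPairing.Base.isPos_iff, RootPairing.Base.height_eq_sum hsum]
  have h0 : f (P.root i) = ∑ j ∈ B.support, c j * f (P.root j) := by
    rw [hsum, map_sum]; simp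
  have hne := hf i
  have hh := B.height_ne_zero i
  rw [RootPairing.Base.height_eq_sum hsum] at hh
  rw [h0] at hne ⊢
  rcases hpos with hp | hp
  · constructor
    · intro _
      exact lt_of_le_of_ne (Finset.sum_nonneg fun j hj => mul_nonneg (hp.le j) (hB j hj).le) (Ne.symm hne)
    · intro _
      exact lt_of_le_of_ne (Finset.sum_nonneg fun j hj => hp.le j) (Ne.symm hh)
  · constructor
    · intro h
      exact absurd h (not_lt.mpr (Finset.sum_nonpos fun j hj => hp.le j))
    · intro h
      exact absurd h (not_lt.mpr (Finset.sum_nonpos fun j hj =>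
        mul_nonpos_of_nonpos_of_nonneg (hp.le j) (hB j hj).le))

/-- there is an integral functional that does not vanish on the roots -/
theorem exists_functional : ∃ f : M →+ ℤ, ∀ i, f (P.root i) ≠ 0 := by
  classical
  have : IsReflexive ℤ M := .of_isPerfPair P.toLinearMap
  let b := Module.Free.chooseBasis ℤ M
  obtain ⟨f, hf⟩ := Module.exists_dual_forall_apply_ne_zero (K := ℚ) (fun i => φ b (P.root i))
    (fun i h => P.ne_zero i (φ_injective b (by rw [h, map_zero])))
  obtain ⟨d, hd⟩ := IsLocalization.exist_integer_multiples_of_finite (nonZeroDivisors ℤ)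
    (fun k => f (Pi.single k (1 : ℚ)))
  choose n hn using hd
  refine ⟨((b.constr ℤ) n : M →ₗ[ℤ] ℤ).toAddMonoidHom, fun i h => hf i ?_⟩
  have hkey : ∀ x : M, (((b.constr ℤ) n x : ℤ) : ℚ) = (d : ℤ) • f (φ b x) := by
    intro x
    have h1 : φ b x = ∑ k, (b.repr x k : ℚ) • (Pi.single k (1 : ℚ) : _ → ℚ) := by
      ext k
      simp [φ_apply, Finset.sum_apply, Pi.single_apply]
    rw [h1, map_sum, Basis.constr_apply_fintype, Int.cast_sum, Finset.smul_sum]
    refine Finset.sum_congr rfl fun k _ => ?_
    have h2 := hn k
    simp only [eq_intCast] at h2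
    rw [smul_eq_mul, Int.cast_mul, h2, map_smul, smul_eq_mul]
    simp only [Basis.equivFun_apply, zsmul_eq_mul]

    ring
  have h3 := hkey (P.root i)
  change (b.constr ℤ) n (P.root i) = 0 at h
  rw [h] at h3
  simp only [Int.cast_zero, zsmul_eq_mul] at h3
  exact (mul_eq_zero.mp h3.symm).resolve_left (by exact_mod_cast nonZeroDivisors.coe_ne_zero d)

/-- **Existence of a base** of a reduced root datum. -/
theorem nonempty_base : Nonempty P.Base := by
  obtain ⟨f, hf⟩ := exists_functional P
  exact ⟨(exists_base_isPos P f hf).choose⟩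


section Reduced

variable {ι M N : Type*} [Finite ι] [AddCommGroup M] [AddCommGroup N] (P : RootPairing ι ℤ M N)

/-- A finite root datum without pairs of roots `a, 2a` is reduced. -/
theorem isReduced_of_two_smul (h : ∀ i j, P.root j ≠ (2 : ℤ) • P.root i) : P.IsReduced where
  eq_or_eq_neg i j hij := by
    have : IsReflexive ℤ M := .of_isPerfPair P.toLinearMap
    have h1 := P.pairing_smul_root_eq_of_not_linearIndependent hij
    have h4 : P.pairing i j * P.pairing j i = 4 := P.coxeterWeight_eq_four_iff_not_linearIndependent.mpr hij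
    have hdvd : P.pairing j i ∣ 4 := ⟨P.pairing i j, by rw [← h4, mul_comm]⟩
    have hle : P.pairing j i ≤ 4 := Int.le_of_dvd (by norm_num) hdvd
    have hge : -4 ≤ P.pairing j i := by
      have := Int.le_of_dvd (by norm_num) ((neg_dvd).mpr hdvd)
      omega
    have hinj : ∀ x y : M, (2 : ℤ) • x = (2 : ℤ) • y → x = y := fun x y hxy =>
      smul_right_injective M (two_ne_zero (α := ℤ)) hxy
    have hni : ∀ i, P.root (P.reflectionPerm i i) = - P.root i := by simp
    generalize P.pairing j i = c at *
    generalize P.pairing i j = d at *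
    have hc : c = -4 ∨ c = -2 ∨ c = -1 ∨ c = 1 ∨ c = 2 ∨ c = 4 := by
      interval_cases c <;> omega
    rcases hc with rfl | rfl | rfl | rfl | rfl | rfl
    · exfalso
      apply h (P.reflectionPerm i i) j
      apply hinj
      rw [← h1, hni, smul_neg, smul_neg, smul_smul, neg_smul]; norm_num
    · right
      apply hinj
      rw [smul_neg, ← h1, neg_smul, neg_neg]
    · exfalso
      apply h (P.reflectionPerm j j) i
      rw [hni, smul_neg, ← h1, neg_smul, neg_neg, one_smul]
    · exfalso
      apply h j i
      rw [← h1, one_smul]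
    · left
      exact hinj _ _ h1
    · exfalso
      apply h i j
      apply hinj
      rw [← h1, smul_smul]; norm_num

end Reduced

section Equiv

variable {ι ι' R M N M' N' : Type*} [CommRing R] [AddCommGroup M] [Module R M] [AddCommGroup N] [Module R N]
  [AddCommGroup M'] [Module R M'] [AddCommGroup N'] [Module R N']
  {P : RootPairing ι R M N} {Q : RootPairing ι' R M' N'} (e : RootPairing.Equiv P Q)

theorem weightMap_root (i : ι) : e.weightMap (P.root i) = Q.root (e.indexEquiv i) :=
  congr_fun e.root_weightMap i

theorem coweightMap_coroot (i : ι) : e.coweightMap (Q.coroot (e.indexEquiv i)) = P.coroot i := by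
  have := congr_fun e.coroot_coweightMap (e.indexEquiv i)
  simpa using this

include e in
theorem isReduced_of_equiv [Q.IsReduced] : P.IsReduced where
  eq_or_eq_neg i j h := by
    have h1 : ¬ LinearIndependent R ![Q.root (e.indexEquiv i), Q.root (e.indexEquiv j)] := by
      intro h2
      apply h
      rw [LinearIndependent.pair_iff] at h2 ⊢
      intro s t hst
      apply h2 s t
      have h3 := congrArg e.weightMap hst
      rwa [map_add, map_smul, map_smul, map_zero, weightMap_root, weightMap_root] at h3
    rcases RootPairing.IsReduced.eq_or_eq_neg (P := Q) _ _ h1 with h2 | h2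
    · left; exact e.bijective_weightMap.1 (by rw [weightMap_root, weightMap_root, h2])
    · right; exact e.bijective_weightMap.1 (by rw [map_neg, weightMap_root, weightMap_root, h2])

theorem closure_weightMap {s : Set ι'} {x : M} (hx : e.weightMap x ∈ AddSubmonoid.closure (Q.root '' s)) :
    x ∈ AddSubmonoid.closure (P.root '' (e.indexEquiv.symm '' s)) := by
  have h1 : ∀ z ∈ AddSubmonoid.closure (Q.root '' s), ∀ x, e.weightMap x = z →
      x ∈ AddSubmonoid.closure (P.root '' (e.indexEquiv.symm '' s)) := by
    intro z hz
    induction hz using AddSubmonoid.closure_induction with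
    | mem z hz =>
      obtain ⟨i, hi, rfl⟩ := hz
      intro x hx
      apply AddSubmonoid.subset_closure
      refine ⟨e.indexEquiv.symm i, ⟨i, hi, rfl⟩, ?_⟩
      apply e.bijective_weightMap.1
      rw [hx, weightMap_root, Equiv.apply_symm_apply]
    | zero =>
      intro x hx
      rw [e.bijective_weightMap.1 (hx.trans (map_zero _).symm)]
      exact zero_mem _
    | add y z _ _ hy hz =>
      intro x hx
      obtain ⟨y', rfl⟩ := e.bijective_weightMap.2 y
      obtain ⟨z', rfl⟩ := e.bijective_weightMap.2 z
      rw [e.bijective_weightMap.1 (hx.trans (map_add _ _ _).symm)]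
      exact add_mem (hy _ rfl) (hz _ rfl)
  exact h1 _ hx x rfl

theorem closure_coweightMap {s : Set ι'} {y : N'} (hy : y ∈ AddSubmonoid.closure (Q.coroot '' s)) :
    e.coweightMap y ∈ AddSubmonoid.closure (P.coroot '' (e.indexEquiv.symm '' s)) := by
  induction hy using AddSubmonoid.closure_induction with
  | mem z hz =>
    obtain ⟨i, hi, rfl⟩ := hz
    apply AddSubmonoid.subset_closure
    refine ⟨e.indexEquiv.symm i, ⟨i, hi, rfl⟩, ?_⟩
    rw [← coweightMap_coroot e, Equiv.apply_symm_apply]
  | zero =>
    rw [map_zero]
    exact zero_mem _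
  | add y z _ _ hy hz =>
    rw [map_add]
    exact add_mem hy hz

/-- transport of a base along an isomorphism of root pairings -/
def comapBase (b : Q.Base) : P.Base where
  support := b.support.map e.indexEquiv.symm.toEmbedding
  linearIndepOn_root := by
    have h2 : ((b.support.map e.indexEquiv.symm.toEmbedding : Finset ι) : Set ι) = e.indexEquiv.symm '' b.support := by
      simp
    rw [h2]
    refine LinearIndepOn.of_comp e.weightMap ?_
    apply LinearIndepOn.image_of_comp
    have h1 : (e.weightMap ∘ P.root) ∘ e.indexEquiv.symm = Q.root := by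
      ext i; simp [weightMap_root]
    rw [h1]
    exact b.linearIndepOn_root
  linearIndepOn_coroot := by
    have h2 : ((b.support.map e.indexEquiv.symm.toEmbedding : Finset ι) : Set ι) = e.indexEquiv.symm '' b.support := by
      simp
    rw [h2]
    apply LinearIndepOn.image_of_comp
    have h1 : P.coroot ∘ e.indexEquiv.symm = e.coweightMap ∘ Q.coroot := by
      ext i; simp [← coweightMap_coroot e]
    rw [h1]
    exact b.linearIndepOn_coroot.map_injOn e.coweightMap e.bijective_coweightMap.1.injOn
  root_mem_or_neg_mem i := by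
    have h2 : ((b.support.map e.indexEquiv.symm.toEmbedding : Finset ι) : Set ι) = e.indexEquiv.symm '' b.support := by
      simp
    rw [h2]
    rcases b.root_mem_or_neg_mem (e.indexEquiv i) with h | h
    · left; apply closure_weightMap; rwa [weightMap_root]
    · right; apply closure_weightMap; rwa [map_neg, weightMap_root]
  coroot_mem_or_neg_mem i := by
    have h2 : ((b.support.map e.indexEquiv.symm.toEmbedding : Finset ι) : Set ι) = e.indexEquiv.symm '' b.support := by
      simp
    rw [h2]
    rcases b.coroot_mem_or_neg_mem (e.indexEquiv i) with h | h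
    · left; rw [← coweightMap_coroot e]; exact closure_coweightMap e h
    · right; rw [← coweightMap_coroot e, ← map_neg]; exact closure_coweightMap e h

theorem mem_comapBase_support (b : Q.Base) (i : ι) : i ∈ (comapBase e b).support ↔ e.indexEquiv i ∈ b.support := by
  simp [comapBase]

end Equiv

end Groth.Agent.Sga3B.BaseZ
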