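import Groth.Prelude.Def_Red2
import Groth.Agent.Sga3B.AlgBc2
import Groth.Agent.Sga3B.BaseZ

/-!
# Transport of splittings and pinnings along isomorphisms of group schemes
-/

set_option autoImplicit false
open CategoryTheory MonoidalCategory CartesianMonoidalCategory MonObj GrpObj AlgebraicGeometry
universe u

namespace Groth.Agent.Sga3B.SplitIso848

open Groth.Agent.Sga3B Groth.Agent.Sga3B.RedIso

variable {S : Scheme.{u}} {G G' : Over S} [GrpObj G] [GrpObj G']

/-- Transport of a splitting along an isomorphism of group schemes. -/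
noncomputable def splitOfIso (e : Grp.mk G ≅ Grp.mk G') (D : Red.SplitRed G) : Red.SplitRed G' where
  T := D.T
  i := D.i ≫ (und e).hom
  M := D.M
  idx := D.idx
  P := D.P
  pairing_eq := D.pairing_eq
  u a := D.u a ≫ (und e).hom
  reductive := AlgBc.isReductive_of_iso e D.reductive
  maximalTorus := AlgBc.isMaximalTorus_of_arrow (Iso.refl _) e (by
    rfl) D.maximalTorus
  split := D.split
  rootHom a := by
    obtain ⟨h1, h2, h3⟩ := D.rootHom a
    refine ⟨inferInstance, ?_, fun X t x => ?_⟩
    · rw [Over.comp_left]
      infer_instance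
    · obtain ⟨y, hy, hy'⟩ := h3 X t x
      refine ⟨y, ?_, hy'⟩
      have := congrArg (fun z => z ≫ (und e).hom) hy
      simpa only [Category.assoc, MonObj.comp_mul, GrpObj.comp_inv, mul_comp, inv_comp] using this
  refl a := by
    obtain ⟨n, hn⟩ := D.refl a
    refine ⟨n ≫ (und e).hom, fun X t => ?_⟩
    have := congrArg (fun z => z ≫ (und e).hom) (hn X t)
    simpa only [Category.assoc, mul_comp, inv_comp] using this
  dim_fibre s := by
    rw [← D.dim_fibre s]
    let ε : (Red.geomFibre s G).left ≅ (Red.geomFibre s G').left :=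
      (Over.forget _).mapIso ((Over.pullback (Red.geomPt s)).mapIso (und e))
    exact (IsHomeomorph.topologicalKrullDim_eq _ (Scheme.homeoOfIso ε).isHomeomorph).symm

/-- Transport of a pinning along an isomorphism of group schemes. -/
noncomputable def pinOfIso (e : Grp.mk G ≅ Grp.mk G') (D : Red.Pinning G) : Red.Pinning G' where
  toSplitRed := splitOfIso e D.toSplitRed
  base := D.base

@[simp] lemma splitOfIso_P (e : Grp.mk G ≅ Grp.mk G') (D : Red.SplitRed G) : (splitOfIso e D).P = D.P := rfl

/-- A splitting with a reduced root datum can be completed to a pinning. -/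
theorem nonempty_pinning (D : Red.SplitRed G) (h : D.P.IsReduced) :
    ∃ D' : Red.Pinning G, D'.toSplitRed = D := by
  obtain ⟨b⟩ := BaseZ.nonempty_base D.P
  exact ⟨{ toSplitRed := D, base := b }, rfl⟩

end Groth.Agent.Sga3B.SplitIso848
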