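import Groth.Agent.Sga3B.BcPts
import Groth.Agent.Sga3B.BcIso
import Groth.Prelude.Def_AutFam

/-!
Dictionary: families of isomorphisms `G ⊗ T ⟶ H` parametrised by `T` (`AutFam.IsIsoFamily`)
versus isomorphisms of group schemes `Grp.mk (bc T.hom G) ≅ Grp.mk (bc T.hom H)`.
-/

set_option autoImplicit false
open CategoryTheory MonoidalCategory CartesianMonoidalCategory MonObj GrpObj AlgebraicGeometry
universe u

namespace Groth.Agent.Sga3B.IsoFam
open Groth.Agent.Sga3B.BcPts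

/-- A morphism of group objects multiplicative on points is a homomorphism. -/
theorem isMonHom_of_mul {𝒞 : Type*} [Category 𝒞] [CartesianMonoidalCategory 𝒞] {G H : 𝒞} [GrpObj G] [GrpObj H] (f : G ⟶ H)
    (h : ∀ (T : 𝒞) (x y : T ⟶ G), (x * y) ≫ f = (x ≫ f) * (y ≫ f)) : IsMonHom f where
  one_hom := by
    have h1 := h (𝟙_ _) 1 1
    rw [_root_.mul_one] at h1
    rw [MonObj.one_eq_one, MonObj.one_eq_one]
    exact (mul_eq_left.mp h1.symm)
  mul_hom := by
    have h1 := h (G ⊗ G) (fst _ _) (snd _ _)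
    rw [← MonObj.mul_eq_mul] at h1
    rw [h1, Hom.mul_def]
    congr 1
    ext <;> simp

variable {S : Scheme.{u}} {G H : Over S}

section unfam

/-- the structure map of an object over `T`, seen over `S`. -/
noncomputable def st {T : Over S} (X : Over T.left) : (Over.map T.hom).obj X ⟶ T := Over.homMk X.hom

lemma st_comp {T : Over S} {X X' : Over T.left} (h : X' ⟶ X) : (Over.map T.hom).map h ≫ st X = st X' := by
  ext1
  simp [st]

/-- The morphism of base changes attached to a family. -/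
noncomputable def unfam {T : Over S} (φ : G ⊗ T ⟶ H) : Red.bc T.hom G ⟶ Red.bc T.hom H :=
  bcEquiv T.hom _ H (lift ((bcEquiv T.hom _ G).symm (𝟙 _)) (st _) ≫ φ)

lemma comp_unfam {T : Over S} (φ : G ⊗ T ⟶ H) {X : Over T.left} (p : X ⟶ Red.bc T.hom G) :
    p ≫ unfam φ = bcEquiv T.hom _ H (lift ((bcEquiv T.hom _ G).symm p) (st X) ≫ φ) := by
  rw [unfam, ← comp_bcEquiv, ← Category.assoc, comp_lift, ← comp_bcEquiv_symm, Category.comp_id,
    st_comp]

lemma isMonHom_unfam [GrpObj G] [GrpObj H] {T : Over S} {φ : G ⊗ T ⟶ H}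
    (h : AutFam.IsHomFamily G H φ) : IsMonHom (unfam φ) :=
  isMonHom_of_mul _ fun X p q => by
    rw [comp_unfam, comp_unfam, comp_unfam, ← bcEquiv_mul, ← h]
    congr 3
    exact (bcMulEquiv T.hom _ G).symm.map_mul _ _

lemma unfam_comp_eq_id {T : Over S} {φ : G ⊗ T ⟶ H} {ψ : H ⊗ T ⟶ G}
    (h : ∀ (X : Over S) (g : X ⟶ G) (t : X ⟶ T), lift (lift g t ≫ φ) t ≫ ψ = g) :
    unfam φ ≫ unfam ψ = 𝟙 _ := by
  rw [comp_unfam]
  apply (bcEquiv T.hom _ G).symm.injective
  rw [Equiv.symm_apply_apply, unfam, Equiv.symm_apply_apply]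
  exact h _ _ _

/-- The group isomorphism attached to a family of isomorphisms. -/
theorem exists_iso_of_isIsoFamily [GrpObj G] [GrpObj H] {T : Over S} {φ : G ⊗ T ⟶ H}
    (h : AutFam.IsIsoFamily G H φ) :
    ∃ e : Grp.mk (Red.bc T.hom G) ≅ Grp.mk (Red.bc T.hom H), e.hom.hom.hom = unfam φ := by
  obtain ⟨h1, ψ, h2, h3⟩ := h
  have := isMonHom_unfam h1
  let e : Red.bc T.hom G ≅ Red.bc T.hom H :=
    ⟨unfam φ, unfam ψ, unfam_comp_eq_id h2, unfam_comp_eq_id h3⟩
  have : IsMonHom e.hom := ‹IsMonHom (unfam φ)›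
  exact ⟨Grp.mkIso' e, rfl⟩

end unfam

section fam

variable [GrpObj G] [GrpObj H] {S' : Scheme.{u}} {f : S' ⟶ S}

theorem isHomFamily_fam (φ : Red.bc f G ⟶ Red.bc f H) [IsMonHom φ] :
    AutFam.IsHomFamily G H (fam φ) := by
  intro X g₁ g₂ t
  rw [lift_fam, lift_fam, lift_fam, ev_mul]

theorem isIsoFamily_fam (e : Grp.mk (Red.bc f G) ≅ Grp.mk (Red.bc f H)) :
    AutFam.IsIsoFamily G H (fam e.hom.hom.hom) := by
  refine ⟨isHomFamily_fam _, fam e.inv.hom.hom, ?_, ?_⟩
  · intro X g t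
    rw [lift_fam, lift_fam, ev_comp]
    have : e.hom.hom.hom ≫ e.inv.hom.hom = 𝟙 _ := congrArg (fun k => k.hom.hom) e.hom_inv_id
    rw [this]
    exact ev_id g t
  · intro X g t
    rw [lift_fam, lift_fam, ev_comp]
    have : e.inv.hom.hom ≫ e.hom.hom.hom = 𝟙 _ := congrArg (fun k => k.hom.hom) e.inv_hom_id
    rw [this]
    exact ev_id g t

end fam

end Groth.Agent.Sga3B.IsoFam

namespace Groth.Agent.Sga3B.IsoFam

variable {S : Scheme.{u}} {G H : Over S} [GrpObj G] [GrpObj H]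

theorem isHomFamily_pull {T T' : Over S} {φ : G ⊗ T ⟶ H} (h : AutFam.IsHomFamily G H φ) (a : T' ⟶ T) :
    AutFam.IsHomFamily G H ((G ◁ a) ≫ φ) := by
  intro X g₁ g₂ t
  simp only [← Category.assoc, lift_whiskerLeft]
  exact h X g₁ g₂ (t ≫ a)

theorem isIsoFamily_pull {T T' : Over S} {φ : G ⊗ T ⟶ H} (h : AutFam.IsIsoFamily G H φ) (a : T' ⟶ T) :
    AutFam.IsIsoFamily G H ((G ◁ a) ≫ φ) := by
  obtain ⟨h1, ψ, h2, h3⟩ := h
  refine ⟨isHomFamily_pull h1 a, (H ◁ a) ≫ ψ, ?_, ?_⟩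
  · intro X g t
    simp only [← Category.assoc, lift_whiskerLeft]
    exact h2 X g (t ≫ a)
  · intro X g t
    simp only [← Category.assoc, lift_whiskerLeft]
    exact h3 X g (t ≫ a)

/-- A family of isomorphisms over `Over.mk f` gives an isomorphism of base changes along `f`. -/
theorem nonempty_iso_of_family {S' : Scheme.{u}} (f : S' ⟶ S) {φ : G ⊗ Over.mk f ⟶ H}
    (h : AutFam.IsIsoFamily G H φ) : Nonempty (Grp.mk (Red.bc f G) ≅ Grp.mk (Red.bc f H)) := by
  obtain ⟨e, -⟩ := exists_iso_of_isIsoFamily (T := Over.mk f) h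
  exact ⟨e⟩

/-- A point of the representing object over `f` gives an isomorphism of base changes along `f`. -/
theorem nonempty_iso_of_point {A : Over S} {υ : G ⊗ A ⟶ H} (h : AutFam.RepresentsIsom G H A υ)
    {S' : Scheme.{u}} (f : S' ⟶ S) (a : S' ⟶ A.left) (ha : a ≫ A.hom = f) :
    Nonempty (Grp.mk (Red.bc f G) ≅ Grp.mk (Red.bc f H)) :=
  nonempty_iso_of_family f (isIsoFamily_pull h.1 (Over.homMk a ha))

/-- An isomorphism of base changes along `f` gives a point of the representing object. -/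
theorem exists_point_of_iso {A : Over S} {υ : G ⊗ A ⟶ H} (h : AutFam.RepresentsIsom G H A υ)
    {S' : Scheme.{u}} (f : S' ⟶ S) (e : Nonempty (Grp.mk (Red.bc f G) ≅ Grp.mk (Red.bc f H))) :
    ∃ a : S' ⟶ A.left, a ≫ A.hom = f := by
  obtain ⟨e⟩ := e
  obtain ⟨a, -, -⟩ := h.2 _ _ (isIsoFamily_fam e)
  exact ⟨a.left, Over.w a⟩

end Groth.Agent.Sga3B.IsoFam

namespace Groth.Agent.Sga3B.IsoFam
open Limits

variable {S : Scheme.{u}}

theorem range_geomPt (s : S) : Set.range (Red.geomPt s) = {s} := by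
  apply Set.eq_singleton_iff_nonempty_unique_mem.mpr
  refine ⟨?_, ?_⟩
  · obtain ⟨x⟩ : Nonempty (Spec (CommRingCat.of (AlgebraicClosure (S.residueField s)))) := inferInstance
    exact ⟨_, x, rfl⟩
  · rintro _ ⟨x, rfl⟩
    have : (Red.geomPt s) x ∈ Set.range (S.fromSpecResidueField s) := by
      rw [Scheme.Hom.comp_apply]
      exact ⟨_, rfl⟩
    rwa [Scheme.range_fromSpecResidueField] at this

/-- Fibres are connected if the geometric fibres are. -/
theorem isConnected_fibre (G : Over S) (s : S) (h : ConnectedSpace (Red.geomFibre s G).left) :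
    _root_.IsConnected (G.hom.base ⁻¹' {s}) := by
  have h1 : Set.range (pullback.fst G.hom (Red.geomPt s)) = G.hom.base ⁻¹' {s} := by
    rw [Scheme.Pullback.range_fst, range_geomPt]
  rw [← h1]
  have : ConnectedSpace ↥(pullback G.hom (Red.geomPt s)) := h
  exact isConnected_range (pullback.fst G.hom (Red.geomPt s)).continuous

theorem isConnected_fibre_of_isReductive {G : Over S} [GrpObj G] (hG : Red.IsReductive G) (s : S) :
    _root_.IsConnected (G.hom.base ⁻¹' {s}) :=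
  isConnected_fibre G s (hG.2.2 s).2.2.1

end Groth.Agent.Sga3B.IsoFam
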