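import Groth.Agent.Sga3B.RootBC136
import Groth.Agent.Sga3B.DSAff
import Groth.Agent.Sga3B.TorusBc
import Groth.Agent.Sga3B.RG.BrHc

/-!
# The geometric fibres of a reductive group with a split maximal torus in terms of points
-/

set_option autoImplicit false

universe u

open CategoryTheory MonoidalCategory CartesianMonoidalCategory MonObj GrpObj AlgebraicGeometry
open Groth.Agent.Books.AffBridge Groth.Agent.Books.AffBridge2
open TensorProduct Limits

namespace Groth.Agent.Sga3B.RootBridge989

noncomputable section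

section bc

variable {R : Type u} [CommRing R] (K : Type u) [CommRing K] [Algebra R K]

/-- The structure map. -/
abbrev sm (R K : Type u) [CommRing R] [CommRing K] [Algebra R K] :
    Spec (CommRingCat.of K) ⟶ Spec (CommRingCat.of R) :=
  Spec.map (CommRingCat.ofHom (algebraMap R K))

/-- Base change of `Spec A`. -/
def bcHom (A : Type u) [CommRing A] [HopfAlgebra R A] :
    Red.bc (sm R K) (SpecOver R A) ⟶ SpecOver K (K ⊗[R] A) :=
  ((pullbackSymmetry .. ≪≫ pullbackSpecIso' R K A).hom.asOver (Spec (.of K)))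

instance (A : Type u) [CommRing A] [HopfAlgebra R A] : IsMonHom (bcHom K A (R := R)) :=
  inferInstanceAs (IsMonHom
    ((pullbackSymmetry .. ≪≫ pullbackSpecIso' R K A).hom.asOver (Spec (.of K))))

instance (A : Type u) [CommRing A] [HopfAlgebra R A] : IsIso (bcHom K A (R := R)) := by
  have h1 : IsIso (bcHom K A (R := R)).left := by
    change IsIso ((pullbackSymmetry .. ≪≫ pullbackSpecIso' R K A).hom)
    infer_instance
  have : IsIso ((Over.forget _).map (bcHom K A (R := R))) := h1
  exact isIso_of_reflects_iso _ (Over.forget _)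

/-- Base change of `Spec A`, as an isomorphism of groups. -/
def bcIso (A : Type u) [CommRing A] [HopfAlgebra R A] :
    Red.bc (sm R K) (SpecOver R A) ≅ SpecOver K (K ⊗[R] A) := asIso (bcHom K A)

instance (A : Type u) [CommRing A] [HopfAlgebra R A] : IsMonHom (bcIso K A (R := R)).hom :=
  inferInstanceAs (IsMonHom (bcHom K A (R := R)))

variable (R) in
lemma hom_ext_aux {A : Type u} [CommRing A] [Algebra R A] {Y : Scheme.{u}}
    {u v : Y ⟶ Spec (CommRingCat.of (K ⊗[R] A))}
    (h1 : u ≫ Spec.map (CommRingCat.ofHom (algebraMap K (K ⊗[R] A))) =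
      v ≫ Spec.map (CommRingCat.ofHom (algebraMap K (K ⊗[R] A))))
    (h2 : u ≫ Spec.map (CommRingCat.ofHom
        (Algebra.TensorProduct.includeRight : A →ₐ[R] K ⊗[R] A).toRingHom) =
      v ≫ Spec.map (CommRingCat.ofHom
        (Algebra.TensorProduct.includeRight : A →ₐ[R] K ⊗[R] A).toRingHom)) : u = v := by
  rw [← cancel_mono (pullbackSpecIso R K A).inv]
  apply pullback.hom_ext
  · rw [Category.assoc, Category.assoc, pullbackSpecIso_inv_fst]
    exact h1
  · rw [Category.assoc, Category.assoc, pullbackSpecIso_inv_snd]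
    exact h2

variable (R) in
/-- The projection `Spec (K ⊗ A) ⟶ Spec A`. -/
def prA (A : Type u) [CommRing A] [HopfAlgebra R A] :
    (SpecOver K (K ⊗[R] A)).left ⟶ (SpecOver R A).left :=
  Spec.map (CommRingCat.ofHom (Algebra.TensorProduct.includeRight : A →ₐ[R] K ⊗[R] A).toRingHom)

/-- The projection of a base change. -/
def prBc {S S' : Scheme.{u}} (g : S' ⟶ S) (X : Over S) : (Red.bc g X).left ⟶ X.left :=
  pullback.fst X.hom g

lemma map_prBc {S S' : Scheme.{u}} (g : S' ⟶ S) {X Y : Over S} (f : X ⟶ Y) :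
    ((Over.pullback g).map f).left ≫ prBc g Y = prBc g X ≫ f.left :=
  pullback.lift_fst _ _ _

/-- Morphisms to `Spec (K ⊗ A)` over `K` are determined by their components. -/
lemma hom_ext {A : Type u} [CommRing A] [HopfAlgebra R A] {X : Over (Spec (CommRingCat.of K))}
    {u v : X ⟶ SpecOver K (K ⊗[R] A)} (h : u.left ≫ prA R K A = v.left ≫ prA R K A) : u = v := by
  apply Over.OverMorphism.ext
  exact hom_ext_aux R K ((Over.w u).trans (Over.w v).symm) h

lemma bcIso_left (A : Type u) [CommRing A] [HopfAlgebra R A] :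
    (bcIso K A (R := R)).hom.left ≫ prA R K A = prBc (sm R K) (SpecOver R A) := by
  have h1 : (pullbackSpecIso' R K A).hom ≫ Spec.map (CommRingCat.ofHom
      (Algebra.TensorProduct.includeRight : A →ₐ[R] K ⊗[R] A).toRingHom) = pullback.snd _ _ :=
    pullbackSpecIso_hom_snd R K A
  change (pullbackSymmetry .. ≪≫ pullbackSpecIso' R K A).hom ≫ Spec.map (CommRingCat.ofHom
      (Algebra.TensorProduct.includeRight : A →ₐ[R] K ⊗[R] A).toRingHom) = _
  rw [Iso.trans_hom, Category.assoc, h1]
  exact pullbackSymmetry_hom_comp_snd _ _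

/-- Naturality of the projections. -/
lemma specMap_prA {A B : Type u} [CommRing A] [HopfAlgebra R A] [CommRing B] [HopfAlgebra R B]
    (φ : A →ₐc[R] B) :
    (specMap K (Sga3A.BCIso.mapBialg K φ : K ⊗[R] A →ₐ[K] K ⊗[R] B)).left ≫ prA R K A =
      prA R K B ≫ (specMap R (φ : A →ₐ[R] B)).left := by
  refine (Spec.map_comp _ _).symm.trans (Eq.trans ?_ (Spec.map_comp _ _))
  rfl

/-- Naturality of the base change isomorphism. -/
lemma bcIso_naturality {A B : Type u} [CommRing A] [HopfAlgebra R A] [CommRing B] [HopfAlgebra R B]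
    (φ : A →ₐc[R] B) :
    (Over.pullback (sm R K)).map (specMap R (φ : A →ₐ[R] B)) ≫ (bcIso K A).hom =
      (bcIso K B).hom ≫ specMap K (Sga3A.BCIso.mapBialg K φ : K ⊗[R] A →ₐ[K] K ⊗[R] B) := by
  apply hom_ext
  rw [Over.comp_left, Category.assoc, bcIso_left, map_prBc, Over.comp_left, Category.assoc,
    specMap_prA, ← Category.assoc, bcIso_left]

end bc

section field

open RG RG.BrPts RG.BrDiag RG.BrTorus RG.BrRed2 RG.BrMax DSAff AffPts

variable {R : Type u} [CommRing R] (K : Type u) [Field K] [Algebra R K]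
  {G : Over (Spec (CommRingCat.of R))} [GrpObj G]
  {A : Type u} [CommRing A] [HopfAlgebra R A]

/-- The base change of a presentation of `G`. -/
def eK (e : G ≅ SpecOver R A) : Red.bc (sm R K) G ≅ SpecOver K (K ⊗[R] A) :=
  (Over.pullback (sm R K)).mapIso e ≪≫ bcIso K A

instance (e : G ≅ SpecOver R A) [IsMonHom e.hom] : IsMonHom (eK K e).hom := by
  have h1 : IsMonHom ((Over.pullback (sm R K)).map e.hom) := inferInstance
  exact inferInstanceAs (IsMonHom ((Over.pullback (sm R K)).map e.hom ≫ (bcIso K A).hom))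

variable [IsAlgClosed K]

/-- **(1)** Reductive geometric fibres in terms of points. -/
theorem isRedPt_bc (e : G ≅ SpecOver R A) [IsMonHom e.hom]
    (h : Red.IsReductiveOver K (Red.bc (sm R K) G)) :
    IsDomain (K ⊗[R] A) ∧ Algebra.FiniteType K (K ⊗[R] A) ∧ IsRedPt K (K ⊗[R] A) := by
  have h' := isReductiveOver_of_iso (eK K e) h
  have hsm : Smooth (SpecOver K (K ⊗[R] A)).hom := h'.2.1
  have hft : Algebra.FiniteType K (K ⊗[R] A) :=
    (locallyOfFiniteType_specOver_iff K _).1 inferInstance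
  obtain ⟨h1, h2⟩ := isReductiveOver_iff.1 h'
  exact ⟨h1, hft, h2⟩

variable {M : Type} [AddCommGroup M] {T : Over (Spec (CommRingCat.of R))} [GrpObj T]

/-- The presentation of `T`. -/
def sig (sp : Grp.mk T ≅ Grp.mk (Red.DS (Spec (CommRingCat.of R)) M)) :
    T ≅ SpecOver R (MonoidAlgebra R (Multiplicative M)) where
  hom := sp.hom.hom.hom ≫ dsTo R M
  inv := dsFrom R M ≫ sp.inv.hom.hom
  hom_inv_id := by
    have h1 : sp.hom.hom.hom ≫ sp.inv.hom.hom = 𝟙 _ := congrArg (fun f => f.hom.hom) sp.hom_inv_id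
    rw [Category.assoc, ← Category.assoc (dsTo R M), dsTo_dsFrom, Category.id_comp, h1]
  inv_hom_id := by
    have h1 : sp.inv.hom.hom ≫ sp.hom.hom.hom = 𝟙 _ := congrArg (fun f => f.hom.hom) sp.inv_hom_id
    rw [Category.assoc, ← Category.assoc sp.inv.hom.hom, h1, Category.id_comp, dsFrom_dsTo]

omit [IsAlgClosed K] in
variable (R M) in
/-- `Spec (K ⊗ R[M]) ≅ Spec K[M]`. -/
def scIso : SpecOver K (K ⊗[R] MonoidAlgebra R (Multiplicative M)) ≅
    SpecOver K (MonoidAlgebra K (Multiplicative M)) where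
  hom := specMap K (((Sga3A.BCIso.scalarBialg R K (Multiplicative M)).symm :
    MonoidAlgebra K (Multiplicative M) →ₐc[K] K ⊗[R] MonoidAlgebra R (Multiplicative M)) :
      MonoidAlgebra K (Multiplicative M) →ₐ[K] K ⊗[R] MonoidAlgebra R (Multiplicative M))
  inv := specMap K ((Sga3A.BCIso.scalarBialg R K (Multiplicative M) :
    K ⊗[R] MonoidAlgebra R (Multiplicative M) →ₐc[K] MonoidAlgebra K (Multiplicative M)) :
      K ⊗[R] MonoidAlgebra R (Multiplicative M) →ₐ[K] MonoidAlgebra K (Multiplicative M))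
  hom_inv_id := by
    rw [← specMap_comp, ← specMap_id]
    congr 1
    refine AlgHom.ext fun x => ?_
    exact (Sga3A.BCIso.scalarBialg R K (Multiplicative M)).symm_apply_apply x
  inv_hom_id := by
    rw [← specMap_comp, ← specMap_id]
    congr 1
    refine AlgHom.ext fun x => ?_
    exact (Sga3A.BCIso.scalarBialg R K (Multiplicative M)).apply_symm_apply x

/-- The presentation of the base change of `T`. -/
def sigK (sp : Grp.mk T ≅ Grp.mk (Red.DS (Spec (CommRingCat.of R)) M)) :
    Red.bc (sm R K) T ≅ SpecOver K (MonoidAlgebra K (Multiplicative M)) :=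
  (Over.pullback (sm R K)).mapIso (sig sp) ≪≫ bcIso K _ ≪≫ scIso R K M

omit [IsAlgClosed K] [GrpObj G] in
/-- The base change of `i` in terms of `bcP`. -/
theorem map_i (i : T ⟶ G) (e : G ≅ SpecOver R A)
    (sp : Grp.mk T ≅ Grp.mk (Red.DS (Spec (CommRingCat.of R)) M))
    (p : A →ₐc[R] MonoidAlgebra R (Multiplicative M))
    (hp : i ≫ e.hom = (sig sp).hom ≫ specMap R (p : A →ₐ[R] MonoidAlgebra R (Multiplicative M))) :
    (sigK K sp).hom ≫ specMap K (RootBC136.bcP K p : K ⊗[R] A →ₐ[K] _) =
      (Over.pullback (sm R K)).map i ≫ (eK K e).hom := by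
  have h1 : (Over.pullback (sm R K)).map i ≫ (eK K e).hom =
      (Over.pullback (sm R K)).map (i ≫ e.hom) ≫ (bcIso K A).hom := by
    rw [Functor.map_comp, Category.assoc]
    rfl
  rw [h1, hp, Functor.map_comp, Category.assoc, bcIso_naturality]
  have h2 : (scIso R K M).hom ≫ specMap K (RootBC136.bcP K p : K ⊗[R] A →ₐ[K] _) =
      specMap K (Sga3A.BCIso.mapBialg K p : K ⊗[R] A →ₐ[K] _) := by
    change specMap K _ ≫ specMap K _ = _
    rw [← specMap_comp]
    congr 1
    refine AlgHom.ext fun x => ?_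
    exact (Sga3A.BCIso.scalarBialg R K (Multiplicative M)).symm_apply_apply _
  rw [← h2]
  simp only [sigK, Iso.trans_hom, Functor.mapIso_hom, Category.assoc]

omit [GrpObj G] in
lemma of_exists_pi (i : T ⟶ G) (e : G ≅ SpecOver R A)
    (sp : Grp.mk T ≅ Grp.mk (Red.DS (Spec (CommRingCat.of R)) M))
    (p : A →ₐc[R] MonoidAlgebra R (Multiplicative M))
    (hp : ∀ (X : Over (Spec (CommRingCat.of R))) (t : X ⟶ T),
      t ≫ i ≫ e.hom = affPt X ((chAlg (fnChar (t ≫ sp.hom.hom.hom))).comp (p : A →ₐ[R] _))) :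
    i ≫ e.hom = (sig sp).hom ≫ specMap R (p : A →ₐ[R] MonoidAlgebra R (Multiplicative M)) := by
  have h1 := hp T (𝟙 T)
  rw [Category.id_comp, Category.id_comp] at h1
  rw [h1]
  change _ = (sp.hom.hom.hom ≫ dsTo R M) ≫ _
  rw [comp_dsTo, affPt_specMap]

/-- **(2)** Maximal tori of the geometric fibres in terms of points. -/
theorem isMaxTorusSub_bc [Algebra.FiniteType K (K ⊗[R] A)] (i : T ⟶ G) (e : G ≅ SpecOver R A)
    [IsMonHom e.hom]
    (sp : Grp.mk T ≅ Grp.mk (Red.DS (Spec (CommRingCat.of R)) M))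
    (p : A →ₐc[R] MonoidAlgebra R (Multiplicative M))
    (hp : i ≫ e.hom = (sig sp).hom ≫ specMap R (p : A →ₐ[R] MonoidAlgebra R (Multiplicative M)))
    (hi : IsAbsMax ((Over.pullback (sm R K)).map i)) :
    Function.Surjective (RootBC136.bcP K p) ∧
      IsMaxTorusSub (Pt.map (RootBC136.bcP K p)).range := by
  have hkey := map_i K i e sp p hp
  obtain ⟨h1, h2, h3, h4⟩ := isAbsMax_comp_iso _ (eK K e) hi
  have hcl := isClosedImmersion_of_torus ((Over.pullback (sm R K)).map i ≫ (eK K e).hom) h3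
  have hsurj : Function.Surjective (RootBC136.bcP K p) := by
    have h5 : IsClosedImmersion (specMap K (RootBC136.bcP K p : K ⊗[R] A →ₐ[K]
        MonoidAlgebra K (Multiplicative M))).left := by
      have h6 : specMap K (RootBC136.bcP K p : K ⊗[R] A →ₐ[K] MonoidAlgebra K (Multiplicative M)) =
          (sigK K sp).inv ≫ (Over.pullback (sm R K)).map i ≫ (eK K e).hom := by
        rw [← hkey, Iso.inv_hom_id_assoc]
      rw [h6, Over.comp_left]
      have h7 : IsIso (sigK K sp).inv.left :=
        inferInstanceAs (IsIso ((Over.forget _).map (sigK K sp).inv))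
      infer_instance
    exact (isClosedImmersion_specMap_iff K _).1 h5
  refine ⟨hsurj, ?_⟩
  have h8 := ptsSub_eq_range ((Over.pullback (sm R K)).map i ≫ (eK K e).hom)
    (RootBC136.bcP K p) (sigK K sp) hkey
  rw [← h8]
  exact (isMaxTorusSub_iff _ h3).2 h4

end field

section main

open RG RG.BrPts RG.BrDiag RG.BrTorus RG.BrRed2 RG.BrMax DSAff AffPts

variable {R : Type u} [CommRing R] {G T : Over (Spec (CommRingCat.of R))} [GrpObj G] [GrpObj T]
  {A : Type u} [CommRing A] [HopfAlgebra R A] {M : Type} [AddCommGroup M]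

/-- The geometric fibre of a maximal torus is a maximal torus. -/
theorem isAbsMax_geomFibre {S : Scheme.{u}} {T G : Over S} [GrpObj T] [GrpObj G] (i : T ⟶ G)
    (h : Red.IsMaximalTorus i) (s : S) :
    IsAbsMax ((Over.pullback (Red.geomPt s)).map i) := by
  obtain ⟨h1, h2, h3, h4⟩ := h
  refine ⟨inferInstance, inferInstance, TorusBc.isTorus_bc _ h3, ?_⟩
  intro T' _ j _ _ f hT' hf
  exact h4 s T' j f hT' hf

/-- The algebra structure on the algebraic closure of the residue field at `s`. -/
@[reducible] def geomAlg (s : Spec (CommRingCat.of R)) :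
    Algebra R (AlgebraicClosure ((Spec (CommRingCat.of R)).residueField s)) :=
  (Spec.preimage (Red.geomPt s)).hom.toAlgebra

lemma geomPt_eq (s : Spec (CommRingCat.of R)) :
    letI := geomAlg s
    Red.geomPt s = sm R (AlgebraicClosure ((Spec (CommRingCat.of R)).residueField s)) :=
  (Spec.map_preimage _).symm

/-- **The geometric fibre at `s`** of a reductive group with a split maximal torus, in terms of
points. -/
theorem main (hG : Red.IsReductive G) (i : T ⟶ G) (hT : Red.IsMaximalTorus i)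
    (e : G ≅ SpecOver R A) [IsMonHom e.hom]
    (sp : Grp.mk T ≅ Grp.mk (Red.DS (Spec (CommRingCat.of R)) M))
    (p : A →ₐc[R] MonoidAlgebra R (Multiplicative M))
    (hp : ∀ (X : Over (Spec (CommRingCat.of R))) (t : X ⟶ T),
      t ≫ i ≫ e.hom = affPt X ((chAlg (fnChar (t ≫ sp.hom.hom.hom))).comp (p : A →ₐ[R] _)))
    (s : Spec (CommRingCat.of R))
    [Algebra R (AlgebraicClosure ((Spec (CommRingCat.of R)).residueField s))]
    (hs : Red.geomPt s = sm R (AlgebraicClosure ((Spec (CommRingCat.of R)).residueField s))) :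
    IsDomain (AlgebraicClosure ((Spec (CommRingCat.of R)).residueField s) ⊗[R] A) ∧
    Algebra.FiniteType (AlgebraicClosure ((Spec (CommRingCat.of R)).residueField s))
      (AlgebraicClosure ((Spec (CommRingCat.of R)).residueField s) ⊗[R] A) ∧
    IsRedPt (AlgebraicClosure ((Spec (CommRingCat.of R)).residueField s))
      (AlgebraicClosure ((Spec (CommRingCat.of R)).residueField s) ⊗[R] A) ∧
    Function.Surjective
      (RootBC136.bcP (AlgebraicClosure ((Spec (CommRingCat.of R)).residueField s)) p) ∧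
    IsMaxTorusSub
      (Pt.map (RootBC136.bcP (AlgebraicClosure ((Spec (CommRingCat.of R)).residueField s)) p)).range := by
  have h1 := hG.2.2 s
  have h2 := isAbsMax_geomFibre i hT s
  change Red.IsReductiveOver _ (Red.bc (Red.geomPt s) G) at h1
  rw [hs] at h1
  rw [hs] at h2
  obtain ⟨h3, h4, h5⟩ := isRedPt_bc _ e h1
  obtain ⟨h6, h7⟩ := isMaxTorusSub_bc _ i e sp p (of_exists_pi i e sp p hp) h2
  exact ⟨h3, h4, h5, h6, h7⟩

end main

end

end Groth.Agent.Sga3B.RootBridge989
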