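import Groth.Agent.Sga3B.RootCert
import Groth.Agent.Sga3A.BCIso

/-!
# Base change of a Hopf algebra with a homomorphism `D(M) → G`

`bcP S p : S ⊗[R] A →ₐc[S] S[M]` for `p : A →ₐc[R] R[M]`; the coactions and gradings of `S ⊗[R] A`
are obtained from those of `A` by base change.
-/

set_option autoImplicit false

open TensorProduct WithConv
open Groth.Agent.Books.DynBasic (mapPt mapPt_apply mapPt_injective)
open Groth.Agent.Sga3B.RootCoact Groth.Agent.Sga3B.RootOrb Groth.Agent.Sga3B.RootGr
open Groth.Agent.Sga3B.RootGa Groth.Agent.Sga3B.RootCert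

universe u

namespace Groth.Agent.Sga3B.RootBC136

variable {R : Type u} [CommRing R] (S : Type u) [CommRing S] [Algebra R S]
variable {A : Type u} [CommRing A] [HopfAlgebra R A]
variable {M : Type} [AddCommGroup M]

/-- Base change of `p : A →ₐc[R] R[M]`. -/
noncomputable def bcP (p : A →ₐc[R] MonoidAlgebra R (Multiplicative M)) :
    S ⊗[R] A →ₐc[S] MonoidAlgebra S (Multiplicative M) :=
  ((Sga3A.BCIso.scalarBialg R S (Multiplicative M) :
    S ⊗[R] MonoidAlgebra R (Multiplicative M) →ₐc[S] MonoidAlgebra S (Multiplicative M))).comp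
      (Sga3A.BCIso.mapBialg S p)

variable (p q : A →ₐc[R] MonoidAlgebra R (Multiplicative M))

lemma bcP_tmul (s : S) (a : A) :
    bcP S p (s ⊗ₜ a) = s • MonoidAlgebra.mapRingHom (Multiplicative M) (algebraMap R S) (p a) := by
  change Sga3A.BCIso.scalarBialg R S (Multiplicative M) (s ⊗ₜ[R] p a) = _
  generalize p a = f
  induction f using MonoidAlgebra.induction_linear with
  | zero => simp
  | add x y hx hy => rw [tmul_add, map_add, map_add, smul_add, hx, hy]
  | single m b =>
    rw [Sga3A.BCIso.scalarBialg_tmul_single, MonoidAlgebra.mapRingHom_single,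
      MonoidAlgebra.smul_single, smul_eq_mul]

lemma coeff_bcP (s : S) (a : A) (m : Multiplicative M) :
    (bcP S p (s ⊗ₜ a)).coeff m = s * algebraMap R S ((p a).coeff m) := by
  rw [bcP_tmul, MonoidAlgebra.coeff_smul, Finsupp.smul_apply, MonoidAlgebra.coeff_mapRingHom,
    smul_eq_mul]

lemma bcP_surjective (hp : Function.Surjective p) : Function.Surjective (bcP S p) := by
  intro f
  induction f using MonoidAlgebra.induction_linear with
  | zero => exact ⟨0, map_zero _⟩
  | add x y hx hy =>
    obtain ⟨a, rfl⟩ := hx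
    obtain ⟨b, rfl⟩ := hy
    exact ⟨a + b, map_add _ _ _⟩
  | single m s =>
    obtain ⟨a, ha⟩ := hp (MonoidAlgebra.single m 1)
    refine ⟨s ⊗ₜ a, ?_⟩
    rw [bcP_tmul, ha, MonoidAlgebra.mapRingHom_single, map_one, MonoidAlgebra.smul_single,
      smul_eq_mul, mul_one]

section Points

variable {C : Type u} [CommRing C] [Algebra R C] [Algebra S C] [IsScalarTower R S C]
variable {D : Type u} [CommRing D] [Algebra R D] [Algebra S D] [IsScalarTower R S D]

variable (R C) in
/-- restriction of points of `S ⊗[R] A` to `A` -/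
noncomputable def resPt : WithConv (S ⊗[R] A →ₐ[S] C) →* WithConv (A →ₐ[R] C) where
  toFun g := toConv ((g.ofConv.restrictScalars R).comp Algebra.TensorProduct.includeRight)
  map_one' := by
    apply WithConv.ofConv_injective
    apply AlgHom.ext
    intro a
    change (1 : WithConv (S ⊗[R] A →ₐ[S] C)).ofConv (1 ⊗ₜ a) = (1 : WithConv (A →ₐ[R] C)).ofConv a
    rw [AlgHom.convOne_def, AlgHom.convOne_def]
    change algebraMap S C (Coalgebra.counit (R := S) ((1 : S) ⊗ₜ[R] a)) =
      algebraMap R C (Coalgebra.counit (R := R) a)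
    rw [TensorProduct.counit_tmul, Bialgebra.counit_one, Algebra.smul_def, mul_one,
      ← IsScalarTower.algebraMap_apply]
  map_mul' g h := by
    apply WithConv.ofConv_injective
    apply AlgHom.ext
    intro a
    change (g * h).ofConv (1 ⊗ₜ a) = _
    rw [convMul_apply', convMul_apply', TensorProduct.comul_tmul]
    simp only [Bialgebra.comul_one, Algebra.TensorProduct.one_def]
    generalize Coalgebra.comul (R := R) a = x
    induction x using TensorProduct.induction_on with
    | zero => simp
    | add x y hx hy => rw [tmul_add, map_add, map_add, map_add, map_add, map_add, hx, hy]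
    | tmul x y =>
      rw [TensorProduct.AlgebraTensorModule.tensorTensorTensorComm_tmul,
        Algebra.TensorProduct.map_tmul, Algebra.TensorProduct.map_tmul,
        Algebra.TensorProduct.lmul'_apply_tmul, Algebra.TensorProduct.lmul'_apply_tmul]
      rfl

lemma resPt_apply (g : WithConv (S ⊗[R] A →ₐ[S] C)) (a : A) :
    (resPt R S C g).ofConv a = g.ofConv (1 ⊗ₜ a) := rfl

lemma resPt_injective : Function.Injective (resPt (A := A) R S C) := by
  intro g h hgh
  apply WithConv.ofConv_injective
  apply Algebra.TensorProduct.ext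
  · ext
  · apply AlgHom.ext
    intro a
    exact DFunLike.congr_fun (congrArg WithConv.ofConv hgh) a

lemma resPt_surjective : Function.Surjective (resPt (A := A) R S C) := by
  intro g
  have hc : ∀ (x : S) (y : A), Commute (Algebra.ofId S C x) (g.ofConv y) :=
    fun _ _ => Commute.all _ _
  refine ⟨toConv (Algebra.TensorProduct.lift (Algebra.ofId S C) g.ofConv hc), ?_⟩
  apply WithConv.ofConv_injective
  apply AlgHom.ext
  intro a
  rw [resPt_apply]
  have h := Algebra.TensorProduct.lift_tmul (Algebra.ofId S C) g.ofConv hc (1 : S) a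
  rw [map_one, one_mul] at h
  exact h

lemma resPt_mapPt (φ : C →ₐ[S] D) (g : WithConv (S ⊗[R] A →ₐ[S] C)) :
    resPt R S D (mapPt φ g) = mapPt (φ.restrictScalars R) (resPt R S C g) := rfl

lemma evT_bcP (t : Multiplicative M →* Cˣ) (s : S) (a : A) :
    evT S t (bcP S p (s ⊗ₜ a)) = s • evT R t (p a) := by
  rw [bcP_tmul, map_smul]
  congr 1
  generalize p a = f
  induction f using MonoidAlgebra.induction_linear with
  | zero => simp
  | add x y hx hy => rw [map_add, map_add, map_add, hx, hy]
  | single m b =>
    rw [MonoidAlgebra.mapRingHom_single, evT_single, evT_single, algebraMap_smul]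

lemma resPt_torPt (t : Multiplicative M →* Cˣ) :
    resPt R S C (torPt (bcP S p) t) = torPt p t := by
  apply WithConv.ofConv_injective
  apply AlgHom.ext
  intro a
  rw [resPt_apply, torPt_apply, evT_bcP, one_smul]
  rfl

lemma resPt_orb (t : Multiplicative M →* Cˣ) (g : WithConv (S ⊗[R] A →ₐ[S] C)) :
    resPt R S C (orb (bcP S p) (bcP S q) t g) = orb p q t (resPt R S C g) := by
  rw [orb, orb, map_mul, map_mul, map_inv, resPt_torPt, resPt_torPt]

end Points

/-- The graded pieces of the base change. -/
theorem pr_bc (s : S) (a : A) (m : M) :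
    pr (coact (bcP S p) (bcP S q)) m (s ⊗ₜ a) = s ⊗ₜ pr (coact p q) m a := by
  have key : ∀ a : A, pr (coact (bcP S p) (bcP S q)) m (1 ⊗ₜ a) = 1 ⊗ₜ pr (coact p q) m a := by
    intro a
    let B := S ⊗[R] A
    have h1 := coeff_orbU' (bcP S p) (bcP S q) (toConv (AlgHom.id S B)) (1 ⊗ₜ a) m
    have h2 := coeff_orbU' p q (resPt R S B (toConv (AlgHom.id S B))) a m
    have h3 : (orbU (bcP S p) (bcP S q) (toConv (AlgHom.id S B))).ofConv (1 ⊗ₜ a) =
        (orbU p q (resPt R S B (toConv (AlgHom.id S B)))).ofConv a := by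
      have h4 : resPt R S (MonoidAlgebra B (Multiplicative M))
          (orbU (bcP S p) (bcP S q) (toConv (AlgHom.id S B))) =
          orbU p q (resPt R S B (toConv (AlgHom.id S B))) := by
        rw [orbU, orbU, resPt_orb, resPt_mapPt]
        rfl
      exact DFunLike.congr_fun (congrArg WithConv.ofConv h4) a
    rw [h3, h2] at h1
    exact h1.symm
  have h : s ⊗ₜ[R] a = s • ((1 : S) ⊗ₜ[R] a) := by rw [smul_tmul', smul_eq_mul, mul_one]
  rw [h, map_smul, key, smul_tmul', smul_eq_mul, mul_one]

lemma tmul_mem_gr {m : M} {a : A} (ha : a ∈ gr (coact p q) m) (s : S) :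
    s ⊗ₜ a ∈ gr (coact (bcP S p) (bcP S q)) m := by
  rw [mem_gr_iff_pr, pr_bc, pr_of_mem_same _ ha]

/-- homogeneous elements of the base change are generated by homogeneous elements -/
theorem gr_bc (m : M) : gr (coact (bcP S p) (bcP S q)) m =
    Submodule.span S {x | ∃ a ∈ gr (coact p q) m, x = (1 : S) ⊗ₜ[R] a} := by
  apply le_antisymm
  · intro x hx
    rw [← pr_of_mem_same _ hx]
    clear hx
    induction x using TensorProduct.induction_on with
    | zero => rw [map_zero]; exact zero_mem _
    | add x y hx hy => rw [map_add]; exact add_mem hx hy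
    | tmul s a =>
      rw [pr_bc]
      have : s ⊗ₜ[R] pr (coact p q) m a = s • ((1 : S) ⊗ₜ[R] pr (coact p q) m a) := by
        rw [smul_tmul', smul_eq_mul, mul_one]
      rw [this]
      exact Submodule.smul_mem _ _ (Submodule.subset_span ⟨_, pr_mem_gr _ _ _, rfl⟩)
  · rw [Submodule.span_le]
    rintro _ ⟨a, ha, rfl⟩
    exact tmul_mem_gr S p q ha 1

lemma counit_tmul' (s : S) (a : A) :
    Coalgebra.counit (R := S) (s ⊗ₜ[R] a : S ⊗[R] A) =
      s * algebraMap R S (Coalgebra.counit (R := R) a) := by
  rw [TensorProduct.counit_tmul, Algebra.smul_def, mul_comm]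
  rfl

/-- The augmentation ideal of the base change. -/
theorem aug_bc : aug S (S ⊗[R] A) =
    (aug R A).map (Algebra.TensorProduct.includeRight : A →ₐ[R] S ⊗[R] A) := by
  apply le_antisymm
  · intro x hx
    have key : ∀ x : S ⊗[R] A, x - (Coalgebra.counit (R := S) x) ⊗ₜ[R] 1 ∈
        (aug R A).map (Algebra.TensorProduct.includeRight : A →ₐ[R] S ⊗[R] A) := by
      intro x
      induction x using TensorProduct.induction_on with
      | zero => simp
      | add x y hx hy =>
        have := add_mem hx hy
        rw [map_add, add_tmul]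
        convert this using 1
        abel
      | tmul s a =>
        have h1 : s ⊗ₜ[R] a - (Coalgebra.counit (R := S) (s ⊗ₜ[R] a : S ⊗[R] A)) ⊗ₜ[R] 1 =
            (s ⊗ₜ[R] 1) * (Algebra.TensorProduct.includeRight
              (a - algebraMap R A (Coalgebra.counit (R := R) a)) : S ⊗[R] A) := by
          rw [counit_tmul', Algebra.TensorProduct.includeRight_apply,
            Algebra.TensorProduct.tmul_mul_tmul, one_mul, mul_one, tmul_sub, sub_right_inj,
            Algebra.algebraMap_eq_smul_one, Algebra.algebraMap_eq_smul_one, tmul_smul,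
            mul_smul_comm, mul_one, smul_tmul']
        rw [h1]
        refine Ideal.mul_mem_left _ _ (Ideal.mem_map_of_mem _ ?_)
        rw [mem_aug, map_sub, Bialgebra.counit_algebraMap, sub_self]
    have h1 := key x
    rw [mem_aug] at hx
    rwa [hx, zero_tmul, sub_zero] at h1
  · rw [Ideal.map_le_iff_le_comap]
    intro a ha
    rw [Ideal.mem_comap, mem_aug, Algebra.TensorProduct.includeRight_apply, counit_tmul',
      mem_aug.1 ha, map_zero, mul_zero]

end Groth.Agent.Sga3B.RootBC136
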