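import Groth.Agent.Sga3B.DimWt879
import Groth.Agent.Books.AffBridge
import Groth.Prelude.Def_Red
import Mathlib.RingTheory.HopfAlgebra.TensorProduct
import Mathlib.RingTheory.Smooth.Basic
import Mathlib.AlgebraicGeometry.Morphisms.Smooth

/-!
# Dimension of the geometric fibres of a reductive group from the weights

* `ringKrullDim_eq_finrank`: `dim B = dim_K I / I ^ 2` for a smooth Hopf domain over a field.
* `topologicalKrullDim_geomFibre`: if all the geometric fibres have a split torus with
  scheme-theoretic centralizer equal to itself, one dimensional nonzero weight spaces and set of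
  nonzero weights `Φ`, the dimension of the geometric fibres is `rank M + #Φ`.
-/

set_option autoImplicit false

universe u

open TensorProduct CategoryTheory AlgebraicGeometry Limits
open Groth.Agent.Sga3B.RootCoact Groth.Agent.Sga3B.RootOrb Groth.Agent.Sga3B.RootGr
open Groth.Agent.Sga3B.RootGa Groth.Agent.Sga3B.RootCert Groth.Agent.Books.AffBridge

namespace Groth.Agent.Sga3B.DimRed879

/-- For a smooth Hopf algebra which is a domain over a field, the dimension is the dimension of
the cotangent space at the identity. -/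
theorem ringKrullDim_eq_finrank {K B : Type u} [Field K] [CommRing B] [HopfAlgebra K B]
    [Algebra.Smooth K B] [IsDomain B] :
    ringKrullDim B = Module.finrank K (aug K B).Cotangent := by
  obtain ⟨N, -, hN⟩ := Groth.Agent.Ega4B.DimFT.exists_dim K B
  have h1 := CellDim.finrank_cotangent (Bialgebra.counitAlgHom K B) N hN
  rw [hN]
  let _ : Algebra B K := (Bialgebra.counitAlgHom K B).toRingHom.toAlgebra
  have : IsScalarTower K B K :=
    IsScalarTower.of_algebraMap_eq fun r => ((Bialgebra.counitAlgHom K B).commutes r).symm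
  have hsurj : Function.Surjective (algebraMap B K) :=
    fun r => ⟨algebraMap K B r, (Bialgebra.counitAlgHom K B).commutes r⟩
  let k := KaehlerDifferential.kerCotangentToTensor K B K
  have hinj : Function.Injective k :=
    (Algebra.FormallySmooth.kerCotangentToTensor_injective_iff hsurj).mpr inferInstance
  have hs : Function.Surjective k := by
    rw [← LinearMap.range_eq_top, KaehlerDifferential.range_kerCotangentToTensor K B K hsurj, eq_top_iff]
    intro x _
    exact Subsingleton.elim _ _
  let e : (RingHom.ker (algebraMap B K)).Cotangent ≃ₗ[B] K ⊗[B] Ω[B⁄K] :=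
    LinearEquiv.ofBijective k ⟨hinj, hs⟩
  have h2 := (e.restrictScalars K).finrank_eq
  have h3 : Module.finrank K (aug K B).Cotangent = N := h2.trans h1
  rw [h3]

/-- The dimension of a smooth connected group over a field from the weights of a split maximal
torus. -/
theorem ringKrullDim_eq {K B : Type u} [Field K] [CommRing B] [HopfAlgebra K B]
    [Algebra.Smooth K B] [IsDomain B] {M : Type} [AddCommGroup M] [Module.Finite ℤ M] [Module.Free ℤ M]
    (q : B →ₐc[K] MonoidAlgebra K (Multiplicative M)) (hsurj : Function.Surjective q)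
    (hcent : ∀ y : B, q y = 0 → y ∈ JP q (⊥ : AddSubmonoid M))
    (hone : ∀ m : M, m ≠ 0 → ∀ x ∈ gr (conjCoact q) m, x ∉ aug K B ^ 2 →
      ∀ y ∈ gr (conjCoact q) m, ∃ r : K, y - r • x ∈ aug K B ^ 2)
    (Φ : Finset M) (hΦ : ∀ a, a ∈ Φ ↔ a ≠ 0 ∧ IsWt q a) :
    ringKrullDim B = ((Module.finrank ℤ M + Φ.card : ℕ) : WithBot ℕ∞) := by
  rw [ringKrullDim_eq_finrank (K := K), DimWt879.finrank_cotangent_eq q hsurj hcent hone Φ hΦ]

variable {R : Type u} [CommRing R] {A : Type u} [CommRing A] [HopfAlgebra R A]

/-- The base change of `Spec A` is the spectrum of `K ⊗ A`. -/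
noncomputable def bcIso {G : Over (Spec (CommRingCat.of R))} (e : G ≅ SpecOver R A)
    (K : Type u) [CommRing K] [Algebra R K] (g : Spec (CommRingCat.of K) ⟶ Spec (CommRingCat.of R))
    (hg : g = Spec.map (CommRingCat.ofHom (algebraMap R K))) :
    Red.bc g G ≅ (Over.mk (Spec.map (CommRingCat.ofHom (algebraMap K (K ⊗[R] A)))) :
        Over (Spec (CommRingCat.of K))) :=
  (Over.pullback _).mapIso e ≪≫
    Over.isoMk (pullback.congrHom rfl hg ≪≫ pullbackSymmetry _ _ ≪≫ pullbackSpecIso R K A) (by
      have h1 := pullbackSpecIso_hom_fst' R K A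
      change (_ ≫ _ ≫ (pullbackSpecIso R K A).hom) ≫ Spec.map _ = pullback.snd _ _
      rw [Category.assoc, Category.assoc]
      have h2 : (pullbackSymmetry (SpecOver R A).hom (Spec.map (CommRingCat.ofHom (algebraMap R K)))).hom ≫
          pullback.fst _ _ = pullback.snd _ _ := pullbackSymmetry_hom_comp_fst _ _
      have h3 : (pullback.congrHom rfl hg : pullback (SpecOver R A).hom g ≅ _).hom ≫ pullback.snd _ _ =
          pullback.snd _ _ := by
        rw [pullback.congrHom_hom, pullback.lift_snd, Category.comp_id]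
      exact ((congrArg (fun z => (pullback.congrHom rfl hg : pullback (SpecOver R A).hom g ≅ _).hom ≫
        (pullbackSymmetry (SpecOver R A).hom (Spec.map (CommRingCat.ofHom (algebraMap R K)))).hom ≫ z) h1).trans
        (congrArg (fun z => (pullback.congrHom rfl hg : pullback (SpecOver R A).hom g ≅ _).hom ≫ z) h2)).trans h3)

/-- **The dimension of the geometric fibres.** -/
theorem topologicalKrullDim_geomFibre (G : Over (Spec (CommRingCat.of R))) [GrpObj G]
    (hG : Red.IsReductive G) (e : G ≅ SpecOver R A)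
    {M : Type} [AddCommGroup M] [Module.Finite ℤ M] [Module.Free ℤ M] (Φ : Finset M)
    (hfib : ∀ (K : Type u) [Field K] [IsAlgClosed K] [Algebra R K],
      ∃ q : K ⊗[R] A →ₐc[K] MonoidAlgebra K (Multiplicative M), Function.Surjective q ∧
        (∀ y, q y = 0 → y ∈ JP q (⊥ : AddSubmonoid M)) ∧
        (∀ m : M, m ≠ 0 → ∀ x ∈ gr (conjCoact q) m, x ∉ aug K (K ⊗[R] A) ^ 2 →
          ∀ y ∈ gr (conjCoact q) m, ∃ r : K, y - r • x ∈ aug K (K ⊗[R] A) ^ 2) ∧
        (∀ a, a ∈ Φ ↔ a ≠ 0 ∧ IsWt q a))
    (s : ↥(Spec (CommRingCat.of R))) :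
    topologicalKrullDim ↥(Red.geomFibre s G).left =
      ((Module.finrank ℤ M + Φ.card : ℕ) : WithBot ℕ∞) := by
  let K := AlgebraicClosure ((Spec (CommRingCat.of R)).residueField s)
  let g : Spec (CommRingCat.of K) ⟶ Spec (CommRingCat.of R) := Red.geomPt s
  let _ : Algebra R K := (Spec.preimage g).hom.toAlgebra
  have hg : g = Spec.map (CommRingCat.ofHom (algebraMap R K)) := (Spec.map_preimage g).symm
  let e1 := bcIso e K g hg
  have hred := hG.2.2 s
  have hsm : Smooth (Red.geomFibre s G).hom := hred.2.1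
  have hconn : ConnectedSpace (Red.geomFibre s G).left := hred.2.2.1
  have hint : IsIntegral (Red.geomFibre s G).left := CellDim.isIntegral_of_connected_grp (Red.geomFibre s G)
  let e2 : (Red.geomFibre s G).left ≅ Spec (CommRingCat.of (K ⊗[R] A)) := (Over.forget _).mapIso e1
  have he2 : e2.hom ≫ Spec.map (CommRingCat.ofHom (algebraMap K (K ⊗[R] A))) = (Red.geomFibre s G).hom :=
    Over.w e1.hom
  have hint2 : IsIntegral (Spec (CommRingCat.of (K ⊗[R] A))) := .of_isIso e2.hom
  have hdom : IsDomain (K ⊗[R] A) := (affine_isIntegral_iff (.of (K ⊗[R] A))).1 hint2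
  have hsm2 : Smooth (Spec.map (CommRingCat.ofHom (algebraMap K (K ⊗[R] A)))) := by
    have : Spec.map (CommRingCat.ofHom (algebraMap K (K ⊗[R] A))) = e2.inv ≫ (Red.geomFibre s G).hom := by
      rw [← he2, Iso.inv_hom_id_assoc]
    rw [this]
    infer_instance
  have hsm3 : Algebra.Smooth K (K ⊗[R] A) := by
    have h : RingHom.Smooth (algebraMap K (K ⊗[R] A)) := (HasRingHomProperty.Spec_iff (P := @Smooth)).1 hsm2
    rwa [RingHom.smooth_algebraMap] at h
  obtain ⟨q, h1, h2, h3, h4⟩ := hfib K
  have h5 := ringKrullDim_eq q h1 h2 h3 Φ h4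
  rw [← h5, ← PrimeSpectrum.topologicalKrullDim_eq_ringKrullDim]
  exact IsHomeomorph.topologicalKrullDim_eq _ (Scheme.homeoOfIso e2).isHomeomorph

end Groth.Agent.Sga3B.DimRed879
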