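import Groth.Agent.Sga3B.SplitAssemble
import Groth.Agent.Sga3B.DimRed879
import Mathlib.LinearAlgebra.RootSystem.Reduced

/-!
# Assembly of a splitting, version with weights on the geometric fibres and reducedness
-/

set_option autoImplicit false
universe u
open CategoryTheory MonoidalCategory CartesianMonoidalCategory MonObj GrpObj AlgebraicGeometry Limits
open scoped TensorProduct Polynomial

namespace Groth.Agent.Sga3B.SplitAssemble

open Groth.Agent.Books.AffBridge Groth.Agent.Books.DynBasic DSPts GaPts AffPts DSAff RootHomDict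
open RootDatum879 RootOrb RootCoact RootGr RootGa RootCert

/-- Reducedness of a root pairing over `ℤ` whose proportional roots are equal or opposite. -/
lemma isReduced_of_prop {J M N : Type*} [AddCommGroup M] [AddCommGroup N] [Module.IsTorsionFree ℤ M]
    (P : RootPairing J ℤ M N) (h : ∀ i j : J, ∀ k l : ℤ, k ≠ 0 → l ≠ 0 → k • P.root i = l • P.root j →
      P.root j = P.root i ∨ P.root j = - P.root i) : P.IsReduced := by
  constructor
  intro i j hlin
  rw [LinearIndependent.pair_iff] at hlin
  push Not at hlin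
  obtain ⟨s, t, hst, hne⟩ := hlin
  have hi : P.root i ≠ 0 := P.ne_zero i
  have hj : P.root j ≠ 0 := P.ne_zero j
  have hs : s ≠ 0 := by
    rintro rfl
    rw [zero_smul, zero_add] at hst
    rcases smul_eq_zero.1 hst with h | h
    · exact hne rfl h
    · exact hj h
  have ht : t ≠ 0 := by
    rintro rfl
    rw [zero_smul, add_zero] at hst
    rcases smul_eq_zero.1 hst with h | h
    · exact hs h
    · exact hi h
  rcases h i j s (-t) hs (neg_ne_zero.2 ht) (by rw [neg_smul]; exact eq_neg_of_add_eq_zero_left hst) with h | h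
  · exact Or.inl h.symm
  · exact Or.inr (by rw [h, neg_neg])

variable {R : Type u} [CommRing R] {A : Type u} [CommRing A] [HopfAlgebra R A]
variable {M : Type} [AddCommGroup M]
variable {G T : Over (Spec (CommRingCat.of R))} [GrpObj G] [GrpObj T]

/-- **Assembly of a splitting**, with the set of roots. -/
theorem exists_splitRed_reduced (hG : Red.IsReductive G) (i : T ⟶ G) (hT : Red.IsMaximalTorus i)
    [Module.Finite ℤ M] [Module.Free ℤ M]
    (sp : Grp.mk T ≅ Grp.mk (Red.DS (Spec (CommRingCat.of R)) M)) (e : G ≅ SpecOver R A) [IsMonHom e.hom]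
    (p : A →ₐc[R] MonoidAlgebra R (Multiplicative M))
    (hp : ∀ (X : Over (Spec (CommRingCat.of R))) (t : X ⟶ T),
        t ≫ i ≫ e.hom = affPt X ((chAlg (fnChar (t ≫ sp.hom.hom.hom))).comp (p : A →ₐ[R] _)))
    (Φ : Finset M) (f : {a // a ∈ Φ} → (M →+ ℤ))
    (hf : ∀ a : {a // a ∈ Φ}, f a a = 2)
    (hs : ∀ a b : {a // a ∈ Φ}, (b : M) - f a b • (a : M) ∈ Φ)
    (hprop : ∀ a b : M, a ∈ Φ → b ∈ Φ → ∀ k l : ℤ, k ≠ 0 → l ≠ 0 → k • a = l • b → b = a ∨ b = -a)
    (W : Submonoid (AddMonoid.End M)) [Finite W]
    (hW : ∀ a : {a // a ∈ Φ}, (reflE (a : M) (f a)) ∈ W)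
    (hroot : ∀ a ∈ Φ, ∃ φ : A →ₐ[R] R[X], Function.Surjective φ ∧
      (∀ (C : Type u) [CommRing C] [Algebra R C] (s t : C),
        WithConv.toConv ((Polynomial.aeval (R := R) (s + t)).comp φ) =
          WithConv.toConv ((Polynomial.aeval (R := R) s).comp φ) *
            WithConv.toConv ((Polynomial.aeval (R := R) t).comp φ)) ∧
      (∀ (C : Type u) [CommRing C] [Algebra R C] (t : Multiplicative M →* Cˣ) (s : C),
        torPt p t * WithConv.toConv ((Polynomial.aeval (R := R) s).comp φ) * (torPt p t)⁻¹ =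
          WithConv.toConv ((Polynomial.aeval (R := R) ((t (Multiplicative.ofAdd a) : C) * s)).comp φ)))
    (hrefl : ∀ a : {a // a ∈ Φ}, ∃ n : WithConv (A →ₐ[R] R),
      ∀ (C : Type u) [CommRing C] [Algebra R C] (t : Multiplicative M →* Cˣ),
        mapPt (Algebra.ofId R C) n * torPt p t * (mapPt (Algebra.ofId R C) n)⁻¹ =
          torPt p (t.comp (AddMonoidHom.toMultiplicative (refl (a : M) (f a)))))
    (hdim : ∀ s : ↥(Spec (CommRingCat.of R)), topologicalKrullDim ↥(Red.geomFibre s G).left =
      ((Module.finrank ℤ M + Φ.card : ℕ) : WithBot ℕ∞)) :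
    ∃ D : Red.SplitRed G, D.T = T ∧ HEq D.i i ∧ D.P.IsReduced := by
  obtain ⟨P, hP1, hP2, hP3⟩ := exists_rootPairing Φ f hf hs W hW
  have hPr : ∀ a, (P.reflection a).toLinearMap.toAddMonoidHom = refl (a : M) (f a) := by
    intro a
    ext x
    change P.reflection a x = x - f a x • (a : M)
    rw [RootPairing.reflection_apply]
    congr 1
    have h1 : P.toLinearMap x (P.coroot a) = f a x := by
      rw [hP1]
      exact hP3 a x
    change P.toLinearMap x (P.coroot a) • P.root a = _
    rw [h1, hP2]
  choose φ hφ1 hφ2 hφ3 using hroot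
  choose n hn using hrefl
  refine ⟨{ T := T
            i := i
            M := M
            idx := {a // a ∈ Φ}
            P := P
            pairing_eq := hP1
            u := fun a => uOf e (φ a a.2)
            reductive := hG
            maximalTorus := hT
            split := sp
            rootHom := ?_
            refl := ?_
            dim_fibre := ?_ }, rfl, HEq.rfl, ?_⟩
  · intro a
    rw [hP2]
    refine isRootHom_uOf i sp.hom.hom.hom e (p : A →ₐ[R] MonoidAlgebra R (Multiplicative M)) ?_
      (a : M) (φ a a.2) (hφ1 _ _) (fun B _ _ x y => hφ2 a a.2 B x y) ?_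
    · intro X t
      exact hp X t
    · intro B _ _ χ x
      have h := hφ3 a a.2 B χ.toHomUnits x
      rw [← chAlg_comp_eq] at h
      exact h
  · intro a
    refine ⟨cstPt e (n a), ?_⟩
    rw [hPr]
    exact refl_of_pt i sp e p hp (refl (a : M) (f a)) (n a) (hn a)
  · intro s
    rw [hdim s, Fintype.card_coe]
  · refine isReduced_of_prop P fun a b k l hk hl h => ?_
    rw [hP2, hP2] at h ⊢
    exact hprop _ _ a.2 b.2 k l hk hl h

end Groth.Agent.Sga3B.SplitAssemble
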