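import Groth.Agent.Sga3B.PtMor
import Mathlib.AlgebraicGeometry.Morphisms.Smooth

/-!
# The Hopf algebra of an affine group, and points of its pull backs
-/

set_option autoImplicit false

open CategoryTheory MonoidalCategory CartesianMonoidalCategory AlgebraicGeometry Limits Opposite
open scoped MonObj
open Groth.Agent.Sga3B.HaarDef Groth.Agent.Sga3B.AffTest Groth.Agent.Sga3B.PtData Groth.Agent.Sga3B.PtMor

namespace Groth.Agent.Sga3B.AffHopf

noncomputable section

universe u

variable {R : Type u} [CommRing R]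

theorem exists_hopf (G : Over (Spec (CommRingCat.of R))) [GrpObj G] [IsAffine G.left] :
    ∃ (C : Type u) (_ : CommRing C) (_ : HopfAlgebra R C) (i : sp R C ≅ G), IsMonHom i.hom := by
  have h : (hopfSpec (CommRingCat.of R)).essImage (Grp.mk G) := essImage_hopfSpec.2 ‹_›
  obtain ⟨C, ⟨e⟩⟩ := h
  let j : sp R C.unop ≅ G := (Grp.forget _).mapIso e
  exact ⟨C.unop, inferInstance, inferInstance, j, e.hom.hom.isMonHom_hom⟩

lemma smooth_of_iso {G : Over (Spec (CommRingCat.of R))} [Smooth G.hom] {C : Type u} [CommRing C] [Algebra R C]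
    (i : sp R C ≅ G) : Algebra.Smooth R C := by
  have h1 : Smooth (sp R C).hom := by
    rw [← Over.w i.hom]
    infer_instance
  have h2 : Smooth (Spec.map (CommRingCat.ofHom (algebraMap R C))) := h1
  rw [HasRingHomProperty.Spec_iff (P := @Smooth)] at h2
  exact RingHom.smooth_algebraMap.1 h2

/-- the point structure on the pull back of a group along `Spec L → Spec R → S` -/
theorem exists_ptStr {S : Scheme.{u}} (G : Over S) [GrpObj G] (j : Spec (CommRingCat.of R) ⟶ S)
    {C : Type u} [CommRing C] [HopfAlgebra R C] (i : sp R C ≅ Red.bc j G) [IsMonHom i.hom]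
    (L : Type u) [CommRing L] [Algebra R L] (v : Spec (CommRingCat.of L) ⟶ S) (hv : v = q R L ≫ j) :
    Nonempty (PtStr R C L (Red.bc v G)) := by
  subst hv
  exact ⟨(baseStr L i).ofGrpIso (BcIso.bcCompIso (q R L) j G).symm⟩

end

end Groth.Agent.Sga3B.AffHopf
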