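import Groth.Agent.Sga3B.FibreTorus

/-!
# Tangent vectors centralised by a self-centralising torus of a fibre
-/

set_option autoImplicit false

open CategoryTheory MonoidalCategory CartesianMonoidalCategory AlgebraicGeometry Limits Opposite
open TensorProduct WithConv
open scoped MonObj
open Groth.Agent.Sga3B.HaarDef Groth.Agent.Sga3B.AffTest Groth.Agent.Sga3B.PtData Groth.Agent.Sga3B.TorusLie
open Groth.Agent.Sga3B.TorusWt Groth.Agent.Sga3B.PtMor Groth.Agent.Sga3B.PtProp Groth.Agent.Sga3B.TorusRk
open Groth.Agent.Sga3B.MaxTorusCrit Groth.Agent.Sga3B.TorusSpread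

namespace Groth.Agent.Sga3B.FibreCent

noncomputable section

universe u

variable {R C L : Type u} [CommRing R] [CommRing C] [HopfAlgebra R C] [CommRing L] [Algebra R L]
variable {N : Type} [CommGroup N]
variable {T G : Over (Spec (CommRingCat.of L))} [GrpObj T] [GrpObj G] {PT : PtStr R (MonoidAlgebra R N) L T}
    {PG : PtStr R C L G}

/-- If a point `g'` commutes with all coefficients of `F`, the corresponding morphism commutes with `i`. -/
theorem commutes_of_comm [IsAffine T.left] {i : T ⟶ G} {F : WithConv (C →ₐ[R] MonoidAlgebra R N ⊗[R] L)}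
    (h : Corr PT PG i F) {E : Type u} [CommRing E] [Algebra R E] [Algebra L E] [IsScalarTower R L E]
    (g' : WithConv (C →ₐ[R] E))
    (hg : ∀ n, push (IsScalarTower.toAlgHom R L E) (cf F n) * lin g' =
      lin g' * push (IsScalarTower.toAlgHom R L E) (cf F n))
    (X' : Over (Spec (CommRingCat.of L))) (x : X' ⟶ sp L E) (t : X' ⟶ T) :
    (x ≫ PG.e E g') * (t ≫ i) = (t ≫ i) * (x ≫ PG.e E g') := by
  have : IsAffine (sp L E).left := by
    show IsAffine (Spec _)
    infer_instance
  have : IsAffine (sp L E ⊗ T).left := by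
    show IsAffine (pullback (sp L E).hom T.hom)
    infer_instance
  have univ : (fst (sp L E) T ≫ PG.e E g') * (snd (sp L E) T ≫ i) =
      (snd (sp L E) T ≫ i) * (fst (sp L E) T ≫ PG.e E g') := by
    apply hom_ext_pts
    intro A _ _ y
    let : Algebra R A := Algebra.compHom A (algebraMap R L)
    have : IsScalarTower R L A := IsScalarTower.of_algebraMap_eq fun _ => rfl
    rw [MonObj.comp_mul, MonObj.comp_mul, ← Category.assoc, ← Category.assoc]
    obtain ⟨f, hf⟩ := spMap_surjective (y ≫ fst (sp L E) T)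
    obtain ⟨χ, hχ⟩ := (chPt PT A).surjective (y ≫ snd (sp L E) T)
    rw [← hf, ← hχ, h, PG.nat, ← map_mul, ← map_mul]
    congr 1
    apply lin_injective
    rw [map_mul, map_mul, lin_pushG_pt, ← push_lin]
    refine (Phi_commute _ (fun n => ?_) _).symm
    have h1 := congrArg (push (f.restrictScalars R)) (hg n)
    rw [map_mul, map_mul, push_push] at h1
    have h2 : (f.restrictScalars R).comp (IsScalarTower.toAlgHom R L E) = IsScalarTower.toAlgHom R L A := by
      apply AlgHom.ext
      intro z
      exact f.commutes z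
    rw [h2] at h1
    exact h1
  have h3 := congrArg (fun q => lift x t ≫ q) univ
  simp only [MonObj.comp_mul, ← Category.assoc, lift_fst, lift_snd] at h3
  exact h3

/-- **The tangent space centralised by a self-centralising split torus has dimension at most the rank.** -/
theorem exists_fibre_torus [Algebra.FiniteType R C] {K : Type u} [Field K] [IsAlgClosed K] [Algebra R K]
    {G : Over (Spec (CommRingCat.of K))} [GrpObj G] [IsAffine G.left] (PG : PtStr R C K G)
    (hc : ∀ (T : Over (Spec (CommRingCat.of K))) [GrpObj T] (i : T ⟶ G), Red.IsMaximalTorus i →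
      ∀ (X : Over _) (g : X ⟶ G), (∀ (X' : Over _) (x : X' ⟶ X) (t : X' ⟶ T),
        (x ≫ g) * (t ≫ i) = (t ≫ i) * (x ≫ g)) → ∃ t : X ⟶ T, g = t ≫ i) :
    ∃ (r : ℕ) (F : WithConv (C →ₐ[R] MonoidAlgebra R (Multiplicative (Fin r → ℤ)) ⊗[R] K)), IsHom F ∧ AMono F ∧
      Module.Finite K (ZM F (AlgHom.id R K)) ∧ Module.finrank K (ZM F (AlgHom.id R K)) ≤ r := by
  obtain ⟨r, F, i, hF, hm, hi, hmax⟩ := FibreTorus.exists_maximalTorus PG
  refine ⟨r, F, hF, hm, finrank_ZM_le (ZM_le_range hF hm fun g' hg' => ?_)⟩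
  have : IsAffine (Red.DS (Spec (CommRingCat.of K)) (Fin r → ℤ)).left := isAffine_left_of_isAffineHom _
  have hd : IsScalarTower.toAlgHom R K (DualNumber K) = dinl := by
    apply AlgHom.ext
    intro z
    rfl
  obtain ⟨t, ht⟩ := hc _ i hmax (sp K (DualNumber K)) (PG.e (DualNumber K) g') (fun X' x t =>
    commutes_of_comm hi g' (by rw [hd]; exact hg') X' x t)
  obtain ⟨χ, hχ⟩ := (chPt (dsStr R K (Fin r → ℤ)) (DualNumber K)).surjective t
  refine ⟨χ, ?_⟩
  apply (PG.e (DualNumber K)).injective
  rw [ht, ← hχ, hi, hd]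

end

end Groth.Agent.Sga3B.FibreCent
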