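import Groth.Agent.Sga3B.QFHom
import Groth.Prelude.Def_Red
import Groth.Agent.Sga3B.DimOneTop

set_option autoImplicit false

universe u

open CategoryTheory Limits AlgebraicGeometry TopologicalSpace
open Groth.Agent.Sga3B.QCClosure Groth.Agent.Sga3B.QFHom Groth.Agent.Sga3B.DimOneTop

namespace Groth.Agent.Sga3B.AffineDimOne

lemma isPullback_lift {X Y S T : Scheme.{u}} (g : X ⟶ Y) (a : Y ⟶ S) (b : X ⟶ S) (hb : g ≫ a = b)
    (t : T ⟶ S) :
    IsPullback (pullback.lift (pullback.fst b t ≫ g) (pullback.snd b t)
      (by rw [Category.assoc, hb, pullback.condition])) (pullback.fst b t) (pullback.fst a t) g := by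
  refine IsPullback.of_right (h₁₂ := pullback.snd a t) (h₂₂ := a) (v₁₃ := t) ?_ ?_ ?_
  · rw [pullback.lift_snd, hb]
    exact (IsPullback.of_hasPullback b t).flip
  · rw [pullback.lift_fst]
  · exact (IsPullback.of_hasPullback a t).flip

variable {S : Scheme.{u}}

/-- The geometric fibres of a quasi-finite separated homomorphism of finite type group schemes are
finite. -/
theorem isFinite_geomFibre (G H : Over S) [GrpObj G] [GrpObj H] [LocallyOfFiniteType G.hom]
    [LocallyOfFiniteType H.hom] [QuasiCompact H.hom]
    (f : G ⟶ H) [IsMonHom f] [LocallyQuasiFinite f.left] [QuasiCompact f.left]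
    [IsSeparated f.left] (s : S) : IsFinite ((Over.pullback (Red.geomPt s)).map f).left := by
  have hLOFT : LocallyOfFiniteType f.left := by
    have : LocallyOfFiniteType (f.left ≫ H.hom) := by rw [Over.w]; infer_instance
    exact locallyOfFiniteType_of_comp f.left H.hom
  have hpb := isPullback_lift f.left H.hom G.hom (Over.w f) (Red.geomPt s)
  have e : ((Over.pullback (Red.geomPt s)).map f).left = pullback.lift
      (pullback.fst G.hom (Red.geomPt s) ≫ f.left) (pullback.snd G.hom (Red.geomPt s))
      (by rw [Category.assoc, Over.w, pullback.condition]) := by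
    simp
  rw [← e] at hpb
  have h1 : LocallyQuasiFinite ((Over.pullback (Red.geomPt s)).map f).left :=
    MorphismProperty.of_isPullback hpb.flip ‹_›
  have h2 : LocallyOfFiniteType ((Over.pullback (Red.geomPt s)).map f).left :=
    MorphismProperty.of_isPullback hpb.flip ‹_›
  have h3 : IsSeparated ((Over.pullback (Red.geomPt s)).map f).left :=
    MorphismProperty.of_isPullback hpb.flip ‹_›
  have h4 : QuasiCompact ((Over.pullback (Red.geomPt s)).map f).left :=
    MorphismProperty.of_isPullback hpb.flip ‹_›
  have h5 : LocallyOfFiniteType ((Over.pullback (Red.geomPt s)).obj G).hom := by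
    change LocallyOfFiniteType (pullback.snd G.hom (Red.geomPt s)); infer_instance
  have h6 : LocallyOfFiniteType ((Over.pullback (Red.geomPt s)).obj H).hom := by
    change LocallyOfFiniteType (pullback.snd H.hom (Red.geomPt s)); infer_instance
  have h7 : QuasiCompact ((Over.pullback (Red.geomPt s)).obj H).hom := by
    change QuasiCompact (pullback.snd H.hom (Red.geomPt s)); infer_instance
  have h8 : IsMonHom ((Over.pullback (Red.geomPt s)).map f) := inferInstance
  exact isFinite_of_isAlgClosed ((Over.pullback (Red.geomPt s)).map f)


/-- If the preimage of `Z ⊆ X` in the geometric fibre over `s` is closed, then `Z` is closed in the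
fibre over `s`. -/
theorem mem_of_mem_closure_inter_fibre {X : Scheme.{u}} (p : X ⟶ S) (s : S) (Z : Set X)
    (hZ : IsClosed (pullback.fst p (Red.geomPt s) ⁻¹' Z)) (x : X) (hx : p x = s)
    (hxc : x ∈ closure (Z ∩ p ⁻¹' {s})) : x ∈ Z := by
  let a : Spec (CommRingCat.of (AlgebraicClosure (S.residueField s))) ⟶ Spec (S.residueField s) :=
    Spec.map (CommRingCat.ofHom (algebraMap (S.residueField s)
      (AlgebraicClosure (S.residueField s))))
  let b : Spec (S.residueField s) ⟶ S := S.fromSpecResidueField s
  change IsClosed (pullback.fst p (a ≫ b) ⁻¹' Z) at hZ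
  have hai : IsIntegralHom a := by
    rw [IsIntegralHom.SpecMap_iff]
    exact algebraMap_isIntegral_iff.mpr inferInstance
  have has : Surjective a := inferInstance
  let r₁ : pullback p (a ≫ b) ⟶ pullback p b :=
    pullback.lift (pullback.fst p (a ≫ b)) (pullback.snd p (a ≫ b) ≫ a)
      (by rw [Category.assoc, pullback.condition])
  have hr₁ : IsPullback r₁ (pullback.snd p (a ≫ b)) (pullback.snd p b) a := by
    refine IsPullback.of_right (h₁₂ := pullback.fst p b) (h₂₂ := b) (v₁₃ := p) ?_ ?_ ?_
    · simp only [r₁, pullback.lift_fst]
      exact IsPullback.of_hasPullback p (a ≫ b)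
    · simp only [r₁, pullback.lift_snd]
    · exact IsPullback.of_hasPullback p b
  have h1 : IsIntegralHom r₁ := MorphismProperty.of_isPullback hr₁.flip hai
  have h2 : Surjective r₁ := MorphismProperty.of_isPullback hr₁.flip has
  have hr : r₁ ≫ pullback.fst p b = pullback.fst p (a ≫ b) := pullback.lift_fst _ _ _
  let Z' : Set (pullback p b : Scheme.{u}) := pullback.fst p b ⁻¹' Z
  have hZ' : IsClosed Z' := by
    have e : pullback.fst p (a ≫ b) ⁻¹' Z = r₁ ⁻¹' Z' := by
      ext w
      simp only [Set.mem_preimage, Z', ← hr, Scheme.Hom.comp_apply]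
    rw [e] at hZ
    rw [← Set.image_preimage_eq Z' r₁.surjective]
    exact r₁.isClosedMap _ hZ
  have hemb : Topology.IsInducing (pullback.fst p b) :=
    (inferInstance : IsPreimmersion (pullback.fst p b)).isEmbedding.isInducing
  obtain ⟨Z₁, hZ₁, hZ₁'⟩ := hemb.isClosed_iff.mp hZ'
  have hrange : ∀ y : X, p y = s → ∃ y', pullback.fst p b y' = y := by
    intro y hy
    have : y ∈ Set.range (pullback.fst p b) := by
      rw [Scheme.Pullback.range_fst, Scheme.range_fromSpecResidueField]
      exact hy
    exact this
  by_contra hxZ
  obtain ⟨x', rfl⟩ := hrange x hx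
  have hx1 : pullback.fst p b x' ∉ Z₁ := by
    intro h
    have h' : x' ∈ pullback.fst p b ⁻¹' Z₁ := h
    rw [hZ₁'] at h'
    exact hxZ h'
  obtain ⟨z, hz1, hz2, hz3⟩ := mem_closure_iff.mp hxc Z₁ᶜ hZ₁.isOpen_compl hx1
  obtain ⟨z', rfl⟩ := hrange z hz3
  apply hz1
  have h' : z' ∈ Z' := hz2
  rw [← hZ₁'] at h'
  exact h'

/-- The image of `G` in the relative normalization of `f : G ⟶ H` is closed in every fibre over
the base. -/
theorem mem_range_toNormalization (G H : Over S) [GrpObj G] [GrpObj H] [LocallyOfFiniteType G.hom]
    [LocallyOfFiniteType H.hom] [QuasiCompact H.hom]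
    (f : G ⟶ H) [IsMonHom f] [LocallyQuasiFinite f.left] [QuasiCompact f.left]
    [IsSeparated f.left] (x : f.left.normalization)
    (hx : x ∈ closure (Set.range f.left.toNormalization ∩
      (f.left.fromNormalization ≫ H.hom) ⁻¹' {(f.left.fromNormalization ≫ H.hom) x})) :
    x ∈ Set.range f.left.toNormalization := by
  set p : f.left.normalization ⟶ S := f.left.fromNormalization ≫ H.hom with hp
  set s : S := p x with hs
  refine mem_of_mem_closure_inter_fibre p s _ ?_ x rfl hx
  let t := Red.geomPt s
  have hG : f.left.toNormalization ≫ p = G.hom := by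
    rw [hp, f.left.toNormalization_fromNormalization_assoc, Over.w]
  have hj := isPullback_lift f.left.toNormalization p G.hom hG t
  have hν := isPullback_lift f.left.fromNormalization H.hom p rfl t
  set j' : pullback G.hom t ⟶ pullback p t := pullback.lift
    (pullback.fst G.hom t ≫ f.left.toNormalization) (pullback.snd G.hom t)
    (by rw [Category.assoc, hG, pullback.condition]) with hj'
  set ν' : pullback p t ⟶ pullback H.hom t := pullback.lift
    (pullback.fst p t ≫ f.left.fromNormalization) (pullback.snd p t)
    (by rw [Category.assoc, ← hp, pullback.condition]) with hν'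
  have h1 : IsIntegralHom ν' := MorphismProperty.of_isPullback hν.flip inferInstance
  have h2 : IsFinite (j' ≫ ν') := by
    have := isFinite_geomFibre G H f s
    have e : j' ≫ ν' = ((Over.pullback (Red.geomPt s)).map f).left := by
      apply pullback.hom_ext
      · rw [Category.assoc, hν', pullback.lift_fst, hj', pullback.lift_fst_assoc,
          Category.assoc, f.left.toNormalization_fromNormalization]
        exact (pullback.lift_fst _ _ _).symm
      · rw [Category.assoc, hν', pullback.lift_snd, hj', pullback.lift_snd]
        exact (pullback.lift_snd _ _ _).symm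
    rw [e]; exact this
  have h3 : IsFinite j' := IsFinite.of_comp j' ν'
  have h4 : pullback.fst p t ⁻¹' (Set.range f.left.toNormalization) = Set.range j' := by
    ext w
    constructor
    · rintro ⟨g, hg⟩
      obtain ⟨q, hq1, hq2⟩ := Scheme.exists_preimage_of_isPullback hj w g hg.symm
      exact ⟨q, hq1⟩
    · rintro ⟨q, rfl⟩
      refine ⟨pullback.fst G.hom t q, ?_⟩
      rw [← Scheme.Hom.comp_apply, ← Scheme.Hom.comp_apply]
      exact congrArg (fun (m : pullback G.hom t ⟶ f.left.normalization) ↦ m q) hj.w.symm
  rw [h4]
  exact j'.isClosedMap.isClosed_range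

/-- SGA 3 XXV 4.1 without smoothness or flatness: over a locally noetherian base of dimension at
most one, a quasi-finite separated homomorphism between group schemes of finite type is affine. -/
theorem isAffineHom_of_quasiFinite [IsLocallyNoetherian S] (hS : topologicalKrullDim S ≤ 1)
    (G H : Over S) [GrpObj G] [GrpObj H] [LocallyOfFiniteType G.hom]
    [LocallyOfFiniteType H.hom] [QuasiCompact H.hom]
    (f : G ⟶ H) [IsMonHom f] [LocallyQuasiFinite f.left] [QuasiCompact f.left]
    [IsSeparated f.left] : IsAffineHom f.left := by
  have hLOFT : LocallyOfFiniteType f.left := by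
    have : LocallyOfFiniteType (f.left ≫ H.hom) := by rw [Over.w]; infer_instance
    exact locallyOfFiniteType_of_comp f.left H.hom
  have : IsLocallyNoetherian H.left := LocallyOfFiniteType.isLocallyNoetherian H.hom
  have hj : IsAffineHom f.left.toNormalization := by
    refine isAffineHom_of_closed_in_fibres hS f.left.toNormalization ?_
      f.left.fromNormalization f.left.fromNormalization.isClosedMap H.hom ?_
    · intro x
      exact exists_specializes_of_mem_closure_range f.left.toNormalization x
        (f.left.toNormalization.denseRange x)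
    · exact mem_range_toNormalization G H f
  have : IsAffineHom (f.left.toNormalization ≫ f.left.fromNormalization) := inferInstance
  rwa [f.left.toNormalization_fromNormalization] at this

end Groth.Agent.Sga3B.AffineDimOne
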