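import Mathlib.RingTheory.Smooth.StandardSmoothCotangent
import Mathlib.RingTheory.Smooth.Basic
import Mathlib.RingTheory.Finiteness.Prod

/-!
# First infinitesimal neighbourhood of a section of a standard smooth algebra
-/

set_option autoImplicit false

universe u

open TensorProduct

namespace Groth.Agent.Sga3B.FreeNbhd

variable {R B : Type u} [CommRing R] [CommRing B] [Algebra R B]

/-- The conormal module of a section of a standard smooth algebra is finite free. -/
theorem free_cotangent [Algebra.IsStandardSmooth R B] (ε : B →ₐ[R] R) :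
    Module.Free R (RingHom.ker ε).Cotangent ∧ Module.Finite R (RingHom.ker ε).Cotangent := by
  let _ : Algebra B R := ε.toRingHom.toAlgebra
  have hε : ∀ b, algebraMap B R b = ε b := fun b => rfl
  have : IsScalarTower R B R := IsScalarTower.of_algebraMap_eq fun r => (ε.commutes r).symm
  have hsurj : Function.Surjective (algebraMap B R) := fun r => ⟨algebraMap R B r, ε.commutes r⟩
  let k := KaehlerDifferential.kerCotangentToTensor R B R
  have hinj : Function.Injective k :=
    (Algebra.FormallySmooth.kerCotangentToTensor_injective_iff hsurj).mpr inferInstance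
  have hs : Function.Surjective k := by
    rw [← LinearMap.range_eq_top, KaehlerDifferential.range_kerCotangentToTensor R B R hsurj, eq_top_iff]
    intro x _
    exact Subsingleton.elim _ _
  let e : (RingHom.ker ε).Cotangent ≃ₗ[B] R ⊗[B] Ω[B⁄R] := LinearEquiv.ofBijective k ⟨hinj, hs⟩
  let e' := e.restrictScalars R
  exact ⟨Module.Free.of_equiv e'.symm, Module.Finite.equiv e'.symm⟩

/-- The first infinitesimal neighbourhood of a section with finite free conormal module. -/
theorem free_quotient (ε : B →ₐ[R] R) [Module.Free R (RingHom.ker ε).Cotangent]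
    [Module.Finite R (RingHom.ker ε).Cotangent] :
    Module.Free R (B ⧸ (RingHom.ker ε) ^ 2) ∧ Module.Finite R (B ⧸ (RingHom.ker ε) ^ 2) := by
  let I := RingHom.ker ε
  let c : I.Cotangent →ₗ[R] B ⧸ I ^ 2 := I.cotangentToQuotientSquare.restrictScalars R
  let ψ : (R × I.Cotangent) →ₗ[R] B ⧸ I ^ 2 :=
    (Algebra.linearMap R (B ⧸ I ^ 2)).coprod c
  have hψ : ∀ r x, ψ (r, x) = Ideal.Quotient.mk _ (algebraMap R B r) + I.cotangentToQuotientSquare x :=
    fun r x => rfl
  let π : B ⧸ I ^ 2 →+* R := Ideal.Quotient.lift (I ^ 2) ε.toRingHom (fun a ha => by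
    have : a ∈ I := Ideal.pow_le_self two_ne_zero ha
    exact this)
  have hinj : Function.Injective ψ := by
    rw [injective_iff_map_eq_zero]
    rintro ⟨r, x⟩ h
    rw [hψ] at h
    obtain ⟨x, rfl⟩ := I.toCotangent_surjective x
    rw [Ideal.toCotangent_to_quotient_square] at h
    have h1 : Ideal.Quotient.mk (I ^ 2) (algebraMap R B r + (x : B)) = 0 := by
      rw [map_add]; exact h
    have h2 : r = 0 := by
      have h3 := congrArg π h1
      rw [map_zero] at h3
      have h4 : ε (x : B) = 0 := x.2
      have h5 : ε (algebraMap R B r + (x : B)) = 0 := h3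
      rwa [map_add, h4, add_zero, ε.commutes] at h5
    subst h2
    rw [map_zero, zero_add, Ideal.Quotient.eq_zero_iff_mem] at h1
    rw [(Ideal.toCotangent_eq_zero I x).mpr h1]
    rfl
  have hsurj : Function.Surjective ψ := by
    intro y
    obtain ⟨b, rfl⟩ := Ideal.Quotient.mk_surjective y
    have hb : b - algebraMap R B (ε b) ∈ I := by
      change ε _ = 0
      rw [map_sub, ε.commutes]
      exact sub_self _
    refine ⟨(ε b, I.toCotangent ⟨_, hb⟩), ?_⟩
    rw [hψ, Ideal.toCotangent_to_quotient_square]
    change Ideal.Quotient.mk (I ^ 2) _ + Ideal.Quotient.mk (I ^ 2) (b - algebraMap R B (ε b)) = _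
    rw [← map_add]
    congr 1
    ring
  let e : (R × I.Cotangent) ≃ₗ[R] B ⧸ I ^ 2 := LinearEquiv.ofBijective ψ ⟨hinj, hsurj⟩
  have f1 : Module.Free R I.Cotangent := ‹Module.Free R (RingHom.ker ε).Cotangent›
  have f2 : Module.Finite R I.Cotangent := ‹Module.Finite R (RingHom.ker ε).Cotangent›
  exact ⟨Module.Free.of_equiv e, Module.Finite.equiv e⟩

/-- The first infinitesimal neighbourhood of a section of a standard smooth algebra is finite free. -/
theorem free_nbhd [Algebra.IsStandardSmooth R B] (ε : B →ₐ[R] R) :
    Module.Free R (B ⧸ (RingHom.ker ε) ^ 2) ∧ Module.Finite R (B ⧸ (RingHom.ker ε) ^ 2) := by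
  obtain ⟨_, _⟩ := free_cotangent ε
  exact free_quotient ε

end Groth.Agent.Sga3B.FreeNbhd
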