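import Groth.Agent.Sga3B.AdQF
import Groth.Agent.Sga3B.FreeNbhd
import Groth.Agent.Sga3B.AffineDimOne
import Groth.Agent.Sga3B.BcIso
import Groth.Agent.S3025

/-!
# Group schemes with semisimple geometric fibres over a base of dimension at most one are affine
-/

set_option autoImplicit false

universe u

open CategoryTheory MonoidalCategory CartesianMonoidalCategory MonObj GrpObj AlgebraicGeometry Limits

namespace Groth.Agent.Sga3B.AdAff

open BcPts FreeBC DSAffPts AdRep KerGrp GLn

/-- The affine, local form. -/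
theorem isAffineHom_of_standardSmooth {R B : Type u} [CommRing R] [CommRing B] [Algebra R B]
    [IsLocallyNoetherian (Spec (CommRingCat.of R))]
    (hdim : topologicalKrullDim (Spec (CommRingCat.of R)) ≤ 1)
    [Algebra.IsStandardSmooth R B]
    {G : Over (Spec (CommRingCat.of R))} [GrpObj G] [LocallyOfFiniteType G.hom]
    [QuasiCompact G.hom] [IsSeparated G.hom]
    (w : DE R B ⟶ G) [IsOpenImmersion w.left] (eW : 𝟙_ (Over (Spec (CommRingCat.of R))) ⟶ DE R B)
    (heW : eW ≫ w = η)
    (hss : ∀ s : Spec (CommRingCat.of R), ∃ (K : Type u) (_ : Field K) (_ : IsAlgClosed K)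
      (t : Spec (CommRingCat.of K) ⟶ Spec (CommRingCat.of R)), t (IsLocalRing.closedPoint K) = s ∧
        Red.IsSemisimpleOver K (Red.bc t G)) :
    IsAffineHom G.hom := by
  classical
  obtain ⟨ε, -, hε⟩ := CentralTorus.exists_augHom eW
  have haug : augIdeal eW = RingHom.ker ε := Ideal.ext hε
  obtain ⟨h1, h2⟩ := FreeNbhd.free_nbhd ε
  rw [← haug] at h1 h2
  have hc : CompactSpace G.left := (quasiCompact_iff_compactSpace G.hom).mp inferInstance
  have hq : QuasiSeparatedSpace G.left := by
    have : QuasiSeparated G.hom := inferInstance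
    exact (quasiSeparated_iff_quasiSeparatedSpace G.hom).mp this
  obtain ⟨f, hf, hker⟩ := exists_adRep w eW heW
    (Module.Free.chooseBasis R (B ⧸ augIdeal eW ^ 2))
  let m := Module.Free.ChooseBasisIndex R (B ⧸ augIdeal eW ^ 2)
  let H := GLS m (Spec (CommRingCat.of R))
  have hHa : IsAffineHom H.hom := inferInstance
  have hqc : QuasiCompact f.left := by
    have : QuasiCompact (f.left ≫ H.hom) := by rw [Over.w]; infer_instance
    exact QuasiCompact.of_comp f.left H.hom
  have hsep : IsSeparated f.left := by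
    have : IsSeparated (f.left ≫ H.hom) := by rw [Over.w]; infer_instance
    exact IsSeparated.of_comp f.left H.hom
  have hqf : LocallyQuasiFinite f.left :=
    AdQF.locallyQuasiFinite w eW heW f (fun g hg => (hker g).mp hg) hss
  have haff : IsAffineHom f.left := AffineDimOne.isAffineHom_of_quasiFinite hdim G H f
  rw [← Over.w f]
  exact (inferInstance : IsAffineHom (f.left ≫ H.hom))

section Iso

variable {K : Type u} [Field K]

/-- Semisimplicity over an algebraically closed field is invariant under isomorphisms. -/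
theorem isSemisimpleOver_of_iso {G H : Over (Spec (CommRingCat.of K))} [GrpObj G] [GrpObj H]
    (e : Grp.mk G ≅ Grp.mk H) (h : Red.IsSemisimpleOver K G) : Red.IsSemisimpleOver K H := by
  let e' : G ≅ H := (Grp.forget _).mapIso e
  have he : IsMonHom e'.hom := inferInstanceAs (IsMonHom e.hom.hom.hom)
  have he' : IsMonHom e'.inv := inferInstanceAs (IsMonHom e.inv.hom.hom)
  have hl : IsIso e'.hom.left := inferInstanceAs (IsIso ((Over.forget _).map e'.hom))
  have hl' : IsIso e'.inv.left := inferInstanceAs (IsIso ((Over.forget _).map e'.inv))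
  obtain ⟨⟨h1, h2, h3, h4⟩, h5⟩ := h
  have hnorm : ∀ (U : Over (Spec (CommRingCat.of K))) [GrpObj U] (i : U ⟶ H) [IsMonHom i],
      AlgGrp.IsNormalHom i → AlgGrp.IsNormalHom (i ≫ e'.inv) := by
    intro U _ i _ hi T g n
    obtain ⟨n', hn'⟩ := hi T (g ≫ e'.hom) n
    refine ⟨n', ?_⟩
    rw [← Category.assoc, ← Category.assoc, ← hn', MonObj.mul_comp, MonObj.mul_comp, GrpObj.inv_comp]
    simp only [Category.assoc, Iso.hom_inv_id, Category.comp_id]
  refine ⟨⟨.of_isIso e'.inv.left, ?_, ?_, ?_⟩, ?_⟩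
  · rw [← Over.w e'.inv]
    infer_instance
  · exact e'.hom.left.homeomorph.surjective.connectedSpace e'.hom.left.continuous
  · intro U _ i _ hcl hsm hc hn hU
    refine h4 U (i ≫ e'.inv) ?_ hsm hc (hnorm U i hn) hU
    rw [Over.comp_left]
    infer_instance
  · intro T _ i _ hcl hn hT
    refine h5 T (i ≫ e'.inv) ?_ (hnorm T i hn) hT
    rw [Over.comp_left]
    infer_instance

end Iso

lemma bcEquiv_symm_left {S S' : Scheme.{u}} (q : S' ⟶ S) {T : Over S'} {X : Over S} (y : T ⟶ Red.bc q X) :
    ((bcEquiv q T X).symm y).left = y.left ≫ pullback.fst X.hom q := by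
  rw [bcEquiv, Adjunction.homEquiv_counit, Over.mapPullbackAdj_counit_app, Over.comp_left]
  rfl

/-- The unit section of a base change. -/
lemma unit_bc {S S' : Scheme.{u}} (q : S' ⟶ S) (G : Over S) [GrpObj G] :
    (η[Red.bc q G] : 𝟙_ _ ⟶ Red.bc q G).left ≫ pullback.fst G.hom q =
      q ≫ (η[G] : 𝟙_ (Over S) ⟶ G).left := by
  have h1 : (bcMulEquiv q (𝟙_ _) G).symm η[Red.bc q G] = 1 := by
    rw [one_eq_one, map_one]
  have h2 := bcEquiv_symm_left q η[Red.bc q G]
  rw [← h2]
  have h3 : (1 : (Over.map q).obj (𝟙_ (Over S')) ⟶ G) = toUnit _ ≫ η[G] := rfl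
  have h4 : (bcEquiv q (𝟙_ _) G).symm η[Red.bc q G] = toUnit _ ≫ η[G] := h1.trans h3
  rw [h4, Over.comp_left]
  congr 1

/-- Charts of a smooth group scheme around the unit section. -/
theorem exists_chart {S : Scheme.{u}} (G : Over S) [GrpObj G] [Smooth G.hom] (s : S) :
    ∃ (R B : Type u) (_ : CommRing R) (_ : CommRing B) (_ : Algebra R B)
      (q : Spec (CommRingCat.of R) ⟶ S) (w : DE R B ⟶ Red.bc q G)
      (eW : 𝟙_ (Over (Spec (CommRingCat.of R))) ⟶ DE R B),
      IsOpenImmersion q ∧ s ∈ Set.range q ∧ Algebra.IsStandardSmooth R B ∧ IsOpenImmersion w.left ∧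
        eW ≫ w = η := by
  let e : S ⟶ G.left := (η[G] : 𝟙_ (Over S) ⟶ G).left
  have he : e ≫ G.hom = 𝟙 S := unit_w
  have he' : ∀ p, G.hom (e p) = p := fun p => by
    rw [← Scheme.Hom.comp_apply, he]; rfl
  obtain ⟨U, hU, V, hV, hx, hle, hst⟩ := Smooth.exists_isStandardSmooth G.hom (e s)
  have hsU : s ∈ U := by
    have := hle hx
    rwa [Scheme.Hom.mem_preimage, he' s] at this
  let R₀ := Γ(S, U)
  let B₀ := Γ(G.left, V)
  let φ : R₀ ⟶ B₀ := G.hom.appLE U V hle
  algebraize [φ.hom]
  have hst' : Algebra.IsStandardSmooth R₀ B₀ := hst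
  let q₀ : Spec (CommRingCat.of R₀) ⟶ S := hU.fromSpec
  let v₀ : Spec (CommRingCat.of B₀) ⟶ G.left := hV.fromSpec
  have hv₀ : Spec.map (CommRingCat.ofHom (algebraMap R₀ B₀)) ≫ q₀ = v₀ ≫ G.hom :=
    IsAffineOpen.SpecMap_appLE_fromSpec G.hom hU hV hle
  -- the open set
  let O : (Spec (CommRingCat.of R₀)).Opens := q₀ ⁻¹ᵁ (e ⁻¹ᵁ V)
  obtain ⟨s₀, hs₀⟩ : ∃ s₀, q₀ s₀ = s := by
    have : s ∈ Set.range hU.fromSpec := by rw [hU.range_fromSpec]; exact hsU
    exact this
  have hs₀O : s₀ ∈ O := by
    change e (q₀ s₀) ∈ V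
    rw [hs₀]; exact hx
  obtain ⟨_, ⟨_, ⟨r, rfl⟩, rfl⟩, hr1, hr2⟩ := PrimeSpectrum.isBasis_basic_opens.exists_subset_of_mem_open hs₀O O.2
  let R := Localization.Away r
  let t : Spec (CommRingCat.of R) ⟶ Spec (CommRingCat.of R₀) := Spec.map (CommRingCat.ofHom (algebraMap R₀ R))
  have ht : IsOpenImmersion t := inferInstance
  have hrange : Set.range t = (PrimeSpectrum.basicOpen r).1 :=
    PrimeSpectrum.localization_away_comap_range (Localization.Away r) r
  let B := TensorProduct R₀ R B₀
  let b : Spec (CommRingCat.of B) ⟶ Spec (CommRingCat.of B₀) :=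
    Spec.map (CommRingCat.ofHom Algebra.TensorProduct.includeRight.toRingHom)
  let c : Spec (CommRingCat.of B) ⟶ Spec (CommRingCat.of R) :=
    Spec.map (CommRingCat.ofHom (algebraMap R B))
  have hpb : IsPullback c b t (Spec.map (CommRingCat.ofHom (algebraMap R₀ B₀))) :=
    isPullback_SpecMap_of_isPushout _ _ _ _ (CommRingCat.isPushout_tensorProduct R₀ R B₀)
  let q : Spec (CommRingCat.of R) ⟶ S := t ≫ q₀
  have hb : IsOpenImmersion b := MorphismProperty.of_isPullback (P := @IsOpenImmersion) hpb ht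
  have hcond : (b ≫ v₀) ≫ G.hom = c ≫ q := by
    rw [Category.assoc, ← hv₀, ← Category.assoc, ← hpb.w, Category.assoc]
  let w : DE R B ⟶ Red.bc q G := Over.homMk (pullback.lift (b ≫ v₀) c hcond) (pullback.lift_snd _ _ _)
  have hw1 : w.left ≫ pullback.fst G.hom q = b ≫ v₀ := pullback.lift_fst _ _ _
  have hwo : IsOpenImmersion w.left := by
    have h1 : IsOpenImmersion (w.left ≫ pullback.fst G.hom q) := by
      rw [hw1]; infer_instance
    exact IsOpenImmersion.of_comp w.left (pullback.fst G.hom q)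
  -- the unit section
  have hη : (η[Red.bc q G] : 𝟙_ _ ⟶ Red.bc q G).left ≫ pullback.fst G.hom q = q ≫ e := unit_bc q G
  have hinj : Function.Injective (pullback.fst G.hom q) :=
    (pullback.fst G.hom q).isOpenEmbedding.injective
  have hsub : Set.range (η[Red.bc q G] : 𝟙_ _ ⟶ Red.bc q G).left ⊆ Set.range w.left := by
    rintro _ ⟨p, rfl⟩
    change (Spec (CommRingCat.of R) : Scheme.{u}) at p
    have hp1 : t p ∈ (PrimeSpectrum.basicOpen r).1 := by rw [← hrange]; exact ⟨p, rfl⟩
    have hp2 : e (q₀ (t p)) ∈ V := hr2 hp1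
    have hp3 : e (q₀ (t p)) ∈ Set.range hV.fromSpec := by rw [hV.range_fromSpec]; exact hp2
    obtain ⟨z₀, hz₀⟩ := hp3
    have hz1 : Spec.map (CommRingCat.ofHom (algebraMap R₀ B₀)) z₀ = t p := by
      have hq₀ : Function.Injective q₀ := q₀.isOpenEmbedding.injective
      apply hq₀
      rw [← Scheme.Hom.comp_apply, hv₀, Scheme.Hom.comp_apply]
      change G.hom (hV.fromSpec z₀) = _
      rw [hz₀, he']
    obtain ⟨z, hz, hz'⟩ := Scheme.exists_preimage_of_isPullback hpb p z₀ hz1.symm
    refine ⟨z, hinj ?_⟩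
    rw [← Scheme.Hom.comp_apply, hw1, Scheme.Hom.comp_apply, hz']
    refine Eq.trans ?_ (congr($(hη) p)).symm
    exact hz₀
  let eW : 𝟙_ (Over (Spec (CommRingCat.of R))) ⟶ DE R B :=
    Over.homMk (IsOpenImmersion.lift w.left (η[Red.bc q G] : 𝟙_ _ ⟶ Red.bc q G).left hsub) (by
      rw [← Over.w w, IsOpenImmersion.lift_fac_assoc, Over.w])
  have heW : eW ≫ w = η[Red.bc q G] := by
    ext1
    exact IsOpenImmersion.lift_fac _ _ _
  refine ⟨R, B, inferInstance, inferInstance, inferInstance, q, w, eW, inferInstance, ?_, inferInstance,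
    hwo, heW⟩
  have h1 : s₀ ∈ Set.range t := by rw [hrange]; exact hr1
  obtain ⟨p, hp⟩ := h1
  exact ⟨p, by rw [Scheme.Hom.comp_apply, hp, hs₀]⟩

set_option backward.isDefEq.respectTransparency.types false in
lemma isZariskiLocalAtTarget_isAffineHom : IsZariskiLocalAtTarget (@IsAffineHom.{u}) := inferInstance

lemma geomPt_apply {S : Scheme.{u}} (s : S) (y : Spec (CommRingCat.of (AlgebraicClosure (S.residueField s)))) :
    Red.geomPt s y = s := by
  rw [Scheme.Hom.comp_apply]
  exact Scheme.fromSpecResidueField_apply _ _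

/-- The image of the geometric point. -/
lemma range_geomPt {S : Scheme.{u}} (s : S) : Set.range (Red.geomPt s) = {s} := by
  ext x
  rw [Set.mem_singleton_iff]
  constructor
  · rintro ⟨y, rfl⟩
    exact geomPt_apply s y
  · intro h
    refine ⟨IsLocalRing.closedPoint (AlgebraicClosure (S.residueField s)), ?_⟩
    rw [h]
    exact geomPt_apply s _

/-- Fibres are connected when the geometric fibres are. -/
lemma isConnected_fibre {S : Scheme.{u}} (G : Over S) (s : S) (h : ConnectedSpace (Red.geomFibre s G).left) :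
    _root_.IsConnected (G.hom.base ⁻¹' {s}) := by
  have h1 : Set.range (pullback.fst G.hom (Red.geomPt s)) = G.hom.base ⁻¹' {s} := by
    rw [Scheme.Pullback.range_fst, range_geomPt]
  rw [← h1]
  have h2 : ConnectedSpace ↥(pullback G.hom (Red.geomPt s)) := h
  exact isConnected_range (pullback.fst G.hom (Red.geomPt s)).continuous

/-- The local statement on a chart. -/
theorem isAffineHom_chart {S : Scheme.{u}} [IsLocallyNoetherian S] (hS : topologicalKrullDim S ≤ 1)
    (G : Over S) [GrpObj G] [Smooth G.hom] [QuasiCompact G.hom] [IsSeparated G.hom]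
    (hfib : ∀ s : S, Red.IsSemisimpleOver (AlgebraicClosure (S.residueField s)) (Red.geomFibre s G))
    {R B : Type u} [CommRing R] [CommRing B] [Algebra R B] [Algebra.IsStandardSmooth R B]
    (q : Spec (CommRingCat.of R) ⟶ S) [IsOpenImmersion q] (w : DE R B ⟶ Red.bc q G)
    [IsOpenImmersion w.left] (eW : 𝟙_ (Over (Spec (CommRingCat.of R))) ⟶ DE R B) (heW : eW ≫ w = η) :
    IsAffineHom (pullback.snd G.hom q) := by
  have hN : IsLocallyNoetherian (Spec (CommRingCat.of R)) :=
    isLocallyNoetherian_of_isOpenImmersion q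
  have hdim : topologicalKrullDim (Spec (CommRingCat.of R)) ≤ 1 :=
    q.isOpenEmbedding.isInducing.topologicalKrullDim_le.trans hS
  have h1 : LocallyOfFiniteType (Red.bc q G).hom :=
    inferInstanceAs (LocallyOfFiniteType (pullback.snd _ _))
  have h2 : QuasiCompact (Red.bc q G).hom := inferInstanceAs (QuasiCompact (pullback.snd _ _))
  have h3 : IsSeparated (Red.bc q G).hom := inferInstanceAs (IsSeparated (pullback.snd _ _))
  refine isAffineHom_of_standardSmooth (G := Red.bc q G) hdim w eW heW fun p => ?_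
  let s' : S := q p
  let K := AlgebraicClosure (S.residueField s')
  have hr : Set.range (Red.geomPt s') ⊆ Set.range q := by
    rw [range_geomPt, Set.singleton_subset_iff]
    exact ⟨p, rfl⟩
  let t : Spec (CommRingCat.of K) ⟶ Spec (CommRingCat.of R) :=
    IsOpenImmersion.lift q (Red.geomPt s') hr
  have ht : t ≫ q = Red.geomPt s' := IsOpenImmersion.lift_fac _ _ _
  refine ⟨K, inferInstance, inferInstance, t, ?_, ?_⟩
  · apply q.isOpenEmbedding.injective
    have h5 : (t ≫ q) (IsLocalRing.closedPoint K) = q p := by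
      rw [ht]; exact geomPt_apply s' _
    exact h5
  · have h4 : ∀ g : Spec (CommRingCat.of K) ⟶ S, t ≫ q = g → Red.IsSemisimpleOver K (Red.bc g G) →
        Red.IsSemisimpleOver K (Red.bc t (Red.bc q G)) := by
      rintro _ rfl h
      exact isSemisimpleOver_of_iso (BcIso.bcCompIso t q G) h
    exact h4 _ ht (hfib s')

/-- SGA 3 XXV 3.4: a smooth quasi-compact group scheme with semisimple geometric fibres over a locally noetherian base
of dimension at most one is affine. -/
theorem isAffineHom_of_semisimple {S : Scheme.{u}} [IsLocallyNoetherian S] (hS : topologicalKrullDim S ≤ 1)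
    (G : Over S) [GrpObj G] [Smooth G.hom] [QuasiCompact G.hom]
    (hfib : ∀ s : S, Red.IsSemisimpleOver (AlgebraicClosure (S.residueField s)) (Red.geomFibre s G)) :
    IsAffineHom G.hom := by
  have hsep : IsSeparated G.hom :=
    (S3025.result S G fun s => isConnected_fibre G s (hfib s).1.2.2.1).1
  choose R B i1 i2 i3 q w eW hq hs hst hw heW using fun s => exists_chart G s
  have := isZariskiLocalAtTarget_isAffineHom.{u}
  refine IsZariskiLocalAtTarget.of_openCover (P := @IsAffineHom)
    (Scheme.Cover.mkOfCovers (P := @IsOpenImmersion) S (fun s => Spec (CommRingCat.of (R s))) q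
      (fun s => ⟨s, hs s⟩) hq) fun s => ?_
  exact @isAffineHom_chart S _ hS G _ _ _ _ hfib (R s) (B s) (i1 s) (i2 s) (i3 s) (hst s) (q s) (hq s)
    (w s) (hw s) (eW s) (heW s)

end Groth.Agent.Sga3B.AdAff
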