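import Groth.Agent.Sga3B.CellField

/-!
# Points normalising the torus and fixing the roots lie in the torus (over algebraically closed fields)
-/

set_option autoImplicit false
universe u

open LaurentPolynomial TensorProduct

namespace Groth.Agent.Sga3B.Cell

section TPtLemmas
variable {M : Type} [AddCommGroup M] {B : Type u} [CommRing B]

lemma TPt.one_mul' (t : TPt M B) : 1 * t = t := one_mul t
lemma TPt.mul_one' (t : TPt M B) : t * 1 = t := mul_one t
lemma TPt.mul_comm' (s t : TPt M B) : s * t = t * s := mul_comm s t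
lemma TPt.inv_mul_self' (t : TPt M B) : t⁻¹ * t = 1 := inv_mul_cancel t
lemma TPt.mul_left_cancel' {s t r : TPt M B} (h : r * s = r * t) : s = t := mul_left_cancel h
lemma TPt.mul_right_cancel' {s t r : TPt M B} (h : s * r = t * r) : s = t := mul_right_cancel h
lemma TPt.eq_inv_of_mul' {s t : TPt M B} (h : s * t = 1) : s = t⁻¹ := by
  apply TPt.mul_right_cancel' (r := t)
  rw [h, TPt.inv_mul_self']

end TPtLemmas

namespace Datum
open Groth.Agent.Sga3B.Cell

section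
variable {R A : Type u} [CommRing R] [CommRing A] [Algebra R A] [PtGrp R A] (D : Datum R A)
  {B : Type u} [CommRing B] [Algebra R B]
lemma i_inv' (t : TPt D.M B) : D.i B t⁻¹ = (D.i B t)⁻¹ := map_inv (D.i B) t
lemma i_mul' (s t : TPt D.M B) : D.i B (s * t) = D.i B s * D.i B t := map_mul (D.i B) s t
lemma i_one' : D.i B (1 : TPt D.M B) = 1 := map_one (D.i B)
end

variable {R A : Type u} [CommRing R] [CommRing A] [Algebra R A] [PtGrp R A] (D : Datum R A)

/-- the list of all indices, negative ones first -/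
noncomputable def signList (k : D.idx → ℤ) : List D.idx :=
  (Finset.univ.filter (fun a => k a < 0)).toList ++ (Finset.univ.filter (fun a => ¬ k a < 0)).toList

lemma signList_nodup (k : D.idx → ℤ) : (D.signList k).Nodup := by
  unfold signList
  rw [List.nodup_append]
  refine ⟨Finset.nodup_toList _, Finset.nodup_toList _, ?_⟩
  intro a ha b hb hab
  rw [Finset.mem_toList, Finset.mem_filter] at ha hb
  subst hab
  exact hb.2 ha.2

lemma mem_signList (k : D.idx → ℤ) (a : D.idx) : a ∈ D.signList k := by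
  unfold signList
  rw [List.mem_append, Finset.mem_toList, Finset.mem_toList]
  by_cases h : k a < 0
  · left; simp [h]
  · right; simpa using h

/-- All orderings give cell maps which are étale near the unit section. -/
def Good : Prop := ∀ L : List D.idx, L.Nodup → (∀ a, a ∈ L) → ∃ δ : D.CR, D.EtOn L δ ∧ D.ev0 δ = 1

variable {B : Type u} [CommRing B] [Algebra R B]

lemma cell_signList (k : D.idx → ℤ) (x : D.idx → B) (t : TPt D.M B) :
    D.cell (D.signList k) x t =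
      D.cell (D.signList k) (fun a => if k a < 0 then x a else 0) 1 *
        D.cell (D.signList k) (fun a => if k a < 0 then 0 else x a) t := by
  have h0 : ∀ (l : List D.idx) (y : D.idx → B), (∀ a ∈ l, y a = 0) →
      (l.map (fun a => D.uu a B (y a))).prod = 1 := by
    intro l y hy
    apply List.prod_eq_one
    intro z hz
    obtain ⟨a, ha, rfl⟩ := List.mem_map.mp hz
    rw [hy a ha, D.uu_zero]
  have h1 : ∀ (l : List D.idx) (y z : D.idx → B), (∀ a ∈ l, y a = z a) →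
      (l.map (fun a => D.uu a B (y a))) = (l.map (fun a => D.uu a B (z a))) := by
    intro l y z h
    apply List.map_congr_left
    intro a ha
    rw [h a ha]
  unfold cell signList
  rw [List.map_append, List.prod_append, List.map_append, List.prod_append, List.map_append,
    List.prod_append]
  rw [h0 (Finset.univ.filter (fun a => k a < 0)).toList (fun a => if k a < 0 then 0 else x a)]
  · rw [h0 (Finset.univ.filter (fun a => ¬ k a < 0)).toList (fun a => if k a < 0 then x a else 0)]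
    · rw [map_one, one_mul, mul_one, mul_one]
      rw [h1 (Finset.univ.filter (fun a => k a < 0)).toList (fun a => if k a < 0 then x a else 0) x]
      · rw [h1 (Finset.univ.filter (fun a => ¬ k a < 0)).toList
          (fun a => if k a < 0 then 0 else x a) x]
        · rw [mul_assoc]
        · intro a ha
          rw [Finset.mem_toList, Finset.mem_filter] at ha
          simp [ha.2]
      · intro a ha
        rw [Finset.mem_toList, Finset.mem_filter] at ha
        simp [ha.2]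
    · intro a ha
      rw [Finset.mem_toList, Finset.mem_filter] at ha
      simp [ha.2]
  · intro a ha
    rw [Finset.mem_toList, Finset.mem_filter] at ha
    simp [ha.2]

lemma cell_eq_mul_i (L : List D.idx) (x : D.idx → B) (t : TPt D.M B) :
    D.cell L x t = D.cell L x 1 * D.i B t := by
  rw [cell_mul_i, TPt.one_mul']

/-- `T k * C y = C y` forces `y = 0` when `k ≠ 0`. -/
lemma eq_zero_of_T_mul {k : ℤ} (hk : k ≠ 0) {y : B}
    (h : (T k * LaurentPolynomial.C y : B[T;T⁻¹]) = LaurentPolynomial.C y) : y = 0 := by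
  have h2 := congrArg (fun z : B[T;T⁻¹] => z.coeff 0) h
  rw [mul_comm] at h2
  simp only [← LaurentPolynomial.single_eq_C_mul_T, AddMonoidAlgebra.coeff_single] at h2
  rw [Finsupp.single_apply, if_neg hk, LaurentPolynomial.C_apply, if_pos rfl] at h2
  exact h2.symm

variable {D}

/-- The big cell is injective: `U(-k) × U(k) × T → G` is injective on points, over any ring. -/
theorem bigCell_inj {k : D.idx → ℤ} {L : List D.idx} {δ : D.CR} (hδ : D.EtOn L δ)
    (hδ0 : D.ev0 δ = 1) (lam : D.M →+ ℤ) (hlam : ∀ a, lam (D.root a) = k a)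
    {Y Z Y' Z' : D.idx → B} {s s' : TPt D.M B}
    (hY0 : ∀ a, -k a ≤ 0 → Y a = 0) (hZ0 : ∀ a, k a ≤ 0 → Z a = 0)
    (hY'0 : ∀ a, -k a ≤ 0 → Y' a = 0) (hZ'0 : ∀ a, k a ≤ 0 → Z' a = 0)
    (h1 : D.cell L Y 1 * D.cell L Z s = D.cell L Y' 1 * D.cell L Z' s') :
    Y = Y' ∧ Z = Z' ∧ s = s' := by
  obtain ⟨θn, hθn⟩ : ∃ θ₁ : TPt D.M B[T;T⁻¹], ∀ a, TPt.ch (D.root a) θ₁ = T (-k a) :=
    ⟨D.cochar (-lam), fun a => by rw [ch_cochar, AddMonoidHom.neg_apply, hlam]⟩
  obtain ⟨θp, hθp⟩ : ∃ θ₁ : TPt D.M B[T;T⁻¹], ∀ a, TPt.ch (D.root a) θ₁ = T (k a) :=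
    ⟨D.cochar lam, fun a => by rw [ch_cochar, hlam]⟩
  have hYm : D.cell L Y 1 ∈ D.UP L (fun a => -k a) B := ⟨Y, hY0, rfl⟩
  have hY'm : D.cell L Y' 1 ∈ D.UP L (fun a => -k a) B := ⟨Y', hY'0, rfl⟩
  have hZm : D.cell L Z 1 ∈ D.UP L k B := ⟨Z, hZ0, rfl⟩
  have hZ'm : D.cell L Z' 1 ∈ D.UP L k B := ⟨Z', hZ'0, rfl⟩
  obtain ⟨X₁, hX₁0, hX₁⟩ := UP_mul hδ hδ0 hθn (UP_inv hδ hδ0 hθn hY'm) hYm
  -- positive part: `Z' s' (Z s)⁻¹`
  set τ : TPt D.M B := s' * s⁻¹ with hτ
  have hconj : D.i _ τ * (D.cell L Z 1)⁻¹ * (D.i _ τ)⁻¹ ∈ D.UP L k B := by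
    obtain ⟨w, hw0, hw⟩ := UP_inv hδ hδ0 hθp hZm
    rw [hw, conj_cell]
    exact ⟨_, fun a ha => by rw [hw0 a ha, mul_zero], rfl⟩
  obtain ⟨X₂, hX₂0, hX₂⟩ := UP_mul hδ hδ0 hθp hZ'm hconj
  have hrel : D.cell L X₁ 1 = D.cell L X₂ τ := by
    rw [← hX₁, cell_eq_mul_i D L X₂ τ, ← hX₂]
    have h2 : D.cell L Z' s' = D.cell L Z' 1 * D.i _ s' := cell_eq_mul_i D L Z' _
    have h3 : D.cell L Z s = D.cell L Z 1 * D.i _ s := cell_eq_mul_i D L Z _
    rw [h2, h3] at h1
    have h4 : (D.cell L Y' 1)⁻¹ * D.cell L Y 1 =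
        D.cell L Z' 1 * D.i _ s' * (D.i _ s)⁻¹ * (D.cell L Z 1)⁻¹ := by
      have h5 : D.cell L Y 1 = D.cell L Y' 1 * (D.cell L Z' 1 * D.i _ s') *
          (D.cell L Z 1 * D.i _ s)⁻¹ := by rw [← h1]; group
      rw [h5]; group
    rw [h4, hτ, i_mul', i_inv']
    group
  have hone := disjoint_UP D (L := L) (L' := L) hθp hX₁0 hX₂0 hrel
  rw [← hX₁, inv_mul_eq_one] at hone
  have hinjY := (cell_inj (k := fun a => -k a) hδ hδ0 hθn hY'0 hY0 hone).1
  rw [hone] at h1
  have h6 := mul_left_cancel h1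
  obtain ⟨h7, h8⟩ := cell_inj hδ hδ0 hθp hZ0 hZ'0 h6
  exact ⟨hinjY.symm, h7, h8⟩

/-- If `h` carries the regular cocharacter `lam` of the torus to a torus point with the same weights
on the roots, and `h` is in the cell, then `h` lies in the torus. Version over any ring. -/
theorem eq_i_of_conj_of_cell {k : D.idx → ℤ} {L : List D.idx} {δ : D.CR} (hδ : D.EtOn L δ)
    (hδ0 : D.ev0 δ = 1) (lam : D.M →+ ℤ) (hlam : ∀ a, lam (D.root a) = k a)
    (hk : ∀ a, k a ≠ 0) {y z : D.idx → B} {s : TPt D.M B}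
    (hy : ∀ a, -k a ≤ 0 → y a = 0) (hz : ∀ a, k a ≤ 0 → z a = 0)
    {θ' : TPt D.M B[T;T⁻¹]} (hθ' : ∀ a, TPt.ch (D.root a) θ' = T (k a))
    (hh : Pt.map (lC R B) (D.cell L y 1 * D.cell L z s) * D.i _ (D.cochar lam) =
      D.i _ θ' * Pt.map (lC R B) (D.cell L y 1 * D.cell L z s)) :
    y = 0 ∧ z = 0 ∧ θ' = D.cochar lam := by
  rw [Pt.map_mul, cell_nat, cell_nat, map_one, mul_assoc, cell_mul_i, ← mul_assoc, i_mul_cell,
    TPt.mul_one', cell_eq_mul_i D L _ θ', mul_assoc, i_mul_cell] at hh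
  obtain ⟨h1, h2, h3⟩ := bigCell_inj hδ hδ0 lam hlam
    (fun a ha => by rw [hy a ha, map_zero]) (fun a ha => by rw [hz a ha, map_zero])
    (fun a ha => by rw [hy a ha, map_zero, mul_zero])
    (fun a ha => by rw [hz a ha, map_zero, mul_zero]) hh
  refine ⟨?_, ?_, ?_⟩
  · funext a
    have h5 := congrFun h1 a
    rw [hθ', lC_apply] at h5
    exact eq_zero_of_T_mul (hk a) h5.symm
  · funext a
    have h9 := congrFun h2 a
    rw [hθ', lC_apply] at h9
    exact eq_zero_of_T_mul (hk a) h9.symm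
  · rw [TPt.mul_comm'] at h3
    exact (TPt.mul_right_cancel' h3).symm

/-- Over an algebraically closed field: a point carrying a regular cocharacter to a torus point with the
same weights on the roots lies in the torus. -/
theorem exists_eq_i_of_conj (hG : D.Good) [Algebra.FiniteType R A] {K : Type u} [Field K]
    [IsAlgClosed K] [Algebra R K] [IsDomain (K ⊗[R] A)] (lam : D.M →+ ℤ)
    (hlam : ∀ a, lam (D.root a) ≠ 0) (h : Pt R A K) {θ' : TPt D.M K[T;T⁻¹]}
    (hθ' : ∀ a, TPt.ch (D.root a) θ' = T (lam (D.root a)))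
    (hh : Pt.map (lC R K) h * D.i _ (D.cochar lam) * (Pt.map (lC R K) h)⁻¹ = D.i _ θ') :
    ∃ t : TPt D.M K, h = D.i K t ∧ θ' = D.cochar lam := by
  set k : D.idx → ℤ := fun a => lam (D.root a) with hkdef
  set L := D.signList k with hL
  obtain ⟨δ, hδ, hδ0⟩ := hG L (D.signList_nodup k) (D.mem_signList k)
  obtain ⟨x, x', t, t', -, -, hq⟩ := exists_quot hδ hδ0 h
  have hθ : ∀ a, TPt.ch (D.root a) (D.cochar lam : TPt D.M K[T;T⁻¹]) = T (k a) := fun a => rfl
  have hθn : ∀ a, TPt.ch (D.root a) (D.cochar (-lam) : TPt D.M K[T;T⁻¹]) = T (-k a) := fun a => rfl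
  have hθ'n : ∀ a, TPt.ch (D.root a) θ'⁻¹ = T (-k a) := by
    intro a
    have h1 : TPt.ch (D.root a) θ'⁻¹ * TPt.ch (D.root a) θ' = 1 := by
      rw [← TPt.ch_mul, TPt.inv_mul_self', TPt.ch_one]
    rw [hθ'] at h1
    have h2 : (T (-k a) : K[T;T⁻¹]) = TPt.ch (D.root a) θ'⁻¹ * T (k a) * T (-k a) := by
      rw [h1, one_mul]
    rw [h2, mul_assoc, ← T_add]
    simp
  have hhn : Pt.map (lC R K) h * D.i _ (D.cochar (-lam)) * (Pt.map (lC R K) h)⁻¹ = D.i _ θ'⁻¹ := by
    have e : (D.cochar (-lam) : TPt D.M K[T;T⁻¹]) = (D.cochar lam)⁻¹ := by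
      apply TPt.eq_inv_of_mul'
      apply TPt.ext_ch
      intro m
      rw [TPt.ch_mul, ch_cochar, ch_cochar, ← T_add]
      simp
    rw [e, i_inv', i_inv', ← hh]
    group
  rw [hL, cell_signList, cell_signList D k x' t', ← hL] at hq
  set v := D.cell L (fun a => if k a < 0 then x a else 0) 1 with hv
  set v' := D.cell L (fun a => if k a < 0 then x' a else 0) 1 with hv'
  have hvm : v ∈ D.UP L (fun a => -k a) K := ⟨_, fun a ha => if_neg (by have h1 : -k a ≤ 0 := ha; omega), rfl⟩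
  have hv'm : v' ∈ D.UP L (fun a => -k a) K := ⟨_, fun a ha => if_neg (by have h1 : -k a ≤ 0 := ha; omega), rfl⟩
  have hcv := UP_conj hδ hδ0 (k := fun a => -k a) hθn hθ'n hhn hvm
  have hw := UP_mul hδ hδ0 (k := fun a => -k a) hθn (UP_inv hδ hδ0 hθn hcv) hv'm
  obtain ⟨y, hy0, hy⟩ := hw
  -- positive parts
  have hk0 : ∀ a, k a ≠ 0 := hlam
  set z₁ : D.idx → K := fun a => if k a < 0 then 0 else x a with hz₁
  set z₂ : D.idx → K := fun a => if k a < 0 then 0 else x' a with hz₂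
  have hz₁0 : ∀ a, k a ≤ 0 → z₁ a = 0 := fun a ha => if_pos (lt_of_le_of_ne ha (hk0 a))
  have hz₂0 : ∀ a, k a ≤ 0 → z₂ a = 0 := fun a ha => if_pos (lt_of_le_of_ne ha (hk0 a))
  have hu₁ : D.cell L z₁ 1 ∈ D.UP L k K := ⟨_, hz₁0, rfl⟩
  have hu₂ : D.cell L z₂ 1 ∈ D.UP L k K := ⟨_, hz₂0, rfl⟩
  set s : TPt D.M K := t' * t⁻¹ with hs
  have hconj : D.i _ s * (D.cell L z₁ 1)⁻¹ * (D.i _ s)⁻¹ ∈ D.UP L k K := by
    obtain ⟨w, hw0, hw⟩ := UP_inv hδ hδ0 hθ hu₁
    rw [hw, conj_cell]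
    exact ⟨_, fun a ha => by rw [hw0 a ha, mul_zero], rfl⟩
  obtain ⟨z, hz0, hz⟩ := UP_mul hδ hδ0 hθ hu₂ hconj
  have hdec : h = D.cell L y 1 * D.cell L z s := by
    rw [cell_eq_mul_i D L z s, ← hz, ← hy]
    rw [cell_eq_mul_i D L z₁ t, cell_eq_mul_i D L z₂ t'] at hq
    have h3 : h * v = v' * (D.cell L z₂ 1 * D.i K t') * (D.i K t)⁻¹ * (D.cell L z₁ 1)⁻¹ := by
      rw [← hq]
      group
    have h4 : h = (h * v * h⁻¹)⁻¹ * (h * v) := by group
    have h5 : D.i K t' * (D.i K t)⁻¹ = D.i K s := by rw [hs, i_mul', i_inv']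
    calc h = (h * v * h⁻¹)⁻¹ * (h * v) := h4
      _ = (h * v * h⁻¹)⁻¹ * (v' * (D.cell L z₂ 1 * D.i K t') * (D.i K t)⁻¹ *
          (D.cell L z₁ 1)⁻¹) := by rw [h3]
      _ = (h * v * h⁻¹)⁻¹ * v' * (D.cell L z₂ 1 * ((D.i K t' * (D.i K t)⁻¹) *
          (D.cell L z₁ 1)⁻¹)) := by group
      _ = _ := by
          rw [h5]; group
  have hh' : Pt.map (lC R K) (D.cell L y 1 * D.cell L z s) * D.i _ (D.cochar lam) =
      D.i _ θ' * Pt.map (lC R K) (D.cell L y 1 * D.cell L z s) := by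
    rw [← hdec, ← hh]; group
  obtain ⟨h1, h2, h3⟩ := eq_i_of_conj_of_cell hδ hδ0 lam (fun a => rfl) hk0 hy0 hz0 hθ' hh'
  refine ⟨s, ?_, h3⟩
  rw [hdec, h1, h2]
  have e0 : D.cell L (0 : D.idx → K) 1 = 1 := by
    have := D.cell_zero L (1 : TPt D.M K)
    rw [i_one'] at this
    exact this
  have e1 : D.cell L (0 : D.idx → K) s = D.i K s := D.cell_zero L s
  rw [e0, e1, one_mul]

end Datum

end Groth.Agent.Sga3B.Cell
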