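import Groth.Agent.Sga3B.CellUniv
import Groth.Agent.Sga3B.DiagSmooth
import Mathlib.Algebra.TrivSqZeroExt.Basic
import Mathlib.RingTheory.Kaehler.Basic
import Mathlib.RingTheory.Smooth.Basic
import Mathlib.RingTheory.TensorProduct.MonoidAlgebra

/-!
# Differentials and smoothness of the coordinate ring of `𝔸^idx × D(M)`
-/

set_option autoImplicit false
universe u

open MvPolynomial

namespace Groth.Agent.Sga3B.Cell

section general

variable {R C : Type u} [CommRing R] [CommRing C] [Algebra R C] {M : Type} [AddCommGroup M]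

/-- infinitesimal torus point -/
noncomputable def tsqT (t : TPt M C) (τ : M →+ C) : TPt M (TrivSqZeroExt C C) :=
  MonoidHom.toHomUnits
    { toFun := fun m => TrivSqZeroExt.inl (TPt.ch m.toAdd t) +
        TrivSqZeroExt.inr (TPt.ch m.toAdd t * τ m.toAdd)
      map_one' := by
        ext <;> simp
      map_mul' := fun m n => by
        ext
        · simp [TPt.ch_add]
        · simp only [toAdd_mul, TPt.ch_add, map_add, TrivSqZeroExt.snd_add, TrivSqZeroExt.snd_inl,
            TrivSqZeroExt.snd_inr, zero_add, TrivSqZeroExt.snd_mul, TrivSqZeroExt.fst_add,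
            TrivSqZeroExt.fst_inl, TrivSqZeroExt.fst_inr, add_zero, smul_eq_mul,
            MulOpposite.smul_eq_mul_unop, MulOpposite.unop_op]
          ring }

lemma ch_tsqT (t : TPt M C) (τ : M →+ C) (m : M) : TPt.ch m (tsqT t τ) =
    TrivSqZeroExt.inl (TPt.ch m t) + TrivSqZeroExt.inr (TPt.ch m t * τ m) := rfl

/-- The derivation of an algebra homomorphism to the dual numbers lifting the identity. -/
noncomputable def derOf (h : C →ₐ[R] TrivSqZeroExt C C) (hh : ∀ z, (h z).fst = z) :
    Derivation R C C where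
  toFun z := (h z).snd
  map_add' z w := by rw [map_add, TrivSqZeroExt.snd_add]
  map_smul' r z := by rw [map_smul, TrivSqZeroExt.snd_smul]; rfl
  map_one_eq_zero' := by
    change (h 1).snd = 0
    rw [map_one, TrivSqZeroExt.snd_one]
  leibniz' z w := by
    change (h (z * w)).snd = z • (h w).snd + w • (h z).snd
    rw [map_mul, TrivSqZeroExt.snd_mul, hh, hh, op_smul_eq_smul]

@[simp] lemma derOf_apply (h : C →ₐ[R] TrivSqZeroExt C C) (hh : ∀ z, (h z).fst = z) (z : C) :
    derOf h hh z = (h z).snd := rfl

open KaehlerDifferential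

lemma TPt.ch_mul_neg (t : TPt M C) (m : M) : TPt.ch m t * TPt.ch (-m) t = 1 := by
  rw [← TPt.ch_add, add_neg_cancel, TPt.ch_zero]

/-- logarithmic differentials of characters -/
noncomputable def dlog (R : Type u) [CommRing R] [Algebra R C] (t : TPt M C) : M →+ Ω[C⁄R] where
  toFun m := TPt.ch (-m) t • KaehlerDifferential.D R C (TPt.ch m t)
  map_zero' := by rw [TPt.ch_zero, Derivation.map_one_eq_zero, smul_zero]
  map_add' m n := by
    rw [TPt.ch_add, Derivation.leibniz, neg_add, TPt.ch_add, smul_add, smul_smul, smul_smul,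
      add_comm]
    congr 1
    · congr 1
      have := TPt.ch_mul_neg t n
      linear_combination (TPt.ch (-m) t) * this
    · congr 1
      have := TPt.ch_mul_neg t m
      linear_combination (TPt.ch (-n) t) * this

lemma dlog_apply (t : TPt M C) (m : M) :
    dlog R t m = TPt.ch (-m) t • KaehlerDifferential.D R C (TPt.ch m t) := rfl

lemma ch_smul_dlog (t : TPt M C) (m : M) :
    TPt.ch m t • dlog R t m = KaehlerDifferential.D R C (TPt.ch m t) := by
  rw [dlog_apply, smul_smul, TPt.ch_mul_neg, one_smul]

lemma nonempty_omegaEquiv {ι J : Type} [Fintype ι] [Fintype J] (b : Module.Basis J ℤ M) (X : ι → C)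
    (t : TPt M C)
    (hadj : Algebra.adjoin R (Set.range X ∪ Set.range (fun m : M => TPt.ch m t)) = ⊤)
    (hex : ∀ (ξ : ι → C) (τ : M →+ C), ∃ d : Derivation R C C, (∀ a, d (X a) = ξ a) ∧
      ∀ m, d (TPt.ch m t) = TPt.ch m t * τ m) :
    Nonempty (Ω[C⁄R] ≃ₗ[C] (ι ⊕ J → C)) := by
  classical
  choose der hder1 hder2 using hex
  let coordC : J → (M →+ C) := fun j => (Int.castAddHom C).comp (b.coord j).toAddMonoidHom
  have hcoord : ∀ j m, coordC j m = ((b.repr m j : ℤ) : C) := fun j m => rfl
  let omG : Ω[C⁄R] →ₗ[C] (ι ⊕ J → C) :=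
    LinearMap.pi (Sum.elim
      (fun a => (der (Pi.single a 1) 0).liftKaehlerDifferential)
      (fun j => (der 0 (coordC j)).liftKaehlerDifferential))
  let v : ι ⊕ J → Ω[C⁄R] := Sum.elim (fun a => KaehlerDifferential.D R C (X a))
    (fun j => dlog R t (b j))
  let omF : (ι ⊕ J → C) →ₗ[C] Ω[C⁄R] := Fintype.linearCombination C v
  have hG1 : ∀ a, omG (KaehlerDifferential.D R C (X a)) = Pi.single (Sum.inl a) 1 := by
    intro a
    funext s
    rcases s with c | j
    · simp only [omG, LinearMap.pi_apply, Sum.elim_inl, Derivation.liftKaehlerDifferential_comp_D,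
        hder1]
      by_cases h : a = c
      · subst h; simp
      · rw [Pi.single_eq_of_ne h, Pi.single_eq_of_ne (fun h' => h (Sum.inl.inj h').symm)]
    · simp only [omG, LinearMap.pi_apply, Sum.elim_inr, Derivation.liftKaehlerDifferential_comp_D,
        hder1, Pi.zero_apply]
      rw [Pi.single_eq_of_ne (by simp)]
  have hG2 : ∀ m, omG (KaehlerDifferential.D R C (TPt.ch m t)) =
      Sum.elim (fun _ => 0) (fun j => TPt.ch m t * coordC j m) := by
    intro m
    funext s
    rcases s with c | j
    · simp [omG, hder2]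
    · simp [omG, hder2]
  have hG3 : ∀ m, omG (dlog R t m) = Sum.elim (fun _ => 0) (fun j => coordC j m) := by
    intro m
    rw [dlog_apply, map_smul, hG2]
    funext s
    rcases s with c | j
    · simp
    · simp only [Pi.smul_apply, Sum.elim_inr, smul_eq_mul]
      rw [← mul_assoc, mul_comm (TPt.ch (-m) t), TPt.ch_mul_neg, one_mul]
  have hG4 : ∀ j, omG (dlog R t (b j)) = Pi.single (Sum.inr j) 1 := by
    intro j
    rw [hG3]
    funext s
    rcases s with c | j'
    · simp
    · simp only [Sum.elim_inr, hcoord, Module.Basis.repr_self]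
      by_cases h : j = j'
      · subst h; simp
      · rw [Finsupp.single_eq_of_ne (Ne.symm h), Pi.single_eq_of_ne (fun h' => h (Sum.inr.inj h').symm)]
        simp
  have h1 : omG ∘ₗ omF = LinearMap.id := by
    apply LinearMap.pi_ext'
    intro s
    ext
    rcases s with a | j
    · simp only [omF, LinearMap.comp_apply, LinearMap.single_apply,
        Fintype.linearCombination_apply_single, one_smul, LinearMap.id_apply]
      rw [show v (Sum.inl a) = KaehlerDifferential.D R C (X a) from rfl, hG1]
    · simp only [omF, LinearMap.comp_apply, LinearMap.single_apply,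
        Fintype.linearCombination_apply_single, one_smul, LinearMap.id_apply]
      rw [show v (Sum.inr j) = dlog R t (b j) from rfl, hG4]
  have hF1 : ∀ m, omF (Sum.elim (fun _ => 0) (fun j => coordC j m)) = dlog R t m := by
    intro m
    have e1 : dlog R t m = ∑ j, (b.repr m j) • dlog R t (b j) := by
      conv_lhs => rw [← b.sum_repr m]
      rw [map_sum]
      apply Finset.sum_congr rfl
      intro j _
      rw [map_zsmul]
    rw [e1, Fintype.linearCombination_apply, Fintype.sum_sum_type]
    simp only [Sum.elim_inl, zero_smul, Finset.sum_const_zero, zero_add, Sum.elim_inr]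
    apply Finset.sum_congr rfl
    intro j _
    rw [hcoord, Int.cast_smul_eq_zsmul]
    rfl
  have h2 : omF ∘ₗ omG = LinearMap.id := by
    apply (KaehlerDifferential.linearMapEquivDerivation R C).injective
    ext z
    change (omF ∘ₗ omG).compDer (KaehlerDifferential.D R C) z =
      (LinearMap.id : Ω[C⁄R] →ₗ[C] Ω[C⁄R]).compDer (KaehlerDifferential.D R C) z
    have hz : z ∈ Algebra.adjoin R (Set.range X ∪ Set.range (fun m : M => TPt.ch m t)) := by
      rw [hadj]; trivial
    refine Derivation.eqOn_adjoin ?_ hz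
    rintro w (⟨a, rfl⟩ | ⟨m, rfl⟩)
    · change omF (omG (KaehlerDifferential.D R C (X a))) = KaehlerDifferential.D R C (X a)
      rw [hG1, Fintype.linearCombination_apply_single, one_smul]
      rfl
    · change omF (omG (KaehlerDifferential.D R C (TPt.ch m t))) =
        KaehlerDifferential.D R C (TPt.ch m t)
      rw [← ch_smul_dlog, map_smul, map_smul, hG3, hF1]
  exact ⟨LinearEquiv.ofLinearMap omG omF h1 h2⟩

end general

namespace Datum
open Groth.Agent.Sga3B.Cell

variable {R A : Type u} [CommRing R] [CommRing A] [Algebra R A] [PtGrp R A] (D : Datum R A)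

section der

variable (ξ : D.idx → D.CR) (τ : D.M →+ D.CR)

/-- the algebra homomorphism behind a derivation -/
noncomputable def derHom : D.CR →ₐ[R] TrivSqZeroExt D.CR D.CR :=
  D.ev (fun a => TrivSqZeroExt.inl (X a) + TrivSqZeroExt.inr (ξ a)) (tsqT D.tU τ)

lemma derHom_X (a : D.idx) : D.derHom ξ τ (X a) =
    TrivSqZeroExt.inl (X a) + TrivSqZeroExt.inr (ξ a) :=
  D.ev_X _ _ a

lemma derHom_ch (m : D.M) : D.derHom ξ τ (TPt.ch m D.tU) =
    TrivSqZeroExt.inl (TPt.ch m D.tU) + TrivSqZeroExt.inr (TPt.ch m D.tU * τ m) := by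
  unfold derHom
  rw [← TPt.ch_map, map_ev_tU, ch_tsqT]

lemma fst_derHom (z : D.CR) : (D.derHom ξ τ z).fst = z := by
  have h : (TrivSqZeroExt.fstHom R D.CR D.CR).comp (D.derHom ξ τ) = AlgHom.id R D.CR := by
    apply D.algHom_ext
    · intro a
      rw [AlgHom.comp_apply, derHom_X]
      simp
    · intro m
      rw [AlgHom.comp_apply, derHom_ch]
      simp
  exact congrArg (fun k : D.CR →ₐ[R] D.CR => k z) h

/-- The derivation of the cell ring with given values on the coordinates. -/
noncomputable def der : Derivation R D.CR D.CR := derOf (D.derHom ξ τ) (D.fst_derHom ξ τ)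

lemma der_X (a : D.idx) : D.der ξ τ (X a) = ξ a := by
  change (D.derHom ξ τ (X a)).snd = _
  rw [derHom_X]; simp

lemma der_ch (m : D.M) : D.der ξ τ (TPt.ch m D.tU) = TPt.ch m D.tU * τ m := by
  change (D.derHom ξ τ (TPt.ch m D.tU)).snd = _
  rw [derHom_ch]; simp

end der

section omega

/-- the coordinates generate the cell ring -/
lemma adjoin_coord : Algebra.adjoin R (Set.range (fun a : D.idx => (X a : D.CR)) ∪
    Set.range (fun m : D.M => TPt.ch m D.tU)) = ⊤ := by
  rw [eq_top_iff]
  intro z _
  induction z using MvPolynomial.induction_on with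
  | C z =>
    induction z using MonoidAlgebra.induction_on with
    | of m =>
      exact Algebra.subset_adjoin (Or.inr ⟨m.toAdd, rfl⟩)
    | add x y hx hy =>
      rw [map_add]
      exact add_mem (hx trivial) (hy trivial)
    | smul r x hx =>
      have e : (MvPolynomial.C (r • x) : D.CR) = r • MvPolynomial.C x := by
        rw [Algebra.smul_def, map_mul, Algebra.smul_def]; rfl
      rw [e]
      exact Subalgebra.smul_mem _ (hx trivial) r
  | add p q hp hq => exact add_mem (hp trivial) (hq trivial)
  | mul_X p a hp => exact mul_mem (hp trivial) (Algebra.subset_adjoin (Or.inl ⟨a, rfl⟩))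

/-- a basis of the character group -/
noncomputable abbrev bas : Module.Basis (Module.Free.ChooseBasisIndex ℤ D.M) ℤ D.M :=
  Module.Free.chooseBasis ℤ D.M

theorem omega_CR : Module.Free D.CR Ω[D.CR⁄R] ∧ (Nontrivial R → Module.finrank D.CR Ω[D.CR⁄R] =
    Fintype.card D.idx + Module.finrank ℤ D.M) := by
  obtain ⟨e⟩ := nonempty_omegaEquiv (R := R) (C := D.CR) D.bas (fun a => (X a : D.CR)) D.tU
    D.adjoin_coord (fun ξ τ => ⟨D.der ξ τ, D.der_X ξ τ, D.der_ch ξ τ⟩)
  refine ⟨Module.Free.of_equiv e.symm, ?_⟩
  intro hR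
  rw [e.finrank_eq, Module.finrank_fintype_fun_eq_card, Fintype.card_sum,
    Module.finrank_eq_card_chooseBasisIndex]

end omega

instance smooth_CR : Algebra.Smooth R D.CR := by
  have h1 : Algebra.FiniteType ℤ (MonoidAlgebra ℤ (Multiplicative D.M)) := by
    rw [MonoidAlgebra.finiteType_iff_fg]
    have : AddGroup.FG D.M := Module.Finite.iff_addGroup_fg.mp inferInstance
    exact Monoid.fg_of_group_fg
  have h2 : Algebra.FinitePresentation ℤ (MonoidAlgebra ℤ (Multiplicative D.M)) :=
    Algebra.FinitePresentation.of_finiteType.mp h1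
  have h3 : Algebra.FinitePresentation R (MonoidAlgebra R (Multiplicative D.M)) :=
    Algebra.FinitePresentation.equiv
      (MonoidAlgebra.scalarTensorEquiv ℤ R (M := Multiplicative D.M))
  have h4 : Algebra.FormallySmooth R (MonoidAlgebra R (Multiplicative D.M)) :=
    DiagSmooth.formallySmooth R D.M
  have h5 : Algebra.FinitePresentation R D.CR :=
    Algebra.FinitePresentation.trans R (MonoidAlgebra R (Multiplicative D.M)) D.CR
  have h6 : Algebra.FormallySmooth R D.CR :=
    Algebra.FormallySmooth.comp R (MonoidAlgebra R (Multiplicative D.M)) D.CR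
  exact ⟨h6, h5⟩

end Datum
end Groth.Agent.Sga3B.Cell
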