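import Groth.Agent.Sga3B.CellUniv
import Mathlib.Algebra.TrivSqZeroExt.Basic
import Mathlib.Algebra.MonoidAlgebra.Basic

/-!
# The differential of the cell map at the origin is injective
-/

set_option autoImplicit false
universe u

open MvPolynomial

namespace Groth.Agent.Sga3B.Cell

section general

variable {R B B' : Type u} [CommRing R] [CommRing B] [Algebra R B] [CommRing B'] [Algebra R B']

section tsmap
variable {M N : Type u} [AddCommGroup M] [Module B M] [Module Bᵐᵒᵖ M] [IsCentralScalar B M]
  [Module R M] [IsScalarTower R B M] [IsScalarTower R Bᵐᵒᵖ M]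
  [AddCommGroup N] [Module B' N] [Module B'ᵐᵒᵖ N] [IsCentralScalar B' N]
  [Module R N] [IsScalarTower R B' N] [IsScalarTower R B'ᵐᵒᵖ N]

/-- functoriality of trivial square zero extensions -/
def tsmap (j : B →ₐ[R] B') (g : M →+ N) (hg : ∀ (b : B) (m : M), g (b • m) = j b • g m) :
    TrivSqZeroExt B M →ₐ[R] TrivSqZeroExt B' N where
  toFun x := (j x.fst, g x.snd)
  map_one' := TrivSqZeroExt.ext (map_one j) (map_zero g)
  map_mul' x y := by
    apply TrivSqZeroExt.ext
    · exact map_mul j _ _
    · change g (x.fst • y.snd + MulOpposite.op y.fst • x.snd) =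
        j x.fst • g y.snd + MulOpposite.op (j y.fst) • g x.snd
      rw [map_add, hg, op_smul_eq_smul, hg, op_smul_eq_smul]
  map_zero' := TrivSqZeroExt.ext (map_zero j) (map_zero g)
  map_add' x y := TrivSqZeroExt.ext (map_add j _ _) (map_add g _ _)
  commutes' r := TrivSqZeroExt.ext (j.commutes r) (map_zero g)

@[simp] lemma fst_tsmap (j : B →ₐ[R] B') (g : M →+ N) (hg : ∀ (b : B) (m : M), g (b • m) = j b • g m)
    (x : TrivSqZeroExt B M) : (tsmap j g hg x).fst = j x.fst := rfl

@[simp] lemma snd_tsmap (j : B →ₐ[R] B') (g : M →+ N) (hg : ∀ (b : B) (m : M), g (b • m) = j b • g m)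
    (x : TrivSqZeroExt B M) : (tsmap j g hg x).snd = g x.snd := rfl

end tsmap

variable (R B) in
/-- projection from the dual numbers -/
noncomputable abbrev tfst : TrivSqZeroExt B B →ₐ[R] B := TrivSqZeroExt.fstHom R B B

variable (R B) in
/-- inclusion in the dual numbers -/
noncomputable abbrev tinl : B →ₐ[R] TrivSqZeroExt B B := TrivSqZeroExt.inlAlgHom R B B

variable {A : Type u} [CommRing A] [Algebra R A]

lemma pt_ext_tsq {g g' : Pt R A (TrivSqZeroExt B B)} (h : Pt.map (tfst R B) g = Pt.map (tfst R B) g')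
    (h2 : ∀ f, (g.hom f).snd = (g'.hom f).snd) : g = g' := by
  apply Pt.ext
  intro f
  apply TrivSqZeroExt.ext
  · exact congrArg (fun k : Pt R A B => k.hom f) h
  · exact h2 f

variable [PtGrp R A]

/-- additivity of infinitesimal points -/
lemma snd_mul {g g' : Pt R A (TrivSqZeroExt B B)} (hg : Pt.map (tfst R B) g = 1)
    (hg' : Pt.map (tfst R B) g' = 1) (f : A) :
    ((g * g').hom f).snd = (g.hom f).snd + (g'.hom f).snd := by
  let i₁ : TrivSqZeroExt B B →ₐ[R] TrivSqZeroExt B (B × B) :=
    tsmap (AlgHom.id R B) (AddMonoidHom.inl B B) (fun b m => by simp)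
  let i₂ : TrivSqZeroExt B B →ₐ[R] TrivSqZeroExt B (B × B) :=
    tsmap (AlgHom.id R B) (AddMonoidHom.inr B B) (fun b m => by simp)
  let p₁ : TrivSqZeroExt B (B × B) →ₐ[R] TrivSqZeroExt B B :=
    tsmap (AlgHom.id R B) (AddMonoidHom.fst B B) (fun b m => by simp)
  let p₂ : TrivSqZeroExt B (B × B) →ₐ[R] TrivSqZeroExt B B :=
    tsmap (AlgHom.id R B) (AddMonoidHom.snd B B) (fun b m => by simp)
  let s : TrivSqZeroExt B (B × B) →ₐ[R] TrivSqZeroExt B B :=
    tsmap (AlgHom.id R B) (AddMonoidHom.fst B B + AddMonoidHom.snd B B)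
      (fun b m => by simp [mul_add])
  have e11 : p₁.comp i₁ = AlgHom.id R _ := by
    exact AlgHom.ext fun x => TrivSqZeroExt.ext rfl rfl
  have e12 : p₁.comp i₂ = (tinl R B).comp (tfst R B) := by
    exact AlgHom.ext fun x => TrivSqZeroExt.ext rfl rfl
  have e21 : p₂.comp i₁ = (tinl R B).comp (tfst R B) := by
    exact AlgHom.ext fun x => TrivSqZeroExt.ext rfl rfl
  have e22 : p₂.comp i₂ = AlgHom.id R _ := by
    exact AlgHom.ext fun x => TrivSqZeroExt.ext rfl rfl
  have es1 : s.comp i₁ = AlgHom.id R _ := by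
    exact AlgHom.ext fun x => TrivSqZeroExt.ext rfl (add_zero _)
  have es2 : s.comp i₂ = AlgHom.id R _ := by
    exact AlgHom.ext fun x => TrivSqZeroExt.ext rfl (zero_add _)
  set G := Pt.map i₁ g * Pt.map i₂ g' with hG
  have h1 : Pt.map p₁ G = g := by
    rw [hG, Pt.map_mul, Pt.map_map, Pt.map_map, e11, e12, ← Pt.map_map, hg', Pt.map_one, mul_one,
      Pt.map_id]
  have h2 : Pt.map p₂ G = g' := by
    rw [hG, Pt.map_mul, Pt.map_map, Pt.map_map, e21, e22, ← Pt.map_map, hg, Pt.map_one, one_mul,
      Pt.map_id]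
  have h3 : Pt.map s G = g * g' := by
    rw [hG, Pt.map_mul, Pt.map_map, Pt.map_map, es1, es2, Pt.map_id, Pt.map_id]
  have k1 := congrArg (fun k : Pt R A _ => (k.hom f).snd) h1
  have k2 := congrArg (fun k : Pt R A _ => (k.hom f).snd) h2
  have k3 := congrArg (fun k : Pt R A _ => (k.hom f).snd) h3
  change (G.hom f).snd.1 = (g.hom f).snd at k1
  change (G.hom f).snd.2 = (g'.hom f).snd at k2
  change (G.hom f).snd.1 + (G.hom f).snd.2 = ((g * g').hom f).snd at k3
  rw [← k3, k1, k2]

lemma snd_one (f : A) : ((1 : Pt R A (TrivSqZeroExt B B)).hom f).snd = 0 := by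
  rw [← Pt.map_one (tinl R B), Pt.map_hom_apply]
  simp

lemma map_tfst_list_prod {l : List (Pt R A (TrivSqZeroExt B B))}
    (h : ∀ g ∈ l, Pt.map (tfst R B) g = 1) : Pt.map (tfst R B) l.prod = 1 := by
  rw [Pt.map_list_prod]
  apply List.prod_eq_one
  intro x hx
  obtain ⟨g, hg, rfl⟩ := List.mem_map.mp hx
  exact h g hg

lemma snd_list_prod {l : List (Pt R A (TrivSqZeroExt B B))}
    (h : ∀ g ∈ l, Pt.map (tfst R B) g = 1) (f : A) :
    (l.prod.hom f).snd = (l.map (fun g => (g.hom f).snd)).sum := by
  induction l with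
  | nil => simp [snd_one]
  | cons a l ih =>
    rw [List.prod_cons, snd_mul (h a (by simp)) (map_tfst_list_prod fun g hg => h g (by simp [hg])),
      ih (fun g hg => h g (by simp [hg]))]
    simp

end general

namespace Datum

open Groth.Agent.Sga3B.Cell

variable {R A : Type u} [CommRing R] [CommRing A] [Algebra R A] [PtGrp R A] (D : Datum R A)
variable {B : Type u} [CommRing B] [Algebra R B]

/-- the scaled extension `B[ε] → B[M][ε]` -/
noncomputable def rho (χ : MonoidAlgebra B (Multiplicative D.M)) :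
    TrivSqZeroExt B B →ₐ[R]
      TrivSqZeroExt (MonoidAlgebra B (Multiplicative D.M)) (MonoidAlgebra B (Multiplicative D.M)) :=
  tsmap (IsScalarTower.toAlgHom R B (MonoidAlgebra B (Multiplicative D.M)))
    ((AddMonoidHom.mulLeft χ).comp
      (algebraMap B (MonoidAlgebra B (Multiplicative D.M)) : B →+ _))
    (fun b m => by
      change χ * algebraMap B (MonoidAlgebra B (Multiplicative D.M)) (b * m) =
        algebraMap B (MonoidAlgebra B (Multiplicative D.M)) b *
          (χ * algebraMap B (MonoidAlgebra B (Multiplicative D.M)) m)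
      rw [map_mul]
      ring)

lemma snd_rho (χ : MonoidAlgebra B (Multiplicative D.M)) (x : TrivSqZeroExt B B) :
    (D.rho (R := R) χ x).snd = χ * algebraMap B _ x.snd := rfl

lemma fst_rho (χ : MonoidAlgebra B (Multiplicative D.M)) (x : TrivSqZeroExt B B) :
    (D.rho (R := R) χ x).fst = algebraMap B _ x.fst := rfl

/-- the universal torus point over `B[M]` -/
noncomputable def sU : TPt D.M (MonoidAlgebra B (Multiplicative D.M)) :=
  MonoidHom.toHomUnits (MonoidAlgebra.of B (Multiplicative D.M))

lemma ch_sU (m : D.M) : TPt.ch m (D.sU (B := B)) =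
    MonoidAlgebra.single (Multiplicative.ofAdd m) (1 : B) := rfl

/-- injectivity of the differential of the cell map at the origin -/
theorem cell_tangent_inj {L : List D.idx} (hL : L.Nodup) (hL' : ∀ a, a ∈ L) (ξ : D.idx → B)
    (t : TPt D.M (TrivSqZeroExt B B)) (ht : TPt.map (tfst R B) t = 1)
    (h : D.cell L (fun a => TrivSqZeroExt.inr (ξ a)) t = 1) : ξ = 0 ∧ t = 1 := by
  classical
  set s : TPt D.M (TrivSqZeroExt (MonoidAlgebra B (Multiplicative D.M))
    (MonoidAlgebra B (Multiplicative D.M))) := TPt.map (tinl R _) D.sU with hs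
  have h1 := congrArg (Pt.map (D.rho (R := R) 1)) h
  rw [cell_nat, Pt.map_one] at h1
  have h2 := D.conj_cell L (fun a => D.rho (R := R) 1 (TrivSqZeroExt.inr (ξ a)))
    (TPt.map (D.rho (R := R) 1) t) s
  rw [h1, mul_one, mul_inv_cancel] at h2
  have h3 : (fun a => TPt.ch (D.root a) s * D.rho (R := R) 1 (TrivSqZeroExt.inr (ξ a))) =
      fun a => D.rho (R := R) (MonoidAlgebra.single (Multiplicative.ofAdd (D.root a)) (1 : B))
        (TrivSqZeroExt.inr (ξ a)) := by
    funext a
    rw [hs, TPt.ch_map, ch_sU]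
    apply TrivSqZeroExt.ext
    · simp [fst_rho]
    · rw [TrivSqZeroExt.snd_mul, snd_rho, fst_rho, snd_rho]
      simp
  rw [h3] at h2
  -- the derivations
  let du : D.idx → A → B := fun a f => ((D.uu a (TrivSqZeroExt B B) (TrivSqZeroExt.inr (ξ a))).hom f).snd
  let dT : A → B := fun f => ((D.i (TrivSqZeroExt B B) t).hom f).snd
  have key : ∀ f : A, (∑ a, MonoidAlgebra.single (Multiplicative.ofAdd (D.root a)) (du a f)) +
      MonoidAlgebra.single 1 (dT f) = (0 : MonoidAlgebra B (Multiplicative D.M)) := by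
    intro f
    have h4 := congrArg (fun g : Pt R A _ => (g.hom f).snd) h2
    simp only [snd_one] at h4
    have hu1 : ∀ a, Pt.map (tfst R (MonoidAlgebra B (Multiplicative D.M))) (D.uu a _
        (D.rho (R := R) (MonoidAlgebra.single (Multiplicative.ofAdd (D.root a)) (1 : B))
        (TrivSqZeroExt.inr (ξ a)))) = 1 := by
      intro a
      rw [D.uu_nat]
      have : (tfst R (MonoidAlgebra B (Multiplicative D.M)))
          (D.rho (R := R) (MonoidAlgebra.single (Multiplicative.ofAdd (D.root a)) (1 : B))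
          (TrivSqZeroExt.inr (ξ a))) = 0 := by
        change (D.rho (R := R) (MonoidAlgebra.single (Multiplicative.ofAdd (D.root a)) (1 : B))
          (TrivSqZeroExt.inr (ξ a))).fst = 0
        rw [fst_rho]; simp
      rw [this, uu_zero]
    have ht1 : Pt.map (tfst R (MonoidAlgebra B (Multiplicative D.M)))
        (D.i _ (TPt.map (D.rho (R := R) 1) t)) = 1 := by
      rw [D.i_nat]
      have : TPt.map (tfst R (MonoidAlgebra B (Multiplicative D.M)))
          (TPt.map (D.rho (R := R) 1) t) = 1 := by
        have e : TPt.map (tfst R (MonoidAlgebra B (Multiplicative D.M)))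
          (TPt.map (D.rho (R := R) 1) t) =
            TPt.map (IsScalarTower.toAlgHom R B (MonoidAlgebra B (Multiplicative D.M)))
              (TPt.map (tfst R B) t) := rfl
        rw [e, ht, map_one]
      rw [this, map_one]
    have hl : ∀ g ∈ L.map (fun a => D.uu a _
        (D.rho (R := R) (MonoidAlgebra.single (Multiplicative.ofAdd (D.root a)) (1 : B))
        (TrivSqZeroExt.inr (ξ a)))),
        Pt.map (tfst R (MonoidAlgebra B (Multiplicative D.M))) g = 1 := by
      intro g hg
      obtain ⟨a, -, rfl⟩ := List.mem_map.mp hg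
      exact hu1 a
    unfold cell at h4
    rw [snd_mul (map_tfst_list_prod hl) ht1, snd_list_prod hl, List.map_map] at h4
    rw [h4, ← List.sum_toFinset _ hL]
    have hLu : L.toFinset = Finset.univ := by
      ext a; simp [hL']
    rw [hLu]
    congr 1
    · apply Finset.sum_congr rfl
      intro a _
      simp only [Function.comp_apply]
      rw [← D.uu_nat, Pt.map_hom_apply, snd_rho]
      simp [du]
    · rw [← D.i_nat, Pt.map_hom_apply, snd_rho]
      simp [dT]
  have hdu : ∀ (a : D.idx) (f : A), du a f = 0 := by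
    intro b f
    have h5 := congrArg (fun z : MonoidAlgebra B (Multiplicative D.M) =>
      z.coeff (Multiplicative.ofAdd (D.root b))) (key f)
    simp only [MonoidAlgebra.coeff_add, MonoidAlgebra.coeff_sum, MonoidAlgebra.coeff_single,
      MonoidAlgebra.coeff_zero, Finsupp.add_apply, Finsupp.finsetSum_apply] at h5
    rw [Finset.sum_eq_single b, Finsupp.single_eq_same, Finsupp.single_eq_of_ne, add_zero] at h5
    · exact h5
    · intro hb
      exact D.root_ne b (congrArg Multiplicative.toAdd hb)
    · intro a _ hab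
      rw [Finsupp.single_eq_of_ne]
      intro hb
      exact hab (D.root_inj (congrArg Multiplicative.toAdd hb).symm)
    · simp
  have hξ : ξ = 0 := by
    funext a
    have h6 : D.uu a _ (TrivSqZeroExt.inr (ξ a)) = D.uu a _ (0 : TrivSqZeroExt B B) := by
      apply pt_ext_tsq
      · rw [D.uu_nat, D.uu_nat, map_zero]
        congr 1
      · intro f
        rw [uu_zero, snd_one]
        exact hdu a f
    have h7 := D.uu_inj a h6
    simpa using congrArg TrivSqZeroExt.snd h7
  refine ⟨hξ, ?_⟩
  subst hξ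
  apply D.i_inj
  rw [map_one, ← h]
  simp only [Pi.zero_apply, TrivSqZeroExt.inr_zero]
  rw [cell_zero]

end Datum

end Groth.Agent.Sga3B.Cell
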