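import Groth.Agent.Sga3B.CellEtAlg
import Groth.Agent.Sga3B.CellOm
import Groth.Agent.Sga3B.CellTan
import Groth.Agent.Sga3B.CellN
import Mathlib.FieldTheory.IsAlgClosed.AlgebraicClosure

/-!
# The cell map is étale near the unit section
-/

set_option autoImplicit false
universe u

open MvPolynomial TensorProduct

namespace Groth.Agent.Sga3B.Cell.Datum

open Groth.Agent.Sga3B.Cell

variable {R A : Type u} [CommRing R] [CommRing A] [Algebra R A] [PtGrp R A] (D : Datum R A)

/-- The dimension hypothesis: the tangent space at the unit section has dimension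
`card idx + rank M` at geometric points. -/
def RankOK : Prop := ∀ (K : Type u) [Field K] [IsAlgClosed K] [Algebra R K] [Algebra A K]
  [IsScalarTower R A K], (∀ f : A, algebraMap A K f = (1 : Pt R A K).hom f) →
    Module.finrank K (K ⊗[A] Ω[A⁄R]) = Fintype.card D.idx + Module.finrank ℤ D.M

section

variable {D}

lemma ev_zero_one_phi {B : Type u} [CommRing B] [Algebra R B] (L : List D.idx) (f : A) :
    D.ev (fun _ => (0 : B)) 1 (D.phi L f) = (1 : Pt R A B).hom f := by
  rw [ev_phi, cell_zero, i_one']

lemma ev_zero_one_eq {B : Type u} [CommRing B] [Algebra R B] (z : D.CR) :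
    D.ev (fun _ => (0 : B)) 1 z = algebraMap R B (D.ev0 z) := by
  have h := D.comp_ev (Algebra.ofId R B) (fun _ => (0 : R)) 1
  simp only [map_zero, map_one] at h
  exact (congrArg (fun k : D.CR →ₐ[R] B => k z) h).symm

/-- maps from the cell ring killing the ideal of the unit section -/
lemma algHom_eq_of_ker {B : Type u} [CommRing B] [Algebra R B] (π : D.CR →ₐ[R] B)
    (h : ∀ z, D.ev0 z = 0 → π z = 0) : π = D.ev (fun _ => (0 : B)) 1 := by
  apply AlgHom.ext
  intro z
  rw [ev_zero_one_eq]
  have h1 := h (z - algebraMap R D.CR (D.ev0 z)) (by rw [map_sub, AlgHom.commutes]; simp)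
  rw [map_sub, AlgHom.commutes, sub_eq_zero] at h1
  exact h1

/-- derivations at the unit section which vanish on `A` are zero -/
theorem der_eq_zero {L : List D.idx} (hL : L.Nodup) (hL' : ∀ a, a ∈ L) {κ : Type u} [CommRing κ]
    [Algebra R κ] [Algebra D.CR κ] [IsScalarTower R D.CR κ]
    (h0 : ∀ z, D.ev0 z = 0 → algebraMap D.CR κ z = 0) (d : Derivation R D.CR κ)
    (hd : ∀ f, d (D.phi L f) = 0) : d = 0 := by
  set π : D.CR →ₐ[R] κ := IsScalarTower.toAlgHom R D.CR κ with hπ
  have hπ0 := algHom_eq_of_ker π h0
  let H : D.CR →ₐ[R] TrivSqZeroExt κ κ :=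
    { toFun := fun z => (π z, d z)
      map_one' := TrivSqZeroExt.ext (map_one π) (d.map_one_eq_zero)
      map_mul' := fun z w => by
        apply TrivSqZeroExt.ext
        · exact map_mul π z w
        · change d (z * w) = π z • d w + MulOpposite.op (π w) • d z
          rw [d.leibniz, op_smul_eq_smul]
          congr 1
          · rw [Algebra.smul_def]; rfl
          · rw [Algebra.smul_def]; rfl
      map_zero' := TrivSqZeroExt.ext (map_zero π) (map_zero d)
      map_add' := fun z w => TrivSqZeroExt.ext (map_add π z w) (map_add d z w)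
      commutes' := fun r => by
        apply TrivSqZeroExt.ext
        · exact π.commutes r
        · exact d.map_algebraMap r }
  have hH1 : ∀ z, (H z).fst = π z := fun z => rfl
  have hH2 : ∀ z, (H z).snd = d z := fun z => rfl
  set ξ : D.idx → κ := fun a => d (X a) with hξ
  set t : TPt D.M (TrivSqZeroExt κ κ) := TPt.map H D.tU with ht
  have hx : ∀ a, H (X a) = TrivSqZeroExt.inr (ξ a) := by
    intro a
    apply TrivSqZeroExt.ext
    · rw [hH1, hπ0]; simp
    · rw [hH2]; simp [hξ]
  have hev : H = D.ev (fun a => TrivSqZeroExt.inr (ξ a)) t := by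
    rw [D.eq_ev H]
    congr 1
    funext a
    exact hx a
  have ht1 : TPt.map (tfst R κ) t = 1 := by
    have e : TPt.map (tfst R κ) t = TPt.map π D.tU := rfl
    rw [e, hπ0, map_ev_tU]
  have hcell : D.cell L (fun a => TrivSqZeroExt.inr (ξ a)) t = 1 := by
    apply pt_ext_tsq
    · apply Pt.ext
      intro f
      rw [Pt.map_one, Pt.map_hom_apply, ← ev_phi, ← hev]
      change π (D.phi L f) = _
      rw [hπ0, ev_zero_one_phi]
    · intro f
      rw [snd_one, ← ev_phi, ← hev]
      exact hd f
  obtain ⟨h1, h2⟩ := D.cell_tangent_inj hL hL' ξ t ht1 hcell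
  apply Derivation.ext_of_adjoin_eq_top _ D.adjoin_coord
  rintro w (⟨a, rfl⟩ | ⟨m, rfl⟩)
  · exact congrFun h1 a
  · have h3 := congrArg (TPt.ch m) h2
    rw [ht, TPt.ch_map, TPt.ch_one] at h3
    have h4 := congrArg TrivSqZeroExt.snd h3
    rw [hH2, TrivSqZeroExt.snd_one] at h4
    exact h4

end

/-- The cell map is étale near the unit section. -/
theorem good [Algebra.Smooth R A] (h : D.RankOK) : D.Good := by
  intro L hL hL'
  let _ : Algebra A D.CR := (D.phi L : A →+* D.CR).toAlgebra
  have hT : IsScalarTower R A D.CR := .of_algebraMap_eq fun r => ((D.phi L).commutes r).symm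
  have hmap : ∀ f : A, algebraMap A D.CR f = D.phi L f := fun f => rfl
  have hfp : Algebra.FinitePresentation A D.CR :=
    Algebra.FinitePresentation.of_restrict_scalars_finitePresentation R A D.CR
  -- étale at the primes over the unit section
  have het : ∀ q : PrimeSpectrum D.CR, RingHom.ker (D.ev0 : D.CR →+* R) ≤ q.asIdeal →
      q ∈ Algebra.etaleLocus A D.CR := by
    intro q hq
    have hker : ∀ z, D.ev0 z = 0 → z ∈ q.asIdeal := fun z hz => hq hz
    have hR : Nontrivial R := by
      by_contra hR
      rw [not_nontrivial_iff_subsingleton] at hR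
      exact q.isPrime.ne_top ((Ideal.eq_top_iff_one _).mpr (hker 1 (Subsingleton.elim _ _)))
    apply CellEtAlg.mem_etaleLocus (R := R)
    · apply CellEtAlg.notMem_support_of_der
      intro d
      have hd0 : d.restrictScalars R = 0 := by
        apply der_eq_zero hL hL'
        · intro z hz
          rw [Ideal.algebraMap_residueField_eq_zero]
          exact hker z hz
        · intro f
          exact d.map_algebraMap f
      ext z
      exact congrArg (fun k : Derivation R D.CR _ => k z) hd0
    · obtain ⟨hfree, hrk⟩ := D.omega_CR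
      have hr : Module.rankAtStalk Ω[D.CR⁄R] q = Fintype.card D.idx + Module.finrank ℤ D.M := by
        rw [Module.rankAtStalk_eq_finrank_of_free, hrk hR]
        simp
      rw [hr]
      let K := AlgebraicClosure q.asIdeal.ResidueField
      have hT2 : IsScalarTower A D.CR K := inferInstance
      have hT3 : IsScalarTower R D.CR K := inferInstance
      have hT4 : IsScalarTower R A K := .of_algebraMap_eq fun r => by
        rw [IsScalarTower.algebraMap_apply A D.CR K, ← IsScalarTower.algebraMap_apply R A D.CR,
          ← IsScalarTower.algebraMap_apply R D.CR K]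
      have hK : ∀ z, algebraMap D.CR K z = 0 ↔ z ∈ q.asIdeal := by
        intro z
        rw [IsScalarTower.algebraMap_apply D.CR q.asIdeal.ResidueField K,
          map_eq_zero_iff _ (algebraMap q.asIdeal.ResidueField K).injective,
          Ideal.algebraMap_residueField_eq_zero]
      have h1 := h K (by
        intro f
        rw [IsScalarTower.algebraMap_apply A D.CR K, hmap]
        have h2 := algHom_eq_of_ker (D := D) (IsScalarTower.toAlgHom R D.CR K)
          (fun z hz => (hK z).mpr (hker z hz))
        rw [← ev_zero_one_phi L f, ← h2]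
        rfl)
      rw [← h1, CellEtAlg.finrank_eq_rankAtStalk]
      congr 1
      apply PrimeSpectrum.ext
      ext f
      simp only [PrimeSpectrum.comap_asIdeal, Ideal.mem_comap]
      rw [IsScalarTower.algebraMap_apply A D.CR K]
      exact (hK _).symm
  -- choose `δ`
  have hopen : IsOpen (Algebra.etaleLocus A D.CR) := Algebra.isOpen_etaleLocus
  set Jd : Ideal D.CR := PrimeSpectrum.vanishingIdeal (Algebra.etaleLocus A D.CR)ᶜ with hJd
  have hcl : PrimeSpectrum.zeroLocus (Jd : Set D.CR) = (Algebra.etaleLocus A D.CR)ᶜ := by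
    rw [hJd, PrimeSpectrum.zeroLocus_vanishingIdeal_eq_closure, hopen.isClosed_compl.closure_eq]
  have htop : Jd ⊔ RingHom.ker (D.ev0 : D.CR →+* R) = ⊤ := by
    by_contra hne
    obtain ⟨m, hm, hle⟩ := Ideal.exists_le_maximal _ hne
    have h1 : (⟨m, hm.isPrime⟩ : PrimeSpectrum D.CR) ∈ PrimeSpectrum.zeroLocus (Jd : Set D.CR) :=
      fun z hz => hle (Ideal.mem_sup_left hz)
    rw [hcl] at h1
    exact h1 (het ⟨m, hm.isPrime⟩ (fun z hz => hle (Ideal.mem_sup_right hz)))
  obtain ⟨δ, hδ, c, hc, hδc⟩ := Submodule.mem_sup.mp ((Ideal.eq_top_iff_one _).mp htop)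
  refine ⟨δ, ?_, ?_⟩
  · have h2 : (PrimeSpectrum.basicOpen δ : Set (PrimeSpectrum D.CR)) ⊆ Algebra.etaleLocus A D.CR := by
      intro q hq
      by_contra hq'
      exact hq ((PrimeSpectrum.mem_vanishingIdeal _ _).mp hδ q hq')
    rw [Algebra.basicOpen_subset_etaleLocus_iff_etale] at h2
    have h3 := RingHom.etale_algebraMap.mpr h2
    rw [IsScalarTower.algebraMap_eq A D.CR (Localization.Away δ)] at h3
    exact h3
  · have h3 := congrArg D.ev0 hδc
    rw [map_add, map_one, show D.ev0 c = 0 from hc, add_zero] at h3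
    exact h3

end Groth.Agent.Sga3B.Cell.Datum
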