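import Groth.Agent.Sga3B.CellZ
import Mathlib.Algebra.Module.Submodule.Union
import Mathlib.RingTheory.Localization.Integer
import Mathlib.RingTheory.Localization.FractionRing

/-!
# `N_G(T)` fixing the roots equals `T`, over any base; the centraliser of the torus; the centre
-/

set_option autoImplicit false
universe u

open TensorProduct LaurentPolynomial

namespace Groth.Agent.Sga3B.Cell.Datum

open Groth.Agent.Sga3B.Cell

variable {R A : Type u} [CommRing R] [CommRing A] [Algebra R A] [PtGrp R A] {D : Datum R A}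

/-- evaluation `B[M] → C` -/
noncomputable def evB {B C : Type u} [CommRing B] [Algebra R B] [CommRing C] [Algebra R C]
    (φ : B →ₐ[R] C) (s : TPt D.M C) : MonoidAlgebra B (Multiplicative D.M) →ₐ[R] C :=
  MonoidAlgebra.liftNCAlgHom φ ((Units.coeHom C).comp s) (fun _ _ => Commute.all _ _)

lemma evB_single {B C : Type u} [CommRing B] [Algebra R B] [CommRing C] [Algebra R C]
    (φ : B →ₐ[R] C) (s : TPt D.M C) (m : Multiplicative D.M) (b : B) :
    evB φ s (MonoidAlgebra.single m b) = φ b * (s m : C) :=
  MonoidAlgebra.liftNCRingHom_single (φ : B →+* C) ((Units.coeHom C).comp s)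
    (fun _ _ => Commute.all _ _) m b

lemma map_evB_sU {B C : Type u} [CommRing B] [Algebra R B] [CommRing C] [Algebra R C]
    (φ : B →ₐ[R] C) (s : TPt D.M C) : TPt.map (evB φ s) (D.sU (B := B)) = s := by
  apply TPt.ext_ch
  intro m
  rw [TPt.ch_map, ch_sU, evB_single, map_one, one_mul]
  rfl

/-- the inclusion of constants `B → B[M]` -/
noncomputable abbrev conB (D : Datum R A) (B : Type u) [CommRing B] [Algebra R B] :
    B →ₐ[R] MonoidAlgebra B (Multiplicative D.M) :=
  IsScalarTower.toAlgHom R B (MonoidAlgebra B (Multiplicative D.M))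

lemma evB_comp_conB {B C : Type u} [CommRing B] [Algebra R B] [CommRing C] [Algebra R C]
    (φ : B →ₐ[R] C) (s : TPt D.M C) : (evB φ s).comp (D.conB B) = φ := by
  apply AlgHom.ext
  intro b
  change evB φ s (algebraMap B (MonoidAlgebra B (Multiplicative D.M)) b) = φ b
  rw [MonoidAlgebra.coe_algebraMap]
  simp [evB_single]

/-- coefficients of the evaluation at the diagonal point -/
lemma coeff_evB_diag {B : Type u} [CommRing B] [Algebra R B]
    (z : MonoidAlgebra B (Multiplicative D.M)) (m : Multiplicative D.M) :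
    (evB ((D.conB (MonoidAlgebra B (Multiplicative D.M))).comp (D.conB B))
      (TPt.mulP (TPt.map (D.conB (MonoidAlgebra B (Multiplicative D.M))) (D.sU (B := B)))
        (D.sU (B := MonoidAlgebra B (Multiplicative D.M)))) z).coeff m =
      MonoidAlgebra.single m (z.coeff m) := by
  classical
  induction z using MonoidAlgebra.induction_linear with
  | zero => simp
  | add x y hx hy =>
    rw [map_add, MonoidAlgebra.coeff_add, Finsupp.add_apply, hx, hy, MonoidAlgebra.coeff_add,
      Finsupp.add_apply, MonoidAlgebra.single_add]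
  | single n b =>
    rw [evB_single]
    have h1 : (((TPt.mulP (TPt.map (D.conB (MonoidAlgebra B (Multiplicative D.M))) (D.sU (B := B)))
        (D.sU (B := MonoidAlgebra B (Multiplicative D.M)))) n : _) :
        MonoidAlgebra (MonoidAlgebra B (Multiplicative D.M)) (Multiplicative D.M)) =
        MonoidAlgebra.single n (MonoidAlgebra.single n (1 : B)) := by
      have h2 := TPt.ch_mulP (TPt.map (D.conB (MonoidAlgebra B (Multiplicative D.M))) (D.sU (B := B)))
        (D.sU (B := MonoidAlgebra B (Multiplicative D.M))) n.toAdd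
      rw [TPt.ch_map, ch_sU, ch_sU] at h2
      refine h2.trans ?_
      change algebraMap (MonoidAlgebra B (Multiplicative D.M)) _ _ * _ = _
      rw [MonoidAlgebra.coe_algebraMap]
      simp [MonoidAlgebra.single_mul_single]
    rw [h1]
    change ((algebraMap (MonoidAlgebra B (Multiplicative D.M)) _
      (algebraMap B (MonoidAlgebra B (Multiplicative D.M)) b)) * _ : MonoidAlgebra
        (MonoidAlgebra B (Multiplicative D.M)) (Multiplicative D.M)).coeff m = _
    rw [← Algebra.smul_def, MonoidAlgebra.coeff_smul_apply, MonoidAlgebra.coeff_single,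
      MonoidAlgebra.coeff_single, Finsupp.single_apply, Finsupp.single_apply]
    split_ifs with h
    · subst h
      rw [smul_eq_mul, MonoidAlgebra.coe_algebraMap]
      simp [MonoidAlgebra.single_mul_single]
    · simp

/-- A point normalising the torus which geometrically centralises it centralises it. -/
theorem comm_of_normalizes {B : Type u} [CommRing B] [Algebra R B] (g : Pt R A B)
    (hnorm : ∀ (C : Type u) [CommRing C] [Algebra R C] (φ : B →ₐ[R] C) (s : TPt D.M C),
      ∃ s' : TPt D.M C, Pt.map φ g * D.i C s = D.i C s' * Pt.map φ g)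
    (hpt : ∀ (K : Type u) [Field K] [IsAlgClosed K] [Algebra R K] (φ : B →ₐ[R] K),
      ∃ t : TPt D.M K, Pt.map φ g = D.i K t) (C : Type u) [CommRing C] [Algebra R C]
      (φ : B →ₐ[R] C) (s : TPt D.M C) : Pt.map φ g * D.i C s = D.i C s * Pt.map φ g := by
  classical
  obtain ⟨s', hs'⟩ := hnorm (MonoidAlgebra B (Multiplicative D.M)) (D.conB B) (D.sU (B := B))
  -- it suffices to treat the universal point
  have huniv : ∀ (C : Type u) [CommRing C] [Algebra R C] (φ : B →ₐ[R] C) (s : TPt D.M C),
      Pt.map φ g * D.i C s = D.i C (TPt.map (evB φ s) s') * Pt.map φ g := by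
    intro C _ _ φ s
    have h1 := congrArg (Pt.map (evB φ s)) hs'
    rw [Pt.map_mul, Pt.map_mul, Pt.map_map, evB_comp_conB, D.i_nat, D.i_nat, map_evB_sU] at h1
    exact h1
  suffices hs : s' = D.sU by
    rw [huniv, hs, map_evB_sU]
  apply TPt.ext_ch
  intro m
  rw [ch_sU]
  set z : MonoidAlgebra B (Multiplicative D.M) := TPt.ch m s' with hz
  -- multiplicativity
  let B₁ := MonoidAlgebra B (Multiplicative D.M)
  let B₂ := MonoidAlgebra B₁ (Multiplicative D.M)
  let s₁ : TPt D.M B₂ := TPt.map (D.conB B₁) (D.sU (B := B))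
  let s₂ : TPt D.M B₂ := D.sU (B := B₁)
  let φ₂ : B →ₐ[R] B₂ := (D.conB B₁).comp (D.conB B)
  have hmul : TPt.map (evB φ₂ (TPt.mulP s₁ s₂)) s' =
      TPt.mulP (TPt.map (evB φ₂ s₁) s') (TPt.map (evB φ₂ s₂) s') := by
    apply D.i_inj
    rw [i_mulP]
    have e1 := huniv B₂ φ₂ (TPt.mulP s₁ s₂)
    have e2 := huniv B₂ φ₂ s₁
    have e3 := huniv B₂ φ₂ s₂
    rw [i_mulP] at e1
    have e4 : D.i B₂ (TPt.map (evB φ₂ (TPt.mulP s₁ s₂)) s') * Pt.map φ₂ g =
        D.i B₂ (TPt.map (evB φ₂ s₁) s') * D.i B₂ (TPt.map (evB φ₂ s₂) s') * Pt.map φ₂ g := by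
      rw [← e1, ← mul_assoc, e2, mul_assoc, e3, mul_assoc]
    exact mul_right_cancel e4
  have hev1 : evB φ₂ s₁ = D.conB B₁ := by
    apply AlgHom.ext
    intro w
    induction w using MonoidAlgebra.induction_linear with
    | zero => rw [map_zero, map_zero]
    | add x y hx hy => rw [map_add, map_add, hx, hy]
    | single n b =>
      rw [evB_single]
      change D.conB B₁ (D.conB B b) * D.conB B₁ (MonoidAlgebra.single n 1) = _
      rw [← map_mul]
      congr 1
      change algebraMap B B₁ b * _ = _
      rw [← Algebra.smul_def, MonoidAlgebra.smul_single]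
      simp
  have hev2 : ∀ w : B₁, ∀ n, (evB φ₂ s₂ w).coeff n = algebraMap B B₁ (w.coeff n) := by
    intro w n
    induction w using MonoidAlgebra.induction_linear with
    | zero => simp
    | add x y hx hy =>
      rw [map_add, MonoidAlgebra.coeff_add, Finsupp.add_apply, hx, hy, MonoidAlgebra.coeff_add,
        Finsupp.add_apply, map_add]
    | single n' b =>
      rw [evB_single]
      change (algebraMap B₁ B₂ (algebraMap B B₁ b) * MonoidAlgebra.single n' (1 : B₁)).coeff n = _
      rw [← Algebra.smul_def, MonoidAlgebra.coeff_smul_apply, MonoidAlgebra.coeff_single,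
        MonoidAlgebra.coeff_single, Finsupp.single_apply, Finsupp.single_apply]
      split_ifs <;> simp
  have hcoef : ∀ n, MonoidAlgebra.single n (z.coeff n) = z * algebraMap B B₁ (z.coeff n) := by
    intro n
    have h1 := congrArg (TPt.ch m) hmul
    rw [TPt.ch_mulP, TPt.ch_map, TPt.ch_map, TPt.ch_map, ← hz, hev1] at h1
    have h2 := congrArg (fun w : B₂ => w.coeff n) h1
    rw [coeff_evB_diag] at h2
    rw [h2]
    change (algebraMap B₁ B₂ z * evB φ₂ s₂ z).coeff n = _
    rw [← Algebra.smul_def, MonoidAlgebra.coeff_smul_apply, hev2, smul_eq_mul]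
  have horth : ∀ n n', n ≠ n' → z.coeff n' * z.coeff n = 0 := by
    intro n n' hn
    have h1 := congrArg (fun w : B₁ => w.coeff n') (hcoef n)
    simp only [MonoidAlgebra.coeff_single] at h1
    rw [Finsupp.single_apply, if_neg hn, mul_comm, ← Algebra.smul_def,
      MonoidAlgebra.coeff_smul_apply, smul_eq_mul, mul_comm] at h1
    exact h1.symm
  have hidem : ∀ n, z.coeff n * z.coeff n = z.coeff n := by
    intro n
    have h1 := congrArg (fun w : B₁ => w.coeff n) (hcoef n)
    simp only [MonoidAlgebra.coeff_single] at h1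
    rw [Finsupp.single_apply, if_pos rfl, mul_comm, ← Algebra.smul_def,
      MonoidAlgebra.coeff_smul_apply, smul_eq_mul] at h1
    exact h1.symm
  -- the coefficient at `m` is a unit
  have hunit : IsUnit (z.coeff (Multiplicative.ofAdd m)) := by
    by_contra hnu
    obtain ⟨p, hp, hmem⟩ := exists_max_ideal_of_mem_nonunits hnu
    let K := AlgebraicClosure p.ResidueField
    let ψ : B →ₐ[R] K := IsScalarTower.toAlgHom R B K
    obtain ⟨t, ht⟩ := hpt K ψ
    let ψ₁ : B →ₐ[R] MonoidAlgebra K (Multiplicative D.M) := (D.conB K).comp ψ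
    have h1 := huniv _ ψ₁ (D.sU (B := K))
    have h2 : Pt.map ψ₁ g = D.i _ (TPt.map (D.conB K) t) := by
      rw [← D.i_nat, ← ht, Pt.map_map]
    have h3 : TPt.map (evB ψ₁ (D.sU (B := K))) s' = D.sU (B := K) := by
      apply D.i_inj
      rw [h2, ← i_mul', TPt.mul_comm', i_mul'] at h1
      exact (mul_right_cancel h1).symm
    have h4 := congrArg (TPt.ch m) h3
    rw [TPt.ch_map, ← hz, ch_sU] at h4
    have h5 : ∀ w : B₁, ∀ n, (evB ψ₁ (D.sU (B := K)) w).coeff n = ψ (w.coeff n) := by
      intro w n
      induction w using MonoidAlgebra.induction_linear with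
      | zero => simp
      | add x y hx hy =>
        rw [map_add, MonoidAlgebra.coeff_add, Finsupp.add_apply, hx, hy, MonoidAlgebra.coeff_add,
          Finsupp.add_apply, map_add]
      | single n' b =>
        rw [evB_single]
        change (algebraMap K (MonoidAlgebra K (Multiplicative D.M)) (ψ b) *
          MonoidAlgebra.single n' (1 : K)).coeff n = _
        rw [← Algebra.smul_def, MonoidAlgebra.coeff_smul_apply, MonoidAlgebra.coeff_single,
          MonoidAlgebra.coeff_single, Finsupp.single_apply, Finsupp.single_apply]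
        split_ifs <;> simp
    have h6 := congrArg (fun w : MonoidAlgebra K (Multiplicative D.M) =>
      w.coeff (Multiplicative.ofAdd m)) h4
    simp only [h5, MonoidAlgebra.coeff_single, Finsupp.single_eq_same] at h6
    have h7 : ψ (z.coeff (Multiplicative.ofAdd m)) = 0 := by
      change algebraMap B K _ = 0
      rw [IsScalarTower.algebraMap_apply B p.ResidueField K,
        Ideal.algebraMap_residueField_eq_zero.mpr hmem, map_zero]
    rw [h7] at h6
    exact zero_ne_one h6
  have hone : z.coeff (Multiplicative.ofAdd m) = 1 := by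
    have := hidem (Multiplicative.ofAdd m)
    exact hunit.mul_left_cancel (by rw [this, mul_one])
  apply MonoidAlgebra.ext
  apply Finsupp.ext
  intro n
  rw [MonoidAlgebra.coeff_single, Finsupp.single_apply]
  split_ifs with h
  · rw [← h, hone]
  · have h8 := horth (Multiplicative.ofAdd m) n h
    rw [hone, mul_one] at h8
    exact h8

variable (D) in
/-- existence of a regular cocharacter -/
theorem exists_regular : ∃ lam : D.M →+ ℤ, ∀ a, lam (D.root a) ≠ 0 := by
  classical
  let b := Module.Free.chooseBasis ℤ D.M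
  let J := Module.Free.ChooseBasisIndex ℤ D.M
  let v : D.idx → (J → ℚ) := fun a j => (b.repr (D.root a) j : ℚ)
  have hv : ∀ a, v a ≠ 0 := by
    intro a h
    apply D.root_ne a
    apply b.repr.injective
    rw [map_zero]
    ext j
    have := congrFun h j
    simpa [v] using this
  obtain ⟨f, hf⟩ := Module.exists_dual_forall_apply_ne_zero (K := ℚ) v hv
  obtain ⟨⟨d, hd⟩, hd2⟩ := IsLocalization.exist_integer_multiples_of_finite
    (nonZeroDivisors ℤ) (S := ℚ) (fun j : J => f (Pi.single j 1))
  have hd0 : d ≠ 0 := nonZeroDivisors.ne_zero hd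
  choose c hc using hd2
  have hc' : ∀ j, (c j : ℚ) = d * f (Pi.single j 1) := by
    intro j
    have h1 := hc j
    rw [zsmul_eq_mul] at h1
    exact h1
  let lam : D.M →+ ℤ := (b.constr ℤ c).toAddMonoidHom
  have hlam : ∀ m, ((lam m : ℤ) : ℚ) = d * f (fun j => (b.repr m j : ℚ)) := by
    intro m
    have h1 : lam m = ∑ j, b.repr m j * c j := by
      change b.constr ℤ c m = _
      rw [Module.Basis.constr_apply_fintype]
      simp [Module.Basis.equivFun_apply]
    have h2 : (fun j => (b.repr m j : ℚ)) = ∑ j, (b.repr m j : ℚ) • (Pi.single j (1 : ℚ) : J → ℚ) := by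
      ext i
      simp [Finset.sum_apply, Pi.single_apply]
    rw [h1, h2, map_sum, Finset.mul_sum]
    push_cast
    apply Finset.sum_congr rfl
    intro j _
    rw [hc', map_smul, smul_eq_mul]
    ring
  refine ⟨lam, fun a h => ?_⟩
  have h3 := hlam (D.root a)
  rw [h, Int.cast_zero] at h3
  rcases mul_eq_zero.mp h3.symm with h4 | h4
  · exact hd0 (by exact_mod_cast h4)
  · exact hf a h4

/-- Points normalising the torus and fixing the roots lie in the torus, over any base. -/
theorem exists_eq_i_of_normalizes [Algebra.Smooth R A] (hG : D.Good) (hD : GeomDom R A)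
    {B : Type u} [CommRing B] [Algebra R B] (g : Pt R A B)
    (hnorm : ∀ (C : Type u) [CommRing C] [Algebra R C] (φ : B →ₐ[R] C) (s : TPt D.M C),
      ∃ s' : TPt D.M C, Pt.map φ g * D.i C s = D.i C s' * Pt.map φ g ∧
        ∀ a, TPt.ch (D.root a) s' = TPt.ch (D.root a) s) :
    ∃ t : TPt D.M B, g = D.i B t := by
  obtain ⟨lam, hlam⟩ := D.exists_regular
  have hpt : ∀ (K : Type u) [Field K] [IsAlgClosed K] [Algebra R K] (φ : B →ₐ[R] K),
      ∃ t : TPt D.M K, Pt.map φ g = D.i K t := by
    intro K _ _ _ φ
    have hdom := hD K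
    obtain ⟨s', hs', hs'r⟩ := hnorm K[T;T⁻¹] ((lC R K).comp φ) (D.cochar lam)
    obtain ⟨t, ht, -⟩ := exists_eq_i_of_conj hG lam hlam (Pt.map φ g) (θ' := s')
      (fun a => by rw [hs'r]; rfl) (by
        rw [Pt.map_map, hs']
        group)
    exact ⟨t, ht⟩
  apply exists_eq_i hG g _ hpt
  intro C _ _ φ s
  exact (comm_of_normalizes g (fun C _ _ φ s => (hnorm C φ s).imp fun s' h => h.1) hpt C φ s).symm

/-- The centraliser of the torus is the torus, over any base. -/
theorem exists_eq_i_of_comm [Algebra.Smooth R A] (hG : D.Good) (hD : GeomDom R A)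
    {B : Type u} [CommRing B] [Algebra R B] (g : Pt R A B)
    (hcomm : ∀ (C : Type u) [CommRing C] [Algebra R C] (φ : B →ₐ[R] C) (s : TPt D.M C),
      Pt.map φ g * D.i C s = D.i C s * Pt.map φ g) :
    ∃ t : TPt D.M B, g = D.i B t :=
  exists_eq_i_of_normalizes hG hD g fun C _ _ φ s => ⟨s, hcomm C φ s, fun _ => rfl⟩

/-- Torus points commuting with a root subgroup are killed by the root. -/
lemma ch_eq_one_of_comm {B : Type u} [CommRing B] [Algebra R B] (t : TPt D.M B) (a : D.idx)
    (h : D.i B t * D.uu a B 1 = D.uu a B 1 * D.i B t) : TPt.ch (D.root a) t = 1 := by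
  have h1 := D.rel a t (1 : B)
  rw [h, mul_inv_cancel_right, mul_one] at h1
  exact (D.uu_inj a h1).symm

/-- The centre: points commuting with all points are the torus points on which the roots vanish. -/
theorem central_iff [Algebra.Smooth R A] (hG : D.Good) (hD : GeomDom R A)
    {B : Type u} [CommRing B] [Algebra R B] (g : Pt R A B) :
    (∀ (C : Type u) [CommRing C] [Algebra R C] (φ : B →ₐ[R] C) (h : Pt R A C),
      Pt.map φ g * h = h * Pt.map φ g) ↔
    ∃ t : TPt D.M B, g = D.i B t ∧ ∀ a, TPt.ch (D.root a) t = 1 := by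
  constructor
  · intro h
    obtain ⟨t, rfl⟩ := exists_eq_i_of_comm hG hD g (fun C _ _ φ s => h C φ _)
    refine ⟨t, rfl, fun a => ?_⟩
    apply ch_eq_one_of_comm
    have := h B (AlgHom.id R B) (D.uu a B 1)
    rw [Pt.map_id] at this
    exact this
  · rintro ⟨t, rfl, ht⟩ C _ _ φ h
    rw [D.i_nat]
    apply i_central hG hD
    intro a
    rw [TPt.ch_map, ht, map_one]

end Groth.Agent.Sga3B.Cell.Datum
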