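import Groth.Agent.Sga3B.PinFinal
import Groth.Agent.Sga3B.CellNorm

/-!
# Affine charts of a group scheme

For `G : Over S` with an affine structure morphism and `s : Spec R ⟶ S` a chart is the coordinate ring
`A` of `G ×_S Spec R` with the group structure on its points, and the identification of `Pt R A B` with the
points of `G` over `Spec B ⟶ Spec R ⟶ S`.
-/

set_option autoImplicit false
universe u

open CategoryTheory MonoidalCategory CartesianMonoidalCategory MonObj GrpObj AlgebraicGeometry Limits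
open Polynomial

namespace Groth.Agent.Sga3B

open Cell PinMod DSPts GaPts

/-- An affine chart of the group `G` over `s : Spec R ⟶ S`. -/
structure Chart {S : Scheme.{u}} (G : Over S) [GrpObj G] {R : Type u} [CommRing R]
    (s : Spec (CommRingCat.of R) ⟶ S) where
  /-- the coordinate ring of `G ×_S Spec R` -/
  A : Type u
  [ring : CommRing A]
  [alg : Algebra R A]
  [grp : PtGrp R A]
  /-- points -/
  pts : ∀ (B : Type u) [CommRing B] [Algebra R B], Pt R A B ≃* (tB s B ⟶ G)
  pts_nat : ∀ {B C : Type u} [CommRing B] [Algebra R B] [CommRing C] [Algebra R C] (φ : B →ₐ[R] C)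
    (g : Pt R A B), tMap s φ ≫ pts B g = pts C (Pt.map φ g)
  /-- the projection of `Spec A = G ×_S Spec R` to `G` -/
  p : Spec (CommRingCat.of A) ⟶ G.left
  pts_left : ∀ (B : Type u) [CommRing B] [Algebra R B] (g : Pt R A B),
    (pts B g).left = Spec.map (CommRingCat.ofHom (g.hom : A →+* B)) ≫ p
  isPullback : IsPullback p (Spec.map (CommRingCat.ofHom (algebraMap R A))) G.hom s

attribute [instance] Chart.ring Chart.alg Chart.grp

section prelim

variable {S : Scheme.{u}} {R : Type u} [CommRing R] (s : Spec (CommRingCat.of R) ⟶ S)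
variable {B C : Type u} [CommRing B] [Algebra R B] [CommRing C] [Algebra R C]
variable {M : Type} [AddCommGroup M]

lemma fnOf_add (x y : B) : fnOf s (x + y) = fnOf s x + fnOf s y := map_add _ _ _
lemma fnOf_mul (x y : B) : fnOf s (x * y) = fnOf s x * fnOf s y := map_mul _ _ _

lemma fnOf_injective : Function.Injective (fnOf (B := B) s) := by
  intro x y h
  have := congrArg (Scheme.ΓSpecIso (CommRingCat.of B)).hom h
  change ((Scheme.ΓSpecIso (CommRingCat.of B)).inv ≫ (Scheme.ΓSpecIso (CommRingCat.of B)).hom) x =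
    ((Scheme.ΓSpecIso (CommRingCat.of B)).inv ≫ (Scheme.ΓSpecIso (CommRingCat.of B)).hom) y at this
  rw [Iso.inv_hom_id] at this
  exact this

lemma appTop_fnOf (φ : B →ₐ[R] C) (x : B) : (tMap s φ).left.appTop (fnOf s x) = fnOf s (φ x) := by
  have h := congrArg CommRingCat.Hom.hom
    (Scheme.ΓSpecIso_inv_naturality (CommRingCat.ofHom (φ : B →+* C)))
  exact (DFunLike.congr_fun h x).symm

lemma chΓ_apply (t : TPt M B) (m : M) : chΓ s t (Multiplicative.ofAdd m) = fnOf s (TPt.ch m t) := rfl

lemma chΓ_one : chΓ s (1 : TPt M B) = 1 := by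
  refine MonoidHom.ext fun m => ?_
  exact map_one (Scheme.ΓSpecIso (CommRingCat.of B)).inv.hom

lemma chΓ_mul (t t' : TPt M B) : chΓ s (t * t') = chΓ s t * chΓ s t' := by
  refine MonoidHom.ext fun m => ?_
  exact map_mul (Scheme.ΓSpecIso (CommRingCat.of B)).inv.hom _ _

lemma chΓ_injective : Function.Injective (chΓ (M := M) (B := B) s) := by
  intro t t' h
  apply TPt.ext_ch
  intro m
  exact fnOf_injective s (DFunLike.congr_fun h (Multiplicative.ofAdd m))

lemma tMap_dsEquiv (φ : B →ₐ[R] C) (t : TPt M B) :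
    tMap s φ ≫ dsEquiv (tB s B) M (chΓ s t) = dsEquiv (tB s C) M (chΓ s (TPt.map φ t)) := by
  rw [dsEquiv_naturality]
  congr 1
  refine MonoidHom.ext fun m => ?_
  exact appTop_fnOf s φ (TPt.ch m.toAdd t)

lemma tMap_gaPt (φ : B →ₐ[R] C) (x : B) :
    tMap s φ ≫ gaPt (tB s B) (fnOf s x) = gaPt (tB s C) (fnOf s (φ x)) := by
  rw [comp_gaPt, appTop_fnOf]

lemma isPushout_gen (R : Type u) [CommRing R] (v : ULift.{u} ℤ →+* R) :
    IsPushout (CommRingCat.ofHom (algebraMap (ULift.{u} ℤ) SymZ.{u})) (CommRingCat.ofHom v)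
      (CommRingCat.ofHom (gaHom (X : R[X]))) (CommRingCat.ofHom (algebraMap R R[X])) := by
  refine ⟨⟨?_⟩, ⟨PushoutCocone.IsColimit.mk _
    (fun t => CommRingCat.ofHom (Polynomial.eval₂RingHom t.inr.hom (t.inl.hom gen))) ?_ ?_ ?_⟩⟩
  · rw [← CommRingCat.ofHom_comp, ← CommRingCat.ofHom_comp]
    congr 1
    exact uliftInt_ringHom_ext _ _
  · intro t
    refine CommRingCat.hom_ext ?_
    change (Polynomial.eval₂RingHom t.inr.hom (t.inl.hom gen)).comp (gaHom X) = t.inl.hom
    apply GaPts.ringHom_ext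
    simp
  · intro t
    refine CommRingCat.hom_ext ?_
    change (Polynomial.eval₂RingHom t.inr.hom (t.inl.hom gen)).comp (algebraMap R R[X]) = t.inr.hom
    ext r
    simp
  · intro t m h1 h2
    refine CommRingCat.hom_ext ?_
    change m.hom = Polynomial.eval₂RingHom t.inr.hom (t.inl.hom gen)
    apply Polynomial.ringHom_ext
    · intro r
      have := congrArg (fun k => CommRingCat.Hom.hom k r) h2
      simpa using this
    · have := congrArg (fun k => CommRingCat.Hom.hom k gen) h1
      simpa using this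

lemma gaPt_left_fst (x : B) :
    (gaPt (tB s B) (fnOf s x)).left ≫ pullback.fst _ _ = Spec.map (CommRingCat.ofHom (gaHom x)) := by
  rw [gaPt_fst]
  have h : gaHom (fnOf s x) = ((Scheme.ΓSpecIso (CommRingCat.of B)).inv.hom :
      B →+* Γ(Spec (CommRingCat.of B), ⊤)).comp (gaHom x) := by
    rw [comp_gaHom]; rfl
  rw [h]
  have h2 : CommRingCat.ofHom (((Scheme.ΓSpecIso (CommRingCat.of B)).inv.hom :
      B →+* Γ(Spec (CommRingCat.of B), ⊤)).comp (gaHom x)) =
      CommRingCat.ofHom (gaHom x) ≫ (Scheme.ΓSpecIso (CommRingCat.of B)).inv := rfl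
  rw [h2, Spec.map_comp]
  change (Spec (CommRingCat.of B)).toSpecΓ ≫ Spec.map (Scheme.ΓSpecIso (CommRingCat.of B)).inv ≫ _ = _
  rw [← Category.assoc, toSpecΓ_SpecMap_ΓSpecIso_inv, Category.id_comp]

/-- `Spec R[X]` is the base change of `Ga S` -/
lemma isPullback_ga : IsPullback (gaPt (tB s R[X]) (fnOf s (X : R[X]))).left
    (Spec.map (CommRingCat.ofHom (algebraMap R R[X]))) (Red.Ga S).hom s := by
  have hr : IsPullback (pullback.fst (Red.GaZ.{u}).hom (specULiftZIsTerminal.from S)) (Red.Ga S).hom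
      (Red.GaZ.{u}).hom (specULiftZIsTerminal.from S) := IsPullback.of_hasPullback _ _
  refine IsPullback.of_right ?_ (Over.w (gaPt (tB s R[X]) (fnOf s (X : R[X])))) hr
  rw [gaPt_left_fst]
  have h := specULiftZIsTerminal.hom_ext (s ≫ specULiftZIsTerminal.from S)
    (Spec.map (CommRingCat.ofHom ((Int.castRingHom R).comp
      (ULift.ringEquiv : ULift.{u} ℤ ≃+* ℤ).toRingHom)))
  rw [h]
  exact isPullback_SpecMap_of_isPushout _ _ _ _ (isPushout_gen R _)

end prelim

lemma surjective_of_isClosedImmersion {A B : CommRingCat.{u}} (f : A ⟶ B)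
    (h : IsClosedImmersion (Spec.map f)) : Function.Surjective f := by
  have h1 := (IsClosedImmersion.isAffine_surjective_of_isAffine (f := Spec.map f)).2
  intro b
  obtain ⟨a, ha⟩ := h1 ((Scheme.ΓSpecIso B).inv b)
  refine ⟨(Scheme.ΓSpecIso A).hom a, ?_⟩
  have h2 := Scheme.ΓSpecIso_naturality f
  have h3 := congrArg (fun k => CommRingCat.Hom.hom k a) h2
  have h4 : (Scheme.ΓSpecIso B).hom ((Spec.map f).appTop a) = f ((Scheme.ΓSpecIso A).hom a) := h3
  rw [← h4, ha]
  change ((Scheme.ΓSpecIso B).inv ≫ (Scheme.ΓSpecIso B).hom) b = b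
  rw [Iso.inv_hom_id]; rfl

namespace Chart

variable {S : Scheme.{u}} {G : Over S} [GrpObj G] {R : Type u} [CommRing R]
  {s : Spec (CommRingCat.of R) ⟶ S} (c : Chart G s)
variable {B C : Type u} [CommRing B] [Algebra R B] [CommRing C] [Algebra R C]

lemma pts_symm_nat (φ : B →ₐ[R] C) (g : tB s B ⟶ G) :
    Pt.map φ ((c.pts B).symm g) = (c.pts C).symm (tMap s φ ≫ g) := by
  apply (c.pts C).injective
  rw [← c.pts_nat, MulEquiv.apply_symm_apply, MulEquiv.apply_symm_apply]

/-- points through a closed immersion of groups over `S` -/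
lemma surjective_of_isPullback {H : Over S} (v : H ⟶ G) [IsClosedImmersion v.left]
    (x : tB s B ⟶ H)
    (hx : IsPullback x.left (Spec.map (CommRingCat.ofHom (algebraMap R B))) H.hom s) :
    Function.Surjective ((c.pts B).symm (x ≫ v)).hom := by
  set f : Pt R c.A B := (c.pts B).symm (x ≫ v) with hf
  have h1 : Spec.map (CommRingCat.ofHom (f.hom : c.A →+* B)) ≫ c.p = x.left ≫ v.left := by
    rw [← c.pts_left, hf, MulEquiv.apply_symm_apply, Over.comp_left]
  have h2 : Spec.map (CommRingCat.ofHom (f.hom : c.A →+* B)) ≫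
      Spec.map (CommRingCat.ofHom (algebraMap R c.A)) =
      Spec.map (CommRingCat.ofHom (algebraMap R B)) := by
    rw [← Spec.map_comp, ← CommRingCat.ofHom_comp, AlgHom.comp_algebraMap]
  have h3 : IsPullback x.left (Spec.map (CommRingCat.ofHom (f.hom : c.A →+* B))) v.left c.p := by
    refine IsPullback.of_bot ?_ h1.symm c.isPullback
    rw [h2, Over.w]
    exact hx
  have h4 : IsClosedImmersion (Spec.map (CommRingCat.ofHom (f.hom : c.A →+* B))) :=
    MorphismProperty.of_isPullback (P := @IsClosedImmersion) h3 ‹_›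
  exact surjective_of_isClosedImmersion _ h4

variable (D : Red.SplitRed G)

/-- the inverse of the splitting of the torus -/
noncomputable abbrev splitInv (D : Red.SplitRed G) : Red.DS S D.M ⟶ D.T := D.split.inv.hom.hom

/-- the splitting of the torus -/
noncomputable abbrev splitHom (D : Red.SplitRed G) : D.T ⟶ Red.DS S D.M := D.split.hom.hom.hom

@[reassoc (attr := simp)]
lemma splitInv_hom : splitInv D ≫ splitHom D = 𝟙 _ := congrArg (fun f => f.hom.hom) D.split.inv_hom_id

@[reassoc (attr := simp)]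
lemma splitHom_inv : splitHom D ≫ splitInv D = 𝟙 _ := congrArg (fun f => f.hom.hom) D.split.hom_inv_id

/-- the torus as a morphism from `D_S(M)` -/
noncomputable abbrev j (D : Red.SplitRed G) : Red.DS S D.M ⟶ G := PinFinal.jOf D

lemma j_eq : j D = splitInv D ≫ D.i := rfl

instance : IsIso (splitInv D) := ⟨splitHom D, splitInv_hom D, splitHom_inv D⟩

instance isMonHom_i : IsMonHom D.i := D.maximalTorus.1

instance mono_i : Mono D.i := D.maximalTorus.2.1

instance isMonHom_splitInv : IsMonHom (splitInv D) := D.split.inv.hom.isMonHom_hom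

instance isMonHom_j : IsMonHom (j D) := inferInstanceAs (IsMonHom (splitInv D ≫ D.i))

instance mono_j : Mono (j D) := mono_comp (splitInv D) D.i

instance isMonHom_u (a : D.idx) : IsMonHom (D.u a) := (D.rootHom a).1

instance isClosedImmersion_u (a : D.idx) : IsClosedImmersion (D.u a).left := (D.rootHom a).2.1

/-- the torus on points -/
noncomputable def iPt (B : Type u) [CommRing B] [Algebra R B] : TPt D.M B →* Pt R c.A B where
  toFun t := (c.pts B).symm (dsEquiv (tB s B) D.M (chΓ s t) ≫ j D)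
  map_one' := by
    rw [chΓ_one, map_one, MonObj.one_comp, map_one]
  map_mul' t t' := by
    rw [chΓ_mul, map_mul, MonObj.mul_comp, map_mul]

lemma iPt_apply (t : TPt D.M B) :
    c.iPt D B t = (c.pts B).symm (dsEquiv (tB s B) D.M (chΓ s t) ≫ j D) := rfl

/-- the root homomorphisms on points -/
noncomputable def uPt (a : D.idx) (B : Type u) [CommRing B] [Algebra R B] (x : B) : Pt R c.A B :=
  (c.pts B).symm (gaPt (tB s B) (fnOf s x) ≫ D.u a)

lemma pts_iPt (t : TPt D.M B) : c.pts B (c.iPt D B t) = dsEquiv (tB s B) D.M (chΓ s t) ≫ j D :=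
  MulEquiv.apply_symm_apply _ _

lemma pts_uPt (a : D.idx) (x : B) :
    c.pts B (c.uPt D a B x) = gaPt (tB s B) (fnOf s x) ≫ D.u a :=
  MulEquiv.apply_symm_apply _ _

lemma iPt_nat (φ : B →ₐ[R] C) (t : TPt D.M B) :
    Pt.map φ (c.iPt D B t) = c.iPt D C (TPt.map φ t) := by
  rw [iPt_apply, pts_symm_nat, ← Category.assoc, tMap_dsEquiv, iPt_apply]

lemma iPt_injective (B : Type u) [CommRing B] [Algebra R B] : Function.Injective (c.iPt D B) := by
  intro t t' h
  rw [iPt_apply, iPt_apply, EmbeddingLike.apply_eq_iff_eq, cancel_mono,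
    EmbeddingLike.apply_eq_iff_eq] at h
  exact chΓ_injective s h

lemma uPt_add (a : D.idx) (x y : B) : c.uPt D a B (x + y) = c.uPt D a B x * c.uPt D a B y := by
  rw [uPt, fnOf_add, gaPt_add, MonObj.mul_comp, map_mul]
  rfl

lemma uPt_nat (a : D.idx) (φ : B →ₐ[R] C) (x : B) :
    Pt.map φ (c.uPt D a B x) = c.uPt D a C (φ x) := by
  rw [uPt, pts_symm_nat, ← Category.assoc, tMap_gaPt, uPt]

lemma uPt_surj (a : D.idx) : Function.Surjective (c.uPt D a R[X] X).hom :=
  c.surjective_of_isPullback (D.u a) _ (isPullback_ga s)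

lemma rel_iPt (a : D.idx) (t : TPt D.M B) (x : B) :
    c.iPt D B t * c.uPt D a B x * (c.iPt D B t)⁻¹ =
      c.uPt D a B (TPt.ch (D.P.root a) t * x) := by
  apply (c.pts B).injective
  rw [map_mul, map_mul, map_inv, pts_iPt, pts_uPt, pts_uPt]
  obtain ⟨y, hy, hy'⟩ := (D.rootHom a).2.2 (tB s B) (dsEquiv (tB s B) D.M (chΓ s t) ≫ splitInv D)
    (gaPt (tB s B) (fnOf s x))
  rw [Category.assoc, ← j_eq] at hy
  rw [← hy]
  congr 1
  apply gaFn_injective
  rw [hy', gaFn_gaPt, gaFn_gaPt, fnOf_mul]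
  congr 1
  have h1 : (dsEquiv (tB s B) D.M (chΓ s t) ≫ splitInv D) ≫ splitHom D ≫ Red.chi S (D.P.root a) =
      dsEquiv (tB s B) D.M (chΓ s t) ≫ Red.chi S (D.P.root a) := by
    rw [Category.assoc, splitInv_hom_assoc]
  rw [h1, gmFn_chi, dsChar_dsEquiv]
  rfl

/-- The datum of a splitting in a chart. -/
noncomputable def datum : Datum R c.A where
  M := D.M
  idx := D.idx
  root := D.P.root
  i := c.iPt D
  i_nat := c.iPt_nat D
  i_inj := c.iPt_injective D
  uu := c.uPt D
  uu_add a _ _ _ x y := c.uPt_add D a x y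
  uu_nat a _ _ _ _ _ _ φ x := c.uPt_nat D a φ x
  uu_surj := c.uPt_surj D
  rel a _ _ _ t x := c.rel_iPt D a t x
  root_inj := D.P.root.injective
  root_ne a := D.P.ne_zero a

@[simp] lemma datum_root (a : D.idx) : (c.datum D).root a = D.P.root a := rfl

/-- the torus of the datum -/
lemma pts_i (t : TPt D.M B) : c.pts B ((c.datum D).i B t) =
    dsEquiv (tB s B) D.M (chΓ s t) ≫ j D := c.pts_iPt D t

/-- the root homomorphisms of the datum -/
lemma pts_uu (a : D.idx) (x : B) : c.pts B ((c.datum D).uu a B x) =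
    gaPt (tB s B) (fnOf s x) ≫ D.u a := c.pts_uPt D a x

end Chart

end Groth.Agent.Sga3B
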