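import Groth.Agent.Sga3B.DictPts414
import Groth.Agent.Sga3B.Chart

/-!
# Existence of affine charts
-/

set_option autoImplicit false
universe u

open CategoryTheory MonoidalCategory CartesianMonoidalCategory MonObj GrpObj AlgebraicGeometry

namespace Groth.Agent.Sga3B

variable {S : Scheme.{u}} (G : Over S) [GrpObj G] [IsAffineHom G.hom] {R : Type u} [CommRing R]
  (s : Spec (CommRingCat.of R) ⟶ S)

/-- the standard chart -/
noncomputable def stdChart : Chart G s where
  A := Dict.GA G s
  pts := Dict.pts G s
  pts_nat φ g := Dict.pts_nat G s φ g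
  p := Dict.pGA G s
  pts_left _ _ _ g := Dict.pts_left' G s g
  isPullback := Dict.isPullback_GA G s

/-- **Affine charts exist.** -/
theorem exists_chart : Nonempty (Chart G s) := ⟨stdChart G s⟩

end Groth.Agent.Sga3B
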