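import Mathlib
import Groth.Agent.UnramA.SmoothDim
import Groth.Agent.Etcore.SmoothRed
import Groth.Agent.Sga3C.GrpIrr
import Groth.Agent.Fdesc.TensorDomain

/-!
# Dimension of the cotangent space of a smooth domain at a rational point
-/

set_option autoImplicit false

universe u

open TensorProduct

namespace Groth.Agent.Sga3B.CellDim

/-- For a smooth domain `B` over a field `K`, the fibre of `Ω[B⁄K]` at a rational point has
dimension `ringKrullDim B`. -/
theorem finrank_cotangent {K B : Type u} [Field K] [CommRing B] [Algebra K B]
    [Algebra.Smooth K B] [IsDomain B] (e : B →ₐ[K] K) (N : ℕ) (hN : ringKrullDim B = N) :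
    letI := (e : B →+* K).toAlgebra
    Module.finrank K (K ⊗[B] Ω[B⁄K]) = N := by
  let _ := (e : B →+* K).toAlgebra
  have hT : IsScalarTower K B K := .of_algHom e
  set p : Ideal B := RingHom.ker e with hp
  have hpm : p.IsMaximal := RingHom.ker_isMaximal_of_surjective (e : B →+* K)
    (fun x => ⟨algebraMap K B x, by simp⟩)
  have hft : Algebra.FiniteType K B := inferInstance
  have hsm : Algebra.IsSmoothAt K p := inferInstance
  obtain ⟨f, hf, hstd⟩ := Algebra.IsSmoothAt.exists_notMem_isStandardSmooth K p
  have hf0 : f ≠ 0 := fun h => hf (h ▸ zero_mem _)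
  have hdom : IsDomain (Localization.Away f) :=
    IsLocalization.isDomain_localization (powers_le_nonZeroDivisors_of_noZeroDivisors hf0)
  obtain ⟨ι, σ, _, _, ⟨P⟩⟩ := hstd
  set n := P.dimension with hn
  have hsd : Algebra.IsStandardSmoothOfRelativeDimension n K (Localization.Away f) :=
    ⟨ι, σ, _, ‹_›, ⟨P, rfl⟩⟩
  have hft' : Algebra.FiniteType K (Localization.Away f) := inferInstance
  -- dimension
  have hnN : n = N := by
    obtain ⟨M, hM⟩ := Ideal.exists_maximal (Localization.Away f)
    have h1 : M.height = n :=
      Groth.Agent.UnramA.SmoothDim.height_eq_of_isStandardSmooth K (Localization.Away f) n M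
    have h2 : (M.under B).IsMaximal := by
      have hJ : IsJacobsonRing B := isJacobsonRing_of_finiteType (A := K)
      exact Groth.Agent.UnramA.SmoothDim.isMaximal_under (R := B) M
    have h3 : M.height = (M.under B).height :=
      (IsLocalization.height_under (Submonoid.powers f) M).symm
    have h4 := Groth.Agent.Ega4B.DimFT.height_maximal K B (M.under B)
    rw [← h3, h1, hN] at h4
    exact_mod_cast h4
  -- the point of the localization
  have hu : ∀ y : Submonoid.powers f, IsUnit ((e : B →+* K) y) := by
    rintro ⟨_, k, rfl⟩
    rw [map_pow]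
    exact (IsUnit.mk0 _ (by simpa [hp, RingHom.mem_ker] using hf)).pow k
  let _ : Algebra (Localization.Away f) K := (IsLocalization.lift hu).toAlgebra
  have hT2 : IsScalarTower B (Localization.Away f) K :=
    .of_algebraMap_eq fun x => (IsLocalization.lift_eq hu x).symm
  have hfree : Module.Free (Localization.Away f) Ω[(Localization.Away f)⁄K] :=
    P.free_kaehlerDifferential
  have hrk : Module.finrank (Localization.Away f) Ω[(Localization.Away f)⁄K] = n := by
    rw [Module.finrank,
      Algebra.IsStandardSmoothOfRelativeDimension.rank_kaehlerDifferential (R := K) n]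
    simp
  have e1 := KaehlerDifferential.tensorKaehlerEquivOfFormallyEtale K B (Localization.Away f)
  have e2 := TensorProduct.AlgebraTensorModule.cancelBaseChange B (Localization.Away f)
    K K Ω[B⁄K]
  have e3 := TensorProduct.AlgebraTensorModule.congr (LinearEquiv.refl K K) e1
  have h5 : Module.finrank K (K ⊗[Localization.Away f] Ω[(Localization.Away f)⁄K]) = n := by
    rw [Module.finrank_baseChange, hrk]
  rw [← e2.finrank_eq, e3.finrank_eq, h5, hnN]

/-- Over an algebraically closed field `K`, `L ⊗[K] B` is a domain for a field `L` and a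
domain `B`. -/
theorem isDomain_tensor {K L B : Type u} [Field K] [IsAlgClosed K] [Field L] [Algebra K L]
    [CommRing B] [IsDomain B] [Algebra K B] : IsDomain (L ⊗[K] B) :=
  Groth.Agent.Fdesc.TensorDomain.isDomain_tensorProduct

open AlgebraicGeometry CategoryTheory

/-- A smooth connected group scheme over an algebraically closed field is integral. -/
theorem isIntegral_of_connected_grp {K : Type u} [Field K] [IsAlgClosed K]
    (G : Over (Spec (CommRingCat.of K))) [GrpObj G] [Smooth G.hom] [ConnectedSpace G.left] :
    IsIntegral G.left := by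
  have h0 : IsReduced (Spec (CommRingCat.of K)) := inferInstance
  have h1 : IsReduced G.left := Groth.Agent.Etcore.SmoothRed.isReduced_of_smooth G.hom
  have h2 : GrpObj (Over.mk G.hom) := ‹GrpObj G›
  have h3 : IrreducibleSpace G.left := Groth.Agent.Sga3C.GrpIrr.irreducibleSpace_of_isAlgClosed
    (k := K) G.hom
  exact isIntegral_of_irreducibleSpace_of_isReduced _

end Groth.Agent.Sga3B.CellDim
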