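import Groth.Prelude.Def_Red
import Groth.Agent.Sga3B.CellDim
import Mathlib.RingTheory.Spectrum.Prime.FreeLocus
import Mathlib.RingTheory.Kaehler.TensorProduct
import Mathlib.RingTheory.Nullstellensatz

/-!
# Smoothness, integral geometric fibres and tangent dimension of affine charts of reductive groups

For `p : Spec A ⟶ G` exhibiting `Spec A` as `G ×_S Spec R`: `A` is smooth over `R`, all
`K ⊗[R] A` (`K` a field) are domains, and the cotangent space at every `K`-point has the expected
dimension.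
-/

set_option autoImplicit false
universe u

open TensorProduct

namespace Groth.Agent.Sga3B.ChartFib

section algebra

/-- The geometric fibres of `A/R` come from smooth domains whose dimension satisfies `Q`. -/
def FibModel (R A : Type u) [CommRing R] [CommRing A] [Algebra R A] (Q : WithBot ℕ∞ → Prop) : Prop :=
  ∀ (K : Type u) [Field K] [IsAlgClosed K] [Algebra R K],
    ∃ (Ω B : Type u) (_ : Field Ω) (_ : IsAlgClosed Ω) (_ : CommRing B) (_ : Algebra Ω B)
      (_ : Algebra Ω K), Algebra.Smooth Ω B ∧ IsDomain B ∧ Q (ringKrullDim B) ∧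
        Nonempty (K ⊗[R] A ≃ₐ[K] K ⊗[Ω] B)

/-- rank of a finite flat module at a point with values in a field -/
lemma finrank_eq_rankAtStalk {B P K : Type u} [CommRing B] [AddCommGroup P] [Module B P]
    [Module.Finite B P] [Module.Flat B P] [Field K] [Algebra B K] :
    Module.finrank K (K ⊗[B] P) =
      Module.rankAtStalk (R := B) P ((⟨⊥, Ideal.isPrime_bot⟩ : PrimeSpectrum K).comap (algebraMap B K)) := by
  rw [← Module.rankAtStalk_baseChange, Module.rankAtStalk_eq_finrank_of_free]
  rfl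

lemma finrank_eq_of_domain {B P K K' : Type u} [CommRing B] [IsDomain B] [AddCommGroup P] [Module B P]
    [Module.Finite B P] [Module.Flat B P] [Field K] [Algebra B K] [Field K'] [Algebra B K'] :
    Module.finrank K (K ⊗[B] P) = Module.finrank K' (K' ⊗[B] P) := by
  rw [finrank_eq_rankAtStalk, finrank_eq_rankAtStalk,
    ← Module.rankAtStalk_eq_of_le_of_finite_of_flat P
      (show (⟨⊥, Ideal.isPrime_bot⟩ : PrimeSpectrum B) ≤ PrimeSpectrum.comap (algebraMap B K) _ from bot_le),
    ← Module.rankAtStalk_eq_of_le_of_finite_of_flat P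
      (show (⟨⊥, Ideal.isPrime_bot⟩ : PrimeSpectrum B) ≤ PrimeSpectrum.comap (algebraMap B K') _ from bot_le)]

/-- the cotangent space of a smooth domain of dimension `N` over an algebraically closed field
has dimension `N` at every field valued point -/
theorem finrank_kaehler {Ω B K : Type u} [Field Ω] [IsAlgClosed Ω] [CommRing B] [Algebra Ω B]
    [Algebra.Smooth Ω B] [IsDomain B] (N : ℕ) (hN : ringKrullDim B = N) [Field K] [Algebra B K] :
    Module.finrank K (K ⊗[B] Ω[B⁄Ω]) = N := by
  obtain ⟨m, hm⟩ := Ideal.exists_maximal B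
  have hft : Algebra.FiniteType Ω B := inferInstance
  have hfin : Module.Finite Ω (B ⧸ m) := by
    have : Algebra.FiniteType Ω (B ⧸ m) := inferInstance
    let _ := Ideal.Quotient.field m
    exact finite_of_finite_type_of_isJacobsonRing Ω (B ⧸ m)
  let _ := Ideal.Quotient.field m
  have hbij : Function.Bijective (algebraMap Ω (B ⧸ m)) :=
    IsAlgClosed.algebraMap_bijective_of_isIntegral
  let e : B →ₐ[Ω] Ω := ((AlgEquiv.ofBijective (Algebra.ofId Ω (B ⧸ m)) hbij).symm : (B ⧸ m) →ₐ[Ω] Ω).comp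
    (Ideal.Quotient.mkₐ Ω m)
  have h1 := CellDim.finrank_cotangent e N hN
  let _ := (e : B →+* Ω).toAlgebra
  rw [← h1]
  exact finrank_eq_of_domain

variable {R A : Type u} [CommRing R] [CommRing A] [Algebra R A]

theorem FibModel.isDomain_algClosed {Q : WithBot ℕ∞ → Prop} (h : FibModel R A Q) (K : Type u) [Field K]
    [IsAlgClosed K] [Algebra R K] : IsDomain (K ⊗[R] A) := by
  obtain ⟨Ω, B, _, _, _, _, _, hsm, hdom, hN, ⟨e⟩⟩ := h K
  have h1 : IsDomain (K ⊗[Ω] B) := CellDim.isDomain_tensor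
  exact e.toMulEquiv.isDomain _

theorem FibModel.isDomain {Q : WithBot ℕ∞ → Prop} (h : FibModel R A Q) (K : Type u) [Field K] [Algebra R K] :
    IsDomain (K ⊗[R] A) := by
  let L := AlgebraicClosure K
  have : IsScalarTower R K L := inferInstance
  have h1 : IsDomain (L ⊗[R] A) := h.isDomain_algClosed L
  let f : K ⊗[R] A →ₐ[R] L ⊗[R] A :=
    Algebra.TensorProduct.map (IsScalarTower.toAlgHom R K L) (AlgHom.id R A)
  have hf : Function.Injective f := by
    let e := (AlgebraTensorModule.cancelBaseChange R K L L A).symm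
    have h2 : Function.Injective (fun z : K ⊗[R] A => (1 : L) ⊗ₜ[K] z) :=
      Algebra.TensorProduct.includeRight_injective (R := K) (A := L) (B := K ⊗[R] A)
        (algebraMap K L).injective
    have h3 : ∀ z : K ⊗[R] A, e (f z) = (1 : L) ⊗ₜ[K] z := by
      intro z
      induction z with
      | zero => simp
      | add x y hx hy => rw [map_add, map_add, hx, hy, TensorProduct.tmul_add]
      | tmul k a =>
        have h4 : f (k ⊗ₜ a) = algebraMap K L k ⊗ₜ[R] a := rfl
        have h5 : e (algebraMap K L k ⊗ₜ[R] a) = algebraMap K L k ⊗ₜ[K] ((1 : K) ⊗ₜ[R] a) := rfl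
        rw [h4, h5, Algebra.algebraMap_eq_smul_one, TensorProduct.smul_tmul, TensorProduct.smul_tmul',
          smul_eq_mul, mul_one]
    intro x y hxy
    apply h2
    change (1 : L) ⊗ₜ[K] x = (1 : L) ⊗ₜ[K] y
    rw [← h3, ← h3, hxy]
  exact hf.isDomain f.toRingHom

/-- comparison of cotangent spaces along two pushouts -/
theorem finrank_pushout {K Ω B C : Type u} [Field K] [Algebra R K] [Algebra A K]
    [IsScalarTower R A K] [CommRing C] [Algebra R C] [Algebra K C] [Algebra A C]
    [IsScalarTower R K C] [IsScalarTower R A C] [Algebra.IsPushout R K A C] [Algebra C K]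
    [IsScalarTower A C K] [IsScalarTower K C K] [CommRing Ω] [CommRing B] [Algebra Ω B]
    [Algebra Ω K] [Algebra Ω C] [Algebra B C] [IsScalarTower Ω K C] [IsScalarTower Ω B C]
    [Algebra.IsPushout Ω K B C] [Algebra B K] [IsScalarTower B C K] :
    Module.finrank K (K ⊗[A] Ω[A⁄R]) = Module.finrank K (K ⊗[B] Ω[B⁄Ω]) := by
  have e1 : C ⊗[A] Ω[A⁄R] ≃ₗ[C] Ω[C⁄K] := KaehlerDifferential.tensorKaehlerEquiv R K A C
  have e2 : C ⊗[B] Ω[B⁄Ω] ≃ₗ[C] Ω[C⁄K] := KaehlerDifferential.tensorKaehlerEquiv Ω K B C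
  have f1 : K ⊗[A] Ω[A⁄R] ≃ₗ[K] K ⊗[C] (C ⊗[A] Ω[A⁄R]) :=
    (AlgebraTensorModule.cancelBaseChange A C K K Ω[A⁄R]).symm
  have f2 : K ⊗[B] Ω[B⁄Ω] ≃ₗ[K] K ⊗[C] (C ⊗[B] Ω[B⁄Ω]) :=
    (AlgebraTensorModule.cancelBaseChange B C K K Ω[B⁄Ω]).symm
  have f3 : K ⊗[C] (C ⊗[A] Ω[A⁄R]) ≃ₗ[K] K ⊗[C] (C ⊗[B] Ω[B⁄Ω]) :=
    AlgebraTensorModule.congr (LinearEquiv.refl K K) (e1.trans e2.symm)
  exact (f1.trans (f3.trans f2.symm)).finrank_eq

/-- an abstract copy of `K ⊗[R] A` with its canonical maps -/
theorem exists_tensor_copy (K : Type u) [CommRing K] [Algebra R K] :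
    ∃ (C : Type u) (_ : CommRing C) (_ : Algebra R C) (_ : Algebra K C) (_ : Algebra A C)
      (_ : IsScalarTower R K C) (_ : IsScalarTower R A C),
      Algebra.IsPushout R K A C ∧ Nonempty (K ⊗[R] A ≃ₐ[K] C) := by
  let _ : Algebra A (K ⊗[R] A) := Algebra.TensorProduct.rightAlgebra
  exact ⟨K ⊗[R] A, inferInstance, inferInstance, inferInstance, inferInstance, inferInstance,
    inferInstance, inferInstance, ⟨AlgEquiv.refl⟩⟩

theorem FibModel.finrank_eq {N : ℕ} (h : FibModel R A (· = (N : WithBot ℕ∞))) (K : Type u) [Field K]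
    [IsAlgClosed K] [Algebra R K] [Algebra A K] [IsScalarTower R A K] :
    Module.finrank K (K ⊗[A] Ω[A⁄R]) = N := by
  obtain ⟨Ω, B, _, _, _, _, _, hsm, hdom, hN, ⟨e⟩⟩ := h K
  replace hN : ringKrullDim B = N := hN
  obtain ⟨C, _, _, _, _, _, _, hC, ⟨eC⟩⟩ := exists_tensor_copy (R := R) (A := A) K
  obtain ⟨C', _, _, _, _, _, _, hC', ⟨eC'⟩⟩ := exists_tensor_copy (R := Ω) (A := B) K
  let ε : C' ≃ₐ[K] C := (eC'.symm.trans e.symm).trans eC
  let _ : Algebra B C := ((ε : C' →+* C).comp (algebraMap B C')).toAlgebra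
  let _ : Algebra Ω C := ((algebraMap K C).comp (algebraMap Ω K)).toAlgebra
  have : IsScalarTower Ω K C := .of_algebraMap_eq fun _ => rfl
  have : IsScalarTower Ω B C := .of_algebraMap_eq fun x => by
    change algebraMap K C (algebraMap Ω K x) = ε (algebraMap B C' (algebraMap Ω B x))
    rw [← ε.commutes, ← IsScalarTower.algebraMap_apply Ω K C', ← IsScalarTower.algebraMap_apply Ω B C']
  have hpo : Algebra.IsPushout Ω K B C := by
    have := hC'
    exact Algebra.IsPushout.of_equiv ε (by rfl)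
  -- the point
  let π : C →ₐ[R] K := Algebra.pushoutDesc C (Algebra.ofId K K |>.restrictScalars R)
    (IsScalarTower.toAlgHom R A K) (fun _ _ => Commute.all _ _)
  have hπ1 : ∀ k : K, π (algebraMap K C k) = k := fun k => Algebra.pushoutDesc_left _ _ _ _ _
  have hπ2 : ∀ a : A, π (algebraMap A C a) = algebraMap A K a :=
    fun a => Algebra.pushoutDesc_right _ _ _ _ _
  let _ : Algebra C K := (π : C →+* K).toAlgebra
  have : IsScalarTower A C K := .of_algebraMap_eq fun a => (hπ2 a).symm
  have : IsScalarTower K C K := .of_algebraMap_eq fun a => (hπ1 a).symm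
  let _ : Algebra B K := ((π : C →+* K).comp (algebraMap B C)).toAlgebra
  have : IsScalarTower B C K := .of_algebraMap_eq fun _ => rfl
  rw [finrank_pushout (R := R) (A := A) (K := K) (Ω := Ω) (B := B) (C := C)]
  exact finrank_kaehler N hN

end algebra

open CategoryTheory AlgebraicGeometry Limits

/-- `Spec` of algebras which are isomorphic over `Spec K` are isomorphic algebras. -/
theorem nonempty_algEquiv {K C C' : Type u} [CommRing K] [CommRing C] [CommRing C'] [Algebra K C]
    [Algebra K C'] (e : Spec (CommRingCat.of C) ≅ Spec (CommRingCat.of C'))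
    (he : e.hom ≫ Spec.map (CommRingCat.ofHom (algebraMap K C')) =
      Spec.map (CommRingCat.ofHom (algebraMap K C))) : Nonempty (C ≃ₐ[K] C') := by
  let φ : CommRingCat.of C' ⟶ CommRingCat.of C := Spec.preimage e.hom
  let ψ : CommRingCat.of C ⟶ CommRingCat.of C' := Spec.preimage e.inv
  have h1 : φ ≫ ψ = 𝟙 _ := Spec.map_injective (by
    rw [Spec.map_comp, Spec.map_preimage, Spec.map_preimage, e.inv_hom_id, Spec.map_id])
  have h2 : ψ ≫ φ = 𝟙 _ := Spec.map_injective (by
    rw [Spec.map_comp, Spec.map_preimage, Spec.map_preimage, e.hom_inv_id, Spec.map_id])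
  have h3 : CommRingCat.ofHom (algebraMap K C') ≫ φ = CommRingCat.ofHom (algebraMap K C) :=
    Spec.map_injective (by rw [Spec.map_comp, Spec.map_preimage, he])
  let f : C' ≃+* C := RingEquiv.ofRingHom φ.hom ψ.hom
    (by rw [← CommRingCat.hom_comp, h2]; rfl) (by rw [← CommRingCat.hom_comp, h1]; rfl)
  have h4 : ∀ k : K, f (algebraMap K C' k) = algebraMap K C k := fun k =>
    congr(CommRingCat.Hom.hom $h3 k)
  exact ⟨(AlgEquiv.ofRingEquiv (f := f) h4).symm⟩

/-- base change of a chart along a map of rings -/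
theorem isPullback_tensor {S Y : Scheme.{u}} {g : Y ⟶ S} {R A : Type u} [CommRing R] [CommRing A]
    [Algebra R A] {s : Spec (CommRingCat.of R) ⟶ S} {p : Spec (CommRingCat.of A) ⟶ Y}
    (hp : IsPullback p (Spec.map (CommRingCat.ofHom (algebraMap R A))) g s)
    (K : Type u) [CommRing K] [Algebra R K] :
    ∃ q : Spec (CommRingCat.of (K ⊗[R] A)) ⟶ Y,
      IsPullback q (Spec.map (CommRingCat.ofHom (algebraMap K (K ⊗[R] A)))) g
        (Spec.map (CommRingCat.ofHom (algebraMap R K)) ≫ s) := by
  have h1 := isPullback_SpecMap_of_isPushout _ _ _ _ (CommRingCat.isPushout_tensorProduct R K A)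
  exact ⟨_, h1.flip.paste_horiz hp⟩

/-- the ring of an affine fibre product -/
theorem exists_affine_chart {S Y : Scheme.{u}} (g : Y ⟶ S) {R : Type u} [CommRing R]
    (s : Spec (CommRingCat.of R) ⟶ S) [IsAffine (pullback g s)] :
    ∃ (B : Type u) (_ : CommRing B) (_ : Algebra R B) (p : Spec (CommRingCat.of B) ⟶ Y)
      (_ : pullback g s ≅ Spec (CommRingCat.of B)),
      IsPullback p (Spec.map (CommRingCat.ofHom (algebraMap R B))) g s := by
  let B : Type u := Γ(pullback g s, ⊤)
  let _ : CommRing B := inferInstanceAs (CommRing Γ(pullback g s, ⊤))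
  let _ : Algebra R B := ((Scheme.ΓSpecIso (CommRingCat.of R)).inv ≫ (pullback.snd g s).appTop).hom.toAlgebra
  let e : pullback g s ≅ Spec (CommRingCat.of B) := (pullback g s).isoSpec
  have h1 : e.hom ≫ Spec.map (CommRingCat.ofHom (algebraMap R B)) = pullback.snd g s := by
    change (pullback g s).toSpecΓ ≫
      Spec.map ((Scheme.ΓSpecIso (CommRingCat.of R)).inv ≫ (pullback.snd g s).appTop) = _
    rw [Spec.map_comp, ← Category.assoc, ← Scheme.toSpecΓ_naturality, Category.assoc,
      toSpecΓ_SpecMap_ΓSpecIso_inv, Category.comp_id]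
  refine ⟨B, inferInstance, inferInstance, e.inv ≫ pullback.fst g s, e, ?_⟩
  exact IsPullback.of_iso (IsPullback.of_hasPullback g s) e (Iso.refl _) (Iso.refl _) (Iso.refl _)
    (by simp) (by simp [h1]) (by simp) (by simp)

theorem smooth_of_isPullback {S Y : Scheme.{u}} {g : Y ⟶ S} [Smooth g] {R A : Type u} [CommRing R]
    [CommRing A] [Algebra R A] {s : Spec (CommRingCat.of R) ⟶ S} {p : Spec (CommRingCat.of A) ⟶ Y}
    (hp : IsPullback p (Spec.map (CommRingCat.ofHom (algebraMap R A))) g s) : Algebra.Smooth R A := by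
  have h1 : Smooth (Spec.map (CommRingCat.ofHom (algebraMap R A))) :=
    MorphismProperty.of_isPullback hp ‹_›
  rw [HasRingHomProperty.Spec_iff (P := @Smooth)] at h1
  exact (RingHom.smooth_algebraMap).mp h1

theorem finitePresentation_of_isPullback {S Y : Scheme.{u}} {g : Y ⟶ S} [Smooth g] {R A : Type u}
    [CommRing R] [CommRing A] [Algebra R A] {s : Spec (CommRingCat.of R) ⟶ S}
    {p : Spec (CommRingCat.of A) ⟶ Y}
    (hp : IsPullback p (Spec.map (CommRingCat.ofHom (algebraMap R A))) g s) :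
    Algebra.FinitePresentation R A :=
  (smooth_of_isPullback hp).finitePresentation

section reductive

variable {S : Scheme.{u}} {G : Over S} [GrpObj G] {R A : Type u} [CommRing R] [CommRing A]
  [Algebra R A] {s : Spec (CommRingCat.of R) ⟶ S} {p : Spec (CommRingCat.of A) ⟶ G.left}

theorem fibModel (hG : Red.IsReductive G) {Q : WithBot ℕ∞ → Prop}
    (hN : ∀ s : S, Q (topologicalKrullDim ↥(Red.geomFibre s G).left))
    (hp : IsPullback p (Spec.map (CommRingCat.ofHom (algebraMap R A))) G.hom s) :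
    FibModel R A Q := by
  intro K _ _ _
  obtain ⟨haff, hsm, hred⟩ := hG
  let x : Spec (CommRingCat.of K) ⟶ S := Spec.map (CommRingCat.ofHom (algebraMap R K)) ≫ s
  obtain ⟨⟨σ, a⟩, hx⟩ := (Scheme.SpecToEquivOfField K S).symm.surjective x
  let κ := S.residueField σ
  let Ω := AlgebraicClosure (S.residueField σ)
  let _ : Algebra (S.residueField σ) K := a.hom.toAlgebra
  let θ : Ω →ₐ[S.residueField σ] K := IsAlgClosed.lift
  let _ : Algebra Ω K := (θ : Ω →+* K).toAlgebra
  have hx' : Spec.map (CommRingCat.ofHom (algebraMap Ω K)) ≫ Red.geomPt σ = x := by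
    rw [← hx]
    change Spec.map (CommRingCat.ofHom (algebraMap Ω K)) ≫ (Spec.map (CommRingCat.ofHom (algebraMap
      (S.residueField σ) Ω)) ≫ S.fromSpecResidueField σ) = Spec.map a ≫ S.fromSpecResidueField σ
    rw [← Category.assoc, ← Spec.map_comp]
    congr 2
    ext z
    exact θ.commutes z
  obtain ⟨hA, hSm, hconn, -⟩ := hred σ
  have hA' : IsAffine (pullback G.hom (Red.geomPt σ)) := hA
  obtain ⟨B, _, _, q, e, hq⟩ := exists_affine_chart G.hom (Red.geomPt σ)
  have hint : IsIntegral (Red.geomFibre σ G).left := CellDim.isIntegral_of_connected_grp (K := Ω) _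
  have hB1 : Algebra.Smooth Ω B := smooth_of_isPullback hq
  have e' : (Red.geomFibre σ G).left ≅ Spec (CommRingCat.of B) := e
  have hB2 : IsDomain B := by
    have hne : Nonempty ↥(Spec (CommRingCat.of B)) := ⟨e'.hom (Nonempty.some hint.nonempty)⟩
    have h1 : IsIntegral (Spec (CommRingCat.of B)) := isIntegral_of_isOpenImmersion e'.inv
    exact (affine_isIntegral_iff (CommRingCat.of B)).mp h1
  have hB3 : Q (ringKrullDim B) := by
    have h1 := IsHomeomorph.topologicalKrullDim_eq _ (Scheme.homeoOfIso e').isHomeomorph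
    have h2 : ringKrullDim B = topologicalKrullDim ↥(Spec (CommRingCat.of B)) :=
      (PrimeSpectrum.topologicalKrullDim_eq_ringKrullDim B).symm
    rw [h2, ← h1]
    exact hN σ
  obtain ⟨q1, hq1⟩ := isPullback_tensor hq K
  obtain ⟨q2, hq2⟩ := isPullback_tensor hp K
  rw [hx'] at hq1
  refine ⟨Ω, B, inferInstance, inferInstance, inferInstance, inferInstance, inferInstance, hB1, hB2,
    hB3, ?_⟩
  exact nonempty_algEquiv (IsPullback.isoIsPullback _ _ hq2 hq1) (IsPullback.isoIsPullback_hom_snd _ _ _ _)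

theorem isDomain (hG : Red.IsReductive G)
    (hp : IsPullback p (Spec.map (CommRingCat.ofHom (algebraMap R A))) G.hom s)
    (K : Type u) [Field K] [Algebra R K] : IsDomain (K ⊗[R] A) :=
  (fibModel (Q := fun _ => True) hG (fun _ => trivial) hp).isDomain K

theorem finrank_eq (hG : Red.IsReductive G) {N : ℕ}
    (hN : ∀ s : S, topologicalKrullDim ↥(Red.geomFibre s G).left = (N : WithBot ℕ∞))
    (hp : IsPullback p (Spec.map (CommRingCat.ofHom (algebraMap R A))) G.hom s)
    (K : Type u) [Field K] [IsAlgClosed K] [Algebra R K] [Algebra A K] [IsScalarTower R A K] :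
    Module.finrank K (K ⊗[A] Ω[A⁄R]) = N :=
  (fibModel (Q := (· = (N : WithBot ℕ∞))) hG hN hp).finrank_eq K

end reductive

end Groth.Agent.Sga3B.ChartFib
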