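import Groth.Agent.Sga3B.PinModel
import Groth.Agent.Sga3B.CellNorm

/-!
# The centre of a split reductive group, from models over affine schemes
-/

set_option autoImplicit false
universe u

open CategoryTheory MonoidalCategory CartesianMonoidalCategory MonObj GrpObj AlgebraicGeometry

namespace Groth.Agent.Sga3B.SplitCentre897

open Cell PinMod DSPts GaPts

variable {S : Scheme.{u}} {G : Over S} [GrpObj G]

/-- A model of the centre statement over `s : Spec R ⟶ S`. -/
structure CentreModel (D : Red.SplitRed G) {R : Type u} [CommRing R]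
    (s : Spec (CommRingCat.of R) ⟶ S) where
  A : Type u
  [ring : CommRing A]
  [alg : Algebra R A]
  [grp : PtGrp R A]
  i : ∀ (B : Type u) [CommRing B] [Algebra R B], TPt D.M B → Pt R A B
  pts : ∀ (B : Type u) [CommRing B] [Algebra R B], Pt R A B ≃* (tB s B ⟶ G)
  pts_nat : ∀ {B C : Type u} [CommRing B] [Algebra R B] [CommRing C] [Algebra R C] (φ : B →ₐ[R] C)
    (g : Pt R A B), tMap s φ ≫ pts B g = pts C (Pt.map φ g)
  pts_i : ∀ (B : Type u) [CommRing B] [Algebra R B] (t : TPt D.M B),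
    pts B (i B t) = dsEquiv (tB s B) D.M (chΓ s t) ≫ D.split.inv.hom.hom ≫ D.i
  central_iff : ∀ {B : Type u} [CommRing B] [Algebra R B] (g : Pt R A B),
    (∀ (C : Type u) [CommRing C] [Algebra R C] (φ : B →ₐ[R] C) (h : Pt R A C),
      Pt.map φ g * h = h * Pt.map φ g) ↔
    ∃ t : TPt D.M B, g = i B t ∧ ∀ a, TPt.ch (D.P.root a) t = 1

attribute [instance] CentreModel.ring CentreModel.alg CentreModel.grp

lemma chi_eq_one_iff {R : Type u} [CommRing R] (s : Spec (CommRingCat.of R) ⟶ S) {B : Type u}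
    [CommRing B] [Algebra R B] {M : Type} [AddCommGroup M] (m : M) (t : TPt M B) :
    dsEquiv (tB s B) M (chΓ s t) ≫ Red.chi S m = 1 ↔ TPt.ch m t = 1 := by
  have hinj : Function.Injective (Scheme.ΓSpecIso (CommRingCat.of B)).inv.hom :=
    (ConcreteCategory.bijective_of_isIso (Scheme.ΓSpecIso (CommRingCat.of B)).inv).1
  rw [Red.chi, dsEquiv_DSmap, ← (dsEquiv (tB s B) ℤ).map_one,
    (dsEquiv (tB s B) ℤ).injective.eq_iff]
  constructor
  · intro h
    have h1 := DFunLike.congr_fun h (Multiplicative.ofAdd 1)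
    apply hinj
    rw [map_one]
    refine Eq.trans ?_ h1
    change (Scheme.ΓSpecIso (CommRingCat.of B)).inv.hom (TPt.ch m t) =
      (Scheme.ΓSpecIso (CommRingCat.of B)).inv.hom (TPt.ch ((1 : ℤ) • m) t)
    rw [one_smul]
  · intro h
    ext
    change (Scheme.ΓSpecIso (CommRingCat.of B)).inv.hom (TPt.ch ((1 : ℤ) • m) t) = 1
    rw [one_smul, h, map_one]

variable (D : Red.SplitRed G)

/-- The centre statement for a point over an affine scheme. -/
def Stmt (R : CommRingCat.{u}) (σ : Spec R ⟶ S) : Prop := ∀ g : Over.mk σ ⟶ G,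
    (∀ (R' : CommRingCat.{u}) (s' : Spec R' ⟶ S) (x : Over.mk s' ⟶ Over.mk σ)
      (h : Over.mk s' ⟶ G), (x ≫ g) * h = h * (x ≫ g)) ↔
      ∃ t : Over.mk σ ⟶ D.T, t ≫ D.i = g ∧
        ∀ a : D.idx, t ≫ D.split.hom.hom.hom ≫ Red.chi S (D.P.root a) = 1

lemma stmt_of_model {R : Type u} [CommRing R] (s : Spec (CommRingCat.of R) ⟶ S)
    (m : CentreModel D s) :
    Stmt D (CommRingCat.of R) (Spec.map (CommRingCat.ofHom (algebraMap R R)) ≫ s) := by
  have h12 : D.split.hom.hom.hom ≫ D.split.inv.hom.hom = 𝟙 _ :=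
    congrArg (fun f => f.hom.hom) D.split.hom_inv_id
  have h21 : D.split.inv.hom.hom ≫ D.split.hom.hom.hom = 𝟙 _ :=
    congrArg (fun f => f.hom.hom) D.split.inv_hom_id
  intro g
  change tB s R ⟶ G at g
  obtain ⟨p, rfl⟩ := (m.pts R).surjective g
  have key : (∀ (C : Type u) [CommRing C] [Algebra R C] (φ : R →ₐ[R] C) (h : Pt R m.A C),
      Pt.map φ p * h = h * Pt.map φ p) ↔ ∃ t : tB s R ⟶ D.T, t ≫ D.i = m.pts R p ∧
        ∀ a : D.idx, t ≫ D.split.hom.hom.hom ≫ Red.chi S (D.P.root a) = 1 := by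
    rw [m.central_iff]
    constructor
    · rintro ⟨t, rfl, ht⟩
      refine ⟨dsEquiv (tB s R) D.M (chΓ s t) ≫ D.split.inv.hom.hom, ?_, fun a => ?_⟩
      · rw [m.pts_i, Category.assoc]
      · rw [Category.assoc, reassoc_of% h21, chi_eq_one_iff]
        exact ht a
    · rintro ⟨t, ht, hr⟩
      obtain ⟨t', ht'⟩ := exists_chΓ s (t ≫ D.split.hom.hom.hom)
      refine ⟨t', ?_, fun a => ?_⟩
      · apply (m.pts R).injective
        rw [m.pts_i, ← ht', Category.assoc, reassoc_of% h12, ht]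
      · rw [← chi_eq_one_iff s, ← ht', Category.assoc]
        exact hr a
  refine Iff.trans ?_ key
  constructor
  · intro h C _ _ φ q
    apply (m.pts C).injective
    rw [map_mul, map_mul, ← m.pts_nat]
    exact h (CommRingCat.of C) _ (tMap s φ) (m.pts C q)
  · intro h R' s' x q
    obtain ⟨ρ, hρ⟩ : ∃ ρ : CommRingCat.of R ⟶ R', Spec.map ρ = x.left :=
      ⟨Spec.preimage x.left, Spec.map_preimage _⟩
    have hs : Spec.map ρ ≫ s = s' := by
      have h1 := Over.w x
      simp only [Over.mk_hom] at h1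
      have h2 : Spec.map (CommRingCat.ofHom (algebraMap R R)) = 𝟙 _ := by
        have : CommRingCat.ofHom (algebraMap R R) = 𝟙 (CommRingCat.of R) := rfl
        rw [this, Spec.map_id]
      have h3 : ∀ (y : Spec R' ⟶ Spec (CommRingCat.of R)),
          y ≫ Spec.map (CommRingCat.ofHom (algebraMap R R)) ≫ s = s' → y ≫ s = s' := by
        intro y hy
        rw [h2, Category.id_comp] at hy
        exact hy
      rw [hρ]
      exact h3 _ h1
    subst hs
    let _ : Algebra R R' := ρ.hom.toAlgebra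
    have hx : x = tMap s (Algebra.ofId R R') := by
      ext1
      exact hρ.symm
    subst hx
    obtain ⟨q', hq'⟩ := (m.pts R').surjective q
    have h3 := congrArg (m.pts R') (h R' (Algebra.ofId R R') q')
    rw [map_mul, map_mul, ← m.pts_nat, hq'] at h3
    exact h3

/-- The statement on affine points. -/
lemma affine_iff (hmod : ∀ (R : Type u) [CommRing R] (s : Spec (CommRingCat.of R) ⟶ S),
      Nonempty (CentreModel D s)) (R : CommRingCat.{u}) (s : Spec R ⟶ S) (g : Over.mk s ⟶ G) :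
    (∀ (R' : CommRingCat.{u}) (s' : Spec R' ⟶ S) (x : Over.mk s' ⟶ Over.mk s)
      (h : Over.mk s' ⟶ G), (x ≫ g) * h = h * (x ≫ g)) ↔
      ∃ t : Over.mk s ⟶ D.T, t ≫ D.i = g ∧
        ∀ a : D.idx, t ≫ D.split.hom.hom.hom ≫ Red.chi S (D.P.root a) = 1 := by
  obtain ⟨m⟩ := hmod R s
  have h1 := stmt_of_model D s m
  have h2 : Spec.map (CommRingCat.ofHom (algebraMap R R)) ≫ s = s := by
    have : CommRingCat.ofHom (algebraMap R R) = 𝟙 (CommRingCat.of R) := rfl
    rw [this, Spec.map_id]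
    exact Category.id_comp s
  have h3 : Stmt D R s := h2 ▸ h1
  exact h3 g

/-- The centre of a split reductive group. -/
theorem main (hmod : ∀ (R : Type u) [CommRing R] (s : Spec (CommRingCat.of R) ⟶ S),
      Nonempty (CentreModel D s)) (X : Over S) (g : X ⟶ G) :
    (∀ (X' : Over S) (x : X' ⟶ X) (h : X' ⟶ G), (x ≫ g) * h = h * (x ≫ g)) ↔
      ∃ t : X ⟶ D.T, t ≫ D.i = g ∧
        ∀ a : D.idx, t ≫ D.split.hom.hom.hom ≫ Red.chi S (D.P.root a) = 1 := by
  have : Mono D.i := D.maximalTorus.2.1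
  constructor
  · intro hg
    have hloc : ∀ (R : CommRingCat.{u}) (s : Spec R ⟶ S) (x : Over.mk s ⟶ X),
        ∃ t : Over.mk s ⟶ D.T, t ≫ D.i = x ≫ g ∧
          ∀ a : D.idx, t ≫ D.split.hom.hom.hom ≫ Red.chi S (D.P.root a) = 1 := by
      intro R s x
      apply (affine_iff D hmod R s (x ≫ g)).1
      intro R' s' y h
      rw [← Category.assoc]
      exact hg _ _ _
    choose F hF hFr using hloc
    obtain ⟨t, ht, -⟩ := AffYoneda.existsUnique_hom (G := X) (G' := D.T) F (by
      intro R R' s s' h x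
      rw [← cancel_mono D.i, hF, Category.assoc, Category.assoc, hF])
    refine ⟨t, ?_, fun a => ?_⟩
    · apply AffYoneda.hom_ext
      intro R s x
      rw [← Category.assoc, ht, hF]
    · apply AffYoneda.hom_ext
      intro R s x
      rw [← Category.assoc, ht, hFr, MonObj.comp_one]
  · rintro ⟨t, rfl, ht⟩ X' x h
    apply AffYoneda.hom_ext
    intro R s y
    rw [MonObj.comp_mul, MonObj.comp_mul]
    have h1 := (affine_iff D hmod R s (y ≫ x ≫ t ≫ D.i)).2 ⟨y ≫ x ≫ t, by simp, fun a => by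
      rw [Category.assoc, Category.assoc, ht, MonObj.comp_one, MonObj.comp_one]⟩
    have h2 := h1 R s (𝟙 _) (y ≫ h)
    rwa [Category.id_comp] at h2

end Groth.Agent.Sga3B.SplitCentre897
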