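import Groth.Agent.Sga3B.IsomCore

/-!
# The statements into which the local form of S2991 is cut

`G`, `G'` groups over `S` with splittings `D`, `D'`; families `ψ : G ⊗ V ⟶ G'`.
-/

set_option autoImplicit false
open CategoryTheory MonoidalCategory CartesianMonoidalCategory MonObj GrpObj AlgebraicGeometry
universe u

namespace Groth.Agent.Sga3B.IsomDefs

open DSPts GaPts IsoFam IsomCore

variable {S : Scheme.{u}} {G G' : Over S} [GrpObj G] [GrpObj G']

/-- conjugate of a family by a point -/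
noncomputable def conjFam {V : Over S} (g : V ⟶ G') (φ : G ⊗ V ⟶ G') : G ⊗ V ⟶ G' :=
  (snd G V ≫ g) * φ * (snd G V ≫ g)⁻¹

lemma lift_conjFam {V : Over S} (g : V ⟶ G') (φ : G ⊗ V ⟶ G') {X : Over S} (y : X ⟶ G) (x : X ⟶ V) :
    lift y x ≫ conjFam g φ = (x ≫ g) * (lift y x ≫ φ) * (x ≫ g)⁻¹ := by
  rw [conjFam, MonObj.comp_mul, MonObj.comp_mul, GrpObj.comp_inv, ← Category.assoc, lift_snd]

lemma isIsoFamily_conjFam {V : Over S} (g : V ⟶ G') {φ : G ⊗ V ⟶ G'} (h : AutFam.IsIsoFamily G G' φ) :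
    AutFam.IsIsoFamily G G' (conjFam g φ) := by
  obtain ⟨h1, ψ, h2, h3⟩ := h
  refine ⟨?_, lift ((snd G' V ≫ g)⁻¹ * fst G' V * (snd G' V ≫ g)) (snd G' V) ≫ ψ, ?_, ?_⟩
  · intro X g₁ g₂ t
    rw [lift_conjFam, lift_conjFam, lift_conjFam, h1]
    group
  · intro X y x
    rw [← Category.assoc, comp_lift, lift_snd, MonObj.comp_mul, MonObj.comp_mul, GrpObj.comp_inv,
      ← Category.assoc, lift_snd, lift_fst, lift_conjFam]
    have : (x ≫ g)⁻¹ * ((x ≫ g) * (lift y x ≫ φ) * (x ≫ g)⁻¹) * (x ≫ g) = lift y x ≫ φ := by group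
    rw [this, h2]
  · intro X y x
    rw [← Category.assoc, comp_lift, lift_snd, MonObj.comp_mul, MonObj.comp_mul, GrpObj.comp_inv,
      ← Category.assoc, lift_snd, lift_fst, lift_conjFam, h3]
    group

/-- two families are equal if they agree on points -/
lemma fam_ext {V : Over S} {φ ψ : G ⊗ V ⟶ G'}
    (h : ∀ (X : Over S) (x : X ⟶ V) (y : X ⟶ G), lift y x ≫ φ = lift y x ≫ ψ) : φ = ψ := by
  have h1 := h (G ⊗ V) (snd _ _) (fst _ _)
  rwa [lift_fst_snd, Category.id_comp, Category.id_comp] at h1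

/-- On the torus `D(M)` of `G` the family `ψ` is the homomorphism `D(M) ⟶ D(M')` given by `θ`. -/
def TorPart (D : Red.SplitRed G) (D' : Red.SplitRed G') (θ : D'.M →+ D.M) {V : Over S}
    (ψ : G ⊗ V ⟶ G') : Prop :=
  ∀ (X : Over S) (x : X ⟶ V) (t : X ⟶ Red.DS S D.M),
    lift (dT D t) x ≫ ψ = dT D' (t ≫ Red.DSmap S θ)

/-- (Ha) locally for the smooth topology a family of isomorphisms is conjugate to one carrying the torus of `G`
to the torus of `G'` -/
def HaStmt (D : Red.SplitRed G) (D' : Red.SplitRed G') : Prop :=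
  ∀ (X : Over S) (φ : G ⊗ X ⟶ G'), AutFam.IsIsoFamily G G' φ → ∀ x : X.left,
    ∃ (V : Over S) (v : V ⟶ X) (_ : Flat v.left) (_ : LocallyOfFinitePresentation v.left)
      (_ : x ∈ Set.range v.left) (g : V ⟶ G') (θ : D'.M →+ D.M), TorPart D D' θ (conjFam g ((G ◁ v) ≫ φ))

/-- (Hb) the homomorphism of lattices is an isomorphism of root data -/
def HbStmt (D : Red.SplitRed G) (D' : Red.SplitRed G') : Prop :=
  ∀ (V : Over S) (_ : Nonempty V.left) (ψ : G ⊗ V ⟶ G'), AutFam.IsIsoFamily G G' ψ →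
    ∀ θ : D'.M →+ D.M, TorPart D D' θ ψ → ∃ e : RootPairing.Equiv D'.P D.P, ∀ m, e.weightMap m = θ m

/-- (Hd) on the root groups the family is the multiplication by a unit -/
def HdStmt (D : Red.SplitRed G) (D' : Red.SplitRed G') : Prop :=
  ∀ (R : Type u) [CommRing R] (s : Spec (CommRingCat.of R) ⟶ S) (ψ : G ⊗ Over.mk s ⟶ G'),
    AutFam.IsIsoFamily G G' ψ → ∀ e : RootPairing.Equiv D'.P D.P, TorPart D D' e.weightMap.toAddMonoidHom ψ →
      ∀ a' : D'.idx, ∃ r : Γ((Over.mk s).left, ⊤)ˣ, ∀ (X : Over S) (x : X ⟶ Over.mk s) (y z : X ⟶ Red.Ga S),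
        Red.gaFn z = x.left.appTop (r : Γ((Over.mk s).left, ⊤)) * Red.gaFn y →
          lift (y ≫ D.u (e.indexEquiv a')) x ≫ ψ = z ≫ D'.u a'

/-- (He) families of isomorphisms are determined by their restrictions to the torus and the simple root groups -/
def HeStmt (D : Red.Pinning G) (G' : Over S) [GrpObj G'] : Prop :=
  ∀ (R : Type u) [CommRing R] (s : Spec (CommRingCat.of R) ⟶ S) (ψ₁ ψ₂ : G ⊗ Over.mk s ⟶ G'),
    AutFam.IsIsoFamily G G' ψ₁ → AutFam.IsIsoFamily G G' ψ₂ →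
    (∀ (X : Over S) (x : X ⟶ Over.mk s) (t : X ⟶ Red.DS S D.M),
      lift (dT D.toSplitRed t) x ≫ ψ₁ = lift (dT D.toSplitRed t) x ≫ ψ₂) →
    (∀ a ∈ D.base.support, ∀ (X : Over S) (x : X ⟶ Over.mk s) (y : X ⟶ Red.Ga S),
      lift (y ≫ D.u a) x ≫ ψ₁ = lift (y ≫ D.u a) x ≫ ψ₂) → ψ₁ = ψ₂

/-- (H0) a geometric point acting on the torus with the same values of a regular functional on the roots acts
trivially on the torus -/
def H0Stmt (D' : Red.SplitRed G') : Prop :=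
  ∀ (K : Type u) [Field K] [IsAlgClosed K] (s : Spec (CommRingCat.of K) ⟶ S) (g : Over.mk s ⟶ G')
    (w : D'.M →+ D'.M) (lam : D'.M →+ ℤ), (∀ a, lam (D'.P.root a) ≠ 0) →
    (∀ a, lam (w (D'.P.root a)) = lam (D'.P.root a)) →
    (∀ (X : Over S) (x : X ⟶ Over.mk s) (t : X ⟶ Red.DS S D'.M),
      (x ≫ g) * dT D' t * (x ≫ g)⁻¹ = dT D' (t ≫ Red.DSmap S w)) → ∀ m, w m = m

end Groth.Agent.Sga3B.IsomDefs
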