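import Groth.Agent.Sga3B.PinComb829
import Groth.Agent.Sga3A.Weyl
import Mathlib.LinearAlgebra.RootSystem.Hom

/-!
# Equivalences of root data and bases (for S2991)

* `pullBase`: pull back of a base along an equivalence;
* `exists_match`: an equivalence of root data can be corrected by the Weyl group so as to respect given bases;
* `finite_equiv`: there are only finitely many equivalences if the roots span rationally.
-/

set_option autoImplicit false

open Module Set Function

namespace Groth.Agent.Sga3B.IsomComb

section base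

variable {ι ι' R M M' N N' : Type*} [CommRing R] [AddCommGroup M] [Module R M] [AddCommGroup N] [Module R N]
  [AddCommGroup M'] [Module R M'] [AddCommGroup N'] [Module R N']
  {P : RootPairing ι R M N} {Q : RootPairing ι' R M' N'}

lemma root_eq (h : RootPairing.Equiv P Q) (i : ι) :
    P.root i = (RootPairing.Equiv.weightEquiv P Q h).symm (Q.root (h.indexEquiv i)) := by
  rw [LinearEquiv.eq_symm_apply]
  exact RootPairing.Hom.root_weightMap_apply _ _ _ h.toHom

lemma coroot_eq (h : RootPairing.Equiv P Q) (i : ι) :
    P.coroot i = RootPairing.Equiv.coweightEquiv P Q h (Q.coroot (h.indexEquiv i)) := by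
  have h1 := RootPairing.Hom.coroot_coweightMap_apply P Q (h.indexEquiv i) h.toHom
  rw [Equiv.symm_apply_apply] at h1
  exact h1.symm

lemma linearIndepOn_aux {V V' : Type*} [AddCommGroup V] [Module R V] [AddCommGroup V'] [Module R V']
    (e : ι ≃ ι') (L : V' ≃ₗ[R] V) (v : ι → V) (v' : ι' → V') (hv : ∀ i, v i = L (v' (e i)))
    (s : Finset ι') (h : LinearIndepOn R v' (s : Set ι')) :
    LinearIndepOn R v ((s.map e.symm.toEmbedding : Finset ι) : Set ι) := by
  let g : ((s.map e.symm.toEmbedding : Finset ι) : Set ι) → (s : Set ι') := fun x => ⟨e x, by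
    have := x.2
    simp only [Finset.coe_map, Equiv.coe_toEmbedding, mem_image, Finset.mem_coe] at this
    obtain ⟨y, hy, hxy⟩ := this
    rw [← hxy]
    simpa using hy⟩
  have hg : Injective g := fun x y hxy => by
    apply Subtype.ext
    apply e.injective
    exact congrArg Subtype.val hxy
  have h1 := (LinearIndependent.comp h g hg).map' (L : V' →ₗ[R] V) (LinearEquiv.ker _)
  have h2 : (fun x : ((s.map e.symm.toEmbedding : Finset ι) : Set ι) => v x) =
      (L : V' →ₗ[R] V) ∘ (fun x : (s : Set ι') => v' x) ∘ g := by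
    funext x
    exact hv x
  change LinearIndependent R (fun x : ((s.map e.symm.toEmbedding : Finset ι) : Set ι) => v x)
  rw [h2]
  exact h1

lemma mem_closure_aux {V V' : Type*} [AddCommGroup V] [Module R V] [AddCommGroup V'] [Module R V']
    (e : ι ≃ ι') (L : V' ≃ₗ[R] V) (v : ι → V) (v' : ι' → V') (hv : ∀ i, v i = L (v' (e i)))
    (s : Finset ι') (x : V') (h : x ∈ AddSubmonoid.closure (v' '' s)) :
    L x ∈ AddSubmonoid.closure (v '' ((s.map e.symm.toEmbedding : Finset ι) : Set ι)) := by
  have h1 : L x ∈ AddSubmonoid.map (L : V' →ₗ[R] V).toAddMonoidHom (AddSubmonoid.closure (v' '' s)) :=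
    ⟨x, h, rfl⟩
  rw [AddMonoidHom.map_mclosure] at h1
  refine AddSubmonoid.closure_mono ?_ h1
  rintro _ ⟨_, ⟨j, hj, rfl⟩, rfl⟩
  refine ⟨e.symm j, ?_, ?_⟩
  · simpa using hj
  · rw [hv]; simp

/-- pull back of a base along an equivalence -/
def pullBase (h : RootPairing.Equiv P Q) (b : Q.Base) : P.Base where
  support := b.support.map h.indexEquiv.symm.toEmbedding
  linearIndepOn_root := linearIndepOn_aux h.indexEquiv _ _ _ (root_eq h) _ b.linearIndepOn_root
  linearIndepOn_coroot := linearIndepOn_aux h.indexEquiv _ _ _ (coroot_eq h) _ b.linearIndepOn_coroot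
  root_mem_or_neg_mem i := by
    rw [root_eq h, ← map_neg]
    exact (b.root_mem_or_neg_mem (h.indexEquiv i)).imp
      (mem_closure_aux h.indexEquiv _ _ _ (root_eq h) _ _) (mem_closure_aux h.indexEquiv _ _ _ (root_eq h) _ _)
  coroot_mem_or_neg_mem i := by
    rw [coroot_eq h, ← map_neg]
    exact (b.coroot_mem_or_neg_mem (h.indexEquiv i)).imp
      (mem_closure_aux h.indexEquiv _ _ _ (coroot_eq h) _ _)
      (mem_closure_aux h.indexEquiv _ _ _ (coroot_eq h) _ _)

lemma mem_pullBase (h : RootPairing.Equiv P Q) (b : Q.Base) (i : ι) :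
    i ∈ (pullBase h b).support ↔ h.indexEquiv i ∈ b.support := by
  simp only [pullBase, Finset.mem_map, Equiv.coe_toEmbedding]
  constructor
  · rintro ⟨j, hj, rfl⟩
    simpa using hj
  · intro hi
    exact ⟨_, hi, by simp⟩

end base

section datum

set_option linter.unusedSectionVars false

variable {ι ι' M M' : Type*} [Finite ι] [Finite ι'] [AddCommGroup M] [AddCommGroup M']
  [Module.Free ℤ M] [Module.Finite ℤ M] [Module.Free ℤ M'] [Module.Finite ℤ M']
  {P : RootPairing ι ℤ M (Module.Dual ℤ M)} {Q : RootPairing ι' ℤ M' (Module.Dual ℤ M')}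

/-- correction of an equivalence by the Weyl group -/
theorem exists_match (h : RootPairing.Equiv Q P) (b' : Q.Base) (b : P.Base) :
    ∃ w ∈ Q.weylGroup, ∀ i, i ∈ b'.support ↔ h.indexEquiv (w • i) ∈ b.support := by
  have := PinComb.isReduced b'
  obtain ⟨w, hw, h1⟩ := Sga3A.Weyl.exists_transport b' (pullBase h b)
  refine ⟨w, hw, fun i => ?_⟩
  rw [← Sga3A.Weyl.image_support b' (pullBase h b) w h1 i, mem_pullBase]

/-- an equivalence of root data from an isomorphism of the lattices respecting roots and coroots -/
def mkEquiv (hP : P.toLinearMap = Module.Dual.eval ℤ M) (hQ : Q.toLinearMap = Module.Dual.eval ℤ M')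
    (θ : M' ≃ₗ[ℤ] M) (e : ι' ≃ ι) (hr : ∀ i, θ (Q.root i) = P.root (e i))
    (hc : ∀ i m, P.coroot (e i) (θ m) = Q.coroot i m) : RootPairing.Equiv Q P where
  weightMap := θ
  coweightMap := θ.dualMap
  indexEquiv := e
  weight_coweight_transpose := by
    ext f m
    simp [hP, hQ]
  root_weightMap := by
    funext i
    exact hr i
  coroot_coweightMap := by
    funext i
    ext m
    simp only [comp_apply, LinearEquiv.coe_coe, LinearEquiv.dualMap_apply]
    have := hc (e.symm i) m
    rw [Equiv.apply_symm_apply] at this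
    exact this
  bijective_weightMap := θ.bijective
  bijective_coweightMap := θ.dualMap.bijective

/-- an equivalence is determined by its map on the character lattices -/
theorem equiv_ext {h₁ h₂ : RootPairing.Equiv Q P} (h : ∀ m, h₁.weightMap m = h₂.weightMap m) : h₁ = h₂ := by
  have hw : h₁.weightMap = h₂.weightMap := LinearMap.ext h
  have h3 : h₁.toHom = h₂.toHom := by
    apply RootPairing.Hom.ext
    · exact hw
    · apply LinearMap.ext
      intro f
      apply Q.flip.toPerfPair.injective
      rw [← RootPairing.Hom.weight_coweight_transpose_apply, ← RootPairing.Hom.weight_coweight_transpose_apply,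
        hw]
    · apply Equiv.ext
      intro i
      apply P.root.injective
      rw [← RootPairing.Hom.root_weightMap_apply, ← RootPairing.Hom.root_weightMap_apply, hw]
  cases h₁
  cases h₂
  cases h3
  rfl

/-- If the roots of `Q` span rationally, then there are only finitely many equivalences. -/
theorem finite_equiv (hQ : ∀ lam : M' →+ ℤ, (∀ i, lam (Q.root i) = 0) → lam = 0) :
    Finite (RootPairing.Equiv Q P) := by
  refine Finite.of_injective (β := ι' → ι) (fun h => h.indexEquiv) ?_
  intro h₁ h₂ h
  apply equiv_ext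
  intro m
  let bM := Module.Free.chooseBasis ℤ M
  apply bM.ext_elem
  intro k
  let lam : M' →+ ℤ := ((bM.coord k) ∘ₗ (h₁.weightMap - h₂.weightMap)).toAddMonoidHom
  have h0 : lam = 0 := by
    apply hQ
    intro i
    change bM.coord k (h₁.weightMap (Q.root i) - h₂.weightMap (Q.root i)) = 0
    rw [RootPairing.Hom.root_weightMap_apply, RootPairing.Hom.root_weightMap_apply]
    have : h₁.indexEquiv i = h₂.indexEquiv i := congrFun h i
    rw [this, sub_self, map_zero]
  have h1 : lam m = 0 := by rw [h0]; rfl
  have h2 : bM.coord k (h₁.weightMap m - h₂.weightMap m) = 0 := h1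
  rw [map_sub, sub_eq_zero] at h2
  exact h2

/-- the same with the roots of `P` -/
theorem finite_equiv' (hP : ∀ lam : M →+ ℤ, (∀ i, lam (P.root i) = 0) → lam = 0) :
    Finite (RootPairing.Equiv Q P) := by
  have := finite_equiv (P := Q) (Q := P) hP
  refine Finite.of_injective (fun h => RootPairing.Equiv.symm Q P h) ?_
  intro h₁ h₂ h
  apply equiv_ext
  intro m
  have h1 : (RootPairing.Equiv.weightEquiv Q P h₁).symm = (RootPairing.Equiv.weightEquiv Q P h₂).symm := by
    apply LinearEquiv.toLinearMap_injective
    exact congrArg (fun k : RootPairing.Equiv P Q => k.weightMap) h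
  have h2 : RootPairing.Equiv.weightEquiv Q P h₁ = RootPairing.Equiv.weightEquiv Q P h₂ := by
    rw [← LinearEquiv.symm_symm (RootPairing.Equiv.weightEquiv Q P h₁), h1, LinearEquiv.symm_symm]
  exact congrArg (fun k : M' ≃ₗ[ℤ] M => k m) h2

end datum

end Groth.Agent.Sga3B.IsomComb
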