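import Groth.Agent.Sga3B.CellEt
import Groth.Agent.Sga3B.IsomComb

/-!
# H1u: an element whose conjugation realises an automorphism of the torus preserving a base is in the torus
-/

set_option autoImplicit false
universe u

open LaurentPolynomial TensorProduct

namespace Groth.Agent.Sga3B.IsomU

open Cell Cell.Datum

/-- an endomorphism of the character lattice acting trivially on all torus points is the identity -/
lemma eq_id_of_forall {K : Type u} [CommRing K] [Nontrivial K] {M : Type} [AddCommGroup M] (w : M →+ M)
    (h : ∀ (B : Type u) [CommRing B] [Algebra K B] (s : TPt M B), s.comp (AddMonoidHom.toMultiplicative w) = s)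
    (m : M) : w m = m := by
  let s : TPt M (MonoidAlgebra K (Multiplicative M)) := MonoidHom.toHomUnits (MonoidAlgebra.of K (Multiplicative M))
  have h1 := h _ s
  have h2 := congrArg (fun t : TPt M (MonoidAlgebra K (Multiplicative M)) => TPt.ch m t) h1
  have h3 : (MonoidAlgebra.of K (Multiplicative M)) (Multiplicative.ofAdd (w m)) =
      (MonoidAlgebra.of K (Multiplicative M)) (Multiplicative.ofAdd m) := h2
  exact Multiplicative.ofAdd.injective (MonoidAlgebra.of_injective h3)

variable {K : Type u} [Field K] [IsAlgClosed K] {A : Type u} [CommRing A] [Algebra K A] [PtGrp K A]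
  {D : Datum K A}

/-- An element of `G(K)` inducing on the torus an automorphism which fixes the values of a regular functional
on the roots lies in the torus (and the automorphism is trivial). -/
theorem mem_torus_of_conj (hG : D.Good) [Algebra.FiniteType K A] [IsDomain (K ⊗[K] A)] (w : D.M →+ D.M)
    (lam : D.M →+ ℤ) (hlam : ∀ a, lam (D.root a) ≠ 0) (hw : ∀ a, lam (w (D.root a)) = lam (D.root a))
    (g : Pt K A K)
    (hg : ∀ (B : Type u) [CommRing B] [Algebra K B] (s : TPt D.M B),
      Pt.map (Algebra.ofId K B) g * D.i B s * (Pt.map (Algebra.ofId K B) g)⁻¹ =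
        D.i B (s.comp (AddMonoidHom.toMultiplicative w))) :
    (∃ t : TPt D.M K, g = D.i K t) ∧ ∀ m, w m = m := by
  have h1 := hg _ (D.cochar lam : TPt D.M K[T;T⁻¹])
  have e1 : Algebra.ofId K K[T;T⁻¹] = lC K K := by
    apply AlgHom.ext
    intro x
    rfl
  rw [e1] at h1
  obtain ⟨t, ht, -⟩ := exists_eq_i_of_conj (D := D) hG lam hlam g (by
    intro a
    exact congrArg (fun n : ℤ => (T n : K[T;T⁻¹])) (hw a)) h1
  refine ⟨⟨t, ht⟩, ?_⟩
  apply eq_id_of_forall (K := K) w
  intro B _ _ s
  apply D.i_inj B
  rw [← hg B s, ht, D.i_nat, ← map_inv, ← map_mul, ← map_mul]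
  congr 1
  rw [mul_comm (TPt.map _ t) s, mul_assoc, mul_inv_cancel, mul_one]

section comb

variable {ι M : Type*} [Finite ι] [AddCommGroup M] [Module.Free ℤ M] [Module.Finite ℤ M]
  {P : RootPairing ι ℤ M (Module.Dual ℤ M)}

/-- a functional nonzero on the roots which is invariant under all automorphisms respecting the base -/
theorem exists_height (b : P.Base) : ∃ lam : M →+ ℤ, (∀ a, lam (P.root a) ≠ 0) ∧
    ∀ w : M →+ M, (∀ a ∈ b.support, ∃ a' ∈ b.support, w (P.root a) = P.root a') →
      ∀ a, lam (w (P.root a)) = lam (P.root a) := by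
  obtain ⟨lam, n, hn, h⟩ := PinComb.exists_height_functional b
  refine ⟨lam, ?_, ?_⟩
  · intro a
    rw [h]
    exact mul_ne_zero hn.ne' (b.height_ne_zero a)
  · intro w hw a
    have h1 := b.root_mem_span_int a
    refine Submodule.span_induction (p := fun x _ => lam (w x) = lam x) ?_ ?_ ?_ ?_ h1
    · rintro _ ⟨k, hk, rfl⟩
      obtain ⟨k', hk', h2⟩ := hw k hk
      rw [h2, h, h, RootPairing.Base.height_one_of_mem_support hk, RootPairing.Base.height_one_of_mem_support hk']
    · simp
    · intro x y _ _ hx hy
      rw [map_add, map_add, map_add, hx, hy]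
    · intro c x _ hx
      rw [map_zsmul, map_zsmul, map_zsmul, hx]

end comb

end Groth.Agent.Sga3B.IsomU
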