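import Groth.Agent.Sga3B.SplitCmp588
import Groth.Agent.Sga3B.IsomU
import Groth.Agent.Sga3B.IsomDefs

/-!
# (H0) for an abstract computation of the points
-/

set_option autoImplicit false
universe u

open CategoryTheory MonoidalCategory CartesianMonoidalCategory MonObj GrpObj AlgebraicGeometry
  TensorProduct

namespace Groth.Agent.Sga3B.SplitCmp588

open Cell DSPts GaPts PinMod RootCmp

variable {S : Scheme.{u}} {G : Over S} [GrpObj G]

variable {K : Type u} [Field K] {s : Spec (CommRingCat.of K) ⟶ S}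
  {A : Type u} [CommRing A] [Algebra K A] [PtGrp K A]
  (pts : ∀ (B : Type u) [CommRing B] [Algebra K B], Pt K A B ≃* (tB s B ⟶ G))
  (pts_nat : ∀ {B C : Type u} [CommRing B] [Algebra K B] [CommRing C] [Algebra K C] (φ : B →ₐ[K] C)
    (g : Pt K A B), tMap s φ ≫ pts B g = pts C (Pt.map φ g))

include pts_nat in
/-- a point acting on the torus through `w`, on points of the coordinate ring -/
theorem acts_of_conj {M M' : Type} [AddCommGroup M] [AddCommGroup M'] (j : Red.DS S M ⟶ G)
    (j' : Red.DS S M' ⟶ G)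
    (i : ∀ (B : Type u) [CommRing B] [Algebra K B], TPt M B →* Pt K A B)
    (i' : ∀ (B : Type u) [CommRing B] [Algebra K B], TPt M' B →* Pt K A B)
    (hi : ∀ (B : Type u) [CommRing B] [Algebra K B] (t : TPt M B),
      pts B (i B t) = dsEquiv (tB s B) M (chΓ s t) ≫ j)
    (hi' : ∀ (B : Type u) [CommRing B] [Algebra K B] (t : TPt M' B),
      pts B (i' B t) = dsEquiv (tB s B) M' (chΓ s t) ≫ j')
    (g : (Over.mk s : Over S) ⟶ G) (w : M' →+ M)
    (hg : ∀ (X : Over S) (x : X ⟶ Over.mk s) (t : X ⟶ Red.DS S M),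
      (x ≫ g) * (t ≫ j) * (x ≫ g)⁻¹ = (t ≫ Red.DSmap S w) ≫ j')
    (B : Type u) [CommRing B] [Algebra K B] (t : TPt M B) :
    up B ((pts K).symm (iB s K ≫ g)) * i B t * (up B ((pts K).symm (iB s K ≫ g)))⁻¹ =
        i' B (t.comp (AddMonoidHom.toMultiplicative w)) := by
  apply (pts B).injective
  rw [map_mul, map_mul, map_inv, pts_up' pts pts_nat, hi, hi', hg, dsEquiv_DSmap, chΓ_comp']

end Groth.Agent.Sga3B.SplitCmp588
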