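import Mathlib.AlgebraicGeometry.Gluing
import Mathlib.AlgebraicGeometry.Cover.Open
import Mathlib.CategoryTheory.Monoidal.Cartesian.Over
import Mathlib.CategoryTheory.Monoidal.Grp
import Mathlib.CategoryTheory.Monoidal.Cartesian.Grp
import Mathlib.AlgebraicGeometry.Limits

/-!
# Morphisms of schemes over `S` from natural transformations on affine points
-/

set_option autoImplicit false
universe u

open CategoryTheory MonoidalCategory CartesianMonoidalCategory MonObj AlgebraicGeometry Limits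

namespace Groth.Agent.Sga3B.AffYoneda

variable {S : Scheme.{u}} {G G' : Over S}

/-- two morphisms over `S` agreeing on affine points are equal -/
theorem hom_ext {f f' : G ⟶ G'} (h : ∀ (R : CommRingCat.{u}) (s : Spec R ⟶ S) (g : Over.mk s ⟶ G),
    g ≫ f = g ≫ f') : f = f' := by
  ext1
  apply Scheme.Cover.hom_ext G.left.affineOpenCover.openCover
  intro i
  have h1 := h (G.left.affineOpenCover.X i) (G.left.affineOpenCover.f i ≫ G.hom)
    (Over.homMk (G.left.affineOpenCover.f i) rfl)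
  exact congrArg (fun k => k.left) h1

/-- **Affine Yoneda lemma.** A natural transformation on affine points comes from a morphism. -/
theorem existsUnique_hom
    (F : ∀ (R : CommRingCat.{u}) (s : Spec R ⟶ S), (Over.mk s ⟶ G) → (Over.mk s ⟶ G'))
    (nat : ∀ (R R' : CommRingCat.{u}) (s : Spec R ⟶ S) (s' : Spec R' ⟶ S)
      (h : Over.mk s' ⟶ Over.mk s) (g : Over.mk s ⟶ G), F R' s' (h ≫ g) = h ≫ F R s g) :
    ∃! f : G ⟶ G', ∀ (R : CommRingCat.{u}) (s : Spec R ⟶ S) (g : Over.mk s ⟶ G),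
      g ≫ f = F R s g := by
  refine existsUnique_of_exists_of_unique ?_ ?_
  swap
  · intro f f' hf hf'
    apply hom_ext
    intro R s g
    rw [hf, hf']
  let 𝒰 := G.left.affineOpenCover
  let v : ∀ i : 𝒰.I₀, (Over.mk (𝒰.f i ≫ G.hom) ⟶ G) := fun i => Over.homMk (𝒰.f i) rfl
  have hcomp : ∀ x y : 𝒰.I₀, pullback.fst (𝒰.f x) (𝒰.f y) ≫ (F _ _ (v x)).left =
      pullback.snd (𝒰.f x) (𝒰.f y) ≫ (F _ _ (v y)).left := by
    intro x y
    let W := pullback (𝒰.f x) (𝒰.f y)
    apply Scheme.Cover.hom_ext W.affineOpenCover.openCover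
    intro c
    let κ : Spec (W.affineOpenCover.X c) ⟶ W := W.affineOpenCover.f c
    let s' : Spec (W.affineOpenCover.X c) ⟶ S := κ ≫ pullback.fst (𝒰.f x) (𝒰.f y) ≫ 𝒰.f x ≫ G.hom
    let h₁ : Over.mk s' ⟶ Over.mk (𝒰.f x ≫ G.hom) :=
      Over.homMk (κ ≫ pullback.fst (𝒰.f x) (𝒰.f y)) (by simp [s'])
    let h₂ : Over.mk s' ⟶ Over.mk (𝒰.f y ≫ G.hom) :=
      Over.homMk (κ ≫ pullback.snd (𝒰.f x) (𝒰.f y)) (by
        simp only [Over.mk_left, Over.mk_hom, Category.assoc, s']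
        rw [← pullback.condition_assoc])
    have h12 : h₁ ≫ v x = h₂ ≫ v y := by
      ext1
      simp only [Over.comp_left, Over.homMk_left, h₁, h₂, v, Category.assoc]
      rw [pullback.condition]
    have e1 := congrArg (fun k => k.left) (nat _ _ _ _ h₁ (v x))
    have e2 := congrArg (fun k => k.left) (nat _ _ _ _ h₂ (v y))
    rw [h12, e2] at e1
    simp only [Over.comp_left] at e1
    change (κ ≫ pullback.snd (𝒰.f x) (𝒰.f y)) ≫ _ = (κ ≫ pullback.fst (𝒰.f x) (𝒰.f y)) ≫ _ at e1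
    change κ ≫ pullback.fst (𝒰.f x) (𝒰.f y) ≫ _ = κ ≫ pullback.snd (𝒰.f x) (𝒰.f y) ≫ _
    rw [← Category.assoc, ← e1, Category.assoc]
  let f₀ : G.left ⟶ G'.left := 𝒰.openCover.glueMorphisms (fun i => (F _ _ (v i)).left) hcomp
  have hf₀ : ∀ i, 𝒰.f i ≫ f₀ = (F _ _ (v i)).left := fun i =>
    Scheme.Cover.ι_glueMorphisms 𝒰.openCover _ _ i
  let f : G ⟶ G' := Over.homMk f₀ (by
    apply Scheme.Cover.hom_ext 𝒰.openCover
    intro i
    change 𝒰.f i ≫ f₀ ≫ G'.hom = 𝒰.f i ≫ G.hom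
    rw [← Category.assoc, hf₀]
    exact Over.w (F _ _ (v i)))
  refine ⟨f, fun R s g => ?_⟩
  ext1
  -- cover `Spec R` by the preimages
  apply Scheme.Cover.hom_ext ((𝒰.openCover.pullback₁ g.left))
  intro i
  let W := pullback g.left (𝒰.f i)
  change pullback.fst g.left (𝒰.f i) ≫ _ = pullback.fst g.left (𝒰.f i) ≫ _
  apply Scheme.Cover.hom_ext W.affineOpenCover.openCover
  intro c
  let κ : Spec (W.affineOpenCover.X c) ⟶ W := W.affineOpenCover.f c
  let s' : Spec (W.affineOpenCover.X c) ⟶ S := κ ≫ pullback.snd g.left (𝒰.f i) ≫ 𝒰.f i ≫ G.hom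
  let h₁ : Over.mk s' ⟶ Over.mk (𝒰.f i ≫ G.hom) :=
    Over.homMk (κ ≫ pullback.snd g.left (𝒰.f i)) (by simp [s'])
  let h₂ : Over.mk s' ⟶ Over.mk s :=
    Over.homMk (κ ≫ pullback.fst g.left (𝒰.f i)) (by
      simp only [Over.mk_left, Over.mk_hom, Category.assoc, s']
      rw [← pullback.condition_assoc]
      have := Over.w g
      simp only [Over.mk_left, Over.mk_hom] at this
      rw [this])
  have h12 : h₁ ≫ v i = h₂ ≫ g := by
    ext1
    simp only [Over.comp_left, Over.homMk_left, h₁, h₂, v, Category.assoc]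
    rw [pullback.condition]
  have e1 := congrArg (fun k => k.left) (nat _ _ _ _ h₁ (v i))
  have e2 := congrArg (fun k => k.left) (nat _ _ _ _ h₂ g)
  rw [h12, e2] at e1
  simp only [Over.comp_left] at e1
  change (κ ≫ pullback.fst g.left (𝒰.f i)) ≫ _ = (κ ≫ pullback.snd g.left (𝒰.f i)) ≫ _ at e1
  change κ ≫ pullback.fst g.left (𝒰.f i) ≫ g.left ≫ f₀ = κ ≫ pullback.fst g.left (𝒰.f i) ≫ _
  rw [← Category.assoc κ, ← Category.assoc κ, e1, ← hf₀]
  rw [Category.assoc, Category.assoc, pullback.condition_assoc]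

end Groth.Agent.Sga3B.AffYoneda
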