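import Groth.Agent.Sga3B.CellDyn

/-!
# The groups `U(k)`: products of root group elements of positive weight
-/

set_option autoImplicit false
universe u

open Polynomial LaurentPolynomial

namespace Groth.Agent.Sga3B.Cell

section TPt
variable {M : Type} [AddCommGroup M] {R B C E : Type u} [CommRing R] [CommRing B]
    [Algebra R B] [CommRing C] [Algebra R C] [CommRing E] [Algebra R E]

lemma TPt.map_map (φ : B →ₐ[R] C) (ψ : C →ₐ[R] E) (t : TPt M B) :
    TPt.map ψ (TPt.map φ t) = TPt.map (ψ.comp φ) t := rfl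

@[simp] lemma TPt.map_id (t : TPt M B) : TPt.map (AlgHom.id R B) t = t := rfl

lemma TPt.mul_inv_self (t : TPt M B) : t * t⁻¹ = 1 := mul_inv_cancel t

end TPt

end Groth.Agent.Sga3B.Cell

namespace Groth.Agent.Sga3B.Cell.Datum

open Groth.Agent.Sga3B.Cell

variable {R A : Type u} [CommRing R] [CommRing A] [Algebra R A] [PtGrp R A] (D : Datum R A)
variable {B : Type u} [CommRing B] [Algebra R B]

/-- `toLaurent` as an `R`-algebra map -/
noncomputable def lau (R B : Type u) [CommRing R] [CommRing B] [Algebra R B] :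
    B[X] →ₐ[R] B[T;T⁻¹] := (Polynomial.toLaurentAlg (R := B)).restrictScalars R

@[simp] lemma lau_apply (p : B[X]) : lau R B p = Polynomial.toLaurent p := rfl

lemma lau_injective : Function.Injective (lau R B) := Polynomial.toLaurent_injective

/-- `T ↦ T⁻¹` as an `R`-algebra map -/
noncomputable def linv (R B : Type u) [CommRing R] [CommRing B] [Algebra R B] :
    B[T;T⁻¹] →ₐ[R] B[T;T⁻¹] := ((LaurentPolynomial.invert (R := B)).toAlgHom).restrictScalars R

@[simp] lemma linv_apply (p : B[T;T⁻¹]) : linv R B p = LaurentPolynomial.invert p := rfl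

/-- constants -/
noncomputable def pC (R B : Type u) [CommRing R] [CommRing B] [Algebra R B] :
    B →ₐ[R] B[X] := (Polynomial.CAlgHom (R := B) (A := B)).restrictScalars R

@[simp] lemma pC_apply (b : B) : pC R B b = Polynomial.C b := rfl

lemma lau_comp_pC : (lau R B).comp (pC R B) = lC R B := by
  refine AlgHom.ext fun b => ?_
  simp [lC_apply]

lemma pev_comp_pC (b : B) : (pev R B b).comp (pC R B) = AlgHom.id R B := by
  refine AlgHom.ext fun b => ?_
  simp

lemma linv_comp_lC : (linv R B).comp (lC R B) = lC R B := by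
  refine AlgHom.ext fun b => ?_
  simp [lC_apply]

lemma toLaurent_monomial {k : ℤ} {y : B} (h : k < 0 → y = 0) :
    Polynomial.toLaurent (Polynomial.C y * X ^ k.toNat) = T k * LaurentPolynomial.C y := by
  by_cases hk : k < 0
  · rw [h hk]; simp
  · rw [Polynomial.toLaurent_C_mul_X_pow, mul_comm, Int.toNat_of_nonneg (by omega)]

/-- the torus point of a cocharacter -/
noncomputable def cochar (lam : D.M →+ ℤ) : TPt D.M B[T;T⁻¹] :=
  MonoidHom.toHomUnits
    { toFun := fun m => T (lam m.toAdd)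
      map_one' := by simp
      map_mul' := fun a b => by rw [toAdd_mul, map_add, T_add] }

@[simp] lemma ch_cochar (lam : D.M →+ ℤ) (m : D.M) :
    TPt.ch m (D.cochar lam : TPt D.M B[T;T⁻¹]) = T (lam m) := rfl

section mono

variable {D}
variable {L : List D.idx} {k : D.idx → ℤ} {θ : TPt D.M B[T;T⁻¹]}
  (hθ : ∀ a, TPt.ch (D.root a) θ = T (k a))
include hθ

lemma equi_cell {y : D.idx → B} (hy : ∀ a, k a ≤ 0 → y a = 0) :
    D.Equi θ (D.cell L (fun a => Polynomial.C (y a) * X ^ (k a).toNat) 1) := by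
  unfold Equi
  rw [cell_nat, cell_nat, conj_cell, map_one, map_one]
  congr 1
  funext a
  rw [TPt.ch_map, hθ, kapM_apply]
  ext1 d
  rw [sigmaM_coeff]
  conv_rhs => rw [Polynomial.coeff_C_mul, iotaM_coeff, Polynomial.coeff_C_mul_X_pow]
  conv_lhs => rw [Polynomial.coeff_C_mul_X_pow]
  by_cases hd : d = (k a).toNat
  · by_cases hk : k a ≤ 0
    · rw [hy a hk]; simp
    · have : (d : ℤ) = k a := by omega
      rw [if_pos hd, this, mul_comm]
  · rw [if_neg hd]; simp

lemma lau_cell {y : D.idx → B} (hy : ∀ a, k a < 0 → y a = 0) (t : TPt D.M B) :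
    Pt.map (lau R B) (D.cell L (fun a => Polynomial.C (y a) * X ^ (k a).toNat)
      (TPt.map (pC R B) t)) =
    D.i _ θ * Pt.map (lC R B) (D.cell L y t) * (D.i _ θ)⁻¹ := by
  rw [cell_nat, cell_nat, conj_cell]
  congr 1
  · funext a
    rw [hθ, lau_apply, toLaurent_monomial (hy a), lC_apply]
  · rw [← lau_comp_pC]
    rfl

end mono

lemma eval0_cell (L : List D.idx) {k : D.idx → ℤ} {y : D.idx → B} (hy : ∀ a, k a ≤ 0 → y a = 0)
    (t : TPt D.M B) :
    Pt.map (pev R B 0) (D.cell L (fun a => Polynomial.C (y a) * X ^ (k a).toNat)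
      (TPt.map (pC R B) t)) = D.i B t := by
  rw [cell_nat, TPt.map_map, pev_comp_pC, TPt.map_id, ← D.cell_zero L t]
  congr 1
  funext a
  rw [pev_apply]
  by_cases hk : k a ≤ 0
  · rw [hy a hk]; simp
  · have : (k a).toNat ≠ 0 := by omega
    simp [this]

lemma eval1_cell (L : List D.idx) {k : D.idx → ℤ} (y : D.idx → B) (t : TPt D.M B) :
    Pt.map (pev R B 1) (D.cell L (fun a => Polynomial.C (y a) * X ^ (k a).toNat)
      (TPt.map (pC R B) t)) = D.cell L y t := by
  rw [cell_nat, TPt.map_map, pev_comp_pC, TPt.map_id]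
  congr 1
  funext a
  simp

/-- the set of products of root group elements of positive weight -/
def UP (L : List D.idx) (k : D.idx → ℤ) (B : Type u) [CommRing B] [Algebra R B] :
    Set (Pt R A B) := {g | ∃ y : D.idx → B, (∀ a, k a ≤ 0 → y a = 0) ∧ g = D.cell L y 1}

section et

variable {D}
variable {L : List D.idx} {δ : D.CR} (hδ : D.EtOn L δ) (hδ0 : D.ev0 δ = 1)
  {k : D.idx → ℤ}
include hδ hδ0

/-- The parametrisation is injective. -/
lemma cell_inj {θ : TPt D.M B[T;T⁻¹]} (hθ : ∀ a, TPt.ch (D.root a) θ = T (k a))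
    {y y' : D.idx → B} {t t' : TPt D.M B}
    (hy : ∀ a, k a ≤ 0 → y a = 0) (hy' : ∀ a, k a ≤ 0 → y' a = 0)
    (h : D.cell L y t = D.cell L y' t') : y = y' ∧ t = t' := by
  have h1 : D.cell L (fun a => Polynomial.C (y a) * X ^ (k a).toNat) (TPt.map (pC R B) t) =
      D.cell L (fun a => Polynomial.C (y' a) * X ^ (k a).toNat) (TPt.map (pC R B) t') := by
    apply Pt.map_injective (lau_injective (R := R) (B := B))
    rw [lau_cell hθ (fun a ha => hy a ha.le), lau_cell hθ (fun a ha => hy' a ha.le), h]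
  have ht : t = t' := by
    have h2 := congrArg (Pt.map (pev R B 0)) h1
    rw [D.eval0_cell L hy, D.eval0_cell L hy'] at h2
    exact D.i_inj B h2
  refine ⟨?_, ht⟩
  subst ht
  have h3 : D.cell L (fun a => Polynomial.C (y a) * X ^ (k a).toNat) 1 =
      D.cell L (fun a => Polynomial.C (y' a) * X ^ (k a).toNat) 1 := by
    have h4 := congrArg (fun z => z * (D.i _ (TPt.map (pC R B) t))⁻¹) h1
    simp only [← map_inv, cell_mul_i] at h4
    rwa [TPt.mul_inv_self] at h4
  have h5 := congrArg (Pt.map (tmk R B (1 + ∑ a, (k a).toNat))) h3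
  rw [cell_nat, cell_nat, map_one] at h5
  refine hδ.unique_level (D := D) hδ0 ?_ (by omega) hy hy' h5
  intro a
  have := Finset.single_le_sum (f := fun a => (k a).toNat) (fun _ _ => Nat.zero_le _)
      (Finset.mem_univ a)
  omega

lemma mem_UP_iff {θ : TPt D.M B[T;T⁻¹]} (hθ : ∀ a, TPt.ch (D.root a) θ = T (k a)) {g : Pt R A B} :
    g ∈ D.UP L k B ↔ ∃ c : Pt R A B[X], D.Equi θ c ∧ Pt.map (pev R B 0) c = 1 ∧
      Pt.map (pev R B 1) c = g := by
  constructor
  · rintro ⟨y, hy, rfl⟩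
    refine ⟨_, equi_cell (L := L) hθ hy, ?_, ?_⟩
    · have := D.eval0_cell L hy 1
      rwa [map_one, map_one] at this
    · have := D.eval1_cell L (k := k) y 1
      rwa [map_one] at this
  · rintro ⟨c, hc, hc0, rfl⟩
    obtain ⟨y, hy, rfl⟩ := hc.exists_eq (D := D) hδ hδ0 hθ hc0
    refine ⟨y, hy, ?_⟩
    have := D.eval1_cell L (k := k) y 1
    rwa [map_one] at this

lemma UP_mul {θ : TPt D.M B[T;T⁻¹]} (hθ : ∀ a, TPt.ch (D.root a) θ = T (k a)) {g g' : Pt R A B}
    (h : g ∈ D.UP L k B) (h' : g' ∈ D.UP L k B) : g * g' ∈ D.UP L k B := by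
  rw [mem_UP_iff hδ hδ0 hθ] at *
  obtain ⟨c, hc, hc0, rfl⟩ := h
  obtain ⟨c', hc', hc'0, rfl⟩ := h'
  exact ⟨c * c', hc.mul hc', by rw [Pt.map_mul, hc0, hc'0, one_mul], by rw [Pt.map_mul]⟩

lemma UP_inv {θ : TPt D.M B[T;T⁻¹]} (hθ : ∀ a, TPt.ch (D.root a) θ = T (k a)) {g : Pt R A B}
    (h : g ∈ D.UP L k B) : g⁻¹ ∈ D.UP L k B := by
  rw [mem_UP_iff hδ hδ0 hθ] at *
  obtain ⟨c, hc, hc0, rfl⟩ := h
  exact ⟨c⁻¹, hc.inv, by rw [Pt.map_inv, hc0, inv_one], by rw [Pt.map_inv]⟩

/-- an element carrying `θ` to `θ'` (of the same weights) preserves `UP`. -/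
lemma UP_conj {θ θ' : TPt D.M B[T;T⁻¹]} (hθ : ∀ a, TPt.ch (D.root a) θ = T (k a))
    (hθ' : ∀ a, TPt.ch (D.root a) θ' = T (k a)) {h : Pt R A B}
    (hh : Pt.map (lC R B) h * D.i _ θ * (Pt.map (lC R B) h)⁻¹ = D.i _ θ') {g : Pt R A B}
    (hg : g ∈ D.UP L k B) : h * g * h⁻¹ ∈ D.UP L k B := by
  rw [mem_UP_iff hδ hδ0 hθ] at hg
  rw [mem_UP_iff hδ hδ0 hθ']
  obtain ⟨c, hc, hc0, rfl⟩ := hg
  refine ⟨Pt.map (pC R B) h * c * (Pt.map (pC R B) h)⁻¹, ?_, ?_, ?_⟩
  · unfold Equi at *
    have e1 : (sigmaM R B).comp (pC R B) = (kapM R B).comp (lC R B) := by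
      refine AlgHom.ext fun b => ?_
      ext1 d
      simp only [AlgHom.comp_apply, sigmaM_coeff, pC_apply, kapM_apply, Polynomial.coeff_C, lC_apply]
      by_cases hd : d = 0
      · simp [hd]
      · simp [hd]
    have e2 : (iotaM R B).comp (pC R B) = (kapM R B).comp (lC R B) := by
      refine AlgHom.ext fun b => ?_
      ext1 d
      simp only [AlgHom.comp_apply, iotaM_coeff, pC_apply, kapM_apply, Polynomial.coeff_C, lC_apply]
      by_cases hd : d = 0
      · simp [hd]
      · simp [hd]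
    have hh' := congrArg (Pt.map (kapM R B)) hh
    rw [Pt.map_mul, Pt.map_mul, Pt.map_inv, Pt.map_map, D.i_nat, D.i_nat] at hh'
    rw [Pt.map_mul, Pt.map_mul, Pt.map_inv, Pt.map_map, e1, hc, Pt.map_mul, Pt.map_mul, Pt.map_inv,
      Pt.map_map, e2, ← hh']
    group
  · rw [Pt.map_mul, Pt.map_mul, hc0, Pt.map_inv]; simp
  · rw [Pt.map_mul, Pt.map_mul, Pt.map_inv, Pt.map_map, pev_comp_pC, Pt.map_id]

end et

/-- A curve defined both over `B[T]` and `B[T⁻¹]` is constant. -/
lemma const_of_both {c c' : Pt R A B[X]}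
    (h : Pt.map (lau R B) c = Pt.map ((linv R B).comp (lau R B)) c') :
    Pt.map (pev R B 1) c = Pt.map (pev R B 0) c ∧ Pt.map (pev R B 1) c' = Pt.map (pev R B 0) c' := by
  have key : ∀ f : A, (∀ d, d ≠ 0 → (c.hom f).coeff d = 0) ∧ (∀ d, d ≠ 0 → (c'.hom f).coeff d = 0) := by
    intro f
    have h1 := congrArg (fun z : Pt R A B[T;T⁻¹] => z.hom f) h
    simp only [Pt.map_hom_apply, AlgHom.comp_apply, lau_apply, linv_apply] at h1
    have h2 : ∀ n : ℤ, (Polynomial.toLaurent (c.hom f)).coeff n =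
        (Polynomial.toLaurent (c'.hom f)).coeff (-n) := by
      intro n
      rw [h1, LaurentPolynomial.invert_apply]
    have h3 : ∀ (p : B[X]) (n : ℕ), (Polynomial.toLaurent p).coeff (n : ℤ) = p.coeff n := by
      intro p n
      rw [LaurentPolynomial.coeff_toLaurent]
      exact Finsupp.mapDomain_apply Nat.castEmbedding.injective _ n
    have h4 : ∀ (p : B[X]) (n : ℕ), n ≠ 0 → (Polynomial.toLaurent p).coeff (-(n : ℤ)) = 0 := by
      intro p n hn
      rw [LaurentPolynomial.coeff_toLaurent]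
      apply Finsupp.mapDomain_of_notMem_range
      rintro ⟨m, hm⟩
      have : ((m : ℕ) : ℤ) = -(n : ℤ) := hm
      omega
    constructor
    · intro d hd
      rw [← h3, h2, h4 _ _ hd]
    · intro d hd
      have := h2 (-(d : ℤ))
      rw [h4 _ _ hd, neg_neg, h3] at this
      exact this.symm
  have hconst : ∀ p : B[X], (∀ d, d ≠ 0 → p.coeff d = 0) → p.eval 1 = p.eval 0 := by
    intro p hp
    have : p = Polynomial.C (p.coeff 0) := by
      ext d
      by_cases hd : d = 0
      · simp [hd]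
      · rw [hp d hd, Polynomial.coeff_C, if_neg hd]
    rw [this]; simp
  constructor
  · apply Pt.ext
    intro f
    simp only [Pt.map_hom_apply, pev_apply]
    exact hconst _ (key f).1
  · apply Pt.ext
    intro f
    simp only [Pt.map_hom_apply, pev_apply]
    exact hconst _ (key f).2

/-- `U(-k) ∩ U(k) T = 1`. -/
lemma disjoint_UP {L L' : List D.idx} {k : D.idx → ℤ} {θ : TPt D.M B[T;T⁻¹]}
    (hθ : ∀ a, TPt.ch (D.root a) θ = T (k a)) {x y : D.idx → B} {t : TPt D.M B}
    (hx : ∀ a, -k a ≤ 0 → x a = 0) (hy : ∀ a, k a ≤ 0 → y a = 0)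
    (h : D.cell L' x 1 = D.cell L y t) : D.cell L' x 1 = 1 := by
  -- the opposite cocharacter point
  have hθ' : ∀ a, TPt.ch (D.root a) (TPt.map (linv R B) θ) = T (-k a) := by
    intro a
    rw [TPt.ch_map, hθ, linv_apply, LaurentPolynomial.invert_T]
  have h1 := lau_cell (L := L') (k := fun a => -k a) hθ' (y := x) (fun a ha => hx a (by omega)) 1
  have h2 := lau_cell (L := L) hθ (y := y) (fun a ha => hy a (by omega)) t
  have h3 := congrArg (Pt.map (linv R B)) h1
  rw [Pt.map_map, Pt.map_mul, Pt.map_mul, Pt.map_inv, D.i_nat, Pt.map_map, linv_comp_lC,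
    TPt.map_map] at h3
  have h4 : (linv R B).comp (linv R B) = AlgHom.id R _ := by
    refine AlgHom.ext fun z => ?_
    simpa using LaurentPolynomial.involutive_invert z
  rw [h4, TPt.map_id, h, ← h2] at h3
  have h5 := const_of_both h3.symm
  have h6 := h5.2
  rw [D.eval1_cell, D.eval0_cell L' (k := fun a => -k a) hx, map_one] at h6
  exact h6

end Groth.Agent.Sga3B.Cell.Datum
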