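import Groth.Agent.Sga3B.PinCover
import Groth.Agent.Sga3B.CellUP

/-!
# Uniqueness: an endomorphism of a pinned group fixing the torus and the simple root groups is trivial
-/

set_option autoImplicit false
universe u

open TensorProduct Polynomial LaurentPolynomial

namespace Groth.Agent.Sga3B.PinUniq

open Cell PtDescent PinCover Cell.Datum

variable {idx M : Type} [Fintype idx] [AddCommGroup M] [Module.Free ℤ M]
    [Module.Finite ℤ M] {P : RootPairing idx ℤ M (Module.Dual ℤ M)} {b : P.Base}
    {R A : Type u} [CommRing R] [CommRing A] [Algebra R A] [PtGrp R A] {E : PinCell P b R A}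

section

variable {φ : A →ₐ[R] A}
  (hmul : ∀ {B : Type u} [CommRing B] [Algebra R B] (g h : Pt R A B),
    comap φ (g * h) = comap φ g * comap φ h)
  (hi : ∀ {B : Type u} [CommRing B] [Algebra R B] (t : TPt M B), comap φ (E.i B t) = E.i B t)
  {a : idx} (ha : a ∈ b.support)
  (hu : ∀ {B : Type u} [CommRing B] [Algebra R B] (x : B), comap φ (E.uu a B x) = E.uu a B x)

include hmul in
lemma comap_one {B : Type u} [CommRing B] [Algebra R B] : comap φ (1 : Pt R A B) = 1 := by
  have h := hmul (1 : Pt R A B) 1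
  rw [mul_one] at h
  exact (mul_eq_left.mp h.symm)

include hmul in
lemma comap_inv {B : Type u} [CommRing B] [Algebra R B] (g : Pt R A B) :
    comap φ g⁻¹ = (comap φ g)⁻¹ := by
  rw [eq_inv_iff_mul_eq_one, ← hmul, inv_mul_cancel, comap_one hmul]

/-- the discrepancy on `U_{-a}` -/
def disc (E : PinCell P b R A) (φ : A →ₐ[R] A) (a : idx) {B : Type u} [CommRing B] [Algebra R B]
    (y : B) : Pt R A B :=
  comap φ (E.uu (P.reflectionPerm a a) B y) * (E.uu (P.reflectionPerm a a) B y)⁻¹

lemma disc_nat {B C : Type u} [CommRing B] [Algebra R B] [CommRing C] [Algebra R C]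
    (ψ : B →ₐ[R] C) (y : B) : Pt.map ψ (disc E φ a y) = disc E φ a (ψ y) := by
  rw [disc, disc, Pt.map_mul, Pt.map_inv, map_comap, E.uu_nat]

include hmul hi ha hu in
lemma disc_conj {B : Type u} [CommRing B] [Algebra R B] (x y : B) (v : Bˣ)
    (hv : (v : B) = 1 + x * y) :
    E.uu a B x * disc E φ a y * (E.uu a B x)⁻¹ = disc E φ a ((v⁻¹ : Bˣ) * y) := by
  have h1 := E.rank1 a ha x y v hv
  have h2 := congrArg (comap φ) h1
  rw [hmul, hmul, hmul, hi, hu, hu] at h2
  have h3 : E.i B (TPt.cow (P.coroot a) v) * E.uu a B ((v⁻¹ : Bˣ) * x) =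
      (E.uu (P.reflectionPerm a a) B ((v⁻¹ : Bˣ) * y))⁻¹ *
        (E.uu a B x * E.uu (P.reflectionPerm a a) B y) := by
    rw [h1]; group
  rw [mul_assoc, h3] at h2
  unfold disc
  have h4 : E.uu a B x * comap φ (E.uu (P.reflectionPerm a a) B y) *
      (E.uu (P.reflectionPerm a a) B y)⁻¹ * (E.uu a B x)⁻¹ =
      comap φ (E.uu (P.reflectionPerm a a) B ((v⁻¹ : Bˣ) * y)) *
        (E.uu (P.reflectionPerm a a) B ((v⁻¹ : Bˣ) * y))⁻¹ := by
    rw [h2]; group
  rw [← h4]; group

include hmul hi ha hu in
lemma disc_one {B : Type u} [CommRing B] [Algebra R B] (y : B) : disc E φ a y = 1 := by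
  -- the computation over `R[T;T⁻¹]`
  have key : disc E φ a (T 1 : R[T;T⁻¹]) =
      E.uu a _ (T (-1) - 1 : R[T;T⁻¹]) * disc E φ a (1 : R[T;T⁻¹]) *
        (E.uu a _ (T (-1) - 1 : R[T;T⁻¹]))⁻¹ := by
    let v : (R[T;T⁻¹])ˣ := ⟨T (-1), T 1, by rw [← T_add]; simp, by rw [← T_add]; simp⟩
    rw [disc_conj hmul hi ha hu (T (-1) - 1 : R[T;T⁻¹]) 1 v (by simp [v]), mul_one]
    rfl
  -- the two curves
  have hc : Pt.map (lau R R) (disc E φ a (X : R[X])) =
      Pt.map ((linv R R).comp (lau R R)) (E.uu a R[X] (X - 1) * disc E φ a (1 : R[X]) *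
        (E.uu a R[X] (X - 1))⁻¹) := by
    rw [Pt.map_mul, Pt.map_mul, Pt.map_inv, E.uu_nat, disc_nat, disc_nat]
    have e1 : (lau R R) (X : R[X]) = T 1 := by simp
    have e2 : ((linv R R).comp (lau R R)) (X - 1 : R[X]) = T (-1) - 1 := by
      simp [LaurentPolynomial.invert_T]
    rw [e1, e2, map_one]
    exact key
  have h1 := (const_of_both hc).1
  rw [disc_nat, disc_nat] at h1
  have h2 : disc E φ a (1 : R) = 1 := by
    simp only [pev_apply, eval_X] at h1
    rw [h1]
    simp [disc, comap_one hmul]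
  have h3 : disc E φ a (1 : R[T;T⁻¹]) = 1 := by
    have h4 := congrArg (Pt.map (Algebra.ofId R R[T;T⁻¹])) h2
    rwa [disc_nat, map_one, Pt.map_one] at h4
  have h5 : disc E φ a (X : R[X]) = 1 := by
    apply Pt.map_injective (lau_injective (R := R) (B := R))
    rw [hc, Pt.map_mul, Pt.map_mul, Pt.map_inv, disc_nat, map_one, h3, mul_one, mul_inv_cancel,
      Pt.map_one]
  have h6 := congrArg (Pt.map (Polynomial.aeval (R := R) y)) h5
  rwa [disc_nat, Pt.map_one, aeval_X] at h6

include hmul hi ha hu in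
/-- an endomorphism fixing `T` and `U_a`, `a` simple, fixes `U_{-a}` -/
theorem fix_neg {B : Type u} [CommRing B] [Algebra R B] (y : B) :
    comap φ (E.uu (P.reflectionPerm a a) B y) = E.uu (P.reflectionPerm a a) B y :=
  mul_inv_eq_one.mp (disc_one hmul hi ha hu y)

end

/-- **Uniqueness.** -/
theorem eq_id [P.IsReduced] {φ : A →ₐ[R] A}
    (hmul : ∀ {B : Type u} [CommRing B] [Algebra R B] (g h : Pt R A B),
      comap φ (g * h) = comap φ g * comap φ h)
    (hi : ∀ {B : Type u} [CommRing B] [Algebra R B] (t : TPt M B), comap φ (E.i B t) = E.i B t)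
    (hu : ∀ a ∈ b.support, ∀ {B : Type u} [CommRing B] [Algebra R B] (x : B),
      comap φ (E.uu a B x) = E.uu a B x) : φ = AlgHom.id R A := by
  have hneg : ∀ j, P.root (P.reflectionPerm j j) = - P.root j := fun j => by
    rw [RootPairing.root_reflectionPerm, RootPairing.reflection_apply_self]
  -- all root groups are fixed
  have hfix : ∀ c : idx, (∀ {B : Type u} [CommRing B] [Algebra R B] (x : B),
      comap φ (E.uu c B x) = E.uu c B x) ∧ (∀ {B : Type u} [CommRing B] [Algebra R B] (x : B),
      comap φ (E.uu (P.reflectionPerm c c) B x) = E.uu (P.reflectionPerm c c) B x) := by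
    intro c
    refine b.induction_reflect c (p := fun c => (∀ {B : Type u} [CommRing B] [Algebra R B] (x : B),
      comap φ (E.uu c B x) = E.uu c B x) ∧ (∀ {B : Type u} [CommRing B] [Algebra R B] (x : B),
      comap φ (E.uu (P.reflectionPerm c c) B x) = E.uu (P.reflectionPerm c c) B x)) ?_ ?_ ?_
    · intro i hi
      refine ⟨hi.2, ?_⟩
      have h1 : P.reflectionPerm (P.reflectionPerm i i) (P.reflectionPerm i i) = i := by
        apply P.root.injective
        rw [hneg, hneg, neg_neg]
      rw [h1]
      exact fun {B} _ _ x => hi.1 (B := B) x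
    · intro i hi'
      exact ⟨hu i hi', fix_neg hmul hi hi' (hu i hi')⟩
    · intro i j hp hj
      have hn : ∀ {B : Type u} [CommRing B] [Algebra R B],
          comap φ (E.nn j B) = E.nn j B := by
        intro B _ _
        rw [PinCell.nn, hmul, hmul, hu j hj, fix_neg hmul hi hj (hu j hj)]
      have hstep : ∀ c : idx, (∀ {B : Type u} [CommRing B] [Algebra R B] (x : B),
          comap φ (E.uu c B x) = E.uu c B x) → ∀ {B : Type u} [CommRing B] [Algebra R B] (x : B),
          comap φ (E.uu (P.reflectionPerm j c) B x) = E.uu (P.reflectionPerm j c) B x := by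
        intro c hc B _ _ x
        obtain ⟨r, hr⟩ := E.nn_conj hj c
        have h1 := hr (algebraMap R B ((r⁻¹ : Rˣ) : R) * x)
        rw [← mul_assoc, ← map_mul, Units.mul_inv, map_one, one_mul] at h1
        rw [← h1, hmul, hmul, comap_inv hmul, hn, hc]
      refine ⟨hstep i hp.1, ?_⟩
      have h1 : P.reflectionPerm (P.reflectionPerm j i) (P.reflectionPerm j i) =
          P.reflectionPerm j (P.reflectionPerm i i) := by
        apply P.root.injective
        rw [hneg, RootPairing.root_reflectionPerm, RootPairing.root_reflectionPerm, hneg, map_neg]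
      rw [h1]
      exact fun {B} _ _ x => hstep _ hp.2 (B := B) x
  -- the cell is fixed
  have hcell : ∀ {B : Type u} [CommRing B] [Algebra R B] (x : idx → B) (t : TPt M B),
      comap φ (E.cell x t) = E.cell x t := by
    intro B _ _ x t
    have h : ∀ L : List idx, comap φ (L.map (fun a => E.uu a B (x a))).prod =
        (L.map (fun a => E.uu a B (x a))).prod := by
      intro L
      induction L with
      | nil => exact comap_one hmul
      | cons a L ih =>
        simp only [List.map_cons, List.prod_cons]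
        rw [hmul, ih, (hfix a).1]
    unfold PinCell.cell
    rw [hmul, h, hi]
  obtain ⟨T', _, _, _, _, _, x, t, x', t', h⟩ := exists_cover E
  have h1 : comap φ (Pt.mk (IsScalarTower.toAlgHom R A T')) =
      Pt.mk (IsScalarTower.toAlgHom R A T') := by
    rw [h, hmul, hcell, hcell]
  refine AlgHom.ext fun a => ?_
  apply FaithfulSMul.algebraMap_injective A T'
  exact congrArg (fun k : Pt R A T' => k.hom a) h1

end Groth.Agent.Sga3B.PinUniq
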