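import Groth.Agent.Sga3B.PinIso
import Groth.Agent.Sga3B.PinUniq
import Groth.Agent.Sga3B.GaPts
import Groth.Agent.Sga3B.AffYoneda
import Groth.Agent.Sga3B.Pts

/-!
# Models of pinned groups over affine schemes over `S`, and the glueing of local isomorphisms
-/

set_option autoImplicit false
universe u

open CategoryTheory MonoidalCategory CartesianMonoidalCategory MonObj GrpObj AlgebraicGeometry

namespace Groth.Agent.Sga3B.PinMod

open Cell PtDescent DSPts GaPts

section points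

variable {S : Scheme.{u}} {R : Type u} [CommRing R] (s : Spec (CommRingCat.of R) ⟶ S)

/-- `Spec B` over `S` for an `R`-algebra `B` and `s : Spec R ⟶ S`. -/
noncomputable abbrev tB (B : Type u) [CommRing B] [Algebra R B] : Over S :=
  Over.mk (Spec.map (CommRingCat.ofHom (algebraMap R B)) ≫ s)

variable {B C : Type u} [CommRing B] [Algebra R B] [CommRing C] [Algebra R C]

/-- functoriality of `tB` -/
noncomputable def tMap (φ : B →ₐ[R] C) : tB s C ⟶ tB s B :=
  Over.homMk (Spec.map (CommRingCat.ofHom (φ : B →+* C))) (by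
    simp only [Over.mk_left, Over.mk_hom]
    rw [← Category.assoc, ← Spec.map_comp, ← CommRingCat.ofHom_comp, AlgHom.comp_algebraMap])

@[simp] lemma tMap_left (φ : B →ₐ[R] C) :
    (tMap s φ).left = Spec.map (CommRingCat.ofHom (φ : B →+* C)) := rfl

variable {M : Type} [AddCommGroup M]

/-- an element of `B` as a global function on `Spec B` -/
noncomputable def fnOf (s : Spec (CommRingCat.of R) ⟶ S) (x : B) : Γ((tB s B).left, ⊤) :=
  (Scheme.ΓSpecIso (CommRingCat.of B)).inv x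

/-- the character of `Spec B` given by a torus point -/
noncomputable def chΓ (s : Spec (CommRingCat.of R) ⟶ S) (t : TPt M B) :
    Multiplicative M →* Γ((tB s B).left, ⊤) :=
  ((Scheme.ΓSpecIso (CommRingCat.of B)).inv.hom : B →* Γ(Spec (CommRingCat.of B), ⊤)).comp
    ((Units.coeHom B).comp t)

lemma exists_fnOf (s : Spec (CommRingCat.of R) ⟶ S) (x : Γ((tB s B).left, ⊤)) :
    ∃ y : B, x = fnOf s y := by
  refine ⟨(Scheme.ΓSpecIso (CommRingCat.of B)).hom x, ?_⟩
  change x = ((Scheme.ΓSpecIso (CommRingCat.of B)).hom ≫ (Scheme.ΓSpecIso (CommRingCat.of B)).inv) x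
  rw [Iso.hom_inv_id]
  rfl

lemma exists_gaPt (s : Spec (CommRingCat.of R) ⟶ S) (x : tB s B ⟶ Red.Ga S) :
    ∃ y : B, x = gaPt (tB s B) (fnOf s y) := by
  obtain ⟨y, hy⟩ := exists_fnOf s (Red.gaFn x)
  exact ⟨y, by rw [← hy, gaPt_gaFn]⟩

lemma exists_chΓ (s : Spec (CommRingCat.of R) ⟶ S) (x : tB s B ⟶ Red.DS S M) :
    ∃ t : TPt M B, x = dsEquiv (tB s B) M (chΓ s t) := by
  refine ⟨MonoidHom.toHomUnits
    (((Scheme.ΓSpecIso (CommRingCat.of B)).hom.hom : Γ(Spec (CommRingCat.of B), ⊤) →* B).comp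
      (dsChar x)), ?_⟩
  rw [← dsEquiv_dsChar x]
  congr 1
  rw [dsEquiv_dsChar]
  refine MonoidHom.ext fun m => ?_
  change dsChar x m = ((Scheme.ΓSpecIso (CommRingCat.of B)).hom ≫
    (Scheme.ΓSpecIso (CommRingCat.of B)).inv) (dsChar x m)
  rw [Iso.hom_inv_id]
  rfl

end points

section recast

variable {S : Scheme.{u}} {G : Over S} {B : CommRingCat.{u}}

/-- transport of affine points along an equality of structure morphisms -/
noncomputable def recast {σ σ' : Spec B ⟶ S} (h : σ = σ') (g : Over.mk σ ⟶ G) : Over.mk σ' ⟶ G :=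
  Over.homMk g.left (by
    have := Over.w g
    simp only [Over.mk_hom] at this ⊢
    rw [this, h])

@[simp] lemma recast_rfl {σ : Spec B ⟶ S} (g : Over.mk σ ⟶ G) : recast rfl g = g := rfl

end recast

/-- Pinned cell data computing the points of `G` over all affine schemes over `s : Spec R ⟶ S`.
`j : D_S(M) ⟶ G` is the torus and `u` the root homomorphisms. -/
structure PinModel {idx M : Type} [Fintype idx] [AddCommGroup M] [Module.Free ℤ M]
    [Module.Finite ℤ M] (P : RootPairing idx ℤ M (Module.Dual ℤ M)) (b : P.Base)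
    {S : Scheme.{u}} (G : Over S) [GrpObj G] (j : Red.DS S M ⟶ G) (u : idx → (Red.Ga S ⟶ G))
    {R : Type u} [CommRing R] (s : Spec (CommRingCat.of R) ⟶ S) where
  A : Type u
  [ring : CommRing A]
  [alg : Algebra R A]
  [grp : PtGrp R A]
  E : PinCell P b R A
  pts : ∀ (B : Type u) [CommRing B] [Algebra R B], Pt R A B ≃* (tB s B ⟶ G)
  pts_nat : ∀ {B C : Type u} [CommRing B] [Algebra R B] [CommRing C] [Algebra R C] (φ : B →ₐ[R] C)
    (g : Pt R A B), tMap s φ ≫ pts B g = pts C (Pt.map φ g)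
  pts_i : ∀ (B : Type u) [CommRing B] [Algebra R B] (t : TPt M B),
    pts B (E.i B t) = dsEquiv (tB s B) M (chΓ s t) ≫ j
  pts_uu : ∀ a ∈ b.support, ∀ (B : Type u) [CommRing B] [Algebra R B] (x : B),
    pts B (E.uu a B x) = gaPt (tB s B) (fnOf s x) ≫ u a

attribute [instance] PinModel.ring PinModel.alg PinModel.grp

variable {idx M : Type} [Fintype idx] [AddCommGroup M] [Module.Free ℤ M]
    [Module.Finite ℤ M] {P : RootPairing idx ℤ M (Module.Dual ℤ M)} {b : P.Base}
    {S : Scheme.{u}}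

/-- A natural homomorphism on affine points over `s : Spec R ⟶ S`, compatible with tori and simple
root homomorphisms. -/
structure LocHom (b : P.Base) (G G' : Over S) [GrpObj G] [GrpObj G'] (j : Red.DS S M ⟶ G)
    (j' : Red.DS S M ⟶ G') (u : idx → (Red.Ga S ⟶ G)) (u' : idx → (Red.Ga S ⟶ G'))
    {R : Type u} [CommRing R] (s : Spec (CommRingCat.of R) ⟶ S) where
  f : ∀ (B : CommRingCat.{u}) (ρ : CommRingCat.of R ⟶ B) (σ : Spec B ⟶ S)
    (_ : Spec.map ρ ≫ s = σ), (Over.mk σ ⟶ G) → (Over.mk σ ⟶ G')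
  nat : ∀ (B C : CommRingCat.{u}) (ψ : B ⟶ C) (ρ : CommRingCat.of R ⟶ B)
    (ρ' : CommRingCat.of R ⟶ C) (_ : ρ ≫ ψ = ρ') (σ : Spec B ⟶ S) (τ : Spec C ⟶ S)
    (hσ : Spec.map ρ ≫ s = σ) (hτ : Spec.map ρ' ≫ s = τ) (h : Over.mk τ ⟶ Over.mk σ)
    (_ : h.left = Spec.map ψ) (g : Over.mk σ ⟶ G), f C ρ' τ hτ (h ≫ g) = h ≫ f B ρ σ hσ g
  mul : ∀ (B : CommRingCat.{u}) (ρ : CommRingCat.of R ⟶ B) (σ : Spec B ⟶ S)
    (hσ : Spec.map ρ ≫ s = σ) (g h : Over.mk σ ⟶ G), f B ρ σ hσ (g * h) = f B ρ σ hσ g * f B ρ σ hσ h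
  torus : ∀ (B : CommRingCat.{u}) (ρ : CommRingCat.of R ⟶ B) (σ : Spec B ⟶ S)
    (hσ : Spec.map ρ ≫ s = σ) (x : Over.mk σ ⟶ Red.DS S M), f B ρ σ hσ (x ≫ j) = x ≫ j'
  root : ∀ a ∈ b.support, ∀ (B : CommRingCat.{u}) (ρ : CommRingCat.of R ⟶ B) (σ : Spec B ⟶ S)
    (hσ : Spec.map ρ ≫ s = σ) (x : Over.mk σ ⟶ Red.Ga S), f B ρ σ hσ (x ≫ u a) = x ≫ u' a

section

variable {G G' : Over S} [GrpObj G] [GrpObj G'] {j : Red.DS S M ⟶ G} {j' : Red.DS S M ⟶ G'}
  {u : idx → (Red.Ga S ⟶ G)} {u' : idx → (Red.Ga S ⟶ G')}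
  {R : Type u} [CommRing R] {s : Spec (CommRingCat.of R) ⟶ S}

/-- restriction of local homomorphisms along a map of affine schemes -/
noncomputable def LocHom.restrict (F : LocHom b G G' j j' u u' s) {R' : Type u} [CommRing R']
    (χ : CommRingCat.of R ⟶ CommRingCat.of R') {s' : Spec (CommRingCat.of R') ⟶ S}
    (hs : Spec.map χ ≫ s = s') : LocHom b G G' j j' u u' s' where
  f B ρ σ hσ := F.f B (χ ≫ ρ) σ (by rw [Spec.map_comp, Category.assoc, hs, hσ])
  nat B C ψ ρ ρ' hρ σ τ hσ hτ h hh g := F.nat B C ψ (χ ≫ ρ) (χ ≫ ρ')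
    (by rw [Category.assoc, hρ]) σ τ _ _ h hh g
  mul B ρ σ hσ := F.mul B _ σ _
  torus B ρ σ hσ := F.torus B _ σ _
  root a ha B ρ σ hσ := F.root a ha B _ σ _

/-- restriction of a global homomorphism -/
noncomputable def LocHom.ofHom (s : Spec (CommRingCat.of R) ⟶ S) (f : G ⟶ G') [IsMonHom f] (hj : j ≫ f = j')
    (hu : ∀ a ∈ b.support, u a ≫ f = u' a) : LocHom b G G' j j' u u' s where
  f B ρ σ hσ g := g ≫ f
  nat B C ψ ρ ρ' hρ σ τ hσ hτ h hh g := Category.assoc _ _ _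
  mul B ρ σ hσ g h := MonObj.mul_comp _ _ _
  torus B ρ σ hσ x := by rw [Category.assoc, hj]
  root a ha B ρ σ hσ x := by rw [Category.assoc, hu a ha]

variable (m : PinModel P b G j u s) (m' : PinModel P b G' j' u' s)

/-- the conditions on an algebra homomorphism `A' → A` corresponding to a local homomorphism -/
structure IsGood (φ : m'.A →ₐ[R] m.A) : Prop where
  mul : ∀ {B : Type u} [CommRing B] [Algebra R B] (g h : Pt R m.A B),
    comap φ (g * h) = comap φ g * comap φ h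
  torus : ∀ {B : Type u} [CommRing B] [Algebra R B] (t : TPt M B),
    comap φ (m.E.i B t) = m'.E.i B t
  root : ∀ a ∈ b.support, ∀ {B : Type u} [CommRing B] [Algebra R B] (x : B),
    comap φ (m.E.uu a B x) = m'.E.uu a B x

variable {m m'}

/-- the algebra homomorphism of a local homomorphism -/
noncomputable def phiOf (m : PinModel P b G j u s) (m' : PinModel P b G' j' u' s)
    (F : LocHom b G G' j j' u u' s) : m'.A →ₐ[R] m.A :=
  ((m'.pts m.A).symm (F.f (CommRingCat.of m.A) (CommRingCat.ofHom (algebraMap R m.A)) _ rfl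
    (m.pts m.A (univ R m.A)))).hom

lemma pts_comap_phiOf (F : LocHom b G G' j j' u u' s) {B : Type u} [CommRing B] [Algebra R B]
    (g : Pt R m.A B) :
    m'.pts B (comap (phiOf m m' F) g) =
      F.f (CommRingCat.of B) (CommRingCat.ofHom (algebraMap R B)) _ rfl (m.pts B g) := by
  have h1 : comap (phiOf m m' F) g = Pt.map g.hom ((m'.pts m.A).symm
      (F.f (CommRingCat.of m.A) (CommRingCat.ofHom (algebraMap R m.A)) _ rfl
      (m.pts m.A (univ R m.A)))) := rfl
  rw [h1, ← m'.pts_nat, MulEquiv.apply_symm_apply]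
  have h2 := F.nat (CommRingCat.of m.A) (CommRingCat.of B) (CommRingCat.ofHom (g.hom : m.A →+* B))
    (CommRingCat.ofHom (algebraMap R m.A)) (CommRingCat.ofHom (algebraMap R B))
    (by rw [← CommRingCat.ofHom_comp, AlgHom.comp_algebraMap]) _ _ rfl rfl (tMap s g.hom) rfl
    (m.pts m.A (univ R m.A))
  rw [m.pts_nat, map_univ] at h2
  exact h2.symm

lemma isGood_phiOf (F : LocHom b G G' j j' u u' s) : IsGood m m' (phiOf m m' F) where
  mul {B} _ _ g h := by
    apply (m'.pts B).injective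
    rw [pts_comap_phiOf, map_mul, F.mul, map_mul, pts_comap_phiOf, pts_comap_phiOf]
  torus {B} _ _ t := by
    apply (m'.pts B).injective
    rw [pts_comap_phiOf, m.pts_i, m'.pts_i]
    exact F.torus _ _ _ _ _
  root a ha {B} _ _ x := by
    apply (m'.pts B).injective
    rw [pts_comap_phiOf, m.pts_uu a ha, m'.pts_uu a ha]
    exact F.root a ha _ _ _ _ _

/-- Two local homomorphisms with the same algebra homomorphism are equal. -/
lemma f_eq_of_phiOf_eq (m : PinModel P b G j u s) (m' : PinModel P b G' j' u' s)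
    {F F' : LocHom b G G' j j' u u' s} (h : phiOf m m' F = phiOf m m' F')
    (B : CommRingCat.{u}) (ρ : CommRingCat.of R ⟶ B) (σ : Spec B ⟶ S)
    (hσ : Spec.map ρ ≫ s = σ) (g : Over.mk σ ⟶ G) : F.f B ρ σ hσ g = F'.f B ρ σ hσ g := by
  subst hσ
  let _ : Algebra R B := ρ.hom.toAlgebra
  obtain ⟨p, hp⟩ := (m.pts B).surjective g
  have h1 := pts_comap_phiOf (m' := m') F p
  have h2 := pts_comap_phiOf (m' := m') F' p
  rw [h, h2, hp] at h1
  exact h1.symm

/-- the point map of an algebra homomorphism on affine points -/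
noncomputable def fOf (m : PinModel P b G j u s) (m' : PinModel P b G' j' u' s)
    (φ : m'.A →ₐ[R] m.A) (B : CommRingCat.{u}) (ρ : CommRingCat.of R ⟶ B)
    (σ : Spec B ⟶ S) (hσ : Spec.map ρ ≫ s = σ) (g : Over.mk σ ⟶ G) : Over.mk σ ⟶ G' :=
  letI : Algebra R B := ρ.hom.toAlgebra
  recast hσ (m'.pts B (comap φ ((m.pts B).symm (recast hσ.symm g))))

/-- The local homomorphism of a good algebra homomorphism. -/
noncomputable def locOf {φ : m'.A →ₐ[R] m.A} (hφ : IsGood m m' φ) :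
    LocHom b G G' j j' u u' s where
  f := fOf m m' φ
  nat B C ψ ρ ρ' hρ σ τ hσ hτ h hh g := by
    subst hρ hσ hτ
    let _ : Algebra R B := ρ.hom.toAlgebra
    let _ : Algebra R C := (ρ ≫ ψ).hom.toAlgebra
    let ψ' : B →ₐ[R] C := { ψ.hom with commutes' := fun r => rfl }
    have hh' : h = tMap s ψ' := by
      ext1
      exact hh
    subst hh'
    change m'.pts C (comap φ ((m.pts C).symm (tMap s ψ' ≫ g))) =
      tMap s ψ' ≫ m'.pts B (comap φ ((m.pts B).symm g))
    rw [m'.pts_nat, map_comap]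
    congr 2
    apply (m.pts C).injective
    rw [MulEquiv.apply_symm_apply, ← m.pts_nat, MulEquiv.apply_symm_apply]
  mul B ρ σ hσ g h := by
    subst hσ
    let _ : Algebra R B := ρ.hom.toAlgebra
    change m'.pts B (comap φ ((m.pts B).symm (g * h))) =
      m'.pts B (comap φ ((m.pts B).symm g)) * m'.pts B (comap φ ((m.pts B).symm h))
    rw [map_mul, hφ.mul, map_mul]
  torus B ρ σ hσ x := by
    subst hσ
    let _ : Algebra R B := ρ.hom.toAlgebra
    change m'.pts B (comap φ ((m.pts B).symm (x ≫ j))) = x ≫ j'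
    obtain ⟨t, ht⟩ := exists_chΓ s x
    rw [ht, ← m.pts_i, MulEquiv.symm_apply_apply, hφ.torus, m'.pts_i]
  root a ha B ρ σ hσ x := by
    subst hσ
    let _ : Algebra R B := ρ.hom.toAlgebra
    change m'.pts B (comap φ ((m.pts B).symm (x ≫ u a))) = x ≫ u' a
    obtain ⟨y, hy⟩ := exists_gaPt s x
    rw [hy, ← m.pts_uu a ha, MulEquiv.symm_apply_apply, hφ.root a ha, m'.pts_uu a ha]

/-- The good algebra homomorphism is unique once a good isomorphism exists. -/
theorem IsGood.unique [P.IsReduced] {φ₀ : m'.A ≃ₐ[R] m.A}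
    (h₀ : IsGood m m' (φ₀ : m'.A →ₐ[R] m.A)) {φ : m'.A →ₐ[R] m.A} (hφ : IsGood m m' φ) :
    φ = (φ₀ : m'.A →ₐ[R] m.A) := by
  have h1 : φ.comp (φ₀.symm : m.A →ₐ[R] m'.A) = AlgHom.id R m.A := by
    have hc : ∀ {B : Type u} [CommRing B] [Algebra R B] (g : Pt R m'.A B),
        comap (φ₀.symm : m.A →ₐ[R] m'.A) g = comap (φ₀.symm : m.A →ₐ[R] m'.A) g := fun _ => rfl
    -- every point is a `comap φ₀`
    have hinv : ∀ {B : Type u} [CommRing B] [Algebra R B] (g : Pt R m.A B),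
        comap (φ₀.symm : m.A →ₐ[R] m'.A) (comap (φ₀ : m'.A →ₐ[R] m.A) g) = g := by
      intro B _ _ g
      apply Pt.ext
      intro a
      simp
    have hinv' : ∀ {B : Type u} [CommRing B] [Algebra R B] (g : Pt R m'.A B),
        comap (φ₀ : m'.A →ₐ[R] m.A) (comap (φ₀.symm : m.A →ₐ[R] m'.A) g) = g := by
      intro B _ _ g
      apply Pt.ext
      intro a
      simp
    have hmul : ∀ {B : Type u} [CommRing B] [Algebra R B] (g h : Pt R m'.A B),
        comap (φ₀.symm : m.A →ₐ[R] m'.A) (g * h) = comap (φ₀.symm : m.A →ₐ[R] m'.A) g *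
          comap (φ₀.symm : m.A →ₐ[R] m'.A) h := by
      intro B _ _ g h
      rw [← hinv (comap (φ₀.symm : m.A →ₐ[R] m'.A) g * comap (φ₀.symm : m.A →ₐ[R] m'.A) h),
        h₀.mul, hinv', hinv']
    apply PinUniq.eq_id (E := m.E)
    · intro B _ _ g h
      rw [← comap_comap, ← comap_comap, ← comap_comap, hφ.mul, hmul]
    · intro B _ _ t
      rw [← comap_comap, hφ.torus, ← h₀.torus, hinv]
    · intro a ha B _ _ x
      rw [← comap_comap, hφ.root a ha, ← h₀.root a ha, hinv]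
  refine AlgHom.ext fun x => ?_
  have h2 := congrArg (fun k : m.A →ₐ[R] m.A => k (φ₀ x)) h1
  simpa using h2

/-- graphs give good isomorphisms -/
theorem exists_isGood (F : PinIso.PinGraph m.E m'.E) :
    ∃ φ₀ : m'.A ≃ₐ[R] m.A, IsGood m m' (φ₀ : m'.A →ₐ[R] m.A) := by
  obtain ⟨φ₀, h1, h2⟩ := F.exists_equiv
  exact ⟨φ₀, fun g h => h2 _ g h, fun t => h1 _ _ _ (F.i_mem _ t),
    fun a ha _ _ _ x => h1 _ _ _ (F.uu_mem_simple a ha _ x)⟩

/-- Uniqueness of local homomorphisms. -/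
theorem LocHom.eq [P.IsReduced] (m : PinModel P b G j u s) (m' : PinModel P b G' j' u' s)
    (Φ : PinIso.PinGraph m.E m'.E) (F F' : LocHom b G G' j j' u u' s) (B : CommRingCat.{u})
    (ρ : CommRingCat.of R ⟶ B) (σ : Spec B ⟶ S)
    (hσ : Spec.map ρ ≫ s = σ) (g : Over.mk σ ⟶ G) : F.f B ρ σ hσ g = F'.f B ρ σ hσ g := by
  obtain ⟨φ₀, h₀⟩ := exists_isGood Φ
  apply f_eq_of_phiOf_eq m m'
  rw [h₀.unique (isGood_phiOf F), h₀.unique (isGood_phiOf F')]

end

section glue

variable {G G' : Over S} [GrpObj G] [GrpObj G'] {j : Red.DS S M ⟶ G} {j' : Red.DS S M ⟶ G'}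
  {u : idx → (Red.Ga S ⟶ G)} {u' : idx → (Red.Ga S ⟶ G')}

/-- Multiplicativity on affine points implies being a homomorphism. -/
lemma isMonHom_of_affine (f : G ⟶ G')
    (h : ∀ (R : CommRingCat.{u}) (s : Spec R ⟶ S) (g g' : Over.mk s ⟶ G),
      (g * g') ≫ f = (g ≫ f) * (g' ≫ f)) : IsMonHom f := by
  apply Pts.isMonHom_of_points
  intro X x y
  apply AffYoneda.hom_ext
  intro R s t
  rw [← Category.assoc, MonObj.comp_mul, h, MonObj.comp_mul, Category.assoc, Category.assoc]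

/-- **Existence of the global homomorphism.** -/
theorem exists_hom [P.IsReduced]
    (mod : ∀ (R : Type u) [CommRing R] (s : Spec (CommRingCat.of R) ⟶ S),
      ∃ (m : PinModel P b G j u s) (m' : PinModel P b G' j' u' s),
        Nonempty (PinIso.PinGraph m.E m'.E)) :
    ∃ f : G ⟶ G', IsMonHom f ∧ j ≫ f = j' ∧ ∀ a ∈ b.support, u a ≫ f = u' a := by
  have hloc : ∀ (R : Type u) [CommRing R] (s : Spec (CommRingCat.of R) ⟶ S),
      Nonempty (LocHom b G G' j j' u u' s) := by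
    intro R _ s
    obtain ⟨m, m', ⟨Φ⟩⟩ := mod R s
    obtain ⟨φ₀, h₀⟩ := exists_isGood Φ
    exact ⟨locOf h₀⟩
  have huniq : ∀ (R : Type u) [CommRing R] (s : Spec (CommRingCat.of R) ⟶ S)
      (F F' : LocHom b G G' j j' u u' s) (B : CommRingCat.{u})
      (ρ : CommRingCat.of R ⟶ B) (σ : Spec B ⟶ S) (hσ : Spec.map ρ ≫ s = σ) (g : Over.mk σ ⟶ G),
      F.f B ρ σ hσ g = F'.f B ρ σ hσ g := by
    intro R _ s F F'
    obtain ⟨m, m', ⟨Φ⟩⟩ := mod R s
    exact LocHom.eq m m' Φ F F'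
  let L : ∀ (R : CommRingCat.{u}) (s : Spec R ⟶ S),
      LocHom b G G' j j' u u' (R := R) s := fun R s => (hloc R s).some
  obtain ⟨f, hf, -⟩ := AffYoneda.existsUnique_hom (G := G) (G' := G')
    (fun R s g => (L R s).f R (𝟙 R) s (by rw [Spec.map_id, Category.id_comp]) g) (by
      intro R R' s s' h g
      obtain ⟨χ, hχ⟩ : ∃ χ : R ⟶ R', Spec.map χ = h.left := ⟨Spec.preimage h.left, Spec.map_preimage _⟩
      have hs : Spec.map χ ≫ s = s' := by
        have := Over.w h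
        simp only [Over.mk_hom] at this
        rw [hχ]; exact this
      have h1 := huniq R' s' (L R' s') ((L R s).restrict (R := R) (R' := R') χ hs) R' (𝟙 R') s'
        (by rw [Spec.map_id, Category.id_comp]) (h ≫ g)
      refine h1.trans ?_
      exact (L R s).nat R R' χ (𝟙 R) (χ ≫ 𝟙 R') (by rw [Category.comp_id, Category.id_comp]) s s'
        _ _ h hχ.symm g)
  refine ⟨f, ?_, ?_, ?_⟩
  · apply isMonHom_of_affine
    intro R s g g'
    rw [hf, hf, hf]
    exact (L R s).mul _ _ _ _ _ _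
  · apply AffYoneda.hom_ext
    intro R s x
    rw [← Category.assoc, hf]
    exact (L R s).torus _ _ _ _ _
  · intro a ha
    apply AffYoneda.hom_ext
    intro R s x
    rw [← Category.assoc, hf]
    exact (L R s).root a ha _ _ _ _ _

/-- **Uniqueness of the global homomorphism.** -/
theorem hom_unique [P.IsReduced]
    (mod : ∀ (R : Type u) [CommRing R] (s : Spec (CommRingCat.of R) ⟶ S),
      ∃ (m : PinModel P b G j u s) (m' : PinModel P b G' j' u' s),
        Nonempty (PinIso.PinGraph m.E m'.E))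
    (f f' : G ⟶ G') [IsMonHom f] [IsMonHom f'] (hj : j ≫ f = j') (hj' : j ≫ f' = j')
    (hu : ∀ a ∈ b.support, u a ≫ f = u' a) (hu' : ∀ a ∈ b.support, u a ≫ f' = u' a) : f = f' := by
  apply AffYoneda.hom_ext
  intro R s g
  obtain ⟨m, m', ⟨Φ⟩⟩ := mod R s
  exact LocHom.eq m m' Φ (LocHom.ofHom s f hj hu) (LocHom.ofHom s f' hj' hu') R (𝟙 R) s
    (by rw [Spec.map_id, Category.id_comp]) g

/-- **Existence and uniqueness of the isomorphism of pinned groups.** -/
theorem existsUnique_iso [P.IsReduced]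
    (hG : ∀ (R : Type u) [CommRing R] (s : Spec (CommRingCat.of R) ⟶ S),
      Nonempty (PinModel P b G j u s))
    (hG' : ∀ (R : Type u) [CommRing R] (s : Spec (CommRingCat.of R) ⟶ S),
      Nonempty (PinModel P b G' j' u' s))
    (hgraph : ∀ (R A A' : Type u) [CommRing R] [CommRing A] [Algebra R A] [PtGrp R A]
      [CommRing A'] [Algebra R A'] [PtGrp R A'] (E : PinCell P b R A) (E' : PinCell P b R A'),
      Nonempty (PinIso.PinGraph E E')) :
    ∃! f : G ≅ G', IsMonHom f.hom ∧ j ≫ f.hom = j' ∧ ∀ a ∈ b.support, u a ≫ f.hom = u' a := by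
  have h12 : ∀ (R : Type u) [CommRing R] (s : Spec (CommRingCat.of R) ⟶ S),
      ∃ (m : PinModel P b G j u s) (m' : PinModel P b G' j' u' s),
        Nonempty (PinIso.PinGraph m.E m'.E) := fun R _ s => by
    obtain ⟨m⟩ := hG R s
    obtain ⟨m'⟩ := hG' R s
    exact ⟨m, m', hgraph _ _ _ _ _⟩
  have h21 : ∀ (R : Type u) [CommRing R] (s : Spec (CommRingCat.of R) ⟶ S),
      ∃ (m' : PinModel P b G' j' u' s) (m : PinModel P b G j u s),
        Nonempty (PinIso.PinGraph m'.E m.E) := fun R _ s => by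
    obtain ⟨m⟩ := hG R s
    obtain ⟨m'⟩ := hG' R s
    exact ⟨m', m, hgraph _ _ _ _ _⟩
  have h11 : ∀ (R : Type u) [CommRing R] (s : Spec (CommRingCat.of R) ⟶ S),
      ∃ (m' : PinModel P b G j u s) (m : PinModel P b G j u s),
        Nonempty (PinIso.PinGraph m'.E m.E) := fun R _ s => by
    obtain ⟨m⟩ := hG R s
    exact ⟨m, m, hgraph _ _ _ _ _⟩
  have h22 : ∀ (R : Type u) [CommRing R] (s : Spec (CommRingCat.of R) ⟶ S),
      ∃ (m' : PinModel P b G' j' u' s) (m : PinModel P b G' j' u' s),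
        Nonempty (PinIso.PinGraph m'.E m.E) := fun R _ s => by
    obtain ⟨m⟩ := hG' R s
    exact ⟨m, m, hgraph _ _ _ _ _⟩
  obtain ⟨f, hf, hfj, hfu⟩ := exists_hom h12
  obtain ⟨f', hf', hfj', hfu'⟩ := exists_hom h21
  have e1 : f ≫ f' = 𝟙 G := by
    refine hom_unique h11 (f ≫ f') (𝟙 G) ?_ (Category.comp_id _) ?_ (fun a _ => Category.comp_id _)
    · rw [← Category.assoc, hfj, hfj']
    · intro a ha
      rw [← Category.assoc, hfu a ha, hfu' a ha]
  have e2 : f' ≫ f = 𝟙 G' := by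
    refine hom_unique h22 (f' ≫ f) (𝟙 G') ?_ (Category.comp_id _) ?_ (fun a _ => Category.comp_id _)
    · rw [← Category.assoc, hfj', hfj]
    · intro a ha
      rw [← Category.assoc, hfu' a ha, hfu a ha]
  refine ⟨⟨f, f', e1, e2⟩, ⟨hf, hfj, hfu⟩, ?_⟩
  rintro g ⟨hg, hgj, hgu⟩
  ext1
  exact hom_unique h12 g.hom f hgj hfj hgu hfu

end glue

end Groth.Agent.Sga3B.PinMod
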