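import Groth.Agent.Sga3B.RootCmpSch
import Groth.Agent.Sga3B.PinModel
import Groth.Agent.Sga3B.Par.CanK

/-!
# Comparison of the root data of two splittings with conjugate tori at a geometric point
-/

set_option autoImplicit false
universe u

open CategoryTheory MonoidalCategory CartesianMonoidalCategory MonObj GrpObj AlgebraicGeometry
  TensorProduct

namespace Groth.Agent.Sga3B.SplitCmp588

open Cell DSPts GaPts PinMod RootCmp

variable {S : Scheme.{u}} {G : Over S} [GrpObj G]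

lemma chΓ_comp' {R : Type u} [CommRing R] {s : Spec (CommRingCat.of R) ⟶ S}
    {M M' : Type} [AddCommGroup M] [AddCommGroup M'] {B : Type u} [CommRing B] [Algebra R B]
    (t : TPt M B) (φ : M' →+ M) : (chΓ s t).comp (AddMonoidHom.toMultiplicative φ) =
      chΓ s (t.comp (AddMonoidHom.toMultiplicative φ)) := rfl

section

variable {K : Type u} [CommRing K] {s : Spec (CommRingCat.of K) ⟶ S}

/-- the structure morphism `Spec B → Spec K` over `S` -/
noncomputable def iB (s : Spec (CommRingCat.of K) ⟶ S) (B : Type u) [CommRing B] [Algebra K B] :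
    tB s B ⟶ (Over.mk s : Over S) :=
  Over.homMk (Spec.map (CommRingCat.ofHom (algebraMap K B))) rfl

@[reassoc]
lemma tMap_iB {B C : Type u} [CommRing B] [Algebra K B] [CommRing C] [Algebra K C] (φ : B →ₐ[K] C) :
    tMap s φ ≫ iB s B = iB s C := by
  ext1
  simp only [Over.comp_left, tMap_left, iB, Over.homMk_left, ← Spec.map_comp, ← CommRingCat.ofHom_comp,
    AlgHom.comp_algebraMap]

/-- Every morphism of affine `S`-schemes to `Spec K` is of the form `iB`. -/
lemma exists_iB {B : Type u} [CommRing B] {b : Spec (CommRingCat.of B) ⟶ S}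
    (r : (Over.mk b : Over S) ⟶ (Over.mk s : Over S)) :
    ∃ _ : Algebra K B, ∃ h : b = Spec.map (CommRingCat.ofHom (algebraMap K B)) ≫ s,
      r = eqToHom (by rw [h]) ≫ iB s B := by
  obtain ⟨f, hf⟩ := Spec.map_surjective r.left
  let _ : Algebra K B := f.hom.toAlgebra
  have h := Over.w r
  simp only [Over.mk_hom] at h
  have hb : b = Spec.map (CommRingCat.ofHom (algebraMap K B)) ≫ s := by
    rw [← h, ← hf]; rfl
  refine ⟨f.hom.toAlgebra, hb, ?_⟩
  subst hb
  ext1
  simp only [eqToHom_refl, Category.id_comp, iB, Over.homMk_left]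
  rw [← hf]
  rfl

end

section

variable {K : Type u} [Field K] [IsAlgClosed K] {s : Spec (CommRingCat.of K) ⟶ S}
  {A : Type u} [CommRing A] [Algebra K A] [PtGrp K A]
  (pts : ∀ (B : Type u) [CommRing B] [Algebra K B], Pt K A B ≃* (tB s B ⟶ G))
  (pts_nat : ∀ {B C : Type u} [CommRing B] [Algebra K B] [CommRing C] [Algebra K C] (φ : B →ₐ[K] C)
    (g : Pt K A B), tMap s φ ≫ pts B g = pts C (Pt.map φ g))

omit [IsAlgClosed K] in
include pts_nat in
lemma pts_up' (g : (Over.mk s : Over S) ⟶ G) (B : Type u) [CommRing B] [Algebra K B] :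
    pts B (up B ((pts K).symm (iB s K ≫ g))) = iB s B ≫ g := by
  rw [up, ← pts_nat, MulEquiv.apply_symm_apply, tMap_iB_assoc]

omit [IsAlgClosed K] in
include pts_nat in
/-- conjugation of tori at a point -/
theorem exists_conj' {M M' : Type} [AddCommGroup M] [AddCommGroup M'] (j : Red.DS S M ⟶ G)
    (j' : Red.DS S M' ⟶ G)
    (i : ∀ (B : Type u) [CommRing B] [Algebra K B], TPt M B →* Pt K A B)
    (i' : ∀ (B : Type u) [CommRing B] [Algebra K B], TPt M' B →* Pt K A B)
    (hi : ∀ (B : Type u) [CommRing B] [Algebra K B] (t : TPt M B),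
      pts B (i B t) = dsEquiv (tB s B) M (chΓ s t) ≫ j)
    (hi' : ∀ (B : Type u) [CommRing B] [Algebra K B] (t : TPt M' B),
      pts B (i' B t) = dsEquiv (tB s B) M' (chΓ s t) ≫ j')
    (g : (Over.mk s : Over S) ⟶ G)
    (hg : ∀ (B : Type u) [CommRing B] (b : Spec (CommRingCat.of B) ⟶ S)
      (r : (Over.mk b : Over S) ⟶ Over.mk s) (x : Over.mk b ⟶ Red.DS S M),
      ∃ x' : Over.mk b ⟶ Red.DS S M', (r ≫ g) * (x ≫ j) * (r ≫ g)⁻¹ = x' ≫ j')
    (B : Type u) [CommRing B] [Algebra K B] (t : TPt M B) :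
    ∃ t' : TPt M' B, up B ((pts K).symm (iB s K ≫ g)) * i B t *
      (up B ((pts K).symm (iB s K ≫ g)))⁻¹ = i' B t' := by
  obtain ⟨x', hx'⟩ := hg B _ (iB s B) (dsEquiv (tB s B) M (chΓ s t))
  obtain ⟨t', ht'⟩ := exists_chΓ s x'
  refine ⟨t', ?_⟩
  apply (pts B).injective
  rw [map_mul, map_mul, map_inv, pts_up' pts pts_nat, hi, hi', hx', ht']

omit [IsAlgClosed K] in
include pts_nat in
/-- back from points to schemes -/
theorem conj_of_pts {M M' : Type} [AddCommGroup M] [AddCommGroup M'] (j : Red.DS S M ⟶ G)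
    (j' : Red.DS S M' ⟶ G)
    (i : ∀ (B : Type u) [CommRing B] [Algebra K B], TPt M B →* Pt K A B)
    (i' : ∀ (B : Type u) [CommRing B] [Algebra K B], TPt M' B →* Pt K A B)
    (hi : ∀ (B : Type u) [CommRing B] [Algebra K B] (t : TPt M B),
      pts B (i B t) = dsEquiv (tB s B) M (chΓ s t) ≫ j)
    (hi' : ∀ (B : Type u) [CommRing B] [Algebra K B] (t : TPt M' B),
      pts B (i' B t) = dsEquiv (tB s B) M' (chΓ s t) ≫ j')
    (g : (Over.mk s : Over S) ⟶ G) (ψ : M' →+ M)
    (h : ∀ (B : Type u) [CommRing B] [Algebra K B] (t : TPt M B),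
      up B ((pts K).symm (iB s K ≫ g)) * i B t * (up B ((pts K).symm (iB s K ≫ g)))⁻¹ =
        i' B (t.comp (AddMonoidHom.toMultiplicative ψ)))
    (B : Type u) [CommRing B] (b : Spec (CommRingCat.of B) ⟶ S)
    (r : (Over.mk b : Over S) ⟶ Over.mk s) (x : Over.mk b ⟶ Red.DS S M) :
    (r ≫ g) * (x ≫ j) * (r ≫ g)⁻¹ = x ≫ Red.DSmap S ψ ≫ j' := by
  obtain ⟨_, hb, hr⟩ := exists_iB r
  subst hb
  rw [eqToHom_refl, Category.id_comp] at hr
  subst hr
  obtain ⟨t, ht⟩ := exists_chΓ s x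
  have h1 := congrArg (pts B) (h B t)
  rw [map_mul, map_mul, map_inv, pts_up' pts pts_nat, hi, hi'] at h1
  rw [ht, h1, ← chΓ_comp', ← dsEquiv_DSmap, Category.assoc]

end

end Groth.Agent.Sga3B.SplitCmp588
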