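import Groth.Agent.Sga3B.Chart
import Groth.Agent.Sga3B.SplitCmp588
import Groth.Agent.Sga3B.IsomH0Pts

/-!
# Comparison of splittings in a chart at a geometric point
-/

set_option autoImplicit false
universe u

open CategoryTheory MonoidalCategory CartesianMonoidalCategory MonObj GrpObj AlgebraicGeometry
  TensorProduct

namespace Groth.Agent.Sga3B.SplitCmp588

open Cell DSPts GaPts PinMod RootCmp

variable {S : Scheme.{u}} {G : Over S} [GrpObj G]

/-- the reflections act on the datum through points (any affine base) -/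
theorem exists_acts_refl {R : Type u} [CommRing R] {s : Spec (CommRingCat.of R) ⟶ S} (c : Chart G s)
    (D : Red.SplitRed G) (a : D.idx) :
    ∃ n : Pt R c.A R, RootCmp.Acts (c.datum D) n (D.P.reflection a).toLinearMap.toAddMonoidHom := by
  obtain ⟨n, hn⟩ := D.refl a
  refine RootCmpSch.exists_acts c.pts c.pts_nat (Chart.j D) (c.datum D).i (fun B _ _ t => c.pts_i D t)
    n _ ?_
  intro X x
  have h := hn X (x ≫ Chart.splitInv D)
  have e1 : (x ≫ Chart.splitInv D) ≫ D.split.hom.hom.hom = x := by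
    rw [Category.assoc]
    exact (congrArg (fun k => x ≫ k) (Chart.splitInv_hom D)).trans (Category.comp_id x)
  rw [← Category.assoc (x ≫ Chart.splitInv D), e1] at h
  rw [Chart.j_eq, ← Category.assoc x]
  exact h

lemma weightEquiv_symm_symm {ι₁ ι₂ M₁ M₂ N₁ N₂ : Type} [AddCommGroup M₁] [AddCommGroup N₁]
    [AddCommGroup M₂] [AddCommGroup N₂] {P₁ : RootPairing ι₁ ℤ M₁ N₁} {P₂ : RootPairing ι₂ ℤ M₂ N₂}
    (E : RootPairing.Equiv P₂ P₁) (m : M₂) :
    (RootPairing.Equiv.weightEquiv P₁ P₂ E.symm).symm m = E.weightMap m := by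
  apply (RootPairing.Equiv.weightEquiv P₁ P₂ E.symm).injective
  rw [LinearEquiv.apply_symm_apply]
  exact ((RootPairing.Equiv.weightEquiv P₂ P₁ E).symm_apply_apply m).symm

variable {K : Type u} [Field K] [IsAlgClosed K] {s : Spec (CommRingCat.of K) ⟶ S} (c : Chart G s)
  [Algebra.FiniteType K c.A] [IsDomain (K ⊗[K] c.A)]

/-- **Comparison of splittings with conjugate tori at a geometric point** -/
theorem exists_torConj (D₁ D₂ : Red.SplitRed G) (h₁ : (c.datum D₁).Good) (h₂ : (c.datum D₂).Good)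
    (g : (Over.mk s : Over S) ⟶ G)
    (hg : ∀ (B : Type u) [CommRing B] (b : Spec (CommRingCat.of B) ⟶ S)
      (r : (Over.mk b : Over S) ⟶ Over.mk s) (x : Over.mk b ⟶ Red.DS S D₁.M),
      ∃ x' : Over.mk b ⟶ Red.DS S D₂.M,
        (r ≫ g) * (x ≫ Chart.j D₁) * (r ≫ g)⁻¹ = x' ≫ Chart.j D₂) :
    ∃ e : RootPairing.Equiv D₁.P D₂.P, Par.TorConj D₁ D₂ g e := by
  obtain ⟨ψ, E, hE, hψ⟩ := exists_equiv_of_conj h₁ h₂ ((c.pts K).symm (iB s K ≫ g))
    (exists_conj' c.pts c.pts_nat (Chart.j D₁) (Chart.j D₂) (c.datum D₁).i (c.datum D₂).i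
      (fun B _ _ t => c.pts_i D₁ t) (fun B _ _ t => c.pts_i D₂ t) g hg)
    D₁.P D₁.pairing_eq (fun _ => rfl) (exists_acts_refl c D₁) D₂.P D₂.pairing_eq (fun _ => rfl)
    (exists_acts_refl c D₂)
  refine ⟨E.symm, ?_⟩
  intro B _ b r t
  have h := conj_of_pts c.pts c.pts_nat (Chart.j D₁) (Chart.j D₂) (c.datum D₁).i (c.datum D₂).i
    (fun B _ _ t => c.pts_i D₁ t) (fun B _ _ t => c.pts_i D₂ t) g ψ hψ B b r t
  have e1 : (RootPairing.Equiv.weightEquiv D₁.P D₂.P E.symm).symm.toLinearMap.toAddMonoidHom = ψ := by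
    refine DFunLike.ext _ _ fun m => ?_
    exact Eq.trans (weightEquiv_symm_symm E m) (hE m)
  rw [e1]
  exact h

/-- (H0) at a point, in a chart -/
theorem h0 (D : Red.SplitRed G) (h : (c.datum D).Good) (g : (Over.mk s : Over S) ⟶ G)
    (w : D.M →+ D.M) (lam : D.M →+ ℤ) (hlam : ∀ a, lam (D.P.root a) ≠ 0)
    (hw : ∀ a, lam (w (D.P.root a)) = lam (D.P.root a))
    (hg : ∀ (X : Over S) (x : X ⟶ Over.mk s) (t : X ⟶ Red.DS S D.M),
      (x ≫ g) * IsomCore.dT D t * (x ≫ g)⁻¹ = IsomCore.dT D (t ≫ Red.DSmap S w)) : ∀ m, w m = m := by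
  refine (IsomU.mem_torus_of_conj (D := c.datum D) h w lam hlam hw
    ((c.pts K).symm (iB s K ≫ g)) ?_).2
  intro B _ _ t
  exact acts_of_conj c.pts c.pts_nat (Chart.j D) (Chart.j D) (c.datum D).i (c.datum D).i
    (fun B _ _ t => c.pts_i D t) (fun B _ _ t => c.pts_i D t) g w hg B t

/-- The root data of two splittings whose tori are conjugate by a section. -/
theorem nonempty_equiv (D₁ D₂ : Red.SplitRed G) (h₁ : (c.datum D₁).Good)
    (h₂ : (c.datum D₂).Good) (g : 𝟙_ (Over S) ⟶ G)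
    (hg : ∀ (X : Over S) (t : X ⟶ D₁.T), ∃ t' : X ⟶ D₂.T,
      (toUnit X ≫ g) * (t ≫ D₁.i) * (toUnit X ≫ g)⁻¹ = t' ≫ D₂.i) :
    Nonempty (RootPairing.Equiv D₁.P D₂.P) := by
  obtain ⟨e, -⟩ := exists_torConj c D₁ D₂ h₁ h₂ (toUnit _ ≫ g) (by
    intro B _ b r x
    obtain ⟨t', ht'⟩ := hg _ (x ≫ Chart.splitInv D₁)
    refine ⟨t' ≫ D₂.split.hom.hom.hom, ?_⟩
    have e1 : r ≫ toUnit _ ≫ g = toUnit _ ≫ g := by
      rw [← Category.assoc]
      congr 1
      exact toUnit_unique _ _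
    rw [e1, Chart.j_eq, Chart.j_eq, ← Category.assoc x, ht', ← Category.assoc _ _ D₂.i]
    congr 1
    rw [Category.assoc]
    exact ((congrArg (fun k => t' ≫ k) (Chart.splitHom_inv D₂)).trans (Category.comp_id t')).symm)
  exact ⟨e⟩

end Groth.Agent.Sga3B.SplitCmp588
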