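import Groth.Agent.Sga3B.ChartFib
import Groth.Agent.Sga3B.ChartEx
import Groth.Agent.Sga3B.SplitCmpChart

/-!
# The datum of a splitting in a chart is good; unconditional comparison of splittings
-/

set_option autoImplicit false
universe u

open CategoryTheory MonoidalCategory CartesianMonoidalCategory MonObj GrpObj AlgebraicGeometry
  TensorProduct

namespace Groth.Agent.Sga3B

open Cell DSPts GaPts PinMod

variable {S : Scheme.{u}} {G : Over S} [GrpObj G]

namespace Chart

variable {R : Type u} [CommRing R] {s : Spec (CommRingCat.of R) ⟶ S} (c : Chart G s)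

theorem smooth (hG : Red.IsReductive G) : Algebra.Smooth R c.A := by
  have := hG.2.1
  exact ChartFib.smooth_of_isPullback c.isPullback

theorem finitePresentation (hG : Red.IsReductive G) : Algebra.FinitePresentation R c.A := by
  have := hG.2.1
  exact ChartFib.finitePresentation_of_isPullback c.isPullback

theorem finiteType (hG : Red.IsReductive G) : Algebra.FiniteType R c.A := by
  have := c.finitePresentation hG
  infer_instance

theorem geomDom (hG : Red.IsReductive G) (K : Type u) [Field K] [Algebra R K] :
    IsDomain (K ⊗[R] c.A) := ChartFib.isDomain hG c.isPullback K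

theorem rankOK (D : Red.SplitRed G) : (c.datum D).RankOK := by
  intro K _ _ _ _ _ _
  refine ChartFib.finrank_eq (N := Fintype.card D.idx + Module.finrank ℤ D.M) D.reductive ?_
    c.isPullback K
  intro s
  rw [D.dim_fibre s, add_comm]

/-- the datum of a splitting is good -/
theorem good (D : Red.SplitRed G) : (c.datum D).Good := by
  have := c.smooth D.reductive
  exact Datum.good _ (c.rankOK D)

end Chart

namespace SplitCmp588

/-- **Comparison of splittings with conjugate tori at a geometric point**, unconditional -/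
theorem exists_torConj' {K : Type u} [Field K] [IsAlgClosed K] {s : Spec (CommRingCat.of K) ⟶ S}
    (D₁ D₂ : Red.SplitRed G) (g : (Over.mk s : Over S) ⟶ G)
    (hg : ∀ (B : Type u) [CommRing B] (b : Spec (CommRingCat.of B) ⟶ S)
      (r : (Over.mk b : Over S) ⟶ Over.mk s) (x : Over.mk b ⟶ Red.DS S D₁.M),
      ∃ x' : Over.mk b ⟶ Red.DS S D₂.M,
        (r ≫ g) * (x ≫ Chart.j D₁) * (r ≫ g)⁻¹ = x' ≫ Chart.j D₂) :
    ∃ e : RootPairing.Equiv D₁.P D₂.P, Par.TorConj D₁ D₂ g e := by
  have := D₁.reductive.1
  obtain ⟨c⟩ := exists_chart G s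
  have := c.finiteType D₁.reductive
  have := c.geomDom D₁.reductive K
  exact exists_torConj c D₁ D₂ (c.good D₁) (c.good D₂) g hg

/-- (H0), unconditional -/
theorem h0Stmt (D : Red.SplitRed G) : IsomDefs.H0Stmt D := by
  intro K _ _ s g w lam hlam hw hg
  have := D.reductive.1
  obtain ⟨c⟩ := exists_chart G s
  have := c.finiteType D.reductive
  have := c.geomDom D.reductive K
  exact h0 c D (c.good D) g w lam hlam hw hg

/-- The root data of two splittings over `Spec K` whose tori are conjugate by a section. -/
theorem nonempty_equiv' {K : Type u} [Field K] [IsAlgClosed K]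
    {G : Over (Spec (CommRingCat.of K))} [GrpObj G]
    (D₁ D₂ : Red.SplitRed G) (g : 𝟙_ (Over (Spec (CommRingCat.of K))) ⟶ G)
    (hg : ∀ (X : Over (Spec (CommRingCat.of K))) (t : X ⟶ D₁.T), ∃ t' : X ⟶ D₂.T,
      (toUnit X ≫ g) * (t ≫ D₁.i) * (toUnit X ≫ g)⁻¹ = t' ≫ D₂.i) :
    Nonempty (RootPairing.Equiv D₁.P D₂.P) := by
  have := D₁.reductive.1
  obtain ⟨c⟩ := exists_chart G (𝟙 (Spec (CommRingCat.of K)))
  have := c.finiteType D₁.reductive
  have := c.geomDom D₁.reductive K
  exact nonempty_equiv c D₁ D₂ (c.good D₁) (c.good D₂) g hg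

end SplitCmp588

end Groth.Agent.Sga3B
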