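import Groth.Agent.Sga3B.BcSpec144

/-!
# Base change of a split torus in `Spec A`

`hp_bc`: if `i : T ⟶ G`, `T ≅ D(M)`, `e : G ≅ Spec A` is described by `p : A → R[M]`, then the base change to
`Spec K` is described by `pK p K : K ⊗ A → K[M]`.
-/

set_option autoImplicit false
universe u
open CategoryTheory MonoidalCategory CartesianMonoidalCategory MonObj GrpObj AlgebraicGeometry Limits
open scoped TensorProduct Polynomial

namespace Groth.Agent.Sga3B.BcTor144

open Groth.Agent.Books.AffBridge Groth.Agent.Books.DynBasic DSPts AffPts Spread144 BcSpec144 DSAff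
open Groth.Agent.Sga3B.RedIso Groth.Agent.Sga3B.DsBc Groth.Agent.Sga3A

section Char

variable {S S' : Scheme.{u}} (f : S' ⟶ S) {M : Type} [AddCommGroup M]

lemma dsChar_constIso {T : Over S'} (y : T ⟶ Red.bc f (Red.DS S M)) :
    dsChar (y ≫ (und (constIso f (Red.diag (ULift.{u} ℤ) M))).hom) =
      dsChar ((DSPts.bcEquiv f T _).symm y) := by
  apply (dsEquiv T M).injective
  rw [dsEquiv_dsChar]
  apply ds_ext
  rw [dsFst_dsEquiv, dsFst_eq, cFst_constIso]
  conv_lhs => rw [← dsEquiv_dsChar ((DSPts.bcEquiv f T _).symm y)]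
  exact dsFst_dsEquiv _ _ _

end Char

section Alg

variable {R : Type u} [CommRing R] {K : Type u} [CommRing K] [Algebra R K]
variable {A : Type u} [CommRing A] [HopfAlgebra R A] {M : Type} [AddCommGroup M]
variable (p : A →ₐc[R] MonoidAlgebra R (Multiplicative M))
variable {C : Type u} [CommRing C] [Algebra R C] [Algebra K C] [IsScalarTower R K C]

lemma chAlg_scalar (χ : Multiplicative M →* C) (k : K) (b : MonoidAlgebra R (Multiplicative M)) :
    chAlg (R := K) χ (BCIso.scalarBialg R K (Multiplicative M) (k ⊗ₜ b)) = k • chAlg (R := R) χ b := by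
  induction b using MonoidAlgebra.induction_linear with
  | zero => simp
  | add x y hx hy => rw [TensorProduct.tmul_add, map_add, map_add, map_add, smul_add, hx, hy]
  | single m r =>
    rw [BCIso.scalarBialg_tmul_single, chAlg, chAlg, MonoidAlgebra.lift_single,
      MonoidAlgebra.lift_single, mul_smul, algebraMap_smul]

lemma resPt_chAlg (χ : Multiplicative M →* C) :
    resPt R A K C (WithConv.toConv ((chAlg (R := K) χ).comp (pK p K : K ⊗[R] A →ₐ[K] _))) =
      WithConv.toConv ((chAlg (R := R) χ).comp (p : A →ₐ[R] _)) := by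
  apply WithConv.ofConv_injective
  apply AlgHom.ext
  intro a
  change chAlg (R := K) χ (pK p K (1 ⊗ₜ a)) = chAlg (R := R) χ (p a)
  rw [pK_tmul, chAlg_scalar, one_smul]

end Alg

section Main

variable {R : Type u} [CommRing R] (K : Type u) [CommRing K] [Algebra R K]
variable {A : Type u} [CommRing A] [HopfAlgebra R A] {M : Type} [AddCommGroup M]
variable {G T : Over (Spec (CommRingCat.of R))} [GrpObj G] [GrpObj T]

/-- base change of the chart -/
noncomputable def eK (e : G ≅ SpecOver R A) : Red.bc (fK R K) G ≅ SpecOver K (K ⊗[R] A) :=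
  (Over.pullback (fK R K)).mapIso e ≪≫ bsIso R K A

instance (e : G ≅ SpecOver R A) [IsMonHom e.hom] : IsMonHom (eK K e).hom := by
  have : IsMonHom ((Over.pullback (fK R K)).map e.hom) := inferInstance
  change IsMonHom ((Over.pullback (fK R K)).map e.hom ≫ (bsIso R K A).hom)
  infer_instance

/-- base change of the splitting of the torus -/
noncomputable def spK {S S' : Scheme.{u}} (f : S' ⟶ S) {T : Over S} [GrpObj T]
    (sp : Grp.mk T ≅ Grp.mk (Red.DS S M)) :
    Grp.mk (Red.bc f T) ≅ Grp.mk (Red.DS S' M) :=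
  BcIso.bcMapIso f sp ≪≫ constIso f (Red.diag (ULift.{u} ℤ) M)

lemma spK_hom {S S' : Scheme.{u}} (f : S' ⟶ S) {T : Over S} [GrpObj T]
    (sp : Grp.mk T ≅ Grp.mk (Red.DS S M)) : (spK f sp).hom.hom.hom =
      (Over.pullback f).map sp.hom.hom.hom ≫ (und (constIso f (Red.diag (ULift.{u} ℤ) M))).hom := rfl

lemma dsChar_spK {S S' : Scheme.{u}} (f : S' ⟶ S) {T : Over S} [GrpObj T]
    (sp : Grp.mk T ≅ Grp.mk (Red.DS S M)) {X : Over S'} (t : X ⟶ Red.bc f T) :
    dsChar (t ≫ (spK f sp).hom.hom.hom) =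
      dsChar ((DSPts.bcEquiv f X T).symm t ≫ sp.hom.hom.hom) := by
  rw [spK_hom, ← Category.assoc, dsChar_constIso, symm_comp]

variable (i : T ⟶ G) (sp : Grp.mk T ≅ Grp.mk (Red.DS (Spec (CommRingCat.of R)) M))
  (e : G ≅ SpecOver R A) (p : A →ₐc[R] MonoidAlgebra R (Multiplicative M))

theorem hp_bc_h2 (X : Over (Spec (CommRingCat.of K))) (t₀ : (Over.map (fK R K)).obj X ⟶ T) :
    DSPts.bcEquiv (fK R K) X T t₀ ≫ (Over.pullback (fK R K)).map i ≫ (eK K e).hom =
      DSPts.bcEquiv (fK R K) X (SpecOver R A) (t₀ ≫ i ≫ e.hom) ≫ (bsIso R K A).hom := by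
  have h3 : (Over.pullback (fK R K)).map i ≫ (eK K e).hom =
      (Over.pullback (fK R K)).map (i ≫ e.hom) ≫ (bsIso R K A).hom := by
    rw [Functor.map_comp, Category.assoc]; rfl
  rw [h3, ← Category.assoc, DSPts.bcEquiv_comp]

theorem hp_bc_h1 (X : Over (Spec (CommRingCat.of K))) (t₀ : (Over.map (fK R K)).obj X ⟶ T) :
    dsChar (DSPts.bcEquiv (fK R K) X T t₀ ≫ (spK (fK R K) sp).hom.hom.hom) =
      (dsChar (t₀ ≫ sp.hom.hom.hom)) := by
  have := dsChar_spK (fK R K) sp (DSPts.bcEquiv (fK R K) X T t₀)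
  rw [MulEquiv.symm_apply_apply] at this
  exact this

variable {K} in
/-- the point of `Spec (K ⊗ A)` given by a character -/
noncomputable def gK {C : Type u} [CommRing C] [Algebra K C] (χ : Multiplicative M →* C) :
    WithConv (K ⊗[R] A →ₐ[K] C) :=
  WithConv.toConv ((chAlg (R := K) χ).comp (pK p K : K ⊗[R] A →ₐ[K] _))

lemma resPt_gK (X : Over (Spec (CommRingCat.of K)))
    (χ : Multiplicative M →* Fn ((Over.map (fK R K)).obj X)) (χ' : Multiplicative M →* Fn X)
    (h : ((idK (R := R) X : Fn X →ₐ[K] _) : Fn X →* Fn ((Over.map (fK R K)).obj X)).comp χ' = χ) :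
    resPt R A K _ (mapPt (idK X) (gK p χ')) = WithConv.toConv ((chAlg χ).comp (p : A →ₐ[R] _)) := by
  rw [gK, mapPt_toConv, ← AlgHom.comp_assoc, comp_chAlg, h, resPt_chAlg]

lemma bs_chAlg (X : Over (Spec (CommRingCat.of K)))
    (χ : Multiplicative M →* Fn ((Over.map (fK R K)).obj X)) (χ' : Multiplicative M →* Fn X)
    (h : ((idK (R := R) X : Fn X →ₐ[K] _) : Fn X →* Fn ((Over.map (fK R K)).obj X)).comp χ' = χ) :
    DSPts.bcEquiv (fK R K) X (SpecOver R A)
      (affPt ((Over.map (fK R K)).obj X) ((chAlg χ).comp (p : A →ₐ[R] _))) ≫ (bsIso R K A).hom =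
      affPt X ((chAlg (R := K) χ').comp (pK p K : K ⊗[R] A →ₐ[K] _)) := by
  have := bcEquiv_bsIso X (gK p χ') (affPt ((Over.map (fK R K)).obj X)
    ((chAlg χ).comp (p : A →ₐ[R] _))) (by rw [resPt_gK K p X χ χ' h])
  exact this

theorem hp_bc (hp : ∀ (X : Over (Spec (CommRingCat.of R))) (t : X ⟶ T),
        t ≫ i ≫ e.hom = affPt X ((chAlg (fnChar (t ≫ sp.hom.hom.hom))).comp (p : A →ₐ[R] _)))
    (X : Over (Spec (CommRingCat.of K))) (t : X ⟶ Red.bc (fK R K) T) :
    t ≫ (Over.pullback (fK R K)).map i ≫ (eK K e).hom =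
      affPt X ((chAlg (fnChar (t ≫ (spK (fK R K) sp).hom.hom.hom))).comp
        (pK p K : K ⊗[R] A →ₐ[K] _)) := by
  obtain ⟨t₀, rfl⟩ := (DSPts.bcEquiv (fK R K) X T).surjective t
  rw [hp_bc_h2, hp]
  apply bs_chAlg
  refine MonoidHom.ext fun m => ?_
  exact DFunLike.congr_fun (hp_bc_h1 K sp X t₀) m

end Main

end Groth.Agent.Sga3B.BcTor144
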