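import Groth.Agent.Sga3B.RootWt136

/-!
# Weights of the cotangent space in a neighbourhood of a point
-/

set_option autoImplicit false

open TensorProduct WithConv
open Groth.Agent.Sga3B.RootCoact Groth.Agent.Sga3B.RootOrb Groth.Agent.Sga3B.RootGr
open Groth.Agent.Sga3B.RootGa Groth.Agent.Sga3B.RootCert Groth.Agent.Sga3B.RootDens136
open Groth.Agent.Sga3B.RootRefl136 Groth.Agent.Sga3B.RootBC136 Groth.Agent.Sga3B.RootWt136

universe u

namespace Groth.Agent.Sga3B.RootNhd136

variable {R : Type u} [CommRing R] {A : Type u} [CommRing A] [HopfAlgebra R A]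
variable {M : Type} [AddCommGroup M]
variable (p : A →ₐc[R] MonoidAlgebra R (Multiplicative M))

/-- The rank of the weight space at a geometric point. -/
lemma isWt_iff_rank [Module.Finite R (A ⧸ I2 R A)] [Module.Projective R (A ⧸ I2 R A)]
    (K : Type u) [Field K] [Algebra R K] {m : M} (hm : m ≠ 0) :
    IsWt (bcP K p) m ↔ Module.rankAtStalk (R := R) (W p m)
      ((⊥ : PrimeSpectrum K).comap (algebraMap R K)) ≠ 0 := by
  have hfW := finite_W p m
  have hpW := projective_W p m
  rw [isWt_iff p K hm, ← Module.finrank_pos_iff (R := K), Nat.pos_iff_ne_zero,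
    ← Module.rankAtStalk_baseChange, Module.rankAtStalk_eq_finrank_of_free]
  rfl

/-- **The weights are constant in a neighbourhood of every point.** -/
theorem exists_weights_nhd [Algebra.FormallySmooth R A] (hfg : (aug R A).FG)
    (q : PrimeSpectrum R) :
    ∃ (Φ : Finset M) (w : R), w ∉ q.asIdeal ∧ (0 : M) ∉ Φ ∧
      ∀ (K : Type u) [Field K] [Algebra R K], algebraMap R K w ≠ 0 → ∀ m : M, m ≠ 0 →
        (IsWt (bcP K p) m ↔ m ∈ Φ) := by
  classical
  obtain ⟨hfin, hproj⟩ := projective_quot hfg
  have hfW := fun m => finite_W p m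
  have hpW := fun m => projective_W p m
  have hfpW : ∀ m, Module.FinitePresentation R (W p m) :=
    fun m => Module.finitePresentation_of_projective R _
  obtain ⟨S, hS⟩ := exists_finset_wt p hfg
  let r : M → PrimeSpectrum R → ℕ := fun m => Module.rankAtStalk (R := R) (W p m)
  -- the open set where the ranks are as at `q`
  let U : Set (PrimeSpectrum R) := ⋂ m ∈ S, {x | r m x = r m q}
  have hU : IsOpen U := by
    refine isOpen_biInter_finset fun m _ => ?_
    exact (Module.isLocallyConstant_rankAtStalk (R := R) (M := W p m)).isOpen_fiber (r m q)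
  have hqU : q ∈ U := by
    simp only [U, Set.mem_iInter]
    intro m _
    rfl
  obtain ⟨_, ⟨w, rfl⟩, hqw, hwU⟩ :=
    PrimeSpectrum.isTopologicalBasis_basic_opens.exists_subset_of_mem_open hqU hU
  refine ⟨S.filter fun m => m ≠ 0 ∧ r m q ≠ 0, w, hqw, by simp, ?_⟩
  intro K _ _ hw m hm
  rw [isWt_iff_rank p K hm, Finset.mem_filter]
  let x : PrimeSpectrum R := (⊥ : PrimeSpectrum K).comap (algebraMap R K)
  have hxU : x ∈ U := by
    apply hwU
    change w ∉ x.asIdeal
    intro h
    exact hw h
  by_cases hmS : m ∈ S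
  · have h1 : r m x = r m q := by
      simp only [U, Set.mem_iInter] at hxU
      exact hxU m hmS
    change r m x ≠ 0 ↔ _
    rw [h1]
    exact ⟨fun h => ⟨hmS, hm, h⟩, fun h => h.2.2⟩
  · have hsub : Subsingleton (W p m) := by
      refine subsingleton_of_forall_eq 0 fun v => ?_
      obtain ⟨y, hy, hyv⟩ := exists_lift_W p m v
      apply Subtype.ext
      rw [← hyv]
      exact (Submodule.Quotient.mk_eq_zero _).2 (hS m hmS y hy (counit_gr p hm hy))
    have h1 : r m x = 0 := by
      change Module.rankAtStalk (R := R) (W p m) x = 0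
      rw [Module.rankAtStalk_eq_zero_of_subsingleton]
      rfl
    change r m x ≠ 0 ↔ _
    rw [h1]
    exact ⟨fun h => absurd rfl h, fun h => absurd h.1 hmS⟩

end Groth.Agent.Sga3B.RootNhd136
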