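import Groth.Agent.Sga3B.Spread144B

/-!
# Spreading out root homomorphisms and reflection points from a localization (III)

* `pK K p : K ⊗ A → K[M]`: base change of `p : A → R[M]`;
* `HasRoot p a`, `HasRefl p s`: the algebra-level data over the base (hypotheses of
  `SplitAssemble.exists_splitRed`);
* `hasRoot_iff`, `hasRefl_iff`: comparison with the relative data of `Spread144`;
* `exists_data`: spreading out of finitely many root homomorphisms and reflection points.
-/

set_option autoImplicit false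
open TensorProduct WithConv Polynomial
open Groth.Agent.Books.DynBasic Groth.Agent.Sga3B.RootOrb Groth.Agent.Sga3A
open Groth.Agent.Sga3A.MTSpread
universe u

namespace Groth.Agent.Sga3B.Spread144

section Def

variable {R : Type u} [CommRing R] {A : Type u} [CommRing A] [HopfAlgebra R A]
variable {M : Type} [AddCommGroup M] (p : A →ₐc[R] MonoidAlgebra R (Multiplicative M))

/-- the point `u(s)` of an algebra-level homomorphism `𝔾_a → G` -/
noncomputable def uPt (φ : A →ₐ[R] R[X]) {C : Type u} [CommRing C] [Algebra R C] (s : C) :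
    WithConv (A →ₐ[R] C) :=
  toConv ((Polynomial.aeval (R := R) s).comp φ)

/-- algebra-level root homomorphism -/
structure IsRootAlg (a : M) (φ : A →ₐ[R] R[X]) : Prop where
  surj : Function.Surjective φ
  add : ∀ (C : Type u) [CommRing C] [Algebra R C] (s t : C),
        WithConv.toConv ((Polynomial.aeval (R := R) (s + t)).comp φ) =
          WithConv.toConv ((Polynomial.aeval (R := R) s).comp φ) *
            WithConv.toConv ((Polynomial.aeval (R := R) t).comp φ)
  conj : ∀ (C : Type u) [CommRing C] [Algebra R C] (t : Multiplicative M →* Cˣ) (s : C),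
        torPt p t * WithConv.toConv ((Polynomial.aeval (R := R) s).comp φ) * (torPt p t)⁻¹ =
          WithConv.toConv ((Polynomial.aeval (R := R) ((t (Multiplicative.ofAdd a) : C) * s)).comp φ)

/-- algebra-level reflection point -/
def IsReflAlg (s : M →+ M) (n : WithConv (A →ₐ[R] R)) : Prop :=
  ∀ (C : Type u) [CommRing C] [Algebra R C] (t : Multiplicative M →* Cˣ),
        mapPt (Algebra.ofId R C) n * torPt p t * (mapPt (Algebra.ofId R C) n)⁻¹ =
          torPt p (t.comp (AddMonoidHom.toMultiplicative s))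

end Def

section Cmp

variable {R : Type u} [CommRing R] {A : Type u} [CommRing A] [HopfAlgebra R A]
variable {M : Type} [AddCommGroup M] (p : A →ₐc[R] MonoidAlgebra R (Multiplicative M))
variable (K : Type u) [CommRing K] [Algebra R K]

/-- base change of `p` -/
noncomputable def pK : K ⊗[R] A →ₐc[K] MonoidAlgebra K (Multiplicative M) :=
  ((BCIso.scalarBialg R K (Multiplicative M) :
    K ⊗[R] MonoidAlgebra R (Multiplicative M) ≃ₐc[K] MonoidAlgebra K (Multiplicative M)) :
      K ⊗[R] MonoidAlgebra R (Multiplicative M) →ₐc[K] MonoidAlgebra K (Multiplicative M)).comp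
    (BCIso.mapBialg K p)

lemma pK_tmul (k : K) (a : A) : pK p K (k ⊗ₜ a) =
    BCIso.scalarBialg R K (Multiplicative M) (k ⊗ₜ p a) := rfl

variable {K}
variable {C : Type u} [CommRing C] [Algebra R C] [Algebra K C] [IsScalarTower R K C]

lemma evT_scalar (t : Multiplicative M →* Cˣ) (k : K) (b : MonoidAlgebra R (Multiplicative M)) :
    evT K t (BCIso.scalarBialg R K (Multiplicative M) (k ⊗ₜ b)) = k • evT R t b := by
  induction b using MonoidAlgebra.induction_linear with
  | zero => simp
  | add x y hx hy => rw [TensorProduct.tmul_add, map_add, map_add, map_add, smul_add, hx, hy]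
  | single m r =>
    rw [BCIso.scalarBialg_tmul_single, evT_single, evT_single, mul_smul, algebraMap_smul]

lemma resPt_torPt (t : Multiplicative M →* Cˣ) :
    resPt R A K C (torPt (pK p K) t) = torPt p t := by
  apply WithConv.ofConv_injective
  apply AlgHom.ext
  intro a
  change evT K t (pK p K (1 ⊗ₜ a)) = evT R t (p a)
  rw [pK_tmul, evT_scalar, one_smul]

variable (R K) in
/-- `K[X] ≃ K ⊗ R[X]` -/
noncomputable def ePoly : K[X] ≃ₐ[K] K ⊗[R] R[X] := polyEquivTensor' R K

lemma ePoly_X : ePoly R K X = 1 ⊗ₜ X := by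
  simp [ePoly]

lemma ePoly_symm_X : (ePoly R K).symm (1 ⊗ₜ X) = X := by
  rw [AlgEquiv.symm_apply_eq, ePoly_X]

/-- relative version of a map `K ⊗ A → K[X]` -/
noncomputable def rel (φ : K ⊗[R] A →ₐ[K] K[X]) : A →ₐ[R] K ⊗[R] R[X] :=
  ((((ePoly R K).toAlgHom.comp φ).restrictScalars R).comp Algebra.TensorProduct.includeRight)

lemma exT_rel (φ : K ⊗[R] A →ₐ[K] K[X]) : exT (rel φ) = (ePoly R K).toAlgHom.comp φ := by
  apply Algebra.TensorProduct.ext
  · ext
  · apply AlgHom.ext
    intro a
    change exT (rel φ) (1 ⊗ₜ a) = _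
    rw [exT_tmul, one_smul]
    rfl

/-- the converse construction -/
noncomputable def unrel (φ : A →ₐ[R] K ⊗[R] R[X]) : K ⊗[R] A →ₐ[K] K[X] :=
  (ePoly R K).symm.toAlgHom.comp (exT φ)

lemma rel_unrel (φ : A →ₐ[R] K ⊗[R] R[X]) : rel (unrel φ) = φ := by
  apply AlgHom.ext
  intro a
  change ePoly R K ((ePoly R K).symm (exT φ (1 ⊗ₜ a))) = φ a
  rw [AlgEquiv.apply_symm_apply, exT_tmul, one_smul]

lemma evX_ePoly (x : C) (q : K[X]) :
    evX (IsScalarTower.toAlgHom R K C) x (ePoly R K q) = aeval x q := by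
  have h : ((evX (IsScalarTower.toAlgHom R K C) x : K ⊗[R] R[X] →ₐ[R] C) : K ⊗[R] R[X] →+* C).comp
      ((ePoly R K : K[X] ≃ₐ[K] K ⊗[R] R[X]) : K[X] →+* K ⊗[R] R[X]) =
      ((aeval x : K[X] →ₐ[K] C) : K[X] →+* C) := by
    apply Polynomial.ringHom_ext
    · intro k
      have h1 : ePoly R K (Polynomial.C k) = k ⊗ₜ 1 := by
        have := (ePoly R K).commutes k
        exact this
      change evX _ x (ePoly R K (Polynomial.C k)) = aeval x (Polynomial.C k)
      rw [h1, aeval_C]
      simp [evX]
    · change evX _ x (ePoly R K X) = aeval x X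
      rw [ePoly_X, aeval_X]
      simp [evX]
  exact DFunLike.congr_fun h q

lemma resPt_aeval (φ : K ⊗[R] A →ₐ[K] K[X]) (x : C) :
    resPt R A K C (toConv ((aeval (R := K) x).comp φ)) =
      pol (rel φ) (IsScalarTower.toAlgHom R K C) x := by
  apply WithConv.ofConv_injective
  apply AlgHom.ext
  intro a
  change aeval x (φ (1 ⊗ₜ a)) = evX _ x (ePoly R K (φ (1 ⊗ₜ a)))
  rw [evX_ePoly]

lemma isRoot_rel {a : M} {φ : K ⊗[R] A →ₐ[K] K[X]} (h : IsRootAlg (pK p K) a φ) :
    IsRoot p a (rel φ) := by
  refine ⟨?_, ?_, ?_⟩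
  · obtain ⟨z, hz⟩ := h.surj X
    refine ⟨z, ?_⟩
    rw [exT_rel]
    change ePoly R K (φ z) = _
    rw [hz, ePoly_X]
  · intro C _ _ g x y
    let _ : Algebra K C := g.toRingHom.toAlgebra
    have _ : IsScalarTower R K C := IsScalarTower.of_algebraMap_eq fun r => (g.commutes r).symm
    have hg : IsScalarTower.toAlgHom R K C = g := by ext; rfl
    have h1 := congrArg (resPt R A K C) (h.add C x y)
    rw [map_mul, resPt_aeval, resPt_aeval, resPt_aeval, hg] at h1
    exact h1
  · intro C _ _ g t x
    let _ : Algebra K C := g.toRingHom.toAlgebra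
    have _ : IsScalarTower R K C := IsScalarTower.of_algebraMap_eq fun r => (g.commutes r).symm
    have hg : IsScalarTower.toAlgHom R K C = g := by ext; rfl
    have h1 := congrArg (resPt R A K C) (h.conj C t x)
    rw [map_mul, map_mul, map_inv, resPt_aeval, resPt_aeval, resPt_torPt, hg] at h1
    exact h1

lemma isRootAlg_unrel {a : M} {φ : A →ₐ[R] K ⊗[R] R[X]} (h : IsRoot p a φ) :
    IsRootAlg (pK p K) a (unrel φ) := by
  refine ⟨?_, ?_, ?_⟩
  · obtain ⟨z, hz⟩ := h.surj
    have h1 : unrel φ z = X := by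
      change (ePoly R K).symm (exT φ z) = X
      rw [hz, ePoly_symm_X]
    rw [← AlgHom.range_eq_top, eq_top_iff, ← Polynomial.adjoin_X, Algebra.adjoin_le_iff]
    rintro _ rfl
    exact ⟨z, h1⟩
  · intro C _ _ x y
    let _ : Algebra R C := ((algebraMap K C).comp (algebraMap R K)).toAlgebra
    have _ : IsScalarTower R K C := IsScalarTower.of_algebraMap_eq fun r => rfl
    apply resPt_injective (R := R) (A := A)
    rw [map_mul, resPt_aeval, resPt_aeval, resPt_aeval, rel_unrel]
    exact h.add C _ x y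
  · intro C _ _ t x
    let _ : Algebra R C := ((algebraMap K C).comp (algebraMap R K)).toAlgebra
    have _ : IsScalarTower R K C := IsScalarTower.of_algebraMap_eq fun r => rfl
    apply resPt_injective (R := R) (A := A)
    rw [map_mul, map_mul, map_inv, resPt_aeval, resPt_aeval, resPt_torPt, rel_unrel]
    exact h.conj C _ t x

lemma isRefl_res {s : M →+ M} {n : WithConv (K ⊗[R] A →ₐ[K] K)} (h : IsReflAlg (pK p K) s n) :
    IsRefl p s (resPt R A K K n) := by
  intro C _ _ g t
  let _ : Algebra K C := g.toRingHom.toAlgebra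
  have _ : IsScalarTower R K C := IsScalarTower.of_algebraMap_eq fun r => (g.commutes r).symm
  have h1 := congrArg (resPt R A K C) (h C t)
  have h2 : resPt R A K C (mapPt (Algebra.ofId K C) n) = mapPt g (resPt R A K K n) := rfl
  rw [map_mul, map_mul, map_inv, resPt_torPt, resPt_torPt, h2] at h1
  exact h1

lemma isReflAlg_ext {s : M →+ M} {n : WithConv (A →ₐ[R] K)} (h : IsRefl p s n) :
    IsReflAlg (pK p K) s
      (toConv (Algebra.TensorProduct.lift (Algebra.ofId K K) n.ofConv (fun _ _ => .all _ _))) := by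
  intro C _ _ t
  let _ : Algebra R C := ((algebraMap K C).comp (algebraMap R K)).toAlgebra
  have _ : IsScalarTower R K C := IsScalarTower.of_algebraMap_eq fun r => rfl
  apply resPt_injective (R := R) (A := A)
  have h2 : resPt R A K C (mapPt (Algebra.ofId K C)
      (toConv (Algebra.TensorProduct.lift (Algebra.ofId K K) n.ofConv (fun _ _ => .all _ _)))) =
      mapPt (IsScalarTower.toAlgHom R K C) n := by
    apply WithConv.ofConv_injective
    apply AlgHom.ext
    intro a
    change algebraMap K C (Algebra.TensorProduct.lift (Algebra.ofId K K) n.ofConv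
      (fun _ _ => .all _ _) (1 ⊗ₜ a)) = algebraMap K C (n.ofConv a)
    rw [Algebra.TensorProduct.lift_tmul, map_one, one_mul]
  rw [map_mul, map_mul, map_inv, resPt_torPt, resPt_torPt, h2]
  exact h C _ t

end Cmp

section Main

variable {R : Type u} [CommRing R] {W : Submonoid R} {A : Type u} [CommRing A] [HopfAlgebra R A]
variable {M : Type} [AddCommGroup M] (p : A →ₐc[R] MonoidAlgebra R (Multiplicative M))

theorem exists_rootAlg [Algebra.FinitePresentation R A] {a : M}
    (h : ∃ φ, IsRootAlg (pK p (Localization W)) a φ) :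
    ∃ w ∈ W, ∀ (K : Type u) [CommRing K] [Algebra R K], IsUnit (algebraMap R K w) →
      ∃ φ, IsRootAlg (pK p K) a φ := by
  obtain ⟨φ, hφ⟩ := h
  obtain ⟨w, hw, φ', h'⟩ := exists_isRoot (isRoot_rel p hφ)
  exact ⟨w, hw, fun K _ _ hK => ⟨_, isRootAlg_unrel p (h'.push (aw w K hK))⟩⟩

theorem exists_reflAlg [Algebra.FinitePresentation R A] {s : M →+ M}
    (h : ∃ n, IsReflAlg (pK p (Localization W)) s n) :
    ∃ w ∈ W, ∀ (K : Type u) [CommRing K] [Algebra R K], IsUnit (algebraMap R K w) →
      ∃ n, IsReflAlg (pK p K) s n := by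
  obtain ⟨n, hn⟩ := h
  obtain ⟨w, hw, n', h'⟩ := exists_isRefl (isRefl_res p hn)
  exact ⟨w, hw, fun K _ _ hK => ⟨_, isReflAlg_ext p (h'.push (aw w K hK))⟩⟩

/-- **Spreading out of root homomorphisms and reflection points.** -/
theorem exists_data [Algebra.FinitePresentation R A] {ι κ : Type*} [Finite ι] [Finite κ]
    (a : ι → M) (s : κ → (M →+ M))
    (h1 : ∀ i, ∃ φ, IsRootAlg (pK p (Localization W)) (a i) φ)
    (h2 : ∀ i, ∃ n, IsReflAlg (pK p (Localization W)) (s i) n) :
    ∃ w ∈ W, ∀ (K : Type u) [CommRing K] [Algebra R K], IsUnit (algebraMap R K w) →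
      (∀ i, ∃ φ, IsRootAlg (pK p K) (a i) φ) ∧ (∀ i, ∃ n, IsReflAlg (pK p K) (s i) n) := by
  classical
  cases nonempty_fintype ι
  cases nonempty_fintype κ
  choose w hw H using fun i => exists_rootAlg (W := W) p (h1 i)
  choose w' hw' H' using fun i => exists_reflAlg (W := W) p (h2 i)
  refine ⟨(∏ i, w i) * ∏ i, w' i, W.mul_mem (W.prod_mem fun i _ => hw i)
    (W.prod_mem fun i _ => hw' i), ?_⟩
  intro K _ _ hK
  rw [map_mul] at hK
  have hK1 := isUnit_of_mul_isUnit_left hK
  have hK2 := isUnit_of_mul_isUnit_right hK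
  rw [map_prod] at hK1 hK2
  refine ⟨fun i => H i K ?_, fun i => H' i K ?_⟩
  · exact isUnit_of_dvd_unit (Finset.dvd_prod_of_mem (fun x => algebraMap R K (w x))
      (Finset.mem_univ i)) hK1
  · exact isUnit_of_dvd_unit (Finset.dvd_prod_of_mem (fun x => algebraMap R K (w' x))
      (Finset.mem_univ i)) hK2

end Main

end Groth.Agent.Sga3B.Spread144
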