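import Groth.Agent.Sga3B.Chart
import Groth.Agent.Sga3B.RG.BrCent

/-!
# Centralisers of the torus and pinned inner automorphisms over any base
-/

set_option autoImplicit false
universe u

open CategoryTheory MonoidalCategory CartesianMonoidalCategory MonObj GrpObj AlgebraicGeometry

namespace Groth.Agent.Sga3B

open Cell PinMod DSPts GaPts

namespace Cell.Datum

variable {R A : Type u} [CommRing R] [CommRing A] [Algebra R A] [PtGrp R A] {D : Datum R A}

/-- Two torus points on which the simple roots agree have the same values on all roots. -/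
lemma ch_root_eq_of_base {N : Type} [AddCommGroup N] {P : RootPairing D.idx ℤ D.M N}
    (hP : ∀ a, P.root a = D.root a) (b : P.Base) {B : Type u} [CommRing B] {s t : TPt D.M B}
    (h : ∀ a ∈ b.support, TPt.ch (D.root a) s = TPt.ch (D.root a) t) (a : D.idx) :
    TPt.ch (D.root a) s = TPt.ch (D.root a) t := by
  let H : AddSubgroup D.M :=
    { carrier := {m | TPt.ch m s = TPt.ch m t}
      zero_mem' := by simp
      add_mem' := fun {m n} hm hn => by
        simp only [Set.mem_ofPred_eq] at hm hn ⊢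
        rw [TPt.ch_add, TPt.ch_add, hm, hn]
      neg_mem' := fun {m} hm => by
        simp only [Set.mem_ofPred_eq] at hm ⊢
        have h1 : TPt.ch (-m) s * TPt.ch m s = 1 := by rw [← TPt.ch_add, neg_add_cancel, TPt.ch_zero]
        have h2 : TPt.ch (-m) t * TPt.ch m t = 1 := by rw [← TPt.ch_add, neg_add_cancel, TPt.ch_zero]
        rw [hm] at h1
        exact (TPt.isUnit_ch m t).mul_right_cancel (h1.trans h2.symm) }
  have hcl : AddSubmonoid.closure (P.root '' b.support) ≤ H.toAddSubmonoid := by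
    rw [AddSubmonoid.closure_le]
    rintro _ ⟨c, hc, rfl⟩
    rw [hP]
    exact h c hc
  rcases b.root_mem_or_neg_mem a with h1 | h1
  · have := hcl h1
    rw [hP] at this
    exact this
  · have := H.neg_mem (hcl h1)
    rw [neg_neg, hP] at this
    exact this

/-- A point normalising the torus and commuting with the simple root groups is central. -/
theorem central_of_pinned [Algebra.Smooth R A] (hG : D.Good) (hD : GeomDom R A)
    {N : Type} [AddCommGroup N] {P : RootPairing D.idx ℤ D.M N}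
    (hP : ∀ a, P.root a = D.root a) (b : P.Base)
    {B : Type u} [CommRing B] [Algebra R B] (g : Pt R A B)
    (hT : ∀ (C : Type u) [CommRing C] [Algebra R C] (φ : B →ₐ[R] C) (s : TPt D.M C),
      ∃ s' : TPt D.M C, Pt.map φ g * D.i C s = D.i C s' * Pt.map φ g)
    (hu : ∀ a ∈ b.support, ∀ (C : Type u) [CommRing C] [Algebra R C] (φ : B →ₐ[R] C) (x : C),
      Pt.map φ g * D.uu a C x = D.uu a C x * Pt.map φ g) :
    (∃ t : TPt D.M B, g = D.i B t ∧ ∀ a, TPt.ch (D.root a) t = 1) ∧
    ∀ (C : Type u) [CommRing C] [Algebra R C] (φ : B →ₐ[R] C) (h : Pt R A C),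
      Pt.map φ g * h = h * Pt.map φ g := by
  obtain ⟨t, rfl⟩ := exists_eq_i_of_normalizes hG hD g fun C _ _ φ s => by
    obtain ⟨s', hs'⟩ := hT C φ s
    refine ⟨s', hs', ch_root_eq_of_base hP b fun a ha => ?_⟩
    have h1 := D.rel a s (1 : C)
    have h2 := D.rel a s' (1 : C)
    have h3 := hu a ha C φ
    rw [_root_.mul_one] at h1 h2
    apply D.uu_inj a
    have e1 : D.uu a C (TPt.ch (D.root a) s') * (Pt.map φ g * D.i C s) =
        D.uu a C (TPt.ch (D.root a) s) * (Pt.map φ g * D.i C s) := by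
      calc D.uu a C (TPt.ch (D.root a) s') * (Pt.map φ g * D.i C s)
          = D.i C s' * D.uu a C 1 * (D.i C s')⁻¹ * (D.i C s' * Pt.map φ g) := by rw [← h2, hs']
        _ = D.i C s' * (D.uu a C 1 * Pt.map φ g) := by group
        _ = D.i C s' * Pt.map φ g * D.uu a C 1 := by rw [← h3]; group
        _ = Pt.map φ g * (D.i C s * D.uu a C 1) := by rw [← hs']; group
        _ = Pt.map φ g * D.uu a C (TPt.ch (D.root a) s) * D.i C s := by
            rw [← h1]; group
        _ = D.uu a C (TPt.ch (D.root a) s) * (Pt.map φ g * D.i C s) := by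
            rw [h3, _root_.mul_assoc]
    exact mul_right_cancel e1
  have hroot : ∀ a, TPt.ch (D.root a) t = 1 := by
    intro a
    have := ch_root_eq_of_base (s := t) (t := 1) hP b (fun a ha => by
      rw [TPt.ch_one]
      have := hu a ha B (AlgHom.id R B) 1
      rw [Pt.map_id] at this
      exact ch_eq_one_of_comm t a this) a
    rwa [TPt.ch_one] at this
  exact ⟨⟨t, rfl, hroot⟩, (central_iff hG hD _).2 ⟨t, rfl, hroot⟩⟩

end Cell.Datum

section chart

variable {S : Scheme.{u}} {G : Over S} [GrpObj G]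

/-- the restriction of `X` to an affine `v : Spec R ⟶ X.left` -/
noncomputable def xPt {X : Over S} {R : Type u} [CommRing R] (v : Spec (CommRingCat.of R) ⟶ X.left) :
    tB (v ≫ X.hom) R ⟶ X :=
  Over.homMk (Spec.map (CommRingCat.ofHom (algebraMap R R)) ≫ v) (by simp)

@[simp] lemma xPt_left {X : Over S} {R : Type u} [CommRing R] (v : Spec (CommRingCat.of R) ⟶ X.left) :
    (xPt v).left = v := by
  change Spec.map (𝟙 _) ≫ v = v
  rw [Spec.map_id, Category.id_comp]

variable {R : Type u} [CommRing R] {s : Spec (CommRingCat.of R) ⟶ S}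
  {B C : Type u} [CommRing B] [Algebra R B] [CommRing C] [Algebra R C]

/-- Points of the torus in terms of characters. -/
lemma Chart.exists_torusPt (D : Red.SplitRed G) (t : tB s B ⟶ D.T) :
    ∃ t' : TPt D.M B, t = dsEquiv (tB s B) D.M (chΓ s t') ≫ Chart.splitInv D := by
  obtain ⟨t', ht'⟩ := exists_chΓ s (t ≫ Chart.splitHom D)
  exact ⟨t', by rw [← ht', Category.assoc, Chart.splitHom_inv, Category.comp_id]⟩

variable (c : Chart G s) (D : Red.SplitRed G)

lemma Chart.exists_i (t : tB s B ⟶ D.T) :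
    ∃ t' : TPt D.M B, t = dsEquiv (tB s B) D.M (chΓ s t') ≫ Chart.splitInv D ∧
      (c.pts B).symm (t ≫ D.i) = (c.datum D).i B t' := by
  obtain ⟨t', ht'⟩ := Chart.exists_torusPt D t
  refine ⟨t', ht', ?_⟩
  apply (c.pts B).injective
  rw [MulEquiv.apply_symm_apply, c.pts_i, ht', Category.assoc]

lemma Chart.exists_torusPt_of_eq_i {g : tB s B ⟶ G} {t : TPt D.M B}
    (h : (c.pts B).symm g = (c.datum D).i B t) :
    g = (dsEquiv (tB s B) D.M (chΓ s t) ≫ Chart.splitInv D) ≫ D.i := by
  have := congrArg (c.pts B) h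
  rw [MulEquiv.apply_symm_apply, c.pts_i] at this
  rw [this, Category.assoc]


/-- Good charts exist everywhere. -/
def HasGoodCharts (D : Red.SplitRed G) : Prop :=
  ∀ (R : Type u) [CommRing R] (s : Spec (CommRingCat.of R) ⟶ S), ∃ c : Chart G s,
    Algebra.Smooth R c.A ∧ GeomDom R c.A ∧ (c.datum D).Good

/-- A point which is locally in the torus is in the torus. -/
theorem exists_torus_factor (D : Red.SplitRed G) {X : Over S} (g : X ⟶ G)
    (h : ∀ (R : Type u) [CommRing R] (v : Spec (CommRingCat.of R) ⟶ X.left),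
      ∃ t : tB (v ≫ X.hom) R ⟶ D.T, t ≫ D.i = xPt v ≫ g) :
    ∃ t : X ⟶ D.T, t ≫ D.i = g := by
  have : Mono D.i.left := inferInstance
  refine RG.BrCent.exists_factor_of_affineOpens D.i g fun R v _ => ?_
  obtain ⟨t, ht⟩ := h R v
  refine ⟨t.left, ?_⟩
  have : (t ≫ D.i).left = (xPt v ≫ g).left := by rw [ht]
  rw [Over.comp_left, Over.comp_left, xPt_left] at this
  exact this

/-- Two points are equal if they are equal on affines. -/
theorem hom_ext_affines {X Y : Over S} (f g : X ⟶ Y)
    (h : ∀ (R : Type u) [CommRing R] (v : Spec (CommRingCat.of R) ⟶ X.left),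
      xPt v ≫ f = xPt v ≫ g) : f = g := by
  refine RG.BrCent.hom_ext_of_affineOpens f g fun R v _ => ?_
  have : (xPt v ≫ f).left = (xPt v ≫ g).left := by rw [h R v]
  rw [Over.comp_left, Over.comp_left, xPt_left] at this
  exact this

/-- **The torus of a splitting is its own centralizer, over any base.** -/
theorem isCentralizerOf_of_charts (D : Red.SplitRed G) (hD : HasGoodCharts D) :
    Red.IsCentralizerOf D.i D.i := by
  refine ⟨inferInstance, inferInstance, fun X g => ⟨?_, ?_⟩⟩
  · rintro ⟨z, rfl⟩ X' x h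
    apply hom_ext_affines
    intro R _ v
    obtain ⟨t₁, ht₁⟩ := Chart.exists_torusPt D (xPt v ≫ x ≫ z)
    obtain ⟨t₂, ht₂⟩ := Chart.exists_torusPt D (xPt v ≫ h)
    have e1 : xPt v ≫ x ≫ z ≫ D.i = dsEquiv _ D.M (chΓ (v ≫ X'.hom) t₁) ≫ Chart.j D := by
      rw [← Category.assoc x, ← Category.assoc (xPt v), ht₁, Category.assoc]
    have e2 : xPt v ≫ h ≫ D.i = dsEquiv _ D.M (chΓ (v ≫ X'.hom) t₂) ≫ Chart.j D := by
      rw [← Category.assoc, ht₂, Category.assoc]
    rw [MonObj.comp_mul, MonObj.comp_mul, e1, e2, ← MonObj.mul_comp _ _ (Chart.j D),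
      ← MonObj.mul_comp _ _ (Chart.j D), ← map_mul, ← map_mul, ← chΓ_mul, ← chΓ_mul, mul_comm t₁ t₂]
  · intro hg
    apply exists_torus_factor
    intro R _ v
    obtain ⟨c, hs, hdom, hgood⟩ := hD R (v ≫ X.hom)
    obtain ⟨t, ht⟩ := Datum.exists_eq_i_of_comm hgood hdom ((c.pts R).symm (xPt v ≫ g))
      (fun C _ _ φ s' => by
        apply (c.pts C).injective
        have h1 : c.pts C ((c.datum D).i C s') = _ := c.pts_i D s'
        rw [map_mul, map_mul, c.pts_symm_nat, MulEquiv.apply_symm_apply, h1,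
          Chart.j_eq, ← Category.assoc _ _ D.i, ← Category.assoc _ (xPt v) g]
        exact hg _ _ _)
    exact ⟨_, (Chart.exists_torusPt_of_eq_i c D ht).symm⟩

/-- **Inner automorphisms respecting a pinning are trivial (SGA 3 XXIV 1.5.1), point form.** -/
theorem pinned_comm_of_charts (D : Red.Pinning G) (hD : HasGoodCharts D.toSplitRed)
    (g : 𝟙_ (Over S) ⟶ G)
    (hT : ∀ (X : Over S) (t : X ⟶ D.T), ∃ t' : X ⟶ D.T,
      (toUnit X ≫ g) * (t ≫ D.i) * (toUnit X ≫ g)⁻¹ = t' ≫ D.i)
    (hu : ∀ a ∈ D.base.support, ∀ (X : Over S) (x : X ⟶ Red.Ga S),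
      (toUnit X ≫ g) * (x ≫ D.u a) * (toUnit X ≫ g)⁻¹ = x ≫ D.u a)
    (X : Over S) (y : X ⟶ G) : (toUnit X ≫ g) * y * (toUnit X ≫ g)⁻¹ = y := by
  apply hom_ext_affines
  intro R _ v
  obtain ⟨c, hs, hdom, hgood⟩ := hD R (v ≫ X.hom)
  have hmap : ∀ (C : Type u) [CommRing C] [Algebra R C] (φ : R →ₐ[R] C),
      c.pts C (Pt.map φ ((c.pts R).symm (toUnit _ ≫ g))) = toUnit _ ≫ g := by
    intro C _ _ φ
    rw [← c.pts_nat, MulEquiv.apply_symm_apply, ← Category.assoc, comp_toUnit]
  have key := (Datum.central_of_pinned (D := c.datum D.toSplitRed) hgood hdom (P := D.P)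
    (fun a => rfl) D.base ((c.pts R).symm (toUnit _ ≫ g)) (fun C _ _ φ s => by
      have h1 : c.pts C ((c.datum D.toSplitRed).i C s) = _ := c.pts_i D.toSplitRed s
      obtain ⟨t', ht'⟩ := hT _ (dsEquiv (tB (v ≫ X.hom) C) D.M (chΓ (v ≫ X.hom) s) ≫
        Chart.splitInv D.toSplitRed)
      obtain ⟨s', hs', hs''⟩ := Chart.exists_i c D.toSplitRed t'
      refine ⟨s', ?_⟩
      apply (c.pts C).injective
      rw [map_mul, map_mul, hmap, h1, ← hs'', MulEquiv.apply_symm_apply, ← ht', Category.assoc]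
      exact (inv_mul_cancel_right _ _).symm) (fun a ha C _ _ φ x => by
      have h1 : c.pts C ((c.datum D.toSplitRed).uu a C x) = _ := c.pts_uu D.toSplitRed a x
      apply (c.pts C).injective
      rw [map_mul, map_mul, hmap, h1]
      exact mul_inv_eq_iff_eq_mul.mp (hu a ha _ _))).2
    R (AlgHom.id R R) ((c.pts R).symm (xPt v ≫ y))
  have h2 := congrArg (c.pts R) key
  rw [map_mul, map_mul, hmap, MulEquiv.apply_symm_apply] at h2
  rw [MonObj.comp_mul, MonObj.comp_mul, GrpObj.comp_inv, ← Category.assoc, comp_toUnit, h2]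
  exact mul_inv_cancel_right _ _

end chart

end Groth.Agent.Sga3B
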