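import Groth.Agent.Sga3B.ChartGood
import Groth.Agent.Sga3B.CellEt
import Groth.Agent.Sga3B.SplitCent889

/-!
# Consequences of the goodness of all charts of a split reductive group

`hasGoodCharts`, `isCentralizerOf_i : Red.IsCentralizerOf D.i D.i`, `pinned_comm`.
(`Chart.smooth`, `Chart.finitePresentation`, `Chart.geomDom`, `Chart.rankOK`,
`Chart.good` are in `ChartGood`.)
-/

set_option autoImplicit false
universe u

open CategoryTheory MonoidalCategory CartesianMonoidalCategory MonObj GrpObj AlgebraicGeometry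
open scoped TensorProduct

namespace Groth.Agent.Sga3B

open Cell PinMod DSPts GaPts

variable {S : Scheme.{u}} {G : Over S} [GrpObj G]

lemma Chart.isDomain {R : Type u} [CommRing R] {s : Spec (CommRingCat.of R) ⟶ S} (c : Chart G s)
    (hG : Red.IsReductive G) (K : Type u) [Field K] [Algebra R K] :
    IsDomain (K ⊗[R] c.A) := c.geomDom hG K

lemma Chart.cellGeomDom {R : Type u} [CommRing R] {s : Spec (CommRingCat.of R) ⟶ S}
    (c : Chart G s) (hG : Red.IsReductive G) : GeomDom R c.A := fun K _ _ _ => c.geomDom hG K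

/-- Charts exist for split reductive groups. -/
theorem exists_chart_of_split (D : Red.SplitRed G) {R : Type u} [CommRing R]
    (s : Spec (CommRingCat.of R) ⟶ S) : Nonempty (Chart G s) :=
  have := D.reductive.1
  exists_chart G s

theorem hasGoodCharts (D : Red.SplitRed G) : HasGoodCharts D := fun R _ s => by
  obtain ⟨c⟩ := exists_chart_of_split D s
  exact ⟨c, c.smooth D.reductive, c.cellGeomDom D.reductive, c.good D⟩

/-- **The torus of a splitting is its own centralizer, over any base.** -/
theorem isCentralizerOf_i (D : Red.SplitRed G) : Red.IsCentralizerOf D.i D.i :=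
  isCentralizerOf_of_charts D (hasGoodCharts D)

/-- **Inner automorphisms respecting a pinning are trivial.** -/
theorem pinned_comm (D : Red.Pinning G) (g : 𝟙_ (Over S) ⟶ G)
    (hT : ∀ (X : Over S) (t : X ⟶ D.T), ∃ t' : X ⟶ D.T,
      (toUnit X ≫ g) * (t ≫ D.i) * (toUnit X ≫ g)⁻¹ = t' ≫ D.i)
    (hu : ∀ a ∈ D.base.support, ∀ (X : Over S) (x : X ⟶ Red.Ga S),
      (toUnit X ≫ g) * (x ≫ D.u a) * (toUnit X ≫ g)⁻¹ = x ≫ D.u a)
    (X : Over S) (y : X ⟶ G) : (toUnit X ≫ g) * y * (toUnit X ≫ g)⁻¹ = y :=
  pinned_comm_of_charts D (hasGoodCharts D.toSplitRed) g hT hu X y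

end Groth.Agent.Sga3B
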