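import Groth.Agent.Sga3B.PtMor
import Groth.Agent.Books.AffBridge

/-!
# Base change of the spectrum of a Hopf algebra

`Red.bc (Spec L ⟶ Spec R) (Spec C) ≅ Spec (L ⊗[R] C)` as groups over `Spec L`.
-/

set_option autoImplicit false

open CategoryTheory MonoidalCategory CartesianMonoidalCategory AlgebraicGeometry Limits Opposite
open TensorProduct WithConv
open scoped MonObj
open Groth.Agent.Sga3B.HaarDef Groth.Agent.Sga3B.AffTest Groth.Agent.Sga3B.PtData Groth.Agent.Sga3B.PtMor
open Groth.Agent.Sga3B.TorusLie Groth.Agent.Books.AffBridge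

namespace Groth.Agent.Sga3B.BcSpec892

noncomputable section

universe u

variable {R L : Type u} [CommRing R] [CommRing L] [Algebra R L] {C : Type u} [CommRing C] [HopfAlgebra R C]

/-- The comultiplication of `L ⊗ C` on `1 ⊗ c`. -/
lemma comul_one_tmul (a : C) {J : Type*} (s : Finset J) (y z : J → C)
    (h : CoalgebraStruct.comul (R := R) a = ∑ i ∈ s, y i ⊗ₜ[R] z i) :
    CoalgebraStruct.comul (R := L) ((1 : L) ⊗ₜ[R] a) =
      ∑ i ∈ s, ((1 : L) ⊗ₜ[R] y i) ⊗ₜ[L] ((1 : L) ⊗ₜ[R] z i) := by
  rw [TensorProduct.comul_tmul, h, TensorProduct.tmul_sum, map_sum]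
  refine Finset.sum_congr rfl fun i _ => ?_
  rw [CommSemiring.comul_apply]
  rfl

section pts

variable {A : Type u} [CommRing A] [Algebra L A] [Algebra R A] [IsScalarTower R L A]

/-- restriction of an `L`-point of `L ⊗ C` to `C` -/
def res (f : WithConv (L ⊗[R] C →ₐ[L] A)) : WithConv (C →ₐ[R] A) :=
  toConv ((f.ofConv.restrictScalars R).comp Algebra.TensorProduct.includeRight)

lemma res_apply (f : WithConv (L ⊗[R] C →ₐ[L] A)) (c : C) : (res f).ofConv c = f.ofConv (1 ⊗ₜ c) := rfl

lemma res_mul (f g : WithConv (L ⊗[R] C →ₐ[L] A)) : res (f * g) = res f * res g := by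
  apply WithConv.ofConv_injective
  ext c
  have h1 := (Coalgebra.Repr.arbitrary R c).eq
  have h2 := comul_one_tmul (L := L) c _ _ _ h1.symm
  rw [res_apply, AlgHom.convMul_apply, AlgHom.convMul_apply, h2, ← h1, map_sum, map_sum]
  refine Finset.sum_congr rfl fun i _ => ?_
  rfl

lemma res_bijective : Function.Bijective (res : WithConv (L ⊗[R] C →ₐ[L] A) → WithConv (C →ₐ[R] A)) := by
  constructor
  · intro f g h
    apply WithConv.ofConv_injective
    apply Algebra.TensorProduct.ext
    · ext
    · ext c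
      exact congrArg (fun x : WithConv (C →ₐ[R] A) => x.ofConv c) h
  · intro x
    refine ⟨toConv (Algebra.TensorProduct.lift (Algebra.ofId L A) x.ofConv (fun _ _ => Commute.all _ _)), ?_⟩
    apply WithConv.ofConv_injective
    ext c
    change (Algebra.TensorProduct.lift (Algebra.ofId L A) x.ofConv (fun _ _ => Commute.all _ _)) (1 ⊗ₜ c) = _
    rw [Algebra.TensorProduct.lift_tmul, map_one, one_mul]

end pts

instance isMonHom_refl : IsMonHom (Iso.refl (sp R C)).hom := inferInstanceAs (IsMonHom (𝟙 (sp R C)))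

variable (R L C) in
/-- the canonical morphism `Spec (L ⊗ C) ⟶ Spec C ×_R L` -/
def toBc : sp L (L ⊗[R] C) ⟶ Red.bc (q R L) (sp R C) :=
  (baseStr (C := C) L (Iso.refl (sp R C))).e (L ⊗[R] C) (toConv Algebra.TensorProduct.includeRight)

lemma comp_toBc {A : Type u} [CommRing A] [Algebra L A] [Algebra R A] [IsScalarTower R L A]
    (f : L ⊗[R] C →ₐ[L] A) : spMap f ≫ toBc R L C =
      (baseStr (C := C) L (Iso.refl (sp R C))).e A (res (toConv f)) := by
  rw [toBc, PtStr.nat]
  rfl

instance isIso_toBc : IsIso (toBc R L C) := by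
  have : IsAffine (sp L (L ⊗[R] C)).left := by
    show IsAffine (Spec _)
    infer_instance
  have : IsAffine (Red.bc (q R L) (sp R C)).left := by
    show IsAffine (pullback (Spec.map _) (Spec.map _))
    infer_instance
  apply isIso_of_pts
  intro A _ _
  let : Algebra R A := Algebra.compHom A (algebraMap R L)
  have : IsScalarTower R L A := IsScalarTower.of_algebraMap_eq fun _ => rfl
  constructor
  · intro x y hxy
    obtain ⟨f, rfl⟩ := spMap_surjective x
    obtain ⟨g, rfl⟩ := spMap_surjective y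
    have hxy' : spMap f ≫ toBc R L C = spMap g ≫ toBc R L C := hxy
    rw [comp_toBc, comp_toBc] at hxy'
    have h1 := ((baseStr (C := C) L (Iso.refl (sp R C))).e A).injective hxy'
    have h2 := res_bijective.1 h1
    exact congrArg (fun t : WithConv (L ⊗[R] C →ₐ[L] A) => spMap t.ofConv) h2
  · intro y
    obtain ⟨x, rfl⟩ := ((baseStr (C := C) L (Iso.refl (sp R C))).e A).surjective y
    obtain ⟨f, rfl⟩ := res_bijective (L := L).2 x
    exact ⟨spMap f.ofConv, comp_toBc f.ofConv⟩

instance isMonHom_toBc : IsMonHom (toBc R L C) := by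
  have : IsAffine (sp L (L ⊗[R] C)).left := by
    show IsAffine (Spec _)
    infer_instance
  apply isMonHom_of_pts
  intro A _ _ g g'
  let : Algebra R A := Algebra.compHom A (algebraMap R L)
  have : IsScalarTower R L A := IsScalarTower.of_algebraMap_eq fun _ => rfl
  obtain ⟨f, rfl⟩ := spMap_surjective g
  obtain ⟨f', rfl⟩ := spMap_surjective g'
  have h1 : spMap f * spMap f' = spMap (toConv f * toConv f').ofConv :=
    (specMap_mul L (toConv f) (toConv f')).symm
  rw [h1, comp_toBc, comp_toBc, comp_toBc, ← map_mul, ← res_mul]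

/-- **Base change of `Spec` of a Hopf algebra.** -/
theorem exists_iso (R L C : Type u) [CommRing R] [CommRing L] [Algebra R L] [CommRing C] [HopfAlgebra R C] :
    ∃ e : Red.bc (Spec.map (CommRingCat.ofHom (algebraMap R L))) (SpecOver R C) ≅ SpecOver L (L ⊗[R] C),
      IsMonHom e.hom :=
  ⟨(asIso (toBc R L C)).symm, inferInstanceAs (IsMonHom (asIso (toBc R L C)).inv)⟩

end

end Groth.Agent.Sga3B.BcSpec892
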