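import Groth.Agent.Sga3B.AlgBc2
import Groth.Agent.Sga3B.BcSpec892
import Groth.Agent.Sga3B.RG.BrHc
import Groth.Agent.Sga3B.RG.BcPt885

/-!
# Base change of reductive groups along arbitrary morphisms (scheme form)

`RedExt` is the statement that the extension of scalars `L ⊗[K] A` of a reductive group over an algebraically
closed field `K` to an algebraically closed field `L ⊇ K` is reductive (in terms of points). Everything here is
deduced from it:

* `isReductiveOver_bc_iff` : for `θ : Spec L ⟶ Spec K`, `bc θ G` is reductive iff `G` is;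
* `isReductiveOver_geomFibre_bc_iff` : pointwise form for an arbitrary `f : S' ⟶ S`;
* `isReductive_bc` : reductive groups are stable under arbitrary base change;
* `isReductive_of_bc` : descent along fpqc covers.
-/

set_option autoImplicit false

universe u

open CategoryTheory MonoidalCategory CartesianMonoidalCategory MonObj GrpObj AlgebraicGeometry Limits
open TensorProduct
open Groth.Agent.Books.AffBridge

namespace Groth.Agent.Sga3B.RedBc892

open RG RG.BrRed2 RG.BrHc BcNat ResAlg

/-- Reductive groups over an algebraically closed field stay reductive over a larger one (in terms of points). -/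
def RedExt : Prop :=
  ∀ (K L : Type u) [Field K] [IsAlgClosed K] [Field L] [IsAlgClosed L] [Algebra K L]
    (A : Type u) [CommRing A] [HopfAlgebra K A] [Algebra.FiniteType K A] [IsDomain A],
    IsRedPt K A → IsRedPt L (L ⊗[K] A)

section field

variable {K L : Type u} [Field K] [Field L]

/-- every morphism between spectra of fields comes from an extension of fields -/
lemma exists_algebra (θ : Spec (CommRingCat.of L) ⟶ Spec (CommRingCat.of K)) :
    ∃ _ : Algebra K L, Spec.map (CommRingCat.ofHom (algebraMap K L)) = θ :=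
  ⟨(Spec.preimage θ).hom.toAlgebra, Spec.map_preimage θ⟩

instance flat_of_field {X : Scheme.{u}} (f : X ⟶ Spec (CommRingCat.of K)) : Flat f := by
  infer_instance

lemma surjective_of_field (θ : Spec (CommRingCat.of L) ⟶ Spec (CommRingCat.of K)) : Surjective θ := by
  constructor
  intro y
  exact ⟨default, Subsingleton.elim _ _⟩

/-- the covering condition for a quasi-compact surjective morphism -/
lemma qc_cover {S S' : Scheme.{u}} (f : S' ⟶ S) [QuasiCompact f] [Surjective f] (V : S.Opens) (hV : IsAffineOpen V) :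
    ∃ W : S'.Opens, IsCompact (W : Set S') ∧ f.base '' (W : Set S') = (V : Set S) :=
  ⟨f ⁻¹ᵁ V, f.isCompact_preimage hV.isCompact, Set.image_preimage_eq _ f.surjective⟩

variable [IsAlgClosed K] [IsAlgClosed L]

/-- Extension of scalars preserves reductivity. -/
theorem isReductiveOver_bc (hB : RedExt.{u}) (θ : Spec (CommRingCat.of L) ⟶ Spec (CommRingCat.of K))
    {G : Over (Spec (CommRingCat.of K))} [GrpObj G] (h : Red.IsReductiveOver K G) :
    Red.IsReductiveOver L (Red.bc θ G) := by
  obtain ⟨_, rfl⟩ := exists_algebra θ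
  obtain ⟨A, _, _, e, he, hft, hdom, hred⟩ := exists_hopf_of_isReductiveOver G h
  obtain ⟨e', he'⟩ := BcSpec892.exists_iso K L A
  let e1 := (Over.pullback (Spec.map (CommRingCat.ofHom (algebraMap K L)))).mapIso e
  have he1 : IsMonHom e1.hom := inferInstanceAs (IsMonHom ((Over.pullback _).map e.hom))
  have h2 : Red.IsReductiveOver L (SpecOver L (L ⊗[K] A)) :=
    isReductiveOver_iff.2 ⟨BcPt.isDomain_ext, hB K L A hred⟩
  have h3 : IsMonHom (e1 ≪≫ e').symm.hom := by
    have : IsMonHom (e1 ≪≫ e').hom := inferInstanceAs (IsMonHom (e1.hom ≫ e'.hom))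
    exact inferInstanceAs (IsMonHom (e1 ≪≫ e').inv)
  exact RG.BrRed2.isReductiveOver_of_iso (e1 ≪≫ e').symm h2

/-- Reductivity can be checked after extension of scalars. -/
theorem isReductiveOver_of_bc (θ : Spec (CommRingCat.of L) ⟶ Spec (CommRingCat.of K))
    {G : Over (Spec (CommRingCat.of K))} [GrpObj G] (h : Red.IsReductiveOver L (Red.bc θ G)) :
    Red.IsReductiveOver K G := by
  have := surjective_of_field θ
  have h1 : IsAffineHom G.hom := by
    have := Etbase.FpqcDescent.descendsAlong_isAffineHom.{u}
    refine FpqcLoc.of_fpqc_cover (P := @IsAffineHom) G.hom θ (qc_cover θ) fun s' => ⟨⊤, trivial, ?_⟩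
    have : IsAffine (Red.bc θ G).left := h.1
    exact FpqcLoc.of_isPullback' (P := @IsAffineHom) (IsPullback.of_hasPullback _ _)
      (isAffineHom_of_isAffine (Red.bc θ G).hom)
  have h2 : Smooth G.hom := by
    refine FpqcLoc.of_fpqc_cover (P := @Smooth) G.hom θ (qc_cover θ) fun s' => ⟨⊤, trivial, ?_⟩
    exact FpqcLoc.of_isPullback' (P := @Smooth) (IsPullback.of_hasPullback _ _) h.2.1
  have h3 : IsAffine G.left := isAffine_of_isAffineHom G.hom
  obtain ⟨A, _, _, e, he, hft⟩ := exists_hopf_ft G
  obtain ⟨_, rfl⟩ := exists_algebra θ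
  obtain ⟨e', he'⟩ := BcSpec892.exists_iso K L A
  let e1 := (Over.pullback (Spec.map (CommRingCat.ofHom (algebraMap K L)))).mapIso e
  have he1 : IsMonHom e1.hom := inferInstanceAs (IsMonHom ((Over.pullback _).map e.hom))
  have h4 : IsMonHom (e1 ≪≫ e').hom := inferInstanceAs (IsMonHom (e1.hom ≫ e'.hom))
  obtain ⟨h5, h6⟩ := isReductiveOver_iff.1 (RG.BrRed2.isReductiveOver_of_iso (e1 ≪≫ e') h)
  have h7 : IsDomain A := by
    have hinj : Function.Injective (Algebra.TensorProduct.includeRight : A →ₐ[K] L ⊗[K] A) :=
      Algebra.TensorProduct.includeRight_injective (algebraMap K L).injective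
    exact hinj.isDomain (Algebra.TensorProduct.includeRight : A →ₐ[K] L ⊗[K] A).toRingHom
  have h8 := BcPt.isRedPt_of_ext h6
  have h9 : IsMonHom e.symm.hom := inferInstanceAs (IsMonHom e.inv)
  exact RG.BrRed2.isReductiveOver_of_iso e.symm (isReductiveOver_iff.2 ⟨h7, h8⟩)

theorem isReductiveOver_bc_iff (hB : RedExt.{u}) (θ : Spec (CommRingCat.of L) ⟶ Spec (CommRingCat.of K))
    {G : Over (Spec (CommRingCat.of K))} [GrpObj G] :
    Red.IsReductiveOver L (Red.bc θ G) ↔ Red.IsReductiveOver K G :=
  ⟨isReductiveOver_of_bc θ, isReductiveOver_bc hB θ⟩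

end field

section geom

variable {S S' : Scheme.{u}}

/-- Geometric points of the source and of the target of an arbitrary morphism. -/
theorem exists_geomPt (f : S' ⟶ S) (s' : S') :
    ∃ θ : Spec (CommRingCat.of (AlgebraicClosure (S'.residueField s'))) ⟶
        Spec (CommRingCat.of (AlgebraicClosure (S.residueField (f s')))),
      θ ≫ Red.geomPt (f s') = Red.geomPt s' ≫ f := by
  let k := S.residueField (f s')
  let k' := S'.residueField s'
  let a1 : Algebra k k' := (f.residueFieldMap s').hom.toAlgebra
  let e : AlgebraicClosure k →ₐ[k] AlgebraicClosure k' := IsAlgClosed.lift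
  refine ⟨Spec.map (CommRingCat.ofHom e.toRingHom), ?_⟩
  rw [Red.geomPt, Red.geomPt, Category.assoc, ← Scheme.Hom.SpecMap_residueFieldMap_fromSpecResidueField,
    ← Category.assoc, ← Category.assoc, ← Spec.map_comp, ← Spec.map_comp]
  congr 2
  ext a
  exact e.commutes a

variable (hB : RedExt.{u}) (f : S' ⟶ S) (s' : S')
include hB

/-- The geometric fibre of the base change is reductive iff the original geometric fibre is. -/
theorem isReductiveOver_geomFibre_bc_iff {G : Over S} [GrpObj G] :
    Red.IsReductiveOver (AlgebraicClosure (S'.residueField s')) (Red.geomFibre s' (Red.bc f G)) ↔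
      Red.IsReductiveOver (AlgebraicClosure (S.residueField (f s'))) (Red.geomFibre (f s') G) := by
  obtain ⟨θ, hh⟩ := exists_geomPt f s'
  rw [← isReductiveOver_bc_iff hB θ]
  exact ⟨fun h => RedIso.isReductiveOver_of_iso (fibIso hh G) h,
    fun h => RedIso.isReductiveOver_of_iso (fibIso hh G).symm h⟩

/-- **Reductive groups are stable under arbitrary base change.** -/
theorem isReductive_bc {G : Over S} [GrpObj G] (h : Red.IsReductive G) : Red.IsReductive (Red.bc f G) := by
  obtain ⟨h1, h2, h3⟩ := h
  refine ⟨MorphismProperty.pullback_snd (P := @IsAffineHom) _ _ h1,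
    MorphismProperty.pullback_snd (P := @Smooth) _ _ h2, fun s' => ?_⟩
  exact (isReductiveOver_geomFibre_bc_iff hB f s').2 (h3 _)

/-- **Reductive groups descend** along fpqc covers. -/
theorem isReductive_of_bc [Flat f] [Surjective f]
    (hc : ∀ V : S.Opens, IsAffineOpen V → ∃ W : S'.Opens, IsCompact (W : Set S') ∧ f.base '' (W : Set S') = (V : Set S))
    {G : Over S} [GrpObj G] (h : Red.IsReductive (Red.bc f G)) : Red.IsReductive G := by
  obtain ⟨h1, h2, h3⟩ := h
  refine ⟨?_, ?_, ?_⟩
  · have := Etbase.FpqcDescent.descendsAlong_isAffineHom.{u}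
    refine FpqcLoc.of_fpqc_cover (P := @IsAffineHom) G.hom f hc fun s' => ⟨⊤, trivial, ?_⟩
    exact FpqcLoc.of_isPullback' (P := @IsAffineHom) (IsPullback.of_hasPullback _ _) h1
  · refine FpqcLoc.of_fpqc_cover (P := @Smooth) G.hom f hc fun s' => ⟨⊤, trivial, ?_⟩
    exact FpqcLoc.of_isPullback' (P := @Smooth) (IsPullback.of_hasPullback _ _) h2
  · intro s
    obtain ⟨s', rfl⟩ := f.surjective s
    exact (isReductiveOver_geomFibre_bc_iff hB f s').mp (h3 s')

end geom

end Groth.Agent.Sga3B.RedBc892
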