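import Groth.Agent.Sga3B.RepDescent9
import Groth.Agent.Sga3B.RedBc892
import Groth.Agent.Sga3B.RG.RedExt885
import Groth.Agent.Sga3B.IsoFam

/-!
# The reductive locus and representability over an open subscheme

* `repOfMono`: a functor on `Over S` which is representable over `j : U ⟶ S` (a monomorphism) and is empty on objects
  which do not factor through `j` is representable over `S`;
* `isReductiveOver_of_isIsoFamily`: a family of isomorphisms from a reductive group to `H` parametrised by `T` maps
  `T` into the reductive locus of `H`;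
* `exists_representsIsom_of_open`.
-/

set_option autoImplicit false
open CategoryTheory MonoidalCategory CartesianMonoidalCategory MonObj GrpObj AlgebraicGeometry Opposite
universe u

namespace Groth.Agent.Sga3B.IsomOpen899

open RepDescent

variable {S : Scheme.{u}}

section Mono

variable {F : (Over S)ᵒᵖ ⥤ Type u} {U : Scheme.{u}} (j : U ⟶ S)

theorem map_bijective [Mono j] (T' A : Over U) :
    Function.Bijective (fun m : T' ⟶ A => (Over.map j).map m) := by
  constructor
  · intro m m' h
    ext1
    exact congrArg (fun k : (Over.map j).obj T' ⟶ (Over.map j).obj A => k.left) h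
  · intro m
    refine ⟨Over.homMk m.left ?_, ?_⟩
    · rw [← cancel_mono j, Category.assoc]
      exact Over.w m
    · ext1
      rfl

theorem bij_map [Mono j] {A : Over U} (r : ((Over.map j).op ⋙ F).RepresentableBy A) (T' : Over U) :
    Function.Bijective (fun m : (Over.map j).obj T' ⟶ (Over.map j).obj A =>
      F.map m.op (r.homEquiv (𝟙 A))) := by
  have h1 : (fun m : T' ⟶ A => F.map ((Over.map j).map m).op (r.homEquiv (𝟙 A))) = r.homEquiv := by
    funext m
    have h2 := r.homEquiv_comp m (𝟙 A)
    rw [Category.comp_id] at h2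
    exact h2.symm
  have h3 : Function.Bijective ((fun m : (Over.map j).obj T' ⟶ (Over.map j).obj A =>
      F.map m.op (r.homEquiv (𝟙 A))) ∘ (fun m : T' ⟶ A => (Over.map j).map m)) := by
    change Function.Bijective (fun m : T' ⟶ A => F.map ((Over.map j).map m).op (r.homEquiv (𝟙 A)))
    rw [h1]
    exact r.homEquiv.bijective
  exact (Function.Bijective.of_comp_iff _ (map_bijective j T' A)).1 h3

theorem bij [Mono j] {A : Over U} (r : ((Over.map j).op ⋙ F).RepresentableBy A) (T : Over S)
    (g : T.left ⟶ U) (hg : g ≫ j = T.hom) :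
    Function.Bijective (fun m : T ⟶ (Over.map j).obj A => F.map m.op (r.homEquiv (𝟙 A))) := by
  let α : (Over.map j).obj (Over.mk g) ≅ T := Over.isoMk (Iso.refl _) (by simp [hg])
  have h1 := bij_map j r (Over.mk g)
  have h2 : Function.Bijective (F.map α.inv.op) := by
    rw [← isIso_iff_bijective]
    infer_instance
  have h3 : Function.Bijective (fun m : T ⟶ (Over.map j).obj A => α.hom ≫ m) :=
    ⟨fun m m' h => (cancel_epi α.hom).1 h, fun m => ⟨α.inv ≫ m, by simp⟩⟩
  have h4 := h2.comp (h1.comp h3)
  convert h4 using 1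
  funext m
  simp only [Function.comp_apply]
  rw [← Functor.map_comp_apply, ← op_comp, Iso.inv_hom_id_assoc]

/-- A functor which is representable over a monomorphism `j : U ⟶ S` and empty outside is representable. -/
theorem nonempty_repOfMono [Mono j] {A : Over U} (r : ((Over.map j).op ⋙ F).RepresentableBy A)
    (hF : ∀ T : Over S, Nonempty (F.obj (op T)) → ∃ g : T.left ⟶ U, g ≫ j = T.hom) :
    Nonempty (F.RepresentableBy ((Over.map j).obj A)) := by
  have h (T : Over S) :
      Function.Bijective (fun m : T ⟶ (Over.map j).obj A => F.map m.op (r.homEquiv (𝟙 A))) := by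
    constructor
    · intro m m' h
      have hg : (m.left ≫ A.hom) ≫ j = T.hom := by
        rw [Category.assoc]
        exact Over.w m
      exact (bij j r T _ hg).1 h
    · intro y
      obtain ⟨g, hg⟩ := hF T ⟨y⟩
      exact (bij j r T g hg).2 y
  exact ⟨{ homEquiv := fun {T} => Equiv.ofBijective _ (h T)
           homEquiv_comp := fun {T T'} f g => by
            simp only [Equiv.ofBijective_apply]
            rw [op_comp, Functor.map_comp_apply] }⟩

end Mono

section Red

/-- Extension of scalars of reductive groups. -/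
theorem redExt : RedBc892.RedExt.{u} := fun _ _ _ _ _ _ _ _ _ _ _ _ h => RG.BcPt.isRedPt_ext h

variable {G H : Over S} [GrpObj G] [GrpObj H]

/-- **A family of isomorphisms with source a reductive group lands in the reductive locus of the target.** -/
theorem isReductiveOver_of_isIsoFamily (hG : Red.IsReductive G) {T : Over S} {φ : G ⊗ T ⟶ H}
    (hφ : AutFam.IsIsoFamily G H φ) (t : T.left) :
    Red.IsReductiveOver (AlgebraicClosure (S.residueField (T.hom t))) (Red.geomFibre (T.hom t) H) := by
  obtain ⟨e, -⟩ := IsoFam.exists_iso_of_isIsoFamily hφ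
  have h1 : Red.IsReductive (Red.bc T.hom H) := AlgBc.isReductive_of_iso e (RedBc892.isReductive_bc redExt T.hom hG)
  exact (RedBc892.isReductiveOver_geomFibre_bc_iff redExt T.hom t).1 (h1.2.2 t)

/-- The reductive locus is open as soon as every point of it has an open neighbourhood over which the group is
reductive. -/
theorem isOpen_redLocus
    (h : ∀ s : S, Red.IsReductiveOver (AlgebraicClosure (S.residueField s)) (Red.geomFibre s H) →
      ∃ (A : Type u) (_ : CommRing A) (u : Spec (CommRingCat.of A) ⟶ S), IsOpenImmersion u ∧ s ∈ Set.range u.base ∧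
        Red.IsReductive (Red.bc u H)) :
    IsOpen {s : S | Red.IsReductiveOver (AlgebraicClosure (S.residueField s)) (Red.geomFibre s H)} := by
  rw [isOpen_iff_forall_mem_open]
  intro s hs
  obtain ⟨A, _, u, hu, hsu, hr⟩ := h s hs
  refine ⟨Set.range u.base, ?_, u.isOpenEmbedding.isOpen_range, hsu⟩
  rintro _ ⟨x, rfl⟩
  exact (RedBc892.isReductiveOver_geomFibre_bc_iff redExt u x).1 (hr.2.2 x)

/-- From the reductive locus to the whole base. -/
theorem exists_representsIsom_of_open (hG : Red.IsReductive G) (U : S.Opens)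
    (hU : ∀ s : S, Red.IsReductiveOver (AlgebraicClosure (S.residueField s)) (Red.geomFibre s H) → s ∈ U)
    {A₀ : Over (U : Scheme.{u})} {υ₀ : Red.bc U.ι G ⊗ A₀ ⟶ Red.bc U.ι H}
    (h₀ : AutFam.RepresentsIsom (Red.bc U.ι G) (Red.bc U.ι H) A₀ υ₀) :
    ∃ υ : G ⊗ (Over.map U.ι).obj A₀ ⟶ H, AutFam.RepresentsIsom G H ((Over.map U.ι).obj A₀) υ := by
  have r : ((Over.map U.ι).op ⋙ isomF G H).RepresentableBy A₀ := (repIsom h₀).ofIso (isomFIso U.ι G H)
  obtain ⟨r'⟩ := nonempty_repOfMono U.ι r (by
    rintro T ⟨⟨φ, hφ⟩⟩
    refine ⟨IsOpenImmersion.lift U.ι T.hom ?_, IsOpenImmersion.lift_fac _ _ _⟩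
    rw [Scheme.Opens.range_ι]
    rintro _ ⟨t, rfl⟩
    exact hU _ (isReductiveOver_of_isIsoFamily hG hφ t))
  exact exists_representsIsom r'

end Red

end Groth.Agent.Sga3B.IsomOpen899
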