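import Groth.Agent.Sga3B.RepDescent9
import Groth.Agent.Sga3B.IsomOpen899
import Groth.Prelude.Def_Red2

/-!
# Assembly of the representability of `Isom_{S-gr}(G, H)` from the pinned case
-/

set_option autoImplicit false
open CategoryTheory MonoidalCategory CartesianMonoidalCategory MonObj GrpObj AlgebraicGeometry Opposite
universe u

namespace Groth.Agent.Sga3B.IsomAsm899

open RepDescent

/-- The pinned case over an affine base. -/
def LocalIsom : Prop :=
  ∀ (R : Type u) [CommRing R] [Nontrivial R] (G G' : Over (Spec (CommRingCat.of R))) [GrpObj G] [GrpObj G']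
    (_ : Red.Pinning G) (_ : Red.Pinning G'),
    ∃ (A : Over (Spec (CommRingCat.of R))) (υ : G ⊗ A ⟶ G'), AutFam.RepresentsIsom G G' A υ ∧ Smooth A.hom ∧
      IsSeparated A.hom ∧
      (∀ U : A.left.Opens, IsCompact (U : Set A.left) → ∃ V : A.left.Opens, U ≤ V ∧ IsAffineOpen V) ∧
      (Red.IsSemisimple G ∨ Red.IsSemisimple G' → IsAffineHom A.hom)

variable {S : Scheme.{u}}

/-- From étale-local pinnings to representability. -/
theorem exists_of_pinnings (hloc : LocalIsom.{u}) (G H : Over S) [GrpObj G] [GrpObj H]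
    (hpin : ∀ s : S, ∃ (R : CommRingCat.{u}) (v : Spec R ⟶ S), Etale v ∧ s ∈ Set.range v ∧
      Nonempty (Red.Pinning (Red.bc v G)) ∧ Nonempty (Red.Pinning (Red.bc v H))) :
    ∃ (A : Over S) (υ : G ⊗ A ⟶ H), AutFam.RepresentsIsom G H A υ ∧ Smooth A.hom ∧ IsSeparated A.hom ∧
      (Red.IsSemisimple G ∨ Red.IsSemisimple H → IsAffineHom A.hom) := by
  have key : ∀ s : S, ∃ (R : CommRingCat.{u}) (v : Spec R ⟶ S), Etale v ∧ s ∈ Set.range v ∧
      ∃ (A : Over (Spec R)) (υ : Red.bc v G ⊗ A ⟶ Red.bc v H),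
        AutFam.RepresentsIsom (Red.bc v G) (Red.bc v H) A υ ∧ Smooth A.hom ∧ IsSeparated A.hom ∧
        (∀ U : A.left.Opens, IsCompact (U : Set A.left) → ∃ V : A.left.Opens, U ≤ V ∧ IsAffineOpen V) ∧
        (Red.IsSemisimple (Red.bc v G) ∨ Red.IsSemisimple (Red.bc v H) → IsAffineHom A.hom) := by
    intro s
    obtain ⟨R, v, hv, hs, ⟨D⟩, ⟨D'⟩⟩ := hpin s
    have : Nontrivial R := by
      obtain ⟨x, -⟩ := hs
      exact PrimeSpectrum.nonempty_iff_nontrivial.mp ⟨x⟩
    exact ⟨R, v, hv, hs, hloc R (Red.bc v G) (Red.bc v H) D D'⟩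
  obtain ⟨A, υ, h1, h2, h3, h4⟩ := exists_representsIsom_smooth_of_etale G H (by
    intro s
    obtain ⟨R, v, hv, hs, A, υ, h1, h2, h3, h4, -⟩ := key s
    exact ⟨_, v, hv, hs, A, υ, h1, h2, h3, h4⟩)
  refine ⟨A, υ, h1, h2, h3, fun hss => h4 fun s => ?_⟩
  obtain ⟨R, v, hv, hs, A, υ, h1, h2, h3, h4, h5⟩ := key s
  refine ⟨_, v, hv, hs, A, υ, h1, h5 ?_⟩
  exact hss.imp (AlgBc.isSemisimple_bc v) (AlgBc.isSemisimple_bc v)

/-- Étale-local pinnings of two reductive groups. -/
def PinPair : Prop :=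
  ∀ (S : Scheme.{u}) (G H : Over S) [GrpObj G] [GrpObj H], Red.IsReductive G → Red.IsReductive H → ∀ s : S,
    ∃ (R : CommRingCat.{u}) (v : Spec R ⟶ S), Etale v ∧ s ∈ Set.range v ∧
      Nonempty (Red.Pinning (Red.bc v G)) ∧ Nonempty (Red.Pinning (Red.bc v H))

/-- The statement of S2991 from the pinned case, the existence of étale-local pinnings and the openness of the
reductive locus. -/
theorem main (hloc : LocalIsom.{u}) (hpin : PinPair.{u}) (G H : Over S) [GrpObj G] [GrpObj H]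
    (hG : Red.IsReductive G) [IsAffineHom H.hom] [Smooth H.hom]
    (hnear : ∀ s : S, Red.IsReductiveOver (AlgebraicClosure (S.residueField s)) (Red.geomFibre s H) →
      ∃ (A : Type u) (_ : CommRing A) (u : Spec (CommRingCat.of A) ⟶ S), IsOpenImmersion u ∧ s ∈ Set.range u.base ∧
        Red.IsReductive (Red.bc u H)) :
    ∃ (A : Over S) (υ : G ⊗ A ⟶ H), AutFam.RepresentsIsom G H A υ ∧ Smooth A.hom ∧ IsSeparated A.hom ∧
      (Red.IsSemisimple H ∨ (Red.IsReductive H ∧ Red.IsSemisimple G) → IsAffineHom A.hom) := by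
  let U : S.Opens := ⟨_, IsomOpen899.isOpen_redLocus hnear⟩
  have hU : ∀ s : S, s ∈ U ↔
      Red.IsReductiveOver (AlgebraicClosure (S.residueField s)) (Red.geomFibre s H) := fun s => Iff.rfl
  have hGU : Red.IsReductive (Red.bc U.ι G) := RedBc892.isReductive_bc IsomOpen899.redExt U.ι hG
  have hHU : Red.IsReductive (Red.bc U.ι H) := by
    refine ⟨MorphismProperty.pullback_snd (P := @IsAffineHom) _ _ inferInstance,
      MorphismProperty.pullback_snd (P := @Smooth) _ _ inferInstance, fun x => ?_⟩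
    rw [RedBc892.isReductiveOver_geomFibre_bc_iff IsomOpen899.redExt U.ι x]
    exact (hU _).1 x.2
  obtain ⟨A₀, υ₀, h₀, h1, h2, h3⟩ := exists_of_pinnings hloc (Red.bc U.ι G) (Red.bc U.ι H)
    (hpin _ _ _ hGU hHU)
  obtain ⟨υ, hυ⟩ := IsomOpen899.exists_representsIsom_of_open hG U (fun s hs => (hU s).2 hs) h₀
  refine ⟨(Over.map U.ι).obj A₀, υ, hυ, ?_, ?_, fun hss => ?_⟩
  · exact inferInstanceAs (Smooth (A₀.hom ≫ U.ι))
  · exact inferInstanceAs (IsSeparated (A₀.hom ≫ U.ι))
  · have htop : U = ⊤ := by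
      ext s
      simp only [TopologicalSpace.Opens.coe_top, Set.mem_univ, iff_true]
      refine (hU s).2 ?_
      obtain hss | hss := hss
      · exact (hss.2.2 s).1
      · exact hss.1.2.2 s
    have h4 : IsAffineHom A₀.hom := by
      refine h3 ?_
      obtain hss | hss := hss
      · exact Or.inr (AlgBc.isSemisimple_bc U.ι hss)
      · exact Or.inl (AlgBc.isSemisimple_bc U.ι hss.2)
    have h5 : IsIso U.ι := by
      rw [htop]
      exact S.topIso.isIso_hom
    exact inferInstanceAs (IsAffineHom (A₀.hom ≫ U.ι))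

end Groth.Agent.Sga3B.IsomAsm899
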