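import Groth.Agent.Sga3B.InfConjFam

/-!
# Homomorphisms between diagonalisable groups over a local ring

* `exists_eq_single` : a group-like unit of `R[Γ]`, `R` local, is an element of `Γ`.
* `exists_eq_DSmap` : every homomorphism `D(M) → D(N)` over a local ring is `D(φ)` for some `φ : N → M`.
* `exists_DSmap_family` : the same for families of homomorphisms over a local base.
-/

set_option autoImplicit false
universe u
open CategoryTheory MonoidalCategory CartesianMonoidalCategory MonObj GrpObj AlgebraicGeometry Limits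

namespace Groth.Agent.Sga3B.DSRigid

open InfConj InfConjFam DSPts

section alg

variable {R : Type u} [CommRing R] {Γ : Type} [CommGroup Γ]

lemma dg_apply_coeff (x : MonoidAlgebra R Γ) (γ : Γ) :
    (dg R Γ x).coeff γ = MonoidAlgebra.single γ (x.coeff γ) := by
  classical
  induction x using MonoidAlgebra.induction_linear with
  | zero => simp
  | add f g hf hg => simp [hf, hg, MonoidAlgebra.single_add]
  | single δ r =>
    have h1 : (MonoidAlgebra.single δ r : MonoidAlgebra R Γ) = r • MonoidAlgebra.single δ 1 := by simp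
    rw [h1, map_smul, dg_single]
    by_cases h : δ = γ
    · subst h; simp
    · simp [h]

lemma inc_mul_apply_coeff (x y : MonoidAlgebra R Γ) (γ : Γ) :
    (inc₁ R Γ y * inc₂ R Γ x).coeff γ = x.coeff γ • y := by
  classical
  have h0 : inc₁ R Γ y = MonoidAlgebra.single 1 y := by
    rw [inc₁]; rfl
  rw [h0]
  induction x using MonoidAlgebra.induction_linear with
  | zero => simp
  | add f g hf hg =>
    rw [map_add, mul_add, MonoidAlgebra.coeff_add, Finsupp.add_apply, hf, hg, MonoidAlgebra.coeff_add,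
      Finsupp.add_apply, add_smul]
  | single δ r =>
    have h1 : (MonoidAlgebra.single δ r : MonoidAlgebra R Γ) = r • MonoidAlgebra.single δ 1 := by simp
    rw [h1, map_smul, inc₂_single, mul_smul_comm, MonoidAlgebra.single_mul_single, _root_.one_mul,
      _root_.mul_one]
    by_cases h : δ = γ
    · subst h; simp
    · simp [h]

/-- A group-like unit of `R[Γ]`, with `R` local, is an element of `Γ`. -/
lemma exists_eq_single [IsLocalRing R] (x : MonoidAlgebra R Γ) (hu : IsUnit x)
    (h : dg R Γ x = inc₁ R Γ x * inc₂ R Γ x) : ∃ γ, x = MonoidAlgebra.single γ 1 := by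
  classical
  have key : ∀ γ, MonoidAlgebra.single γ (x.coeff γ) = x.coeff γ • x := by
    intro γ
    rw [← dg_apply_coeff, h, inc_mul_apply_coeff]
  have hid : ∀ γ, x.coeff γ * x.coeff γ = x.coeff γ := by
    intro γ
    have := congrArg (fun y => y.coeff γ) (key γ)
    simpa using this.symm
  have : Nontrivial (MonoidAlgebra R Γ) := inferInstance
  obtain ⟨γ, hγ⟩ : ∃ γ, x.coeff γ ≠ 0 := by
    by_contra hne
    push Not at hne
    apply hu.ne_zero
    ext γ
    simpa using hne γ
  refine ⟨γ, ?_⟩
  have h1 : x.coeff γ = 1 := by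
    rcases IsLocalRing.isUnit_or_isUnit_one_sub_self (x.coeff γ) with hx | hx
    · exact hx.mul_left_cancel ((hid γ).trans (_root_.mul_one _).symm)
    · exfalso
      apply hγ
      refine hx.mul_left_cancel ?_
      rw [sub_mul, hid γ, _root_.one_mul, sub_self, mul_zero]
  have := key γ
  rw [h1, one_smul] at this
  exact this.symm

end alg

section scheme

variable {R : Type u} [CommRing R]

lemma gPt_injective (E : Type u) [CommRing E] [Algebra R E] : Function.Injective (gPt R E) :=
  (ConcreteCategory.bijective_of_isIso (Scheme.ΓSpecIso (.of E)).inv).1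

lemma gPt_surjective (E : Type u) [CommRing E] [Algebra R E] : Function.Surjective (gPt R E) :=
  (ConcreteCategory.bijective_of_isIso (Scheme.ΓSpecIso (.of E)).inv).2

lemma charPt_injective {M : Type} [AddCommGroup M] {E : Type u} [CommRing E] [Algebra R E]
    {χ χ' : Multiplicative M →* E} (h : charPt (C := R) χ = charPt χ') : χ = χ' := by
  have h1 := (dsEquiv _ M).injective h
  ext m
  exact gPt_injective (R := R) E congr($h1 m)

lemma exists_eq_charPt {M : Type} [AddCommGroup M] {E : Type u} [CommRing E] [Algebra R E]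
    (q : pt R E ⟶ Red.DS (Spec (.of R)) M) : ∃ χ : Multiplicative M →* E, q = charPt χ := by
  let e : E ≃+* Γ((pt R E).left, ⊤) := RingEquiv.ofBijective (gPt R E) ⟨gPt_injective E, gPt_surjective E⟩
  let χ : Multiplicative M →* E := (e.symm.toRingHom.toMonoidHom).comp (dsChar q)
  refine ⟨χ, ?_⟩
  apply (dsEquiv _ M).symm.injective
  change dsChar q = dsChar (dsEquiv _ M _)
  rw [dsChar_dsEquiv]
  ext m
  exact (e.apply_symm_apply _).symm

/-- Every homomorphism `D(M) → D(N)` over a local ring is `D(φ)` for some `φ : N → M`. -/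
theorem exists_eq_DSmap [IsLocalRing R] {M N : Type} [AddCommGroup M] [AddCommGroup N]
    (f : Red.DS (Spec (.of R)) M ⟶ Red.DS (Spec (.of R)) N) [IsMonHom f] :
    ∃ φ : N →+ M, f = Red.DSmap (Spec (.of R)) φ := by
  -- the character attached to the image of the universal point
  obtain ⟨ψ, hψ⟩ := exists_eq_charPt (univPt R M ≫ f)
  have hψ2 : ∀ n, dg R (Multiplicative M) (ψ n) = inc₁ R (Multiplicative M) (ψ n) * inc₂ R (Multiplicative M) (ψ n) := by
    have h1 : ptMap (dg R (Multiplicative M)) ≫ univPt R M ≫ f =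
        (ptMap (inc₁ R (Multiplicative M)) ≫ univPt R M ≫ f) * (ptMap (inc₂ R (Multiplicative M)) ≫ univPt R M ≫ f) := by
      rw [← Category.assoc, ptMap_dg_univPt]
      refine (MonObj.mul_comp _ _ f).trans ?_
      rw [Category.assoc, Category.assoc]
    rw [hψ, ptMap_charPt, ptMap_charPt, ptMap_charPt, ← charPt_mul] at h1
    have h2 := charPt_injective h1
    intro n
    exact congr($h2 n)
  have hψ3 : ∀ n, ∃ m, ψ n = MonoidAlgebra.single m 1 := fun n =>
    exists_eq_single (ψ n) ((Group.isUnit n).map ψ) (hψ2 n)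
  choose φ₀ hφ₀ using hψ3
  have hinj : Function.Injective (fun m : Multiplicative M => (MonoidAlgebra.single m 1 : MonoidAlgebra R (Multiplicative M))) :=
    MonoidAlgebra.of_injective
  let φ' : Multiplicative N →* Multiplicative M := MonoidHom.mk' φ₀ (fun a b => hinj (by
    change MonoidAlgebra.single (φ₀ (a * b)) 1 = MonoidAlgebra.single (φ₀ a * φ₀ b) 1
    rw [← hφ₀, map_mul, hφ₀, hφ₀, MonoidAlgebra.single_mul_single, _root_.mul_one]))
  refine ⟨AddMonoidHom.toMultiplicative.symm φ', ?_⟩
  have h3 : univPt R M ≫ Red.DSmap (Spec (.of R)) (AddMonoidHom.toMultiplicative.symm φ') = charPt ψ := by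
    rw [univPt, charPt, dsEquiv_DSmap]
    congr 1
    refine MonoidHom.ext fun n => ?_
    change gPt R _ (MonoidAlgebra.single (φ₀ n) 1) = gPt R _ (ψ n)
    rw [hφ₀]
  obtain ⟨h, hh⟩ := exists_eq_comp_charPt (𝟙 (Red.DS (Spec (.of R)) M))
  rw [← Category.id_comp f, hh, Category.assoc, hψ, ← h3, ← Category.assoc, ← hh, Category.id_comp]

section untr

variable {S S' : Scheme.{u}} (x : S' ⟶ S) {N : Type} [AddCommGroup N]

/-- Inverse of `InfConjFam.tr`. -/
noncomputable def untr {T : Over S'} (q : (Over.map x).obj T ⟶ Red.DS S N) : T ⟶ Red.DS S' N :=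
  dsEquiv T N (dsChar (S := S) (T := (Over.map x).obj T) q : Multiplicative N →* Γ(T.left, ⊤))

lemma dsChar_untr {T : Over S'} (q : (Over.map x).obj T ⟶ Red.DS S N) :
    dsChar (untr x q) = (dsChar (S := S) (T := (Over.map x).obj T) q : Multiplicative N →* Γ(T.left, ⊤)) :=
  dsChar_dsEquiv _

lemma dsChar_tr {T : Over S'} (q : T ⟶ Red.DS S' N) :
    (dsChar (S := S) (T := (Over.map x).obj T) (tr x q) : Multiplicative N →* Γ(T.left, ⊤)) = dsChar q :=
  dsChar_dsEquiv _

lemma untr_comp {T T' : Over S'} (h : T' ⟶ T) (q : (Over.map x).obj T ⟶ Red.DS S N) :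
    untr x ((Over.map x).map h ≫ q) = h ≫ untr x q := by
  unfold untr
  rw [dsEquiv_naturality, dsChar_comp]
  rfl

lemma untr_mul {T : Over S'} (q q' : (Over.map x).obj T ⟶ Red.DS S N) :
    untr x (q * q') = untr x q * untr x q' := by
  unfold untr
  rw [dsChar_mul]
  exact map_mul (dsEquiv _ N) _ _

lemma tr_untr {T : Over S'} (q : (Over.map x).obj T ⟶ Red.DS S N) : tr x (untr x q) = q := by
  apply (dsEquiv _ N).symm.injective
  change dsChar _ = dsChar _
  exact (dsChar_tr x (untr x q)).trans (dsChar_untr x q)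

lemma tr_DSmap {M : Type} [AddCommGroup M] (φ : N →+ M) {T : Over S'} (q : T ⟶ Red.DS S' M) :
    tr x (q ≫ Red.DSmap S' φ) = tr x q ≫ Red.DSmap S φ := by
  apply (dsEquiv _ N).symm.injective
  change dsChar _ = dsChar _
  rw [dsChar_DSmap]
  refine (dsChar_tr x _).trans ?_
  rw [dsChar_DSmap]
  exact congrArg (fun c : Multiplicative M →* Γ(T.left, ⊤) => c.comp (AddMonoidHom.toMultiplicative φ))
    (dsChar_tr x q).symm

end untr

/-- Families of homomorphisms `D(M) → D(N)` over a local base are constant. -/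
theorem exists_DSmap_family [IsLocalRing R] {S : Scheme.{u}} (x : Spec (CommRingCat.of R) ⟶ S)
    {M N : Type} [AddCommGroup M] [AddCommGroup N] (a : Red.DS S M ⊗ Over.mk x ⟶ Red.DS S N)
    (ha : AutFam.IsHomFamily (Red.DS S M) (Red.DS S N) a) :
    ∃ φ : N →+ M, ∀ (T : Over S) (q : T ⟶ Red.DS S M) (t : T ⟶ Over.mk x),
      lift q t ≫ a = q ≫ Red.DSmap S φ := by
  let f : Red.DS (Spec (CommRingCat.of R)) M ⟶ Red.DS (Spec (CommRingCat.of R)) N :=
    untr x (lift (tr x (𝟙 _)) (st x _) ≫ a)
  have hf : ∀ {T : Over (Spec (CommRingCat.of R))} (q : T ⟶ Red.DS (Spec (CommRingCat.of R)) M),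
      q ≫ f = untr x (lift (tr x q) (st x T) ≫ a) := by
    intro T q
    rw [← untr_comp, comp_lift_assoc, ← tr_comp, ← st_comp, Category.comp_id]
  have hmon : IsMonHom f := isMonHom_of_mul _ fun T q q' => by
    rw [hf, hf, hf, tr_mul, ha, untr_mul]
  obtain ⟨φ, hφ⟩ := exists_eq_DSmap f
  refine ⟨φ, ?_⟩
  intro T q t
  let T' : Over (Spec (CommRingCat.of R)) := Over.mk t.left
  let e : T ⟶ (Over.map x).obj T' := Over.homMk (𝟙 _) (by
    simp only [T', Over.map_obj_hom, Over.mk_hom]
    erw [Category.id_comp]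
    exact Over.w t)
  let q' : T' ⟶ Red.DS (Spec (CommRingCat.of R)) M := dsEquiv T' M (dsChar q : Multiplicative M →* Γ(T.left, ⊤))
  have h1 : e ≫ tr x q' = q := by
    unfold tr
    rw [dsEquiv_naturality, dsChar_dsEquiv]
    refine Eq.trans ?_ (dsEquiv_dsChar q)
    congr 1
  have h2 : e ≫ st x T' = t := by
    ext1
    simp [e, st, T']
  have h3 : tr x (q' ≫ f) = lift (tr x q') (st x T') ≫ a := by rw [hf, tr_untr]
  rw [← h1, ← h2, ← comp_lift_assoc, ← h3, hφ, tr_DSmap, Category.assoc]

end scheme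

end Groth.Agent.Sga3B.DSRigid
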