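import Groth.Agent.Sga3B.AlgBc2
import Groth.Agent.Sga3B.DSPts

/-!
# Base change of the constant groups `DS S M`, `Ga S`, on points
-/

set_option autoImplicit false
open CategoryTheory MonoidalCategory CartesianMonoidalCategory MonObj GrpObj AlgebraicGeometry
universe u

namespace Groth.Agent.Sga3B.DsBc

open Groth.Agent.Sga3B Groth.Agent.Sga3B.RedIso Groth.Agent.Sga3B.BcNat Groth.Agent.Sga3B.DSPts

open Limits

variable {S S' S'' : Scheme.{u}}

lemma pullbackComp_fst (q : S'' ⟶ S') (g : S' ⟶ S) (X : Over S) :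
    ((Over.pullbackComp q g).hom.app X).left ≫ pullback.fst ((Over.pullback g).obj X).hom q ≫ pullback.fst X.hom g =
      pullback.fst X.hom (q ≫ g) := by
  have h := conjugateEquiv_counit (Over.mapPullbackAdj (q ≫ g))
    ((Over.mapPullbackAdj q).comp (Over.mapPullbackAdj g)) (Over.mapComp q g).symm.hom X
  have h2 := congrArg CommaMorphism.left h
  simp only [Over.comp_left, Adjunction.comp_counit_app, Over.mapPullbackAdj_counit_app] at h2
  exact h2.trans (Category.id_comp _)

lemma bcComp_fst (q : S'' ⟶ S') (g : S' ⟶ S) (X : Over S) [GrpObj X] :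
    (und (BcIso.bcCompIso q g X)).hom.left ≫ pullback.fst (Red.bc g X).hom q ≫ pullback.fst X.hom g =
      pullback.fst X.hom (q ≫ g) := by
  rw [und_bcCompIso]
  exact pullbackComp_fst q g X

lemma bcCongr_fst {f g : S' ⟶ S} (h : f = g) (X : Over S) [GrpObj X] :
    (und (BcIso.bcCongrIso h X)).hom.left ≫ pullback.fst X.hom g = pullback.fst X.hom f := by
  subst h
  have : (und (BcIso.bcCongrIso (rfl : f = f) X)).hom = 𝟙 _ := by
    simp only [BcIso.bcCongrIso, und, eqToIso_refl, Functor.mapIso_refl, Iso.refl_hom]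
    rfl
  rw [this]
  exact Category.id_comp _

/-- base change of a constant group (a group over `ℤ` pulled back to `S`) -/
noncomputable def constIso (f : S' ⟶ S) (X : Over (Spec (CommRingCat.of (ULift.{u} ℤ)))) [GrpObj X] :
    Grp.mk (Red.bc f (Red.bc (specULiftZIsTerminal.from S) X)) ≅ Grp.mk (Red.bc (specULiftZIsTerminal.from S') X) :=
  (BcIso.bcCompIso f (specULiftZIsTerminal.from S) X).symm ≪≫
    BcIso.bcCongrIso (specULiftZIsTerminal.hom_ext _ _) _

lemma constIso_fst (f : S' ⟶ S) (X : Over (Spec (CommRingCat.of (ULift.{u} ℤ)))) [GrpObj X] :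
    (und (constIso f X)).hom.left ≫ pullback.fst X.hom (specULiftZIsTerminal.from S') =
      pullback.fst (Red.bc (specULiftZIsTerminal.from S) X).hom f ≫ pullback.fst X.hom (specULiftZIsTerminal.from S) := by
  simp only [constIso, und_trans, und_symm, Over.comp_left, Category.assoc]
  rw [bcCongr_fst, ← bcComp_fst f (specULiftZIsTerminal.from S) X, ← Category.assoc, ← Over.comp_left,
    Iso.inv_hom_id]
  exact Category.id_comp _

/-- the `ℤ`-component of a point of a constant group -/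
noncomputable def cFst {X : Over (Spec (CommRingCat.of (ULift.{u} ℤ)))} {T : Over S}
    (x : T ⟶ Red.bc (specULiftZIsTerminal.from S) X) : T.left ⟶ X.left := x.left ≫ pullback.fst _ _

lemma cFst_ext {X : Over (Spec (CommRingCat.of (ULift.{u} ℤ)))} {T : Over S}
    {x y : T ⟶ Red.bc (specULiftZIsTerminal.from S) X} (h : cFst x = cFst y) : x = y := by
  ext1
  apply pullback.hom_ext h
  exact (Over.w x).trans (Over.w y).symm

/-- Points of the base change of a constant group: the `ℤ`-component does not change. -/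
lemma cFst_constIso (f : S' ⟶ S) (X : Over (Spec (CommRingCat.of (ULift.{u} ℤ)))) [GrpObj X] {T : Over S'}
    (y : T ⟶ Red.bc f (Red.bc (specULiftZIsTerminal.from S) X)) :
    cFst (y ≫ (und (constIso f X)).hom) = cFst ((DSPts.bcEquiv f T _).symm y) := by
  rw [cFst, cFst, Over.comp_left, Category.assoc, constIso_fst, bcEquiv_symm_left, Category.assoc]

lemma cFst_symm (f : S' ⟶ S) (X : Over (Spec (CommRingCat.of (ULift.{u} ℤ)))) [GrpObj X] {T : Over S'}
    (x : T ⟶ Red.bc (specULiftZIsTerminal.from S') X) :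
    cFst ((DSPts.bcEquiv f T _).symm (x ≫ (und (constIso f X)).inv)) = cFst x := by
  rw [← cFst_constIso, Category.assoc, Iso.inv_hom_id, Category.comp_id]

lemma gaFn_eq {T : Over S} (x : T ⟶ Red.Ga S) : Red.gaFn x = (cFst x).appTop Red.gaCoord := rfl
lemma gmFn_eq {T : Over S} (x : T ⟶ Red.Gm S) : Red.gmFn x = (cFst x).appTop Red.gmCoord := rfl

/-- `gaFn` under base change -/
lemma gaFn_bc (f : S' ⟶ S) {T : Over S'} (x : T ⟶ Red.Ga S') :
    Red.gaFn ((DSPts.bcEquiv f T _).symm (x ≫ (und (constIso f Red.GaZ.{u})).inv)) = Red.gaFn x := by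
  rw [gaFn_eq, gaFn_eq, cFst_symm]

lemma dsFst_eq {T : Over S} {M : Type} [AddCommGroup M] (x : T ⟶ Red.DS S M) : dsFst x = cFst x := rfl

lemma symm_comp (f : S' ⟶ S) {T : Over S'} {G H : Over S} [GrpObj G] [GrpObj H] (y : T ⟶ Red.bc f G) (h : G ⟶ H) :
    (DSPts.bcEquiv f T H).symm (y ≫ (Over.pullback f).map h) = (DSPts.bcEquiv f T G).symm y ≫ h := by
  apply (DSPts.bcEquiv f T H).injective
  rw [← DSPts.bcEquiv_comp]
  simp

lemma comp_constIso_DSmap (f : S' ⟶ S) {M N : Type} [AddCommGroup M] [AddCommGroup N] (φ : M →+ N) {T : Over S'}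
    (y : T ⟶ Red.bc f (Red.DS S N)) :
    (y ≫ (Over.pullback f).map (Red.DSmap S φ)) ≫ (und (constIso f (Red.diag (ULift.{u} ℤ) M))).hom =
      (y ≫ (und (constIso f (Red.diag (ULift.{u} ℤ) N))).hom) ≫ Red.DSmap S' φ := by
  apply cFst_ext
  rw [cFst_constIso, symm_comp, ← dsFst_eq, ← dsFst_eq, dsFst_DSmap, dsFst_DSmap, dsFst_eq, dsFst_eq, cFst_constIso]

/-- `DSmap` commutes with base change -/
lemma constIso_DSmap (f : S' ⟶ S) {M N : Type} [AddCommGroup M] [AddCommGroup N] (φ : M →+ N) :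
    (Over.pullback f).map (Red.DSmap S φ) ≫ (und (constIso f (Red.diag (ULift.{u} ℤ) M))).hom =
      (und (constIso f (Red.diag (ULift.{u} ℤ) N))).hom ≫ Red.DSmap S' φ := by
  have := comp_constIso_DSmap f φ (𝟙 _)
  rwa [Category.id_comp, Category.id_comp] at this

/-- `gmFn` under base change -/
lemma gmFn_bc (f : S' ⟶ S) {T : Over S'} {M : Type} [AddCommGroup M] (m : M) (y : T ⟶ Red.bc f (Red.DS S M)) :
    Red.gmFn ((y ≫ (und (constIso f (Red.diag (ULift.{u} ℤ) M))).hom) ≫ Red.chi S' m) =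
      Red.gmFn ((DSPts.bcEquiv f T _).symm y ≫ Red.chi S m) := by
  rw [Red.chi, ← comp_constIso_DSmap, gmFn_eq, cFst_constIso, symm_comp, gmFn_eq]
  rfl

end Groth.Agent.Sga3B.DsBc
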