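import Groth.Agent.Sga3B.TorusRk
import Mathlib.RingTheory.HopfAlgebra.MonoidAlgebra

/-!
# Homomorphisms between split tori over a field
-/

set_option autoImplicit false

open TensorProduct Coalgebra Bialgebra WithConv
open Groth.Agent.Sga3B.HaarDef Groth.Agent.Sga3B.TorusWt Groth.Agent.Sga3B.TorusLie Groth.Agent.Sga3B.TorusRk

namespace Groth.Agent.Sga3B.TorusHomField

noncomputable section

universe u

variable {R : Type u} [CommRing R] {N N' : Type} [CommGroup N] [CommGroup N']
variable {L : Type u} [Field L] [Algebra R L]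

omit [CommGroup N'] in
lemma conv_single {X : Type*} [CommRing X] [Algebra R X] (φ ψ : WithConv (MonoidAlgebra R N' →ₗ[R] X)) (m : N') :
    (φ * ψ) (MonoidAlgebra.single m (1 : R)) = φ (MonoidAlgebra.single m (1 : R)) * ψ (MonoidAlgebra.single m (1 : R)) := by
  show LinearMap.mul' R X (TensorProduct.map φ.ofConv ψ.ofConv (comul (MonoidAlgebra.single m (1 : R)))) = _
  rw [MonoidAlgebra.comul_single]
  simp

lemma exists_weight {F : WithConv (MonoidAlgebra R N' →ₐ[R] MonoidAlgebra R N ⊗[R] L)}
    (hF : IsHom (R := R) (C := MonoidAlgebra R N') F) (m : N') :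
    ∃ n : N, F (MonoidAlgebra.single m 1) = MonoidAlgebra.single n 1 ⊗ₜ 1 := by
  classical
  obtain ⟨s, hs, -⟩ := exists_finset_repr F (MonoidAlgebra.single m (1 : R))
  have h1 : ∑ n ∈ s, cf F n (MonoidAlgebra.single m (1 : R)) = 1 := by
    rw [sum_cf hF _ hs, MonoidAlgebra.counit_single]
    simp
  obtain ⟨n, hn, hn'⟩ := Finset.exists_ne_zero_of_sum_ne_zero (by rw [h1]; exact one_ne_zero)
  have hmul : ∀ a b, cf F a (MonoidAlgebra.single m (1 : R)) * cf F b (MonoidAlgebra.single m (1 : R)) =
      if a = b then cf F a (MonoidAlgebra.single m (1 : R)) else 0 := by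
    intro a b
    rw [← conv_single, cf_mul_cf hF]
    split_ifs <;> rfl
  have h2 : cf F n (MonoidAlgebra.single m (1 : R)) = 1 := by
    have := hmul n n
    rw [if_pos rfl] at this
    exact mul_left_cancel₀ hn' (this.trans (mul_one _).symm)
  refine ⟨n, coef_ext fun k => ?_⟩
  have h3 := hmul n k
  rw [h2, one_mul] at h3
  rw [coef_single]
  show cf F k (MonoidAlgebra.single m (1 : R)) = _
  rw [h3]
  split_ifs <;> simp

lemma single_injective {a b : N} (h : (MonoidAlgebra.single a (1 : R) ⊗ₜ[R] (1 : L)) =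
    MonoidAlgebra.single b (1 : R) ⊗ₜ[R] (1 : L)) : a = b := by
  classical
  have h1 := congrArg (coef R a L) h
  rw [coef_single, coef_single, if_pos rfl] at h1
  by_contra hab
  rw [if_neg (fun h => hab h.symm)] at h1
  simp at h1

theorem exists_hom {F : WithConv (MonoidAlgebra R N' →ₐ[R] MonoidAlgebra R N ⊗[R] L)}
    (hF : IsHom (R := R) (C := MonoidAlgebra R N') F) :
    ∃ h : N' →* N, ∀ m, F (MonoidAlgebra.single m 1) = MonoidAlgebra.single (h m) 1 ⊗ₜ 1 := by
  choose h hh using exists_weight hF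
  refine ⟨MonoidHom.mk' h fun a b => ?_, hh⟩
  apply single_injective (R := R) (L := L)
  rw [← hh]
  have h1 : (MonoidAlgebra.single (a * b) 1 : MonoidAlgebra R N') =
      MonoidAlgebra.single a 1 * MonoidAlgebra.single b 1 := by
    rw [MonoidAlgebra.single_mul_single, one_mul]
  rw [h1]
  have h2 : F (MonoidAlgebra.single a 1 * MonoidAlgebra.single b 1) =
      F (MonoidAlgebra.single a 1) * F (MonoidAlgebra.single b 1) := map_mul F.ofConv _ _
  rw [h2, hh, hh, Algebra.TensorProduct.tmul_mul_tmul, MonoidAlgebra.single_mul_single, one_mul, one_mul]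

theorem exists_surjective_hom {F : WithConv (MonoidAlgebra R N' →ₐ[R] MonoidAlgebra R N ⊗[R] L)}
    (hF : IsHom (R := R) (C := MonoidAlgebra R N') F) (hm : AMono (R := R) (C := MonoidAlgebra R N') F) :
    ∃ h : N' →* N, Function.Surjective h ∧ ∀ m, F (MonoidAlgebra.single m 1) = MonoidAlgebra.single (h m) 1 ⊗ₜ 1 := by
  classical
  obtain ⟨h, hh⟩ := exists_hom hF
  refine ⟨h, ?_, hh⟩
  have h1 := closure_eq_top_of_amono hm
  rw [← MonoidHom.range_eq_top, eq_top_iff, ← h1, Subgroup.closure_le]
  rintro n ⟨x, hx⟩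
  by_contra hn
  apply hx
  induction x using MonoidAlgebra.induction_linear with
  | zero => exact map_zero (cf F n).ofConv
  | add a b ha hb =>
    have ha' : cf F n a = 0 := by by_contra h; exact h (ha h)
    have hb' : cf F n b = 0 := by by_contra h; exact h (hb h)
    have : cf F n (a + b) = cf F n a + cf F n b := map_add (cf F n).ofConv a b
    rw [this, ha', hb', add_zero]
  | single m r =>
    have h2 : (MonoidAlgebra.single m r : MonoidAlgebra R N') = r • MonoidAlgebra.single m 1 := by
      rw [MonoidAlgebra.smul_single, smul_eq_mul, mul_one]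
    have h3 : cf F n (r • MonoidAlgebra.single m 1) = r • cf F n (MonoidAlgebra.single m (1 : R)) :=
      map_smul (cf F n).ofConv r _
    rw [h2, h3, cf_apply, hh, coef_single, if_neg, smul_zero]
    intro h4
    exact hn ⟨m, h4⟩

/-- A monomorphism from a split torus to a split torus of at most the same rank is an isomorphism. -/
theorem exists_mulEquiv {r r' : ℕ} (hle : r' ≤ r)
    {F : WithConv (MonoidAlgebra R (Multiplicative (Fin r' → ℤ)) →ₐ[R]
      MonoidAlgebra R (Multiplicative (Fin r → ℤ)) ⊗[R] L)}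
    (hF : IsHom (R := R) (C := MonoidAlgebra R (Multiplicative (Fin r' → ℤ))) F)
    (hm : AMono (R := R) (C := MonoidAlgebra R (Multiplicative (Fin r' → ℤ))) F) :
    ∃ h : Multiplicative (Fin r' → ℤ) ≃* Multiplicative (Fin r → ℤ),
      ∀ m, F (MonoidAlgebra.single m 1) = MonoidAlgebra.single (h m) 1 ⊗ₜ 1 := by
  obtain ⟨h, hs, hh⟩ := exists_surjective_hom hF hm
  let φ : (Fin r' → ℤ) →ₗ[ℤ] (Fin r → ℤ) := (AddMonoidHom.toMultiplicative.symm h).toIntLinearMap
  have hφ : Function.Surjective φ := hs
  have h1 : r ≤ r' := by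
    have := LinearMap.finrank_le_finrank_of_surjective hφ
    simpa using this
  obtain rfl : r = r' := le_antisymm h1 hle
  have h2 : Function.Injective φ := OrzechProperty.injective_of_surjective_endomorphism φ hφ
  have h3 : Function.Injective h := h2
  exact ⟨MulEquiv.ofBijective h ⟨h3, hs⟩, hh⟩

end

end Groth.Agent.Sga3B.TorusHomField
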