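import Groth.Agent.Sga3B.TorusOmega

/-!
# Smooth neighbourhoods with a self-centralising split torus
-/

set_option autoImplicit false

open TensorProduct Coalgebra Bialgebra WithConv
open Groth.Agent.Sga3B.HaarDef Groth.Agent.Sga3B.TorusWt Groth.Agent.Sga3B.TorusLie Groth.Agent.Sga3B.TorusRk

namespace Groth.Agent.Sga3B.TorusNbhd

noncomputable section

universe u

variable {R : Type u} [CommRing R] {N : Type} [CommGroup N]
variable {C : Type u} [CommRing C] [HopfAlgebra R C]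
variable {X Y : Type u} [CommRing X] [Algebra R X] [CommRing Y] [Algebra R Y]

/-- the weights with an invertible coefficient generate the character group -/
def UnitGen (F : WithConv (C →ₐ[R] MonoidAlgebra R N ⊗[R] X)) : Prop :=
  ∃ W : Set N, Subgroup.closure W = ⊤ ∧ ∀ n ∈ W, ∃ x : C, IsUnit (cf F n x)

lemma UnitGen.amono {F : WithConv (C →ₐ[R] MonoidAlgebra R N ⊗[R] X)} (h : UnitGen F) (hF : IsHom F) : AMono F := by
  obtain ⟨W, h1, h2⟩ := h
  exact amono_of_isUnit hF h1 h2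

lemma UnitGen.map {F : WithConv (C →ₐ[R] MonoidAlgebra R N ⊗[R] X)} (h : UnitGen F) (g : X →ₐ[R] Y) :
    UnitGen (pushG (T (MonoidAlgebra R N) g) F) := by
  obtain ⟨W, h1, h2⟩ := h
  refine ⟨W, h1, fun n hn => ?_⟩
  obtain ⟨x, hx⟩ := h2 n hn
  refine ⟨x, ?_⟩
  rw [cf_pushG_T]
  exact hx.map g

lemma exists_unitGen_away [Group.FG N] {Q : Type u} [CommRing Q] [Algebra R Q]
    (F : WithConv (C →ₐ[R] MonoidAlgebra R N ⊗[R] Q)) {K : Type u} [Field K] [Algebra R K] (g : Q →ₐ[R] K)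
    (hm : AMono (pushG (T (MonoidAlgebra R N) g) F)) :
    ∃ a : Q, g a ≠ 0 ∧ ∀ (Y : Type u) [CommRing Y] [Algebra R Y] (f : Q →ₐ[R] Y), IsUnit (f a) →
      UnitGen (pushG (T (MonoidAlgebra R N) f) F) := by
  classical
  obtain ⟨W, h1, h2, h3⟩ := exists_finite_closure_eq_top (closure_eq_top_of_amono hm)
  have h1' : ∀ n : N, ∃ x : C, n ∈ W → cf (pushG (T (MonoidAlgebra R N) g) F) n x ≠ 0 := by
    intro n
    by_cases hn : n ∈ W
    · obtain ⟨x, hx⟩ := h1 hn
      exact ⟨x, fun _ => hx⟩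
    · exact ⟨0, fun h => absurd h hn⟩
  choose x hx using h1'
  lift W to Finset N using h2
  refine ⟨∏ n ∈ W, cf F n (x n), ?_, fun Y _ _ f hf => ⟨W, h3, fun n hn => ⟨x n, ?_⟩⟩⟩
  · rw [map_prod, Finset.prod_ne_zero_iff]
    intro n hn
    have := hx n hn
    rwa [cf_pushG_T] at this
  · rw [cf_pushG_T, push_apply]
    rw [map_prod] at hf
    exact isUnit_of_dvd_unit (Finset.dvd_prod_of_mem (fun n => f (cf F n (x n))) hn) hf

/-- **Main theorem on self-centralising tori, algebra form.** -/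
theorem exists_smooth_torus [Algebra.Smooth R C] {K : Type u} [Field K] [Algebra R K] {r : ℕ}
    {F₀ : WithConv (C →ₐ[R] MonoidAlgebra R (Multiplicative (Fin r → ℤ)) ⊗[R] K)} (hF₀ : IsHom F₀) (hm : AMono F₀)
    (h1 : Module.Finite K (ZM F₀ (AlgHom.id R K))) (h2 : Module.finrank K (ZM F₀ (AlgHom.id R K)) ≤ r) :
    ∃ (Q : Type u) (_ : CommRing Q) (_ : Algebra R Q)
      (U : WithConv (C →ₐ[R] MonoidAlgebra R (Multiplicative (Fin r → ℤ)) ⊗[R] Q)) (_ : Q →ₐ[R] K),
      Algebra.Smooth R Q ∧ IsHom U ∧ UnitGen U ∧ LieRk U r := by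
  obtain ⟨E, _, _, _, ρ, l, hρ1, hρ2, hgen⟩ := ComodGen.exists_comodule (R := R) (C := C)
  obtain ⟨Q, _, _, U, g, hQ, hU, hg⟩ := TorusSmooth.exists_smooth_nbhd (ρ := ρ) ⟨hρ1, hρ2⟩ l hgen hF₀
  have hQft : Algebra.FiniteType R C := Algebra.FiniteType.of_finitePresentation
  have hZ : ZM U g = ZM F₀ (AlgHom.id R K) := by
    ext D
    rw [mem_ZM, mem_ZM, ← hg, isTan_T_iff]
    rfl
  obtain ⟨a, ha, ha'⟩ := TorusOmega.exists_lieRk_away U g (r := r) (by rw [hZ]; exact h1) (by rw [hZ]; exact h2)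
  obtain ⟨b, hb, hb'⟩ := exists_unitGen_away U g (by rw [hg]; exact hm)
  have hsm : Algebra.Smooth R (Localization.Away (a * b)) := by
    have : Algebra.Smooth Q (Localization.Away (a * b)) := Algebra.Smooth.of_isLocalization_Away (a * b)
    exact Algebra.Smooth.comp R Q _
  let f : Q →ₐ[R] Localization.Away (a * b) := IsScalarTower.toAlgHom R Q (Localization.Away (a * b))
  have hfu : IsUnit (f (a * b)) := IsLocalization.Away.algebraMap_isUnit (a * b)
  have hgu : ∀ y : Submonoid.powers (a * b), IsUnit (g y) := by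
    rintro ⟨_, k, rfl⟩
    show IsUnit (g ((a * b) ^ k))
    rw [map_pow, map_mul]
    exact (isUnit_iff_ne_zero.2 (mul_ne_zero ha hb)).pow k
  refine ⟨Localization.Away (a * b), inferInstance, inferInstance, pushG (T _ f) U,
    IsLocalization.liftAlgHom (M := Submonoid.powers (a * b)) (f := g) hgu, hsm, hU.map f, ?_, ?_⟩
  · exact hb' _ f (isUnit_of_dvd_unit ((map_mul f a b).symm ▸ Dvd.intro_left _ rfl) hfu)
  · intro L _ _ φ
    have h3 : IsUnit (φ (f (a * b))) := hfu.map φ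
    have h4 : (φ.comp f) a ≠ 0 := by
      intro h0
      rw [map_mul, map_mul] at h3
      rw [AlgHom.comp_apply] at h0
      rw [h0, zero_mul] at h3
      exact not_isUnit_zero h3
    obtain ⟨Θ, hΘ⟩ := ha' L (φ.comp f) h4
    exact ⟨Θ, fun D hD => hΘ D ((isTan_T_iff U f φ (toConv D)).1 hD)⟩

end

end Groth.Agent.Sga3B.TorusNbhd
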