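import Groth.Agent.Sga3B.PtProp
import Groth.Agent.Sga3B.TorusHomField
import Groth.Agent.Sga3B.TorusAlgClosed
import Groth.Agent.Sga3B.TorusNbhd

/-!
# A criterion for maximality of split tori
-/

set_option autoImplicit false

open CategoryTheory MonoidalCategory CartesianMonoidalCategory AlgebraicGeometry Limits Opposite
open TensorProduct WithConv
open scoped MonObj
open Groth.Agent.Sga3B.HaarDef Groth.Agent.Sga3B.AffTest Groth.Agent.Sga3B.PtData Groth.Agent.Sga3B.TorusLie
open Groth.Agent.Sga3B.TorusWt Groth.Agent.Sga3B.PtMor Groth.Agent.Sga3B.PtProp Groth.Agent.Sga3B.TorusRk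

namespace Groth.Agent.Sga3B.MaxTorusCrit

noncomputable section

universe u

lemma isTorus_DS (S : Scheme.{u}) (r : ℕ) : Red.IsTorus (Red.DS S (Fin r → ℤ)) := by
  refine ⟨S, 𝟙 S, inferInstance, inferInstance, fun V hV => ⟨V, hV.isCompact, by simp⟩, fun s => ?_⟩
  exact ⟨⊤, trivial, r, ⟨TorusAlgClosed.dsBcIso _ _⟩⟩

instance isAffineHom_DS (S : Scheme.{u}) (r : ℕ) : IsAffineHom (Red.DS S (Fin r → ℤ)).hom :=
  TorusAlgClosed.isAffineHom_of_isTorus (isTorus_DS S r)

lemma isAffine_left_of_isAffineHom {L : CommRingCat.{u}} (X : Over (Spec L)) [IsAffineHom X.hom] :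
    IsAffine X.left := isAffine_of_isAffineHom X.hom

lemma isMonHom_of_comp_mono {𝒞 : Type*} [Category 𝒞] [CartesianMonoidalCategory 𝒞] {X Y Z : 𝒞} [GrpObj X]
    [GrpObj Y] [GrpObj Z] (f : X ⟶ Y) (j : Y ⟶ Z) [IsMonHom j] [Mono j] [IsMonHom (f ≫ j)] : IsMonHom f := by
  apply Pts.isMonHom_of_points
  intro T x y
  rw [← cancel_mono j, Category.assoc, MonObj.mul_comp, MonObj.mul_comp]
  simp only [Category.assoc]

section

variable {R C B L : Type u} [CommRing R] [CommRing C] [HopfAlgebra R C] [CommRing B] [Algebra R B]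
  [Field L] [IsAlgClosed L] [Algebra R L] [Algebra B L] [IsScalarTower R B L]
variable {G : Over (Spec (CommRingCat.of B))} [GrpObj G] [IsAffine G.left] (PG : PtStr R C B G) {r : ℕ}
  {i : Red.DS (Spec (CommRingCat.of B)) (Fin r → ℤ) ⟶ G}
  {F : WithConv (C →ₐ[R] MonoidAlgebra R (Multiplicative (Fin r → ℤ)) ⊗[R] B)}

theorem isIso_of_factor (hcorr : Corr (dsStr R B (Fin r → ℤ)) PG i F) (hF : IsHom F) (hm : AMono F)
    (hmax : ∀ (r' : ℕ) (F' : WithConv (C →ₐ[R] MonoidAlgebra R (Multiplicative (Fin r' → ℤ)) ⊗[R] L))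
      (χ : Multiplicative (Fin r' → ℤ) →* MonoidAlgebra R (Multiplicative (Fin r → ℤ)) ⊗[R] L),
      IsHom F' → AMono F' →
      pushG (HaarDef.T (MonoidAlgebra R (Multiplicative (Fin r → ℤ))) (IsScalarTower.toAlgHom R B L)) F =
        pushG (pt (HaarDef.ι R (MonoidAlgebra R (Multiplicative (Fin r → ℤ))) L) χ) F' → r' ≤ r)
    (T' : Over (Spec (CommRingCat.of L))) [GrpObj T'] (hT' : Red.IsTorus T')
    (j : T' ⟶ Red.bc (q B L) G) [IsMonHom j] [Mono j]
    (f : Red.bc (q B L) (Red.DS (Spec (CommRingCat.of B)) (Fin r → ℤ)) ⟶ T')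
    (hf : f ≫ j = (Over.pullback (q B L)).map i) : IsIso f := by
  have : IsAffine (Red.DS (Spec (CommRingCat.of B)) (Fin r → ℤ)).left := isAffine_left_of_isAffineHom _
  have hi1 : IsMonHom i := isMonHom_of_isHom hcorr hF
  have hi2 : Mono i := mono_of_amono hcorr hm
  obtain ⟨r', ⟨e'⟩⟩ := TorusAlgClosed.exists_isSplitTorusWith hT'
  have hT'a : IsAffineHom T'.hom := TorusAlgClosed.isAffineHom_of_isTorus hT'
  have : IsAffine T'.left := isAffine_left_of_isAffineHom _
  have : IsAffineHom (Red.bc (q B L) (Red.DS (Spec (CommRingCat.of B)) (Fin r → ℤ))).hom := by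
    show IsAffineHom (pullback.snd _ _)
    infer_instance
  have : IsAffine (Red.bc (q B L) (Red.DS (Spec (CommRingCat.of B)) (Fin r → ℤ))).left :=
    isAffine_left_of_isAffineHom _
  let PT' : PtStr R (MonoidAlgebra R (Multiplicative (Fin r' → ℤ))) L T' :=
    (dsStr R L (Fin r' → ℤ)).ofGrpIso e'.symm
  have hcL := corr_bc hcorr L
  obtain ⟨F', hF'⟩ := exists_corr PT' (PG.bc L) j
  have hF'1 : IsHom F' := isHom_of_isMonHom hF'
  have hF'2 : AMono F' := amono_of_mono hF'
  obtain ⟨χ, hχ⟩ := exists_factor f hf hcL hF'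
  have hle : r' ≤ r := hmax r' F' χ hF'1 hF'2 hχ
  have hpm : IsMonHom ((Over.pullback (q B L)).map i) := inferInstance
  have hpm2 : Mono ((Over.pullback (q B L)).map i) := inferInstance
  have hfm : IsMonHom (f ≫ j) := by rw [hf]; exact hpm
  have hfm2 : Mono (f ≫ j) := by rw [hf]; exact hpm2
  have : IsMonHom f := isMonHom_of_comp_mono f j
  have : Mono f := mono_of_mono f j
  obtain ⟨Ff, hFf⟩ := exists_corr ((dsStr R B (Fin r → ℤ)).bc L) PT' f
  obtain ⟨h, hh⟩ := TorusHomField.exists_mulEquiv hle (isHom_of_isMonHom hFf) (amono_of_mono hFf)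
  exact isIso_of_bijective hFf h hh

end

/-- **Criterion for maximality.** -/
theorem isMaximalTorus_of_corr {R C B : Type u} [CommRing R] [CommRing C] [HopfAlgebra R C] [CommRing B] [Algebra R B]
    {G : Over (Spec (CommRingCat.of B))} [GrpObj G] [IsAffine G.left] (PG : PtStr R C B G) {r : ℕ}
    {i : Red.DS (Spec (CommRingCat.of B)) (Fin r → ℤ) ⟶ G}
    {F : WithConv (C →ₐ[R] MonoidAlgebra R (Multiplicative (Fin r → ℤ)) ⊗[R] B)}
    (hcorr : Corr (dsStr R B (Fin r → ℤ)) PG i F) (hF : IsHom F) (hm : AMono F)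
    (hmax : ∀ (s : Spec (CommRingCat.of B))
      [Algebra R (AlgebraicClosure ((Spec (CommRingCat.of B)).residueField s))]
      (f : B →ₐ[R] AlgebraicClosure ((Spec (CommRingCat.of B)).residueField s)),
      Spec.map (CommRingCat.ofHom f.toRingHom) = Red.geomPt s →
      ∀ (r' : ℕ) (F' : WithConv (C →ₐ[R] MonoidAlgebra R (Multiplicative (Fin r' → ℤ)) ⊗[R]
        (AlgebraicClosure ((Spec (CommRingCat.of B)).residueField s))))
      (χ : Multiplicative (Fin r' → ℤ) →* MonoidAlgebra R (Multiplicative (Fin r → ℤ)) ⊗[R]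
        (AlgebraicClosure ((Spec (CommRingCat.of B)).residueField s))),
      IsHom F' → AMono F' →
      pushG (HaarDef.T (MonoidAlgebra R (Multiplicative (Fin r → ℤ))) f) F =
        pushG (pt (HaarDef.ι R (MonoidAlgebra R (Multiplicative (Fin r → ℤ))) _) χ) F' → r' ≤ r) :
    Red.IsMaximalTorus i := by
  have : IsAffine (Red.DS (Spec (CommRingCat.of B)) (Fin r → ℤ)).left := isAffine_left_of_isAffineHom _
  refine ⟨isMonHom_of_isHom hcorr hF, mono_of_amono hcorr hm, isTorus_DS _ r, ?_⟩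
  intro s T' _ j _ _ f hT' hf
  let φ : B →+* AlgebraicClosure ((Spec (CommRingCat.of B)).residueField s) := (Spec.preimage (Red.geomPt s)).hom
  have hφ : Spec.map (CommRingCat.ofHom φ) = Red.geomPt s := Spec.map_preimage _
  let : Algebra B (AlgebraicClosure ((Spec (CommRingCat.of B)).residueField s)) := φ.toAlgebra
  let : Algebra R (AlgebraicClosure ((Spec (CommRingCat.of B)).residueField s)) :=
    (φ.comp (algebraMap R B)).toAlgebra
  have : IsScalarTower R B (AlgebraicClosure ((Spec (CommRingCat.of B)).residueField s)) :=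
    IsScalarTower.of_algebraMap_eq fun _ => rfl
  have key : ∀ (v : Spec (CommRingCat.of (AlgebraicClosure ((Spec (CommRingCat.of B)).residueField s))) ⟶
      Spec (CommRingCat.of B))
      (_ : v = q B (AlgebraicClosure ((Spec (CommRingCat.of B)).residueField s)))
      (T' : Over (Spec (CommRingCat.of (AlgebraicClosure ((Spec (CommRingCat.of B)).residueField s))))) [GrpObj T']
      (j : T' ⟶ Red.bc v G) [IsMonHom j] [Mono j]
      (f : Red.bc v (Red.DS (Spec (CommRingCat.of B)) (Fin r → ℤ)) ⟶ T'),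
      Red.IsTorus T' → f ≫ j = (Over.pullback v).map i → IsIso f := by
    rintro v rfl T' _ j _ _ f hT' hf
    exact isIso_of_factor PG hcorr hF hm
      (hmax s (IsScalarTower.toAlgHom R B (AlgebraicClosure ((Spec (CommRingCat.of B)).residueField s))) hφ)
      T' hT' j f hf
  exact key (Red.geomPt s) hφ.symm T' j f hT' hf

end

end Groth.Agent.Sga3B.MaxTorusCrit
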