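import Groth.Agent.Sga3B.TorTransp
import Groth.Agent.Sga3B.BcPts
import Groth.Agent.Sga3B.TorusAlgClosed

/-!
# Strict transporters over an arbitrary base, locally
-/

set_option autoImplicit false
universe u
open CategoryTheory MonoidalCategory CartesianMonoidalCategory MonObj GrpObj AlgebraicGeometry Limits

namespace Groth.Agent.Sga3B.TorTransp
open Groth.Agent.Sga3B.DSPts Groth.Agent.Sga3B.InfConj

lemma transp_iso_comp {S : Scheme.{u}} {G : Over S} [GrpObj G] {D D' : Over S} (i : D' ≅ D) (a b : D ⟶ G)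
    {X : Over S} (x : X ⟶ G) : Transp (i.hom ≫ a) (i.hom ≫ b) x ↔ Transp a b x := by
  constructor
  · intro h Y y q
    have := h Y y (q ≫ i.inv)
    simpa using this
  · intro h Y y q
    have := h Y y (q ≫ i.hom)
    simpa using this

section bc
variable {S S' : Scheme.{u}} (f : S' ⟶ S) {G : Over S} [GrpObj G] {D : Over S} (a b : D ⟶ G)

lemma transp_bc {X' : Over S'} (x' : X' ⟶ Red.bc f G) :
    Transp ((Over.pullback f).map a) ((Over.pullback f).map b) x' ↔ Transp a b ((bcEquiv f X' G).symm x') := by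
  constructor
  · intro h Y y q
    let Y' : Over S' := Over.mk (y.left ≫ X'.hom)
    let ε : (Over.map f).obj Y' ≅ Y := Over.isoMk (Iso.refl _) (by
      have := Over.w y
      simp only [Over.map_obj_hom] at this
      simp [Y', this])
    let y' : Y' ⟶ X' := Over.homMk y.left
    have h1 : (Over.map f).map y' = ε.hom ≫ y := by
      ext1
      exact (Category.id_comp _).symm
    let q' : Y' ⟶ Red.bc f D := (Over.mapPullbackAdj f).homEquiv Y' D (ε.hom ≫ q)
    have h2 : ∀ c : D ⟶ G, q' ≫ (Over.pullback f).map c = bcEquiv f Y' G (ε.hom ≫ q ≫ c) := by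
      intro c
      rw [← Category.assoc ε.hom q c]
      exact ((Over.mapPullbackAdj f).homEquiv_naturality_right _ _).symm
    have h3 := h Y' y' q'
    rw [h2, h2] at h3
    have h4 : y' ≫ x' = bcEquiv f Y' G (ε.hom ≫ y ≫ (bcEquiv f X' G).symm x') := by
      rw [← Category.assoc, ← h1, ← bcEquiv_naturality]
      simp
    rw [h4, ← map_mul, ← map_inv, ← map_mul] at h3
    have h5 := (bcEquiv f Y' G).injective h3
    rw [← cancel_epi ε.hom]
    simpa only [comp_mul, comp_inv] using h5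
  · intro h Y' y' q'
    obtain ⟨q, rfl⟩ := ((Over.mapPullbackAdj f).homEquiv Y' D).surjective q'
    have h2 : ∀ c : D ⟶ G, (Over.mapPullbackAdj f).homEquiv Y' D q ≫ (Over.pullback f).map c = bcEquiv f Y' G (q ≫ c) := by
      intro c
      exact ((Over.mapPullbackAdj f).homEquiv_naturality_right _ _).symm
    have h3 := h _ ((Over.map f).map y') q
    erw [h2, h2]
    rw [← h3]
    simp only [map_mul, map_inv]
    rw [← bcEquiv_naturality]
    simp

end bc

section exist

variable {M : Type} [AddCommGroup M]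

/-- Over an affine base: the strict transporter is affine, smooth, and contains every field valued point
of `G` conjugating `a` into `b`. -/
theorem exists_smooth_affine {R : Type u} [CommRing R] (G : Over (Spec (CommRingCat.of R))) [GrpObj G]
    [IsAffineHom G.hom] [Smooth G.hom] (a b : Red.DS (Spec (.of R)) M ⟶ G) [IsMonHom a] [IsMonHom b] :
    ∃ (T : Over (Spec (CommRingCat.of R))) (g : T ⟶ G), Smooth T.hom ∧ IsAffine T.left ∧ IsClosedImmersion g.left ∧
      Transp a b g ∧ ∀ (E : CommRingCat.{u}) (x : Spec E ⟶ Spec (CommRingCat.of R)) (g₀ : Over.mk x ⟶ G),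
        Transp a b g₀ → ∃ t : Over.mk x ⟶ T, t ≫ g = g₀ := by
  have hGaff : IsAffine G.left := isAffine_of_isAffineHom (Y := Spec (CommRingCat.of R)) G.hom
  let A := Γ(G.left, ⊤)
  let α : R →+* A := ((Scheme.ΓSpecIso (.of R)).inv ≫ G.hom.appTop).hom
  let _ : Algebra R A := α.toAlgebra
  have hα : G.left.isoSpec.hom ≫ Spec.map (CommRingCat.ofHom (algebraMap R A)) = G.hom := by
    exact toSpecΓ_SpecMap_eq G.hom
  let e' : G ≅ pt R A := Over.isoMk G.left.isoSpec hα
  let e : pt R A ≅ G := e'.symm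
  have hsm : Smooth (Spec.map (CommRingCat.ofHom (algebraMap R A))) := by
    have h1 : Spec.map (CommRingCat.ofHom (algebraMap R A)) = G.left.isoSpec.inv ≫ G.hom := by
      rw [← hα, Iso.inv_hom_id_assoc]
    rw [h1]
    infer_instance
  have hsmA : Algebra.Smooth R A := by
    have h1 := (HasRingHomProperty.Spec_iff (P := @Smooth)).mp hsm
    exact h1
  obtain ⟨J, -, key, hJ⟩ := exists_ideal a b e
  have hsmT : Smooth (Spec.map (CommRingCat.ofHom (algebraMap R (A ⧸ J)))) :=
    (HasRingHomProperty.Spec_iff (P := @Smooth)).mpr hJ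
  have hiso : IsIso e.hom.left := inferInstanceAs (IsIso ((Over.forget _).map e.hom))
  have hcl : IsClosedImmersion (Spec.map (CommRingCat.ofHom (Ideal.Quotient.mk J))) :=
    IsClosedImmersion.spec_of_surjective _ Ideal.Quotient.mk_surjective
  have hcl2 : IsClosedImmersion (ptMap (Ideal.Quotient.mkₐ R J)).left := hcl
  refine ⟨pt R (A ⧸ J), ptMap (Ideal.Quotient.mkₐ R J) ≫ e.hom, hsmT,
    inferInstanceAs (IsAffine (Spec (CommRingCat.of (A ⧸ J)))), ?_, ?_, ?_⟩
  · rw [Over.comp_left]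
    infer_instance
  · refine (key _ _).mpr fun j hj => ?_
    rw [RingHom.mem_ker]
    exact Ideal.Quotient.eq_zero_iff_mem.mpr hj
  · intro E x g₀ hg₀
    obtain ⟨ρ, rfl⟩ := Spec.map_surjective x
    let _ : Algebra R E := ρ.hom.toAlgebra
    let g₁ : pt R E ⟶ G := g₀
    obtain ⟨φ, hφ⟩ := exists_eq_ptMap (R := R) (E := A) (E' := E) (g₁ ≫ e.inv)
    have h9 : g₁ = ptMap φ ≫ e.hom := by
      rw [← hφ, Category.assoc, Iso.inv_hom_id, Category.comp_id]
    have h10 : J ≤ RingHom.ker φ := (key _ φ).mp (h9 ▸ hg₀)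
    let t : pt R E ⟶ pt R (A ⧸ J) := ptMap (Ideal.Quotient.liftₐ J φ h10)
    have ht : t ≫ ptMap (Ideal.Quotient.mkₐ R J) ≫ e.hom = g₁ := by
      rw [ptMap_comp_assoc, h9]
      congr 2
    exact ⟨t, ht⟩

lemma exists_smooth_of_point_aux {S : Scheme.{u}} (G : Over S) [GrpObj G]
    [IsAffineHom G.hom] [Smooth G.hom] (a b : Red.DS S M ⟶ G) [IsMonHom a] [IsMonHom b]
    {K : Type u} [Field K] (x₀ : Spec (CommRingCat.of K) ⟶ S) (g₀ : Over.mk x₀ ⟶ G) (h₀ : Transp a b g₀)
    {R : Type u} [CommRing R] (j : Spec (CommRingCat.of R) ⟶ S) [IsOpenImmersion j]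
    (x : Spec (CommRingCat.of K) ⟶ Spec (CommRingCat.of R)) (hx : x ≫ j = x₀) :
    ∃ (T : Over S) (g : T ⟶ G) (t : Over.mk x₀ ⟶ T), Smooth T.hom ∧ IsAffine T.left ∧ Transp a b g ∧
      t ≫ g = g₀ := by
  let iD : Red.DS (Spec (CommRingCat.of R)) M ≅ Red.bc j (Red.DS S M) :=
    (Grp.forget _).mapIso (TorusAlgClosed.dsBcIso j M).symm
  have hiD : IsMonHom iD.hom := inferInstanceAs (IsMonHom (TorusAlgClosed.dsBcIso j M).inv.hom.hom)
  have : IsAffineHom (Red.bc j G).hom := inferInstanceAs (IsAffineHom (pullback.snd G.hom j))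
  have : Smooth (Red.bc j G).hom := inferInstanceAs (Smooth (pullback.snd G.hom j))
  obtain ⟨T, g, h1, h2, -, h3, h4⟩ := exists_smooth_affine (Red.bc j G) (iD.hom ≫ (Over.pullback j).map a)
    (iD.hom ≫ (Over.pullback j).map b)
  rw [transp_iso_comp, transp_bc] at h3
  let ε : (Over.map j).obj (Over.mk x) ≅ Over.mk x₀ := Over.isoMk (Iso.refl (Spec (CommRingCat.of K))) (by
    change 𝟙 (Spec (CommRingCat.of K)) ≫ x₀ = x ≫ j
    rw [Category.id_comp, hx])
  obtain ⟨t, ht⟩ := h4 (CommRingCat.of K) x (bcEquiv j (Over.mk x) G (ε.hom ≫ g₀)) (by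
    rw [transp_iso_comp, transp_bc, MulEquiv.symm_apply_apply]
    exact h₀.comp _)
  have h5 : Smooth ((Over.map j).obj T).hom := by
    rw [Over.map_obj_hom]
    infer_instance
  refine ⟨(Over.map j).obj T, (bcEquiv j T G).symm g, ε.inv ≫ (Over.map j).map t, h5, h2, h3, ?_⟩
  rw [Category.assoc, bcEquiv_symm_naturality, ht, MulEquiv.symm_apply_apply, Iso.inv_hom_id_assoc]

/-- Homomorphisms conjugate at a field valued point become conjugate after a smooth base change through
which the point factors. -/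
theorem exists_smooth_of_point {S : Scheme.{u}} (G : Over S) [GrpObj G]
    [IsAffineHom G.hom] [Smooth G.hom] (a b : Red.DS S M ⟶ G) [IsMonHom a] [IsMonHom b]
    {K : Type u} [Field K] (x₀ : Spec (CommRingCat.of K) ⟶ S) (g₀ : Over.mk x₀ ⟶ G) (h₀ : Transp a b g₀) :
    ∃ (T : Over S) (g : T ⟶ G) (t : Over.mk x₀ ⟶ T), Smooth T.hom ∧ IsAffine T.left ∧ Transp a b g ∧
      t ≫ g = g₀ := by
  obtain ⟨U, hU, hsU, -⟩ := exists_isAffineOpen_mem_and_subset (X := S) (x := x₀ (IsLocalRing.closedPoint K))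
    (U := ⊤) trivial
  have hj : IsOpenImmersion hU.fromSpec := inferInstance
  have hrange : Set.range x₀ ⊆ Set.range hU.fromSpec := by
    rintro _ ⟨y, rfl⟩
    have h2 : y = IsLocalRing.closedPoint K := Subsingleton.elim _ _
    rw [hU.range_fromSpec, h2]
    exact hsU
  exact exists_smooth_of_point_aux (R := Γ(S, U)) G a b x₀ g₀ h₀ hU.fromSpec
    (IsOpenImmersion.lift hU.fromSpec x₀ hrange) (IsOpenImmersion.lift_fac _ _ _)

end exist

end Groth.Agent.Sga3B.TorTransp
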