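import Groth.Agent.Sga3B.ChartFam885
import Groth.Agent.Sga3B.ChartEx
import Groth.Agent.Sga3B.ChartFib
import Groth.Agent.Sga3B.SplitCmpChart
import Groth.Agent.Sga3B.CellEt

/-!
# (Hb): a family of isomorphisms of split groups carrying the torus to the torus is an isomorphism of root data
-/

set_option autoImplicit false
universe u

open CategoryTheory MonoidalCategory CartesianMonoidalCategory MonObj GrpObj AlgebraicGeometry Limits
open Polynomial

namespace Groth.Agent.Sga3B.ChartFam

open Cell PinMod DSPts GaPts IsoFam IsomCore IsomDefs TensorProduct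

variable {S : Scheme.{u}} {G G' : Over S} [GrpObj G] [GrpObj G'] {R : Type u} [CommRing R]
  {s : Spec (CommRingCat.of R) ⟶ S}

lemma chart_smooth (c : Chart G s) (hG : Red.IsReductive G) : Algebra.Smooth R c.A := by
  have := hG.2.1
  exact ChartFib.smooth_of_isPullback c.isPullback

lemma chart_isDomain (c : Chart G s) (hG : Red.IsReductive G) (K : Type u) [Field K] [Algebra R K] :
    IsDomain (K ⊗[R] c.A) :=
  ChartFib.isDomain hG c.isPullback K

/-- The datum of a splitting in a chart is good. -/
theorem chart_good (c : Chart G s) (D : Red.SplitRed G) : (c.datum D).Good := by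
  have := chart_smooth c D.reductive
  refine Datum.good (D := c.datum D) ?_
  intro K _ _ _ _ _ _
  rw [ChartFib.finrank_eq D.reductive D.dim_fibre c.isPullback K, add_comm]
  rfl

/-- torus parts in charts -/
lemma tle_of_torPart (c : Chart G s) {ψ : G ⊗ Over.mk s ⟶ G'} (h : AutFam.IsIsoFamily G G' ψ)
    (D : Red.SplitRed G) (D' : Red.SplitRed G') (θ : D'.M →+ D.M) (hθ : TorPart D D' θ ψ) :
    RootCmp.TLe (c.datum D) ((chartFam c h).datum D') θ := by
  intro B _ _ t
  apply ((chartFam c h).pts B).injective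
  refine (chartFam_pts c h B ((c.datum D).i B t)).trans ?_
  refine Eq.trans ?_ (Chart.pts_i (chartFam c h) D'
    (t.comp (AddMonoidHom.toMultiplicative θ))).symm
  rw [Chart.pts_i c D t]
  have h1 := hθ (tB s B) (xB s B) (dsEquiv (tB s B) D.M (chΓ s t))
  refine h1.trans ?_
  rw [dsEquiv_DSmap]
  rfl

/-- (Hb) -/
theorem hbStmt (D : Red.SplitRed G) (D' : Red.SplitRed G') : HbStmt D D' := by
  intro V ⟨v⟩ ψ hψ θ hθ
  have hGa : IsAffineHom G.hom := D.reductive.1
  let x0 := Red.geomPt v
  let s := x0 ≫ V.hom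
  let a : Over.mk s ⟶ V := Over.homMk x0 rfl
  have hψ0 : AutFam.IsIsoFamily G G' ((G ◁ a) ≫ ψ) := isIsoFamily_pull hψ a
  have hθ0 : TorPart D D' θ ((G ◁ a) ≫ ψ) := by
    intro X x t
    rw [← Category.assoc, lift_whiskerLeft]
    exact hθ X (x ≫ a) t
  obtain ⟨c⟩ := exists_chart G s
  have h1 := tle_of_torPart c hψ0 D D' θ hθ0
  have hsm := chart_smooth c D.reductive
  have hdom := chart_isDomain c D.reductive (AlgebraicClosure (V.left.residueField v))
  exact RootCmp.exists_equiv_same (chart_good c D) (chart_good (chartFam c hψ0) D') h1 D.P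
    D.pairing_eq (fun _ => rfl) (fun a => SplitCmp588.exists_acts_refl c D a) D'.P D'.pairing_eq
    (fun _ => rfl) (fun a => SplitCmp588.exists_acts_refl (chartFam c hψ0) D' a)

end Groth.Agent.Sga3B.ChartFam
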