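import Groth.Agent.Sga3B.IsomDefs
import Groth.Agent.Sga3B.PinModel
import Groth.Agent.Sga3B.BaseZ

/-!
# The root part of a family of isomorphisms of split groups (piece (Hd) of S2991)
-/

set_option autoImplicit false
open CategoryTheory MonoidalCategory CartesianMonoidalCategory MonObj GrpObj AlgebraicGeometry
universe u

namespace Groth.Agent.Sga3B.IsomHd848

open DSPts GaPts IsoFam IsomCore IsomDefs Cell PinMod

variable {S : Scheme.{u}} {G G' : Over S} [GrpObj G] [GrpObj G']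

section pts

variable {R : Type u} [CommRing R] (s : Spec (CommRingCat.of R) ⟶ S)
  {B C : Type u} [CommRing B] [Algebra R B] [CommRing C] [Algebra R C]

/-- structure map of `Spec B` over `s` -/
noncomputable def qB (B : Type u) [CommRing B] [Algebra R B] : tB s B ⟶ Over.mk s :=
  Over.homMk (Spec.map (CommRingCat.ofHom (algebraMap R B)))

lemma tMap_qB (φ : B →ₐ[R] C) : tMap s φ ≫ qB s B = qB s C := by
  ext1
  change Spec.map _ ≫ Spec.map _ = Spec.map _
  rw [← Spec.map_comp, ← CommRingCat.ofHom_comp, AlgHom.comp_algebraMap]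

lemma tMap_fnOf (φ : B →ₐ[R] C) (x : B) : (tMap s φ).left.appTop (fnOf s x) = fnOf s (φ x) := by
  have h1 := Scheme.ΓSpecIso_inv_naturality (CommRingCat.ofHom (φ : B →+* C))
  exact (congr($h1 x)).symm

lemma fnOf_mul (x y : B) : fnOf s (x * y) = fnOf s x * fnOf s y :=
  map_mul (Scheme.ΓSpecIso (CommRingCat.of B)).inv.hom x y

lemma fnOf_zero : fnOf s (0 : B) = 0 := map_zero (Scheme.ΓSpecIso (CommRingCat.of B)).inv.hom

lemma fnOf_injective : Function.Injective (fnOf s (B := B)) := by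
  intro x y h
  have h1 := congrArg (fun z => (Scheme.ΓSpecIso (CommRingCat.of B)).hom z) h
  have h2 : ∀ z : B, (Scheme.ΓSpecIso (CommRingCat.of B)).hom (fnOf s z) = z := fun z => by
    change ((Scheme.ΓSpecIso (CommRingCat.of B)).inv ≫ (Scheme.ΓSpecIso (CommRingCat.of B)).hom) z = z
    rw [Iso.inv_hom_id]
    rfl
  simpa only [h2] using h1

end pts

/-- **Uniqueness of root homomorphisms** over `s`, in terms of points. -/
def RootUniqAt (D : Red.SplitRed G) {R : Type u} [CommRing R] (s : Spec (CommRingCat.of R) ⟶ S) : Prop :=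
  ∀ (a : D.idx) (V : ∀ (B : Type u) [CommRing B] [Algebra R B], B → (tB s B ⟶ G)),
    (∀ {B C : Type u} [CommRing B] [Algebra R B] [CommRing C] [Algebra R C] (φ : B →ₐ[R] C) (x : B),
      tMap s φ ≫ V B x = V C (φ x)) →
    (∀ (B : Type u) [CommRing B] [Algebra R B], V B 0 = 1) →
    (∀ {B : Type u} [CommRing B] [Algebra R B] (t : TPt D.M B) (x : B),
      dT D (dsEquiv (tB s B) D.M (chΓ s t)) * V B x * (dT D (dsEquiv (tB s B) D.M (chΓ s t)))⁻¹ =
        V B (TPt.ch (D.P.root a) t * x)) →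
    ∃ r : R, ∀ {B : Type u} [CommRing B] [Algebra R B] (x : B),
      V B x = gaPt (tB s B) (fnOf s (algebraMap R B r * x)) ≫ D.u a

section

variable (D : Red.SplitRed G) (D' : Red.SplitRed G')

/-- the action of the torus on a root group, in terms of `dT` -/
lemma dT_conj_u {X : Over S} (t : X ⟶ Red.DS S D.M) (a : D.idx) (x : X ⟶ Red.Ga S) :
    dT D t * (x ≫ D.u a) * (dT D t)⁻¹ =
      gaPt X (dsChar t (Multiplicative.ofAdd (D.P.root a)) * Red.gaFn x) ≫ D.u a := by
  obtain ⟨-, -, h3⟩ := D.rootHom a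
  obtain ⟨y, hy, hy'⟩ := h3 X (t ≫ D.split.inv.hom.hom) x
  have h1 : (t ≫ D.split.inv.hom.hom) ≫ D.i = dT D t := Category.assoc _ _ _
  have h2 : (t ≫ D.split.inv.hom.hom) ≫ D.split.hom.hom.hom ≫ Red.chi S (D.P.root a) =
      t ≫ Red.chi S (D.P.root a) := by
    rw [Category.assoc, ← Category.assoc D.split.inv.hom.hom, inv_hom_id, Category.id_comp]
  rw [h1] at hy
  rw [h2, gmFn_chi] at hy'
  rw [← hy, ← hy', gaPt_gaFn]

lemma gaPt_zero (X : Over S) : gaPt X 0 = 1 := by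
  rw [gaPt, ofAdd_zero, map_one]

lemma lift_one_comp {V X : Over S} {ψ : G ⊗ V ⟶ G'} (hψ : AutFam.IsHomFamily G G' ψ) (x : X ⟶ V) :
    lift (1 : X ⟶ G) x ≫ ψ = 1 := by
  have h := hψ X 1 1 x
  rw [_root_.mul_one] at h
  exact (mul_eq_left.mp h.symm)

lemma lift_inv_comp {V X : Over S} {ψ : G ⊗ V ⟶ G'} (hψ : AutFam.IsHomFamily G G' ψ) (g : X ⟶ G) (x : X ⟶ V) :
    lift g⁻¹ x ≫ ψ = (lift g x ≫ ψ)⁻¹ := by
  rw [eq_inv_iff_mul_eq_one, ← hψ, inv_mul_cancel, lift_one_comp hψ]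

/-- Families of homomorphisms between split groups are given on root groups by a scalar. -/
theorem exists_scalar {R : Type u} [CommRing R] (s : Spec (CommRingCat.of R) ⟶ S) (hU : RootUniqAt D' s)
    (ψ : G ⊗ Over.mk s ⟶ G') (hψ : AutFam.IsHomFamily G G' ψ) (θ : D'.M ≃+ D.M)
    (hθ : TorPart D D' θ.toAddMonoidHom ψ) (a' : D'.idx) (a : D.idx) (ha : θ (D'.P.root a') = D.P.root a) :
    ∃ r : R, ∀ {B : Type u} [CommRing B] [Algebra R B] (x : B),
      lift (gaPt (tB s B) (fnOf s x) ≫ D.u a) (qB s B) ≫ ψ =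
        gaPt (tB s B) (fnOf s (algebraMap R B r * x)) ≫ D'.u a' := by
  refine hU a' (fun B _ _ x => lift (gaPt (tB s B) (fnOf s x) ≫ D.u a) (qB s B) ≫ ψ) ?_ ?_ ?_
  · intro B C _ _ _ _ φ x
    rw [← Category.assoc, comp_lift, tMap_qB, ← Category.assoc, comp_gaPt, tMap_fnOf]
  · intro B _ _
    have := (D.rootHom a).1
    change lift (gaPt (tB s B) (fnOf s 0) ≫ D.u a) (qB s B) ≫ ψ = 1
    rw [fnOf_zero, gaPt_zero, MonObj.one_comp, lift_one_comp hψ]
  · intro B _ _ t x
    let t₀ : TPt D.M B := t.comp (AddMonoidHom.toMultiplicative θ.symm.toAddMonoidHom)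
    have h1 : dT D' (dsEquiv (tB s B) D'.M (chΓ s t)) =
        lift (dT D (dsEquiv (tB s B) D.M (chΓ s t₀))) (qB s B) ≫ ψ := by
      rw [hθ, dsEquiv_DSmap]
      congr 2
      refine MonoidHom.ext fun m => ?_
      change _ = chΓ s t (Multiplicative.ofAdd (θ.symm (θ m.toAdd)))
      rw [AddEquiv.symm_apply_apply]
      rfl
    rw [h1, ← lift_inv_comp hψ, ← hψ, ← hψ, dT_conj_u, dsChar_dsEquiv, gaFn_gaPt]
    congr 3
    rw [fnOf_mul]
    have h2 : chΓ s t₀ (Multiplicative.ofAdd (D.P.root a)) = fnOf s (TPt.ch (D'.P.root a') t) := by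
      change fnOf s ((t (Multiplicative.ofAdd (θ.symm (D.P.root a))) : Bˣ) : B) = _
      rw [← ha, AddEquiv.symm_apply_apply]
      rfl
    rw [h2]

/-- (Hd) at the level of affine points, from uniqueness of root homomorphisms for both groups. -/
theorem exists_unit {R : Type u} [CommRing R] (s : Spec (CommRingCat.of R) ⟶ S) (hU : RootUniqAt D s)
    (hU' : RootUniqAt D' s) (ψ : G ⊗ Over.mk s ⟶ G') (hψ : AutFam.IsIsoFamily G G' ψ) (θ : D'.M ≃+ D.M)
    (hθ : TorPart D D' θ.toAddMonoidHom ψ) (a' : D'.idx) (a : D.idx) (ha : θ (D'.P.root a') = D.P.root a) :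
    ∃ r : Rˣ, ∀ {B : Type u} [CommRing B] [Algebra R B] (x : B),
      lift (gaPt (tB s B) (fnOf s x) ≫ D.u a) (qB s B) ≫ ψ =
        gaPt (tB s B) (fnOf s (algebraMap R B r * x)) ≫ D'.u a' := by
  obtain ⟨hψ₁, χ, hχ₁, hχ₂⟩ := hψ
  obtain ⟨r, hr⟩ := exists_scalar D D' s hU' ψ hψ₁ θ hθ a' a ha
  have hχ : AutFam.IsHomFamily G' G χ := by
    intro X g₁ g₂ t
    have h1 : lift ((lift g₁ t ≫ χ) * (lift g₂ t ≫ χ)) t ≫ ψ = g₁ * g₂ := by
      rw [hψ₁, hχ₂, hχ₂]
    rw [← h1, hχ₁]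
  have hθ' : TorPart D' D θ.symm.toAddMonoidHom χ := by
    intro X x t
    have h1 := hθ X x (t ≫ Red.DSmap S θ.symm.toAddMonoidHom)
    rw [IsomCore.DSmap_comp] at h1
    have h2 : θ.symm.toAddMonoidHom.comp θ.toAddMonoidHom = AddMonoidHom.id _ := by
      ext m; simp
    rw [h2, IsomCore.DSmap_id] at h1
    rw [← h1, hχ₁]
  obtain ⟨r', hr'⟩ := exists_scalar D' D s hU χ hχ θ.symm hθ' a a' (by rw [← ha, AddEquiv.symm_apply_apply])
  have hmul : r' * r = 1 := by
    have h1 := hr (B := R) 1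
    have h2 := hr' (B := R) (algebraMap R R r * 1)
    rw [← h1, hχ₁] at h2
    have hcl := (D.rootHom a).2.1
    have hm : Mono (D.u a) := by
      have : Mono (D.u a).left := inferInstance
      exact Over.mono_of_mono_left _
    rw [cancel_mono] at h2
    have h3 := congrArg Red.gaFn h2
    rw [gaFn_gaPt, gaFn_gaPt] at h3
    have h4 := fnOf_injective s h3
    simpa using h4.symm
  exact ⟨⟨r, r', by rw [mul_comm, hmul], hmul⟩, hr⟩

/-- **(Hd)** from uniqueness of root homomorphisms for both groups. -/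
theorem hdStmt_of (hU : ∀ (R : Type u) [CommRing R] (s : Spec (CommRingCat.of R) ⟶ S), RootUniqAt D s)
    (hU' : ∀ (R : Type u) [CommRing R] (s : Spec (CommRingCat.of R) ⟶ S), RootUniqAt D' s) : HdStmt D D' := by
  intro R _ s ψ hψ e hθ a'
  let θ : D'.M ≃+ D.M := (RootPairing.Equiv.weightEquiv _ _ e).toAddEquiv
  obtain ⟨r, hr⟩ := exists_unit D D' s (hU R s) (hU' R s) ψ hψ θ hθ a' (e.indexEquiv a')
    (BaseZ.weightMap_root e a')
  refine ⟨Units.map ((Scheme.ΓSpecIso (CommRingCat.of R)).inv.hom : R →* Γ(Spec (CommRingCat.of R), ⊤)) r, ?_⟩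
  intro X x y z hz
  apply AffYoneda.hom_ext
  intro B σ t
  have hσ : ∃ ρ : CommRingCat.of R ⟶ B, Spec.map ρ = (t ≫ x).left := ⟨Spec.preimage _, Spec.map_preimage _⟩
  obtain ⟨ρ, hρ⟩ := hσ
  have hs : Spec.map ρ ≫ s = σ := by
    rw [hρ]; exact Over.w (t ≫ x)
  subst hs
  let _ : Algebra R B := ρ.hom.toAlgebra
  have hq : t ≫ x = qB s B := by
    ext1
    rw [← hρ]; rfl
  obtain ⟨w, hw⟩ := exists_gaPt (B := B) s (t ≫ y)
  have h1 := hr (B := B) w
  have h2 : t ≫ z = gaPt (tB s B) (fnOf s (algebraMap R B r * w)) := by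
    apply gaFn_injective
    refine Eq.trans ?_ (gaFn_gaPt (tB s B) _).symm
    refine ((gaFn_comp t z).trans ?_).trans (fnOf_mul (B := B) s _ _).symm
    have h3 : t.left.appTop (Red.gaFn z) =
        t.left.appTop (x.left.appTop ((Scheme.ΓSpecIso (CommRingCat.of R)).inv (r : R))) *
          t.left.appTop (Red.gaFn y) := by
      rw [← map_mul]
      exact congrArg _ hz
    rw [h3]
    have h4 : t.left.appTop (Red.gaFn y) = fnOf (B := B) s w := by
      refine (gaFn_comp t y).symm.trans ((congrArg Red.gaFn hw).trans (gaFn_gaPt _ _))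
    have h5 : t.left.appTop (x.left.appTop ((Scheme.ΓSpecIso (CommRingCat.of R)).inv (r : R))) =
        fnOf (B := B) s (algebraMap R B (r : R)) := by
      have h6 : (x.left.appTop ≫ t.left.appTop) = (qB s B).left.appTop := by
        rw [← hq]
        exact (Scheme.Hom.comp_appTop _ _).symm
      refine (congr($h6 ((Scheme.ΓSpecIso (CommRingCat.of R)).inv (r : R)))).trans ?_
      have h7 := Scheme.ΓSpecIso_inv_naturality (CommRingCat.ofHom (algebraMap R B))
      exact (congr($h7 (r : R))).symm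
    rw [h4, h5]
  rw [← Category.assoc, comp_lift, ← Category.assoc, hq, ← Category.assoc, h2, ← h1, hw]

end

end Groth.Agent.Sga3B.IsomHd848
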