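import Groth.Agent.Sga3B.BaseZ
import Mathlib.LinearAlgebra.RootSystem.Base

/-!
# Combinatorics of root data over ℤ with a base

A root datum with a base (in the sense of Mathlib) is reduced; the height functional; functionals with
prescribed signs on linearly independent families; every root is the image of a simple root under a
product of simple reflections.
-/

set_option autoImplicit false
set_option linter.unusedSectionVars false

open Module Set Function

namespace Groth.Agent.Sga3B.PinComb

section functional

variable {M κ : Type*} [AddCommGroup M] [Module.Free ℤ M] [Module.Finite ℤ M]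

/-- integral functionals with prescribed values, up to a positive multiple, on a linearly independent
family -/
theorem exists_functional_of_linearIndependent (v : κ → M) (hv : LinearIndependent ℤ v)
    (c : κ → ℤ) : ∃ (lam : M →+ ℤ) (N : ℤ), 0 < N ∧ ∀ k, lam (v k) = N * c k := by
  classical
  let b := Module.Free.chooseBasis ℤ M
  have h1 : LinearIndependent ℤ (fun k => BaseZ.φ b (v k)) :=
    hv.map' (BaseZ.φ b) (LinearMap.ker_eq_bot.mpr (BaseZ.φ_injective b))
  have h2 : LinearIndependent ℚ (fun k => BaseZ.φ b (v k)) :=
    (LinearIndependent.iff_fractionRing ℤ ℚ).mp h1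
  obtain ⟨f, hf⟩ : ∃ f : (Module.Free.ChooseBasisIndex ℤ M → ℚ) →ₗ[ℚ] ℚ,
      ∀ k, f (BaseZ.φ b (v k)) = c k := by
    obtain ⟨f, hf⟩ := LinearMap.exists_extend ((Basis.span h2).constr ℚ (fun k => (c k : ℚ)))
    refine ⟨f, fun k => ?_⟩
    have h3 := congrArg (fun g => g ((Basis.span h2) k)) hf
    simp only [LinearMap.comp_apply, Submodule.subtype_apply] at h3
    rw [Basis.constr_basis, Basis.span_apply] at h3
    exact h3
  obtain ⟨d, hd⟩ := IsLocalization.exist_integer_multiples_of_finite (nonZeroDivisors ℤ)
    (fun k => f (Pi.single k (1 : ℚ)))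
  choose n hn using hd
  have hkey : ∀ x : M, (((b.constr ℤ) n x : ℤ) : ℚ) = (d : ℤ) • f (BaseZ.φ b x) := by
    intro x
    have h1 : BaseZ.φ b x = ∑ k, (b.repr x k : ℚ) • (Pi.single k (1 : ℚ) : _ → ℚ) := by
      ext k
      simp [BaseZ.φ_apply, Finset.sum_apply, Pi.single_apply]
    rw [h1, map_sum, Basis.constr_apply_fintype, Int.cast_sum, Finset.smul_sum]
    refine Finset.sum_congr rfl fun k _ => ?_
    have h2 := hn k
    simp only [eq_intCast] at h2
    rw [smul_eq_mul, Int.cast_mul, h2, map_smul, smul_eq_mul]
    simp only [Basis.equivFun_apply, zsmul_eq_mul]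
    ring
  have hd0 : (d : ℤ) ≠ 0 := nonZeroDivisors.coe_ne_zero d
  refine ⟨((d : ℤ) • ((b.constr ℤ) n : M →ₗ[ℤ] ℤ)).toAddMonoidHom, (d : ℤ) * d,
    mul_self_pos.mpr hd0, fun k => ?_⟩
  have h3 := hkey (v k)
  rw [hf] at h3
  have h4 : (b.constr ℤ) n (v k) = (d : ℤ) * c k := by
    have : (((b.constr ℤ) n (v k) : ℤ) : ℚ) = (((d : ℤ) * c k : ℤ) : ℚ) := by
      rw [h3]; simp
    exact_mod_cast this
  change (d : ℤ) • (b.constr ℤ) n (v k) = _
  rw [h4, smul_eq_mul, mul_assoc]

end functional

section base

variable {ι M N : Type*} [AddCommGroup M] [AddCommGroup N] {P : RootPairing ι ℤ M N} (b : P.Base)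

/-- coefficients of a root at the simple roots are unique -/
theorem coeff_unique {f g : ι → ℤ}
    (h : ∑ j ∈ b.support, f j • P.root j = ∑ j ∈ b.support, g j • P.root j) {j : ι}
    (hj : j ∈ b.support) : f j = g j := by
  rw [b.support.sum_subtype (p := (· ∈ b.support)) (by simp) (F := inferInstance),
    b.support.sum_subtype (p := (· ∈ b.support)) (by simp) (F := inferInstance)] at h
  have aux (j : b.support) := Fintype.linearIndependent_iffₛ.mp
      (b.linearIndepOn_root.restrict_scalars' ℤ) (f ∘ (↑)) (g ∘ (↑)) (by simpa using h) j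
  simpa using! aux ⟨j, hj⟩

variable [Finite ι]

/-- A simple root is not proportional to a root, except for its negative. -/
theorem simple_of_smul {i j : ι} (hi : i ∈ b.support) {t : ℤ} (h : P.root j = t • P.root i) :
    t = 1 ∨ t = -1 := by
  have : IsReflexive ℤ M := .of_isPerfPair P.toLinearMap
  have : IsReflexive ℤ N := .of_isPerfPair P.flip.toLinearMap
  have : IsAddTorsionFree M := .of_isTorsionFree ℤ M
  have : IsAddTorsionFree N := .of_isTorsionFree ℤ N
  exact b.eq_one_or_neg_one_of_mem_support_of_smul_mem i hi t ⟨j, h⟩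

/-- reflection in a simple root preserves positivity of the roots which are not multiples of it -/
theorem isPos_reflectionPerm_of_forall {i k : ι} (hk : k ∈ b.support) (hi : b.IsPos i)
    (hne : ∀ t : ℤ, P.root i ≠ t • P.root k) : b.IsPos (P.reflectionPerm k i) := by
  classical
  obtain ⟨f, hf0, hf1, hf2⟩ := b.exists_root_eq_sum_int i
  obtain ⟨g, hg0, hg1, hg2⟩ := b.exists_root_eq_sum_int (P.reflectionPerm k i)
  have hfpos : 0 < f := by
    refine hf1.resolve_right fun h => ?_
    rw [RootPairing.Base.isPos_iff, RootPairing.Base.height_eq_sum hf2] at hi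
    exact absurd hi (not_lt.mpr (Finset.sum_nonpos fun j _ => h.le j))
  have h3 : P.root (P.reflectionPerm k i) =
      ∑ j ∈ b.support, (f - Pi.single k (P.pairing i k) : ι → ℤ) j • P.root j := by
    rw [P.root_reflectionPerm, P.reflection_apply_root, hf2]
    simp only [Pi.sub_apply, sub_smul, Finset.sum_sub_distrib]
    congr 1
    rw [Finset.sum_eq_single_of_mem k hk]
    · simp
    · intro j _ hjk
      simp [hjk]
  have hg : ∀ j ∈ b.support, j ≠ k → g j = f j := by
    intro j hj hjk
    have := coeff_unique b (hg2.symm.trans h3) hj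
    simpa [hjk] using this
  rcases hg1 with h | h
  · rw [RootPairing.Base.isPos_iff', RootPairing.Base.height_eq_sum hg2]
    exact Finset.sum_nonneg fun j _ => h.le j
  · exfalso
    apply hne (f k)
    rw [hf2, Finset.sum_eq_single_of_mem k hk]
    intro j hj hjk
    have h4 : f j = 0 := le_antisymm (by rw [← hg j hj hjk]; exact h.le j) (hfpos.le j)
    rw [h4, zero_smul]

include b in
/-- A root datum with a base has no pair of roots `a, 2a`. -/
theorem root_ne_two_smul (i j : ι) : P.root j ≠ (2 : ℤ) • P.root i := by
  have : IsReflexive ℤ M := .of_isPerfPair P.toLinearMap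
  have : IsAddTorsionFree M := .of_isTorsionFree ℤ M
  have key : ∀ (n : ℕ) (i j : ι), b.IsPos i → (b.height i).natAbs = n → P.root j ≠ (2 : ℤ) • P.root i := by
    intro n
    induction n using Nat.strongRecOn with
    | ind n ih =>
      intro i j hi hn hij
      obtain ⟨k, hk, hk'⟩ := hi.exists_mem_support_pos_pairingIn
      rw [P.zero_lt_pairingIn_iff'] at hk'
      have hne : ∀ t : ℤ, P.root i ≠ t • P.root k := by
        intro t ht
        rw [ht, smul_smul] at hij
        have h1 := simple_of_smul b hk ht
        have h2 := simple_of_smul b hk hij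
        omega
      have hpos := isPos_reflectionPerm_of_forall b hk hi hne
      have hlt : (b.height (P.reflectionPerm k i)).natAbs < n := by
        have h1 := P.reflection_apply_root' ℤ (i := k) (j := i)
        rw [← P.root_reflectionPerm, sub_eq_add_neg, ← neg_smul] at h1
        have h2 := b.height_add_zsmul h1
        rw [RootPairing.Base.height_one_of_mem_support hk] at h2
        have h3 := (RootPairing.Base.isPos_iff _).mp hpos
        have h4 := (RootPairing.Base.isPos_iff _).mp hi
        simp only [smul_eq_mul, mul_one] at h2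
        omega
      refine ih _ hlt (P.reflectionPerm k i) (P.reflectionPerm k j) hpos rfl ?_
      rw [P.root_reflectionPerm, P.root_reflectionPerm, hij, map_smul]
  intro hij
  let := P.indexNeg
  rcases RootPairing.Base.IsPos.or_neg b i with hi | hi
  · exact key _ i j hi rfl hij
  · refine key _ (P.reflectionPerm i i) (P.reflectionPerm j j) hi rfl ?_
    rw [P.root_reflectionPerm, P.root_reflectionPerm, P.reflection_apply_self,
      P.reflection_apply_self, hij, smul_neg]

include b in
/-- A root datum with a base is reduced. -/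
theorem isReduced : P.IsReduced :=
  BaseZ.isReduced_of_two_smul P (fun i j => root_ne_two_smul b i j)

include b in
/-- no root is a nonnegative multiple `n ≠ 1` of another one -/
theorem eq_one_of_root_eq_nsmul {i j : ι} {n : ℕ} (h : P.root j = (n : ℤ) • P.root i) : n = 1 := by
  have : IsReflexive ℤ M := .of_isPerfPair P.toLinearMap
  have : IsAddTorsionFree M := .of_isTorsionFree ℤ M
  have hred : P.IsReduced := isReduced b
  have h0 : n ≠ 0 := by
    rintro rfl
    exact P.ne_zero j (by rw [h]; simp)
  by_contra hn
  have : n.AtLeastTwo := ⟨by omega⟩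
  exact P.nsmul_notMem_range_root (n := n) (i := i) ⟨j, by rw [h]; exact natCast_zsmul _ _⟩

/-- every root is obtained from a simple root by simple reflections -/
theorem exists_word (i : ι) : ∃ (l : List ι) (a : ι), a ∈ b.support ∧ (∀ c ∈ l, c ∈ b.support) ∧
    i = l.foldr (fun c j => P.reflectionPerm c j) a := by
  have hred : P.IsReduced := isReduced b
  have key : ∀ (i : ι), b.IsPos i → ∃ (l : List ι) (a : ι), a ∈ b.support ∧
      (∀ c ∈ l, c ∈ b.support) ∧ i = l.foldr (fun c j => P.reflectionPerm c j) a := by
    intro i hi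
    refine hi.induction_on_reflect (p := fun i => ∃ (l : List ι) (a : ι), a ∈ b.support ∧
      (∀ c ∈ l, c ∈ b.support) ∧ i = l.foldr (fun c j => P.reflectionPerm c j) a)
      (fun j hj => ⟨[], j, hj, by simp, rfl⟩) ?_
    rintro j k ⟨l, a, ha, hl, rfl⟩ hk
    exact ⟨k :: l, a, ha, by simpa using ⟨hk, hl⟩, rfl⟩
  have hni : ∀ i, P.root (P.reflectionPerm i i) = - P.root i := by simp
  have hneg : ∀ (l : List ι) (a : ι), P.reflectionPerm (l.foldr (fun c j => P.reflectionPerm c j) a)
      (l.foldr (fun c j => P.reflectionPerm c j) a) =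
      l.foldr (fun c j => P.reflectionPerm c j) (P.reflectionPerm a a) := by
    intro l a
    induction l with
    | nil => rfl
    | cons c l ih =>
      rw [List.foldr_cons, List.foldr_cons, ← ih]
      apply P.root.injective
      rw [hni, P.root_reflectionPerm, P.root_reflectionPerm, hni, map_neg]
  let := P.indexNeg
  rcases RootPairing.Base.IsPos.or_neg b i with hi | hi
  · exact key i hi
  · obtain ⟨l, a, ha, hl, h⟩ := key _ hi
    refine ⟨l ++ [a], a, ha, ?_, ?_⟩
    · intro c hc
      rcases List.mem_append.mp hc with h | h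
      · exact hl c h
      · rw [List.mem_singleton.mp h]; exact ha
    · rw [List.foldr_append, List.foldr_cons, List.foldr_nil, ← hneg, ← h]
      exact (neg_neg i).symm

variable [Module.Free ℤ M] [Module.Finite ℤ M]

/-- a multiple of the height extends to the character lattice -/
theorem exists_height_functional : ∃ (lam : M →+ ℤ) (n : ℤ), 0 < n ∧
    ∀ i, lam (P.root i) = n * b.height i := by
  obtain ⟨lam, n, hn, h⟩ := exists_functional_of_linearIndependent
    (fun i : b.support => P.root i) (b.linearIndepOn_root.restrict_scalars' ℤ) (fun _ => 1)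
  refine ⟨lam, n, hn, fun i => ?_⟩
  obtain ⟨f, -, -, hf⟩ := b.exists_root_eq_sum_int i
  rw [RootPairing.Base.height_eq_sum hf, hf, map_sum, Finset.mul_sum]
  refine Finset.sum_congr rfl fun j hj => ?_
  rw [map_zsmul, h ⟨j, hj⟩, smul_eq_mul, mul_one, mul_comm]

/-- a functional positive on a simple root and negative on another one -/
theorem exists_functional_simple_sub {a c : ι} (ha : a ∈ b.support) (hc : c ∈ b.support)
    (hac : a ≠ c) : ∃ lam : M →+ ℤ, 0 < lam (P.root a) ∧ lam (P.root c) < 0 := by
  classical
  obtain ⟨lam, n, hn, h⟩ := exists_functional_of_linearIndependent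
    (fun i : b.support => P.root i) (b.linearIndepOn_root.restrict_scalars' ℤ)
    (fun i => if (i : ι) = c then -1 else 1)
  refine ⟨lam, ?_, ?_⟩
  · rw [h ⟨a, ha⟩, if_neg hac, mul_one]; exact hn
  · rw [h ⟨c, hc⟩, if_pos rfl]; linarith

/-- a functional positive on a given root -/
theorem exists_functional_pos (P : RootPairing ι ℤ M N) (i : ι) :
    ∃ lam : M →+ ℤ, 0 < lam (P.root i) := by
  obtain ⟨lam, n, hn, h⟩ := exists_functional_of_linearIndependent
    (fun _ : Unit => P.root i) (by
      have : IsAddTorsionFree M := .of_isTorsionFree ℤ M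
      rw [linearIndependent_unique_iff]
      exact P.ne_zero i) (fun _ => 1)
  exact ⟨lam, by rw [h ()]; linarith⟩

end base

end Groth.Agent.Sga3B.PinComb
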