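import Groth.Agent.Sga3B.RootFam829

/-!
# Uniqueness of root homomorphisms, commutator formula, additivity of simple coordinates
-/

set_option autoImplicit false
universe u

open Polynomial LaurentPolynomial

namespace Groth.Agent.Sga3B.Cell.Datum

open Groth.Agent.Sga3B.Cell

variable {R A : Type u} [CommRing R] [CommRing A] [Algebra R A] [PtGrp R A] {D : Datum R A}
variable {B : Type u} [CommRing B] [Algebra R B]

lemma prod_uu_eq_one {l : List D.idx} {y : D.idx → B} (hy : ∀ b ∈ l, y b = 0) :
    (l.map (fun b => D.uu b B (y b))).prod = 1 := by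
  apply List.prod_eq_one
  intro z hz
  obtain ⟨b, hb, rfl⟩ := List.mem_map.mp hz
  rw [hy b hb, D.uu_zero]

/-- the product over a list is `u_a(y_a)` if the other coordinates vanish -/
lemma prod_uu_single {l : List D.idx} (hl : l.Nodup) {a : D.idx} (ha : a ∈ l) {y : D.idx → B}
    (hy : ∀ b, b ≠ a → y b = 0) :
    (l.map (fun b => D.uu b B (y b))).prod = D.uu a B (y a) := by
  induction l with
  | nil => simp at ha
  | cons c l ih =>
    rw [List.map_cons, List.prod_cons]
    rw [List.nodup_cons] at hl
    by_cases hc : c = a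
    · subst hc
      rw [prod_uu_eq_one (fun b hb => hy b (fun h => hl.1 (h ▸ hb))), mul_one]
    · rw [hy c hc, D.uu_zero, one_mul]
      exact ih hl.2 ((List.mem_cons.mp ha).resolve_left (Ne.symm hc))

lemma cell_single {l : List D.idx} (hl : l.Nodup) {a : D.idx} (ha : a ∈ l) {y : D.idx → B}
    (hy : ∀ b, b ≠ a → y b = 0) : D.cell l y 1 = D.uu a B (y a) := by
  rw [cell, prod_uu_single hl ha hy, map_one, mul_one]

section uniq

variable {L : List D.idx} {δ : D.CR} (hδ : D.EtOn L δ) (hδ0 : D.ev0 δ = 1)
include hδ hδ0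

/-- **Root homomorphisms are unique up to a scalar.** `V` need not be additive, only `V 0 = 1`. -/
theorem exists_eq_uu (hL : L.Nodup) {a : D.idx} (ha : a ∈ L)
    (hred : ∀ (b : D.idx) (n : ℕ), D.root b = (n : ℤ) • D.root a → n = 1)
    (V : ∀ (B : Type u) [CommRing B] [Algebra R B], B → Pt R A B)
    (V_nat : ∀ {B C : Type u} [CommRing B] [Algebra R B] [CommRing C] [Algebra R C]
      (φ : B →ₐ[R] C) (x : B), Pt.map φ (V B x) = V C (φ x))
    (V_zero : ∀ (B : Type u) [CommRing B] [Algebra R B], V B 0 = 1)
    (V_rel : ∀ {B : Type u} [CommRing B] [Algebra R B] (t : TPt D.M B) (x : B),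
      D.i B t * V B x * (D.i B t)⁻¹ = V B (TPt.ch (D.root a) t * x)) :
    ∃ r : R, ∀ {B : Type u} [CommRing B] [Algebra R B] (x : B),
      V B x = D.uu a B (algebraMap R B r * x) := by
  classical
  let F : D.Fam Unit (fun _ => D.root a) :=
    { v := fun B _ _ x => V B (x ())
      nat := fun φ x => V_nat φ _
      zero := fun B _ _ => V_zero B
      rel := fun t x => V_rel t _ }
  obtain ⟨lam, n, hn, hlam⟩ := PinComb.exists_functional_of_linearIndependent
    (fun _ : Unit => D.root a) (by
      rw [linearIndependent_unique_iff]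
      exact D.root_ne a) (fun _ => 1)
  obtain ⟨y, -, hy, hv⟩ := F.exists_eq hδ hδ0 lam (fun s => by rw [hlam ()]; simpa using hn)
  -- only the root `a` and degree `1` occur
  have key : ∀ (b : D.idx) (m : Unit →₀ ℕ), MvPolynomial.coeff m (y b) ≠ 0 →
      b = a ∧ m = Finsupp.single () 1 := by
    intro b m hm
    have h1 := hy b m hm
    have h2 : (m.sum fun _ e => e • D.root a) = ((m () : ℕ) : ℤ) • D.root a := by
      rw [Finsupp.sum_fintype _ _ (by simp)]
      simp
    rw [h2] at h1
    have h3 := hred b _ h1.symm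
    rw [h3] at h1
    refine ⟨D.root_inj (by simpa using h1.symm), ?_⟩
    ext
    simpa using h3
  have hb : ∀ b, b ≠ a → y b = 0 := by
    intro b hba
    ext m
    rw [MvPolynomial.coeff_zero]
    by_contra h
    exact hba (key b m h).1
  refine ⟨MvPolynomial.coeff (Finsupp.single () 1) (y a), ?_⟩
  intro B _ _ x
  have h1 := hv B (fun _ => x)
  rw [cell_single hL ha (fun b hba => by rw [hb b hba, map_zero])] at h1
  change V B x = _ at h1
  rw [h1]
  congr 1
  have h2 : y a = MvPolynomial.C (MvPolynomial.coeff (Finsupp.single () 1) (y a)) *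
      MvPolynomial.X () := by
    ext m
    rw [MvPolynomial.coeff_C_mul, MvPolynomial.coeff_X]
    by_cases hm : Finsupp.single () 1 = m
    · rw [if_pos hm, mul_one, hm]
    · rw [if_neg hm, mul_zero]
      by_contra h
      exact hm (key a m h).2.symm
  conv_lhs => rw [h2]
  simp

/-- **Commutator formula** for two root groups lying in a common half space. -/
theorem exists_commutator (a c : D.idx) (lam : D.M →+ ℤ) (hlama : 0 < lam (D.root a))
    (hlamc : 0 < lam (D.root c)) :
    ∃ y : D.idx → MvPolynomial (Fin 2) R,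
      (∀ b n, MvPolynomial.coeff n (y b) ≠ 0 → n 0 ≠ 0 ∧ n 1 ≠ 0 ∧
        (n 0) • D.root a + (n 1) • D.root c = D.root b) ∧
      ∀ (B : Type u) [CommRing B] [Algebra R B] (x : Fin 2 → B),
        D.uu a B (x 0) * D.uu c B (x 1) * (D.uu a B (x 0))⁻¹ * (D.uu c B (x 1))⁻¹ =
          D.cell L (fun b => MvPolynomial.aeval x (y b)) 1 := by
  classical
  let F : D.Fam (Fin 2) ![D.root a, D.root c] :=
    { v := fun B _ _ x =>
        D.uu a B (x 0) * D.uu c B (x 1) * (D.uu a B (x 0))⁻¹ * (D.uu c B (x 1))⁻¹
      nat := fun φ x => by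
        simp only [Pt.map_mul, Pt.map_inv, D.uu_nat]
      zero := fun B _ _ => by simp
      rel := fun t x => by
        have h1 := D.rel a t (x 0)
        have h2 := D.rel c t (x 1)
        simp only [Matrix.cons_val_zero, Matrix.cons_val_one, ← h1, ← h2]
        group }
  obtain ⟨y, hy0, hy, hv⟩ := F.exists_eq hδ hδ0 lam (fun s => by
    fin_cases s
    · exact hlama
    · exact hlamc)
  have hθ : ∀ (B : Type u) [CommRing B], ∀ b,
    TPt.ch (D.root b) (D.cochar lam : TPt D.M B[T;T⁻¹]) = T (lam (D.root b)) := fun B _ b => rfl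
  -- setting one coordinate to zero
  have hzero : ∀ (x : Fin 2 → MvPolynomial (Fin 2) R), (x 0 = 0 ∨ x 1 = 0) →
      ∀ b, MvPolynomial.aeval x (y b) = 0 := by
    intro x hx b
    have h1 : F.v _ x = 1 := by
      change D.uu a _ (x 0) * D.uu c _ (x 1) * (D.uu a _ (x 0))⁻¹ * (D.uu c _ (x 1))⁻¹ = 1
      rcases hx with h | h <;> simp [h]
    rw [hv, ← D.i_one', ← D.cell_zero L] at h1
    exact congrFun (cell_inj (k := fun b => lam (D.root b)) hδ hδ0 (hθ _)
      (fun b hb => by rw [hy0 b hb, map_zero]) (fun _ _ => rfl) h1).1 b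
  have hcoef : ∀ (e : Fin 2) (b : D.idx) (n : Fin 2 →₀ ℕ), n e = 0 →
      MvPolynomial.coeff n (y b) = 0 := by
    intro e b n hn
    let cc : Fin 2 → R := fun s => if s = e then 0 else 1
    have h1 := coeff_aeval_C_mul_X cc (y b) n
    rw [hzero (fun s => MvPolynomial.C (cc s) * MvPolynomial.X s) (by
      fin_cases e
      · left; simp [cc]
      · right; simp [cc]) b, MvPolynomial.coeff_zero] at h1
    have h2 : (n.prod fun s k => cc s ^ k) = 1 := by
      rw [Finsupp.prod]
      apply Finset.prod_eq_one
      intro s _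
      by_cases hs : s = e
      · rw [hs, hn, pow_zero]
      · simp [cc, hs]
    rw [h2, one_mul] at h1
    exact h1.symm
  refine ⟨y, fun b n hn => ⟨fun h => hn (hcoef 0 b n h), fun h => hn (hcoef 1 b n h), ?_⟩,
    fun B _ _ x => hv B x⟩
  have h1 := hy b n hn
  rw [Finsupp.sum_fintype _ _ (by simp)] at h1
  simpa [Fin.sum_univ_two] using h1

/-- Two root groups commute if no `i a + j c` (`i, j > 0`) is a root. -/
theorem uu_comm {a c : D.idx} (lam : D.M →+ ℤ) (hlama : 0 < lam (D.root a))
    (hlamc : 0 < lam (D.root c))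
    (hno : ∀ (b : D.idx) (i j : ℕ), i ≠ 0 → j ≠ 0 → i • D.root a + j • D.root c ≠ D.root b)
    (x y : B) : D.uu a B x * D.uu c B y = D.uu c B y * D.uu a B x := by
  obtain ⟨p, hp, h⟩ := exists_commutator hδ hδ0 a c lam hlama hlamc
  have h0 : ∀ b, p b = 0 := by
    intro b
    ext n
    rw [MvPolynomial.coeff_zero]
    by_contra hn
    obtain ⟨h1, h2, h3⟩ := hp b n hn
    exact hno b _ _ h1 h2 h3
  have h1 := h B ![x, y]
  simp only [h0, map_zero] at h1
  rw [cell_zero, map_one] at h1
  simp only [Matrix.cons_val_zero, Matrix.cons_val_one] at h1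
  have h2 : D.uu a B x * D.uu c B y * (D.uu c B y * D.uu a B x)⁻¹ = 1 := by
    rw [← h1]; group
  exact mul_inv_eq_one.mp h2

/-- **Additivity of the coordinates at the roots of minimal weight.** -/
theorem exists_mul_eq (lam : D.M →+ ℤ) (N : ℤ) (hN : 0 < N)
    (hmin : ∀ b, 0 < lam (D.root b) → N ≤ lam (D.root b)) (x y : D.idx → B)
    (hx : ∀ b, lam (D.root b) ≤ 0 → x b = 0) (hy : ∀ b, lam (D.root b) ≤ 0 → y b = 0) :
    ∃ z : D.idx → B, (∀ b, lam (D.root b) ≤ 0 → z b = 0) ∧
      D.cell L x 1 * D.cell L y 1 = D.cell L z 1 ∧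
      ∀ a, lam (D.root a) = N → z a = x a + y a := by
  classical
  let S : Type := {b : D.idx // 0 < lam (D.root b)} ⊕ {b : D.idx // 0 < lam (D.root b)}
  let w : S → D.M := Sum.elim (fun b => D.root b) (fun b => D.root b)
  let e₁ : ∀ (B : Type u) [CommRing B], (S → B) → D.idx → B := fun B _ x b =>
    if h : 0 < lam (D.root b) then x (Sum.inl ⟨b, h⟩) else 0
  let e₂ : ∀ (B : Type u) [CommRing B], (S → B) → D.idx → B := fun B _ x b =>
    if h : 0 < lam (D.root b) then x (Sum.inr ⟨b, h⟩) else 0
  let F : D.Fam S w :=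
    { v := fun B _ _ x => D.cell L (e₁ B x) 1 * D.cell L (e₂ B x) 1
      nat := fun {B C} _ _ _ _ φ x => by
        rw [Pt.map_mul, cell_nat, cell_nat, map_one]
        congr 2
        · funext b
          by_cases h : 0 < lam (D.root b) <;> simp [e₁, h]
        · funext b
          by_cases h : 0 < lam (D.root b) <;> simp [e₂, h]
      zero := fun B _ _ => by
        have h1 : e₁ B (fun _ => 0) = fun _ => 0 := by funext b; simp [e₁]
        have h2 : e₂ B (fun _ => 0) = fun _ => 0 := by funext b; simp [e₂]
        rw [h1, h2, cell_zero, map_one, one_mul]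
      rel := fun {B} _ _ t x => by
        have h : D.i B t * (D.cell L (e₁ B x) 1 * D.cell L (e₂ B x) 1) * (D.i B t)⁻¹ =
          (D.i B t * D.cell L (e₁ B x) 1 * (D.i B t)⁻¹) *
            (D.i B t * D.cell L (e₂ B x) 1 * (D.i B t)⁻¹) := by group
        rw [h, conj_cell, conj_cell]
        congr 2
        · funext b
          by_cases h : 0 < lam (D.root b) <;> simp [e₁, h, w]
        · funext b
          by_cases h : 0 < lam (D.root b) <;> simp [e₂, h, w] }
  obtain ⟨p, hp0, hp, hv⟩ := F.exists_eq hδ hδ0 lam (fun s => by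
    rcases s with s | s
    · exact s.2
    · exact s.2)
  have hθ : ∀ (B : Type u) [CommRing B], ∀ b,
    TPt.ch (D.root b) (D.cochar lam : TPt D.M B[T;T⁻¹]) = T (lam (D.root b)) := fun B _ b => rfl
  let xy : S → B := Sum.elim (fun b => x b) (fun b => y b)
  have hex : e₁ B xy = x := by
    funext b
    by_cases h : 0 < lam (D.root b)
    · simp [e₁, h, xy]
    · simp [e₁, h, hx b (not_lt.mp h)]
  have hey : e₂ B xy = y := by
    funext b
    by_cases h : 0 < lam (D.root b)
    · simp [e₂, h, xy]
    · simp [e₂, h, hy b (not_lt.mp h)]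
  refine ⟨fun b => MvPolynomial.aeval xy (p b), fun b hb => by
    change MvPolynomial.aeval xy (p b) = 0
    rw [hp0 b hb, map_zero], ?_, ?_⟩
  · rw [← hv B xy]
    change _ = D.cell L (e₁ B xy) 1 * D.cell L (e₂ B xy) 1
    rw [hex, hey]
  · intro a ha
    have ha0 : 0 < lam (D.root a) := by omega
    let s₁ : S := Sum.inl ⟨a, ha0⟩
    let s₂ : S := Sum.inr ⟨a, ha0⟩
    have hs : s₁ ≠ s₂ := by simp [s₁, s₂]
    have hwpos : ∀ s, N ≤ lam (w s) := by
      rintro (s | s)
      · exact hmin _ s.2
      · exact hmin _ s.2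
    -- the monomials of `p a`
    have hmono : ∀ n : S →₀ ℕ, MvPolynomial.coeff n (p a) ≠ 0 →
        n = Finsupp.single s₁ 1 ∨ n = Finsupp.single s₂ 1 := by
      intro n hn
      have h1 := hp a n hn
      have h2 : (n.sum fun s e => (e : ℤ) * lam (w s)) = N := by
        rw [← ha, ← h1, Finsupp.sum, Finsupp.sum, map_sum]
        refine Finset.sum_congr rfl fun s _ => ?_
        rw [map_nsmul]; simp
      have h3 : (n.sum fun _ e => (e : ℤ) * N) ≤ n.sum fun s e => (e : ℤ) * lam (w s) :=
        Finset.sum_le_sum fun s _ => mul_le_mul_of_nonneg_left (hwpos s) (by positivity)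
      rw [h2] at h3
      have h4 : (n.sum fun _ e => (e : ℤ)) ≤ 1 := by
        rw [Finsupp.sum, ← Finset.sum_mul] at h3
        rw [Finsupp.sum]
        by_contra hlt
        push Not at hlt
        nlinarith
      have hn0 : n ≠ 0 := by
        rintro rfl
        rw [Finsupp.sum_zero_index] at h2
        omega
      obtain ⟨s, hs0⟩ := Finsupp.support_nonempty_iff.mpr hn0
      have h5 : ∀ s' ∈ n.support, s' = s := by
        intro s' hs'
        by_contra hne
        have h6 : ((n s : ℕ) : ℤ) + (n s' : ℕ) ≤ n.sum fun _ e => (e : ℤ) := by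
          rw [Finsupp.sum, ← Finset.sum_pair (f := fun s => ((n s : ℕ) : ℤ)) (Ne.symm hne)]
          apply Finset.sum_le_sum_of_subset_of_nonneg
          · intro q hq
            rcases Finset.mem_insert.mp hq with h | h
            · rw [h]; exact hs0
            · rw [Finset.mem_singleton.mp h]; exact hs'
          · intros; positivity
        have h7 : n s ≠ 0 := Finsupp.mem_support_iff.mp hs0
        have h8 : n s' ≠ 0 := Finsupp.mem_support_iff.mp hs'
        omega
      have h9 : n = Finsupp.single s (n s) := by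
        ext q
        rw [Finsupp.single_apply]
        by_cases hq : s = q
        · rw [if_pos hq, hq]
        · rw [if_neg hq]
          by_contra h10
          exact hq (h5 q (Finsupp.mem_support_iff.mpr h10)).symm
      have h10 : n s = 1 := by
        have h7 : n s ≠ 0 := Finsupp.mem_support_iff.mp hs0
        rw [h9, Finsupp.sum_single_index (by simp)] at h4
        omega
      rw [h10] at h9
      rw [h9, Finsupp.sum_single_index (by simp), one_smul] at h1
      rcases s with s | s
      · left
        have : s = ⟨a, ha0⟩ := Subtype.ext (D.root_inj h1)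
        rw [h9, this]
      · right
        have : s = ⟨a, ha0⟩ := Subtype.ext (D.root_inj h1)
        rw [h9, this]
    set r₁ := MvPolynomial.coeff (Finsupp.single s₁ 1) (p a) with hr₁
    set r₂ := MvPolynomial.coeff (Finsupp.single s₂ 1) (p a) with hr₂
    have hpa : p a = MvPolynomial.C r₁ * MvPolynomial.X s₁ + MvPolynomial.C r₂ * MvPolynomial.X s₂ := by
      ext n
      rw [MvPolynomial.coeff_add, MvPolynomial.coeff_C_mul, MvPolynomial.coeff_C_mul,
        MvPolynomial.coeff_X, MvPolynomial.coeff_X]
      by_cases h1 : Finsupp.single s₁ 1 = n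
      · have h2 : Finsupp.single s₂ 1 ≠ n := by
          intro h
          rw [← h] at h1
          exact hs (Finsupp.single_left_injective one_ne_zero h1)
        rw [if_pos h1, if_neg h2, ← h1]; simp [hr₁]
      · by_cases h2 : Finsupp.single s₂ 1 = n
        · rw [if_neg h1, if_pos h2, ← h2]; simp [hr₂]
        · rw [if_neg h1, if_neg h2]
          simp only [mul_zero, add_zero]
          by_contra h
          rcases hmono n h with h3 | h3
          · exact h1 h3.symm
          · exact h2 h3.symm
    have hev : ∀ q : S → R, MvPolynomial.aeval q (p a) = r₁ * q s₁ + r₂ * q s₂ := by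
      intro q
      rw [hpa]; simp
    -- the constants are `1`
    have hcst : ∀ (q : S → R) (f : D.idx → R), (∀ b, lam (D.root b) ≤ 0 → f b = 0) →
        F.v R q = D.cell L f 1 → r₁ * q s₁ + r₂ * q s₂ = f a := by
      intro q f hf hq
      rw [← hev, ]
      rw [hv] at hq
      exact congrFun (cell_inj (k := fun b => lam (D.root b)) hδ hδ0 (hθ _)
        (fun b hb => by rw [hp0 b hb, map_zero]) hf hq).1 a
    have h0 : ∀ b, lam (D.root b) ≤ 0 → (Pi.single a (1 : R) : D.idx → R) b = 0 := by
      intro b hb
      apply Pi.single_eq_of_ne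
      rintro rfl
      omega
    have hr1 : r₁ = 1 := by
      have h1 := hcst (Sum.elim (fun b => (Pi.single a (1 : R) : D.idx → R) b) (fun _ => 0))
        (Pi.single a 1) h0 (by
        change D.cell L (e₁ R _) 1 * D.cell L (e₂ R _) 1 = _
        have h1 : e₁ R (Sum.elim (fun b => (Pi.single a (1 : R) : D.idx → R) b) (fun _ => 0)) =
            Pi.single a 1 := by
          funext b
          by_cases h : 0 < lam (D.root b)
          · simp [e₁, h]
          · simp [e₁, h, h0 b (not_lt.mp h)]
        have h2 : e₂ R (Sum.elim (fun b => (Pi.single a (1 : R) : D.idx → R) b) (fun _ => 0)) =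
            fun _ => 0 := by
          funext b
          by_cases h : 0 < lam (D.root b) <;> simp [e₂, h]
        rw [h1, h2, cell_zero, map_one, mul_one])
      simpa [s₁, s₂] using h1
    have hr2 : r₂ = 1 := by
      have h1 := hcst (Sum.elim (fun _ => 0) (fun b => (Pi.single a (1 : R) : D.idx → R) b))
        (Pi.single a 1) h0 (by
        change D.cell L (e₁ R _) 1 * D.cell L (e₂ R _) 1 = _
        have h1 : e₂ R (Sum.elim (fun _ => 0) (fun b => (Pi.single a (1 : R) : D.idx → R) b)) =
            Pi.single a 1 := by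
          funext b
          by_cases h : 0 < lam (D.root b)
          · simp [e₂, h]
          · simp [e₂, h, h0 b (not_lt.mp h)]
        have h2 : e₁ R (Sum.elim (fun _ => 0) (fun b => (Pi.single a (1 : R) : D.idx → R) b)) =
            fun _ => 0 := by
          funext b
          by_cases h : 0 < lam (D.root b) <;> simp [e₁, h]
        rw [h1, h2, cell_zero, map_one, one_mul])
      simpa [s₁, s₂] using h1
    change MvPolynomial.aeval xy (p a) = _
    rw [hpa, hr1, hr2]
    simp [xy, s₁, s₂]

end uniq

end Groth.Agent.Sga3B.Cell.Datum
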