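import Groth.Agent.Sga3B.ChartGood848
import Groth.Agent.Sga3B.PinComb829
import Groth.Agent.Sga3B.RootUniq829
import Groth.Agent.Sga3B.IsomHd848

/-!
# (Hd) of S2991: the root part of a family of isomorphisms of pinned groups
-/

set_option autoImplicit false
open CategoryTheory MonoidalCategory CartesianMonoidalCategory MonObj GrpObj AlgebraicGeometry
universe u

namespace Groth.Agent.Sga3B.IsomHd848

open DSPts GaPts IsoFam IsomCore IsomDefs Cell PinMod

variable {S : Scheme.{u}} {G G' : Over S} [GrpObj G] [GrpObj G']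

/-- **Uniqueness of root homomorphisms** in a split group with a reduced root datum. -/
theorem rootUniqAt (D : Red.SplitRed G) [hred : D.P.IsReduced] {R : Type u} [CommRing R]
    (s : Spec (CommRingCat.of R) ⟶ S) : RootUniqAt D s := by
  have haff : IsAffineHom G.hom := D.reductive.1
  obtain ⟨c⟩ := exists_chart G s
  intro a V hnat hzero hrel
  have hg := c.good848 D
  have hL : (Finset.univ (α := (c.datum D).idx)).toList.Nodup := Finset.nodup_toList _
  have hL' : ∀ a : (c.datum D).idx, a ∈ (Finset.univ (α := (c.datum D).idx)).toList :=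
    fun a => Finset.mem_toList.mpr (Finset.mem_univ a)
  obtain ⟨δ, hδ, hδ0⟩ := hg _ hL hL'
  obtain ⟨b⟩ := BaseZ.nonempty_base D.P
  have h0 : ∀ (i : (c.datum D).idx) (n : ℕ), (c.datum D).root i = (n : ℤ) • (c.datum D).root a → n = 1 :=
    fun i n h => PinComb.eq_one_of_root_eq_nsmul b h
  have h1 : ∀ {B C : Type u} [CommRing B] [Algebra R B] [CommRing C] [Algebra R C] (φ : B →ₐ[R] C) (x : B),
      Pt.map φ ((c.pts B).symm (V B x)) = (c.pts C).symm (V C (φ x)) := by
    intro B C _ _ _ _ φ x
    rw [c.pts_symm_nat, hnat]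
  have h2 : ∀ (B : Type u) [CommRing B] [Algebra R B], (c.pts B).symm (V B 0) = 1 := by
    intro B _ _
    rw [hzero, map_one]
  have h3 : ∀ {B : Type u} [CommRing B] [Algebra R B] (t : TPt (c.datum D).M B) (x : B),
      (c.datum D).i B t * (c.pts B).symm (V B x) * ((c.datum D).i B t)⁻¹ =
        (c.pts B).symm (V B (TPt.ch ((c.datum D).root a) t * x)) := by
    intro B _ _ t x
    apply (c.pts B).injective
    have h2 := c.pts_i D t
    rw [map_mul, map_mul, map_inv, MulEquiv.apply_symm_apply, MulEquiv.apply_symm_apply]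
    refine Eq.trans ?_ (hrel t x)
    rw [h2]
    rfl
  obtain ⟨r, hr⟩ := Datum.exists_eq_uu (D := c.datum D) hδ hδ0 hL (a := a) (hL' a) h0
    (fun B _ _ x => (c.pts B).symm (V B x)) h1 h2 h3
  refine ⟨r, fun {B} _ _ x => ?_⟩
  have h1 := congrArg (c.pts B) (hr x)
  rw [MulEquiv.apply_symm_apply] at h1
  exact h1.trans (c.pts_uu D a _)

/-- **(Hd)** for pinned groups. -/
theorem hdStmt (D : Red.Pinning G) (D' : Red.Pinning G') : HdStmt D.toSplitRed D'.toSplitRed := by
  have h1 : D.P.IsReduced := PinComb.isReduced D.base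
  have h2 : D'.P.IsReduced := PinComb.isReduced D'.base
  exact hdStmt_of _ _ (fun R _ s => rootUniqAt _ s) (fun R _ s => rootUniqAt _ s)

end Groth.Agent.Sga3B.IsomHd848
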