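import Groth.Agent.Sga3B.PinModel
import Groth.Agent.Sga3B.PinTransport

/-!
# The isomorphism theorem from models and graphs
-/

set_option autoImplicit false
universe u

open CategoryTheory MonoidalCategory CartesianMonoidalCategory MonObj GrpObj AlgebraicGeometry

namespace Groth.Agent.Sga3B.PinFinal

open Cell PinMod PinTransport

variable {S : Scheme.{u}} {G G' : Over S} [GrpObj G] [GrpObj G']

/-- the torus of a splitting as a morphism from `D_S(M)` -/
noncomputable abbrev jOf (D : Red.SplitRed G) : Red.DS S D.M ⟶ G := D.split.inv.hom.hom ≫ D.i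

/-- S3004 from the existence of models and graphs. -/
theorem main
    (hmodel : ∀ {S : Scheme.{u}} {G : Over S} [GrpObj G] (D : Red.Pinning G) (R : Type u)
      [CommRing R] (s : Spec (CommRingCat.of R) ⟶ S),
      Nonempty (PinModel D.P D.base G (jOf D.toSplitRed) D.u s))
    (hgraph : ∀ {idx M : Type} [Fintype idx] [AddCommGroup M] [Module.Free ℤ M]
      [Module.Finite ℤ M] (P : RootPairing idx ℤ M (Module.Dual ℤ M)) (b : P.Base)
      (R A A' : Type u) [CommRing R] [CommRing A] [Algebra R A] [PtGrp R A]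
      [CommRing A'] [Algebra R A'] [PtGrp R A'] (E : PinCell P b R A) (E' : PinCell P b R A'),
      Nonempty (PinIso.PinGraph E E'))
    (hred : ∀ {idx M : Type} [Fintype idx] [AddCommGroup M] [Module.Free ℤ M]
      [Module.Finite ℤ M] (P : RootPairing idx ℤ M (Module.Dual ℤ M)) (_ : P.Base), P.IsReduced)
    (D : Red.Pinning G) (D' : Red.Pinning G') (h : RootPairing.Equiv D'.P D.P)
    (hΔ : ∀ a' : D'.idx, a' ∈ D'.base.support ↔ h.indexEquiv a' ∈ D.base.support) :
    ∃! f : G ≅ G', IsMonHom f.hom ∧
      D.i ≫ f.hom = D.split.hom.hom.hom ≫ Red.DSmap S h.weightMap.toAddMonoidHom ≫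
        D'.split.inv.hom.hom ≫ D'.i ∧
      ∀ a' : D'.idx, a' ∈ D'.base.support → D.u (h.indexEquiv a') ≫ f.hom = D'.u a' := by
  have := hred D.P D.base
  have key := existsUnique_iso (P := D.P) (b := D.base) (j := jOf D.toSplitRed)
    (j' := jOf (transport D D' h).toSplitRed) (u := D.u) (u' := (transport D D' h).u)
    (fun R _ s => hmodel D R s) (fun R _ s => hmodel (transport D D' h) R s)
    (fun R A A' _ _ _ _ _ _ _ E E' => hgraph D.P D.base R A A' E E')
  have hiff : ∀ f : G ≅ G', (IsMonHom f.hom ∧ jOf D.toSplitRed ≫ f.hom =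
      jOf (transport D D' h).toSplitRed ∧ ∀ a ∈ D.base.support, D.u a ≫ f.hom =
        (transport D D' h).u a) ↔ (IsMonHom f.hom ∧
      D.i ≫ f.hom = D.split.hom.hom.hom ≫ Red.DSmap S h.weightMap.toAddMonoidHom ≫
        D'.split.inv.hom.hom ≫ D'.i ∧
      ∀ a' : D'.idx, a' ∈ D'.base.support → D.u (h.indexEquiv a') ≫ f.hom = D'.u a') := by
    intro f
    have h1 : D.split.hom.hom.hom ≫ D.split.inv.hom.hom = 𝟙 _ :=
      congrArg (fun f => f.hom.hom) D.split.hom_inv_id
    have h2 : D.split.inv.hom.hom ≫ D.split.hom.hom.hom = 𝟙 _ :=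
      congrArg (fun f => f.hom.hom) D.split.inv_hom_id
    refine and_congr Iff.rfl (and_congr ?_ ?_)
    · rw [jOf, jOf, transport_j]
      constructor
      · intro h3
        rw [← h3, Category.assoc, ← Category.assoc, h1, Category.id_comp]
      · intro h3
        rw [Category.assoc, h3, ← Category.assoc, h2, Category.id_comp]
    · constructor
      · intro h3 a' ha'
        have h4 := h3 (h.indexEquiv a') ((hΔ a').1 ha')
        rw [h4]
        change D'.u (h.indexEquiv.symm (h.indexEquiv a')) = _
        rw [Equiv.symm_apply_apply]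
      · intro h3 a ha
        have h4 := h3 (h.indexEquiv.symm a) ((hΔ _).2 (by rwa [Equiv.apply_symm_apply]))
        rw [Equiv.apply_symm_apply] at h4
        exact h4
  obtain ⟨f, hf, huniq⟩ := key
  exact ⟨f, (hiff f).1 hf, fun g hg => huniq g ((hiff g).2 hg)⟩

end Groth.Agent.Sga3B.PinFinal
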