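import Groth.Agent.Sga3B.IsomDefs
import Groth.Agent.Sga3B.PinModel
import Groth.Agent.Sga3B.PinFinal
import Groth.Agent.Sga3B.PinComb829

/-!
# (He): families of isomorphisms are determined on the torus and the simple root groups

Proof of `IsomDefs.HeStmt D G'` from the existence of pinned models (`PinMod.PinModel`).
-/

set_option autoImplicit false
open CategoryTheory MonoidalCategory CartesianMonoidalCategory MonObj GrpObj AlgebraicGeometry
universe u

namespace Groth.Agent.Sga3B.IsomHe832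

open Cell PtDescent PinMod DSPts GaPts IsomCore

variable {S : Scheme.{u}}

/-- The structure morphism of `tB s B` to `Spec R`, over `S`. -/
noncomputable def xB {R : Type u} [CommRing R] (s : Spec (CommRingCat.of R) ⟶ S) (B : Type u) [CommRing B]
    [Algebra R B] : tB s B ⟶ Over.mk s :=
  Over.homMk (Spec.map (CommRingCat.ofHom (algebraMap R B))) rfl

lemma tMap_xB {R : Type u} [CommRing R] (s : Spec (CommRingCat.of R) ⟶ S) {B C : Type u} [CommRing B]
    [Algebra R B] [CommRing C] [Algebra R C] (φ : B →ₐ[R] C) : tMap s φ ≫ xB s B = xB s C := by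
  ext1
  change Spec.map (CommRingCat.ofHom (φ : B →+* C)) ≫ Spec.map (CommRingCat.ofHom (algebraMap R B)) =
    Spec.map (CommRingCat.ofHom (algebraMap R C))
  rw [← Spec.map_comp, ← CommRingCat.ofHom_comp, AlgHom.comp_algebraMap]

variable {G G' : Over S} [GrpObj G] [GrpObj G']

section inverse

variable {V : Over S} {ψ₁ ψ₂ : G ⊗ V ⟶ G'} {θ : G' ⊗ V ⟶ G}

/-- the inverse family is multiplicative -/
lemma mul_inverse (h1 : AutFam.IsHomFamily G G' ψ₂)
    (h2 : ∀ (X : Over S) (g : X ⟶ G) (t : X ⟶ V), lift (lift g t ≫ ψ₂) t ≫ θ = g)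
    (h3 : ∀ (X : Over S) (g' : X ⟶ G') (t : X ⟶ V), lift (lift g' t ≫ θ) t ≫ ψ₂ = g') :
    AutFam.IsHomFamily G' G θ := by
  intro X g g' t
  have h4 := h1 X (lift g t ≫ θ) (lift g' t ≫ θ) t
  rw [h3, h3] at h4
  rw [← h4, h2]

end inverse

/-- **(He)** from the existence of pinned models. -/
theorem heStmt_of_models (D : Red.Pinning G)
    (hmodel : ∀ (R : Type u) [CommRing R] (s : Spec (CommRingCat.of R) ⟶ S),
      Nonempty (PinModel D.P D.base G (PinFinal.jOf D.toSplitRed) D.u s)) : IsomDefs.HeStmt D G' := by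
  intro R _ s ψ₁ ψ₂ hψ₁ hψ₂ htor hroot
  obtain ⟨m⟩ := hmodel R s
  have hred : D.P.IsReduced := PinComb.isReduced D.base
  obtain ⟨h1, -⟩ := hψ₁
  obtain ⟨h2, θ, h3, h4⟩ := hψ₂
  have h5 := mul_inverse h2 h3 h4
  -- the discrepancy
  let α : ∀ (B : Type u) [CommRing B] [Algebra R B], (tB s B ⟶ G) → (tB s B ⟶ G) :=
    fun B _ _ g => lift (lift g (xB s B) ≫ ψ₁) (xB s B) ≫ θ
  have hα : ∀ (B : Type u) [CommRing B] [Algebra R B] (g : tB s B ⟶ G),
      α B g = lift (lift g (xB s B) ≫ ψ₁) (xB s B) ≫ θ := fun _ _ _ _ => rfl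
  have hnat : ∀ {B C : Type u} [CommRing B] [Algebra R B] [CommRing C] [Algebra R C] (φ : B →ₐ[R] C)
      (g : tB s B ⟶ G), tMap s φ ≫ α B g = α C (tMap s φ ≫ g) := by
    intro B C _ _ _ _ φ g
    rw [hα, hα, ← Category.assoc, comp_lift, tMap_xB, ← Category.assoc, comp_lift, tMap_xB]
  have hmul : ∀ {B : Type u} [CommRing B] [Algebra R B] (g h : tB s B ⟶ G),
      α B (g * h) = α B g * α B h := by
    intro B _ _ g h
    rw [hα, hα, hα, h1, h5]
  -- values determined by `ψ₂`
  have hfix : ∀ {B : Type u} [CommRing B] [Algebra R B] (g : tB s B ⟶ G),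
      lift g (xB s B) ≫ ψ₁ = lift g (xB s B) ≫ ψ₂ → α B g = g := by
    intro B _ _ g hg
    rw [hα, hg, h3]
  let φ : m.A →ₐ[R] m.A := ((m.pts m.A).symm (α m.A (m.pts m.A (univ R m.A)))).hom
  have hφ : ∀ {B : Type u} [CommRing B] [Algebra R B] (g : Pt R m.A B),
      m.pts B (comap φ g) = α B (m.pts B g) := by
    intro B _ _ g
    have e1 : comap φ g = Pt.map g.hom ((m.pts m.A).symm (α m.A (m.pts m.A (univ R m.A)))) := rfl
    rw [e1, ← m.pts_nat, MulEquiv.apply_symm_apply, hnat, m.pts_nat, map_univ]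
  have hid : φ = AlgHom.id R m.A := by
    apply PinUniq.eq_id (E := m.E)
    · intro B _ _ g h
      apply (m.pts B).injective
      rw [hφ, map_mul, hmul, map_mul, hφ, hφ]
    · intro B _ _ t
      apply (m.pts B).injective
      rw [hφ]
      apply hfix
      rw [m.pts_i]
      exact htor _ _ _
    · intro a ha B _ _ x
      apply (m.pts B).injective
      rw [hφ]
      apply hfix
      rw [m.pts_uu a ha]
      exact hroot a ha _ _ _
  have hall : ∀ (B : Type u) [CommRing B] [Algebra R B] (g : tB s B ⟶ G),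
      lift g (xB s B) ≫ ψ₁ = lift g (xB s B) ≫ ψ₂ := by
    intro B _ _ g
    obtain ⟨p, rfl⟩ := (m.pts B).surjective g
    have e1 := hφ p
    rw [hid, comap_id, hα] at e1
    conv_rhs => rw [e1]
    rw [h4]
  apply AffYoneda.hom_ext
  intro B σ g
  -- an affine point of `G ⊗ Over.mk s`
  have e1 : g = lift (g ≫ fst _ _) (g ≫ snd _ _) := by
    rw [← comp_lift, lift_fst_snd, Category.comp_id]
  obtain ⟨ρ, hρ⟩ : ∃ ρ : CommRingCat.of R ⟶ B, Spec.map ρ = (g ≫ snd G (Over.mk s)).left :=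
    ⟨Spec.preimage _, Spec.map_preimage _⟩
  have hσ : Spec.map ρ ≫ s = σ := by
    rw [hρ]
    exact Over.w (g ≫ snd G (Over.mk s))
  subst hσ
  let _ : Algebra R B := ρ.hom.toAlgebra
  have e2 : g ≫ snd G (Over.mk s) = xB s B := by
    ext1
    exact hρ.symm
  rw [e1, e2]
  exact hall B (g ≫ fst G (Over.mk s))

end Groth.Agent.Sga3B.IsomHe832
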