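import Groth.Agent.Sga3B.CellOpen

/-!
# The big cell is the complement of a finitely generated ideal
-/

set_option autoImplicit false
universe u

open TensorProduct

namespace Groth.Agent.Sga3B.Cell.Datum

open Groth.Agent.Sga3B.Cell

variable {R A : Type u} [CommRing R] [CommRing A] [Algebra R A] [PtGrp R A] {D : Datum R A}

/-- Membership in the big cell, with a finitely generated ideal. -/
theorem exists_cellIdeal_fg [Algebra.FiniteType R A] (hG : D.Good) (lam : D.M →+ ℤ)
    (hlam : ∀ a, lam (D.root a) ≠ 0) :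
    ∃ I : Ideal A, I.FG ∧ ∀ {B : Type u} [CommRing B] [Algebra R B] (g : Pt R A B),
      (∃ (x : D.idx → B) (t : TPt D.M B),
        g = D.cell (D.signList fun a => lam (D.root a)) x t) ↔ I.map g.hom.toRingHom = ⊤ := by
  have het := signCell_etale hG lam hlam
  set L := D.signList fun a => lam (D.root a) with hL
  have hopen : IsOpen (Set.range (PrimeSpectrum.comap (D.phi L : A →+* D.CR))) := by
    let _ : Algebra A D.CR := (D.phi L : A →+* D.CR).toAlgebra
    have het' : Algebra.Etale A D.CR := het
    have hm := PrimeSpectrum.isOpenMap_comap_of_hasGoingDown_of_finitePresentation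
      (R := A) (S := D.CR)
    exact hm.isOpen_range
  have hcpt : IsCompact (Set.range (PrimeSpectrum.comap (D.phi L : A →+* D.CR))) :=
    isCompact_range (PrimeSpectrum.continuous_comap _)
  obtain ⟨I, hI, hI2⟩ := PrimeSpectrum.isCompact_isOpen_iff_ideal.mp ⟨hcpt, hopen⟩
  refine ⟨I, hI, ?_⟩
  intro B _ _ g
  have hzl : PrimeSpectrum.zeroLocus (I : Set A) =
      (Set.range (PrimeSpectrum.comap (D.phi L : A →+* D.CR)))ᶜ := by
    rw [← hI2, compl_compl]
  constructor
  · rintro ⟨x, t, rfl⟩
    by_contra hne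
    obtain ⟨m, hm, hle⟩ := Ideal.exists_le_maximal _ hne
    have h1 : PrimeSpectrum.comap ((D.cell L x t).hom : A →+* B) ⟨m, hm.isPrime⟩ ∈
        PrimeSpectrum.zeroLocus (I : Set A) := by
      intro z hz
      exact hle (Ideal.mem_map_of_mem _ hz)
    rw [hzl] at h1
    apply h1
    refine ⟨PrimeSpectrum.comap (D.ev x t : D.CR →+* B) ⟨m, hm.isPrime⟩, ?_⟩
    rw [← PrimeSpectrum.comap_comp_apply]
    congr 1
    exact congrArg (fun f : A →ₐ[R] B => (f : A →+* B)) (D.ev_comp_phi L x t)
  · intro h
    obtain ⟨x, t, hx⟩ := exists_signCell_of_range hG lam hlam g (by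
      intro q
      by_contra hq
      have h1 : q.comap (g.hom : A →+* B) ∈ PrimeSpectrum.zeroLocus (I : Set A) := by
        rw [hzl]; exact hq
      have h2 : I.map (g.hom : A →+* B) ≤ q.asIdeal := by
        rw [Ideal.map_le_iff_le_comap]
        exact h1
      exact q.isPrime.ne_top (top_le_iff.mp (h ▸ h2)))
    exact ⟨x, t, hx.symm⟩

/-- `signList` for a decidable set of "negative" indices. -/
lemma signList_eq (k : D.idx → ℤ) (p : D.idx → Prop) [DecidablePred p]
    (hp : ∀ a, p a ↔ ¬ k a < 0) :
    D.signList k = (Finset.univ.filter (fun a => ¬ p a)).toList ++ (Finset.univ.filter p).toList := by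
  unfold signList
  congr 2
  · ext a; simp [hp]
  · ext a; simp [hp]

end Groth.Agent.Sga3B.Cell.Datum
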