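import Groth.Agent.Sga3B.RankOne

/-!
# The rank one relation (F1), second part
-/

set_option autoImplicit false
universe u

open Polynomial LaurentPolynomial TensorProduct

namespace Groth.Agent.Sga3B.Cell

section lev
variable (R : Type u) [CommRing R] {B C : Type u} [CommRing B] [Algebra R B] [CommRing C] [Algebra R C]

lemma laurent_algHom_ext {φ ψ : R[T;T⁻¹] →ₐ[R] B} (h : ∀ n : ℤ, φ (T n) = ψ (T n)) : φ = ψ :=
  AddMonoidAlgebra.algHom_ext h (Subsingleton.elim _ _)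

end lev

end Groth.Agent.Sga3B.Cell

namespace Groth.Agent.Sga3B.Cell.Datum

open Groth.Agent.Sga3B.Cell

variable {R A : Type u} [CommRing R] [CommRing A] [Algebra R A] [PtGrp R A] {D : Datum R A}
variable {B C : Type u} [CommRing B] [Algebra R B] [CommRing C] [Algebra R C]

namespace RankOneHyp

variable {a a' : D.idx} {f : Module.Dual ℤ D.M} {Ln Lp : List D.idx} {I : Ideal A} {n : Pt R A R}
  (H : RankOneHyp D a a' f Ln Lp I n)
include H

/-- `n u_{a'}(y) = u_{a'}(p / y) u_a(q y) t₀ a^∨(y)` for all units `y`. -/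
lemma exists_pq : ∃ (p q : R) (t₀ : TPt D.M R), ∀ {B : Type u} [CommRing B] [Algebra R B] (y : Bˣ),
    bp B n * D.uu a' B y = D.uu a' B (algebraMap R B p * (y⁻¹ : Bˣ)) *
      D.uu a B (algebraMap R B q * y) *
      D.i B (TPt.map (Algebra.ofId R B) t₀ * TPt.cow f y) := by
  obtain ⟨x, t, hxt⟩ := H.mem_cell_univ
  obtain ⟨lam, h0, h0', hlam⟩ := H.exists_lam
  -- specialisation
  have spec : ∀ {B : Type u} [CommRing B] [Algebra R B] (y : Bˣ),
      bp B n * D.uu a' B y = D.cell (Ln ++ Lp) (fun b => lev R (Algebra.ofId R B) y (x b))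
        (TPt.map (lev R (Algebra.ofId R B) y) t) := by
    intro B _ _ y
    have h1 := congrArg (Pt.map (lev R (Algebra.ofId R B) y)) hxt
    rw [Pt.map_mul, map_bp, D.uu_nat, cell_nat, lev_T, zpow_one] at h1
    exact h1
  -- equivariance
  have equi : ∀ {B : Type u} [CommRing B] [Algebra R B] (y u : Bˣ) (τ : TPt D.M B),
      (u : B) = TPt.ch (D.root a') τ →
      (∀ b, lev R (Algebra.ofId R B) (u * y) (x b) =
        TPt.ch (D.rf a f (D.root b)) τ * lev R (Algebra.ofId R B) y (x b)) ∧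
      ∀ m, lev R (Algebra.ofId R B) (u * y) (TPt.ch m t) * TPt.ch m τ =
        TPt.ch (D.rf a f m) τ * lev R (Algebra.ofId R B) y (TPt.ch m t) := by
    intro B _ _ y u τ hu
    set τ' : TPt D.M B := τ.comp (AddMonoidHom.toMultiplicative (D.rf a f)) with hτ'
    have h1 : bp B n * D.i B τ = D.i B τ' * bp B n := H.acts fun m => rfl
    have h2 : bp B n * D.uu a' B ((u * y : Bˣ) : B) =
        D.i B τ' * (bp B n * D.uu a' B y) * D.i B τ⁻¹ := by
      rw [Units.val_mul, hu, ← D.rel, i_inv']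
      rw [← mul_assoc, ← mul_assoc, h1]
      group
    rw [spec, spec, i_mul_cell, cell_mul_i] at h2
    obtain ⟨h3, h4⟩ := H.inj h2
    refine ⟨fun b => congrFun h3 b, fun m => ?_⟩
    rw [← TPt.ch_map, ← TPt.ch_mul, h4]
    have h6 : τ' * TPt.map (lev R (Algebra.ofId R B) y) t * τ⁻¹ * τ =
        τ' * TPt.map (lev R (Algebra.ofId R B) y) t := by
      apply TPt.ext_ch
      intro m
      have h7 : TPt.ch m τ⁻¹ * TPt.ch m τ = 1 := by
        rw [← TPt.ch_mul, TPt.inv_mul_self', TPt.ch_one]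
      rw [TPt.ch_mul, TPt.ch_mul, mul_assoc, h7, mul_one]
    rw [h6]
    rfl
  -- the other coordinates vanish
  have hother : ∀ b, b ≠ a' → b ≠ a → x b = 0 := by
    intro b hb' hb
    have hl : lam (D.root b) ≠ 0 := by
      intro h
      rcases hlam b h with h | h
      · exact hb h
      · exact hb' h
    set y : R[T;T⁻¹][T;T⁻¹]ˣ := Units.map (lC R R[T;T⁻¹] : R[T;T⁻¹] →* R[T;T⁻¹][T;T⁻¹]) (uT R 1)
      with hy
    have h1 := (equi y 1 (D.cochar lam) (by rw [ch_cochar, h0', T_zero, Units.val_one])).1 b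
    rw [one_mul, ch_cochar, rf_apply, map_sub, map_zsmul, h0, smul_zero, sub_zero] at h1
    have h2 : lev R (Algebra.ofId R R[T;T⁻¹][T;T⁻¹]) y = lC R R[T;T⁻¹] := by
      apply laurent_algHom_ext
      intro m
      rw [lev_T, hy, ← map_zpow, Units.coe_map, uT_zpow, one_mul]
      rfl
    rw [h2, lC_apply] at h1
    exact eq_zero_of_T_mul hl h1.symm
  -- the constants
  have hof : Algebra.ofId R R[T;T⁻¹] = lC R R := Subsingleton.elim _ _
  have hone : ∀ z : R[T;T⁻¹], lev R (Algebra.ofId R R[T;T⁻¹]) 1 z =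
      LaurentPolynomial.C (lev R (AlgHom.id R R) 1 z) := by
    intro z
    have h2 : lev R (Algebra.ofId R R[T;T⁻¹]) 1 = (lC R R).comp (lev R (AlgHom.id R R) 1) := by
      apply laurent_algHom_ext
      intro m
      simp
    rw [h2, AlgHom.comp_apply, lC_apply]
  have hcoch := equi (B := R[T;T⁻¹]) 1 (uT R (-2)) (D.cochar f.toAddMonoidHom) (by
    rw [ch_cochar, LinearMap.toAddMonoidHom_coe, H.two', uT_val])
  have hfr : ∀ m, f.toAddMonoidHom (D.rf a f m) = -f m := by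
    intro m
    rw [rf_apply, map_sub, map_zsmul]
    simp only [LinearMap.toAddMonoidHom_coe, H.two, smul_eq_mul]
    ring
  obtain ⟨p, hp⟩ : ∃ p : R, x a' = LaurentPolynomial.C p * T (-1) := by
    refine ⟨lev R (AlgHom.id R R) 1 (x a'), ?_⟩
    have h1 := hcoch.1 a'
    rw [mul_one, hone, ch_cochar, hfr, H.two', neg_neg, hof, mul_comm] at h1
    exact eq_of_lev_pow R (by norm_num) (by norm_num) h1
  obtain ⟨q, hq⟩ : ∃ q : R, x a = LaurentPolynomial.C q * T 1 := by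
    refine ⟨lev R (AlgHom.id R R) 1 (x a), ?_⟩
    have h1 := hcoch.1 a
    rw [mul_one, hone, ch_cochar, hfr, H.two, hof, mul_comm] at h1
    exact eq_of_lev_pow R (by norm_num) (by norm_num) h1
  set t₀ : TPt D.M R := TPt.map (lev R (AlgHom.id R R) 1) t with ht₀
  have ht : ∀ m, TPt.ch m t = LaurentPolynomial.C (TPt.ch m t₀) * T (f m) := by
    intro m
    have h1 := hcoch.2 m
    rw [mul_one, hone, ch_cochar, ch_cochar, hfr, hof] at h1
    refine eq_of_lev_pow R (e := -2) (d := -2 * f m) (by norm_num) rfl ?_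
    have h2 : lev R (lC R R) (uT R (-2)) (TPt.ch m t) =
        (lev R (lC R R) (uT R (-2)) (TPt.ch m t) * T (f.toAddMonoidHom m)) * T (-f m) := by
      rw [mul_assoc, ← T_add]
      simp
    rw [h2, h1]
    rw [mul_comm (T (-f m)), mul_assoc, ← T_add, ht₀, TPt.ch_map]
    congr 2
    ring
  refine ⟨p, q, t₀, ?_⟩
  intro B _ _ y
  rw [spec, ← cell_two H.nodup H.mem_neg H.mem_pos]
  congr 1
  · funext b
    by_cases hb' : b = a'
    · rw [hb', two_left, hp, map_mul, lev_C, lev_T, zpow_neg_one]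
      rfl
    · by_cases hb : b = a
      · rw [hb, two_right H.ne, hq, map_mul, lev_C, lev_T, zpow_one]
        rfl
      · rw [two_other _ _ hb' hb, hother b hb' hb, map_zero]
  · apply TPt.ext_ch
    intro m
    rw [TPt.ch_map, ht, map_mul, lev_C, lev_T, TPt.ch_mul, TPt.ch_cow]
    rfl

/-- the constant `p` is a unit -/
lemma isUnit_p {p q : R} {t₀ : TPt D.M R} (h : ∀ {B : Type u} [CommRing B] [Algebra R B] (y : Bˣ),
    bp B n * D.uu a' B y = D.uu a' B (algebraMap R B p * (y⁻¹ : Bˣ)) *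
      D.uu a B (algebraMap R B q * y) *
      D.i B (TPt.map (Algebra.ofId R B) t₀ * TPt.cow f y)) : IsUnit p := by
  rw [← Ideal.span_singleton_eq_top, ← Ideal.Quotient.subsingleton_iff]
  set Q : Type u := R ⧸ Ideal.span {p} with hQ
  have hp : algebraMap R Q[T;T⁻¹] p = 0 := by
    have h1 : algebraMap R Q p = 0 :=
      Ideal.Quotient.eq_zero_iff_mem.mpr (Ideal.mem_span_singleton_self p)
    have h2 : algebraMap R Q[T;T⁻¹] p = LaurentPolynomial.C (algebraMap R Q p) := rfl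
    rw [h2, h1, map_zero]
  have h1 := h (B := Q[T;T⁻¹]) 1
  have h2 := h (B := Q[T;T⁻¹]) (uT Q 1)
  rw [hp, zero_mul, D.uu_zero, one_mul] at h1 h2
  set t₁ := TPt.map (Algebra.ofId R Q[T;T⁻¹]) t₀ with ht₁
  have hc1 : TPt.cow f (1 : Q[T;T⁻¹]ˣ) = 1 := by
    apply TPt.ext_ch
    intro m
    rw [TPt.ch_cow, one_zpow]
    rfl
  rw [hc1, TPt.mul_one', Units.val_one, mul_one] at h1
  rw [uT_val, i_mul'] at h2
  -- compare
  have h3 : D.uu a' Q[T;T⁻¹] (T 1) = D.uu a' Q[T;T⁻¹] 1 * D.uu a' Q[T;T⁻¹] (T 1 - 1) := by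
    rw [← D.uu_add]
    congr 1
    ring
  rw [h3, ← mul_assoc, h1] at h2
  set Q1 := algebraMap R Q[T;T⁻¹] q with hQ1
  have h4 : D.uu a' Q[T;T⁻¹] (TPt.ch (D.root a') t₁ * (T 1 - 1)) * D.uu a Q[T;T⁻¹] 0 * D.i _ 1 =
      D.uu a' Q[T;T⁻¹] 0 * D.uu a Q[T;T⁻¹] (Q1 * T 1 - Q1) * D.i _ (TPt.cow f (uT Q 1)) := by
    rw [D.uu_zero, D.uu_zero, i_one', mul_one, mul_one, one_mul, ← D.rel]
    have h5 : D.i Q[T;T⁻¹] t₁ * D.uu a' Q[T;T⁻¹] (T 1 - 1) * (D.i Q[T;T⁻¹] t₁)⁻¹ =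
        (D.uu a Q[T;T⁻¹] Q1)⁻¹ * (D.uu a Q[T;T⁻¹] Q1 * D.i Q[T;T⁻¹] t₁ *
          D.uu a' Q[T;T⁻¹] (T 1 - 1)) * (D.i Q[T;T⁻¹] t₁)⁻¹ := by group
    rw [h5, h2]
    have h6 : D.i Q[T;T⁻¹] t₁ * D.i Q[T;T⁻¹] (TPt.cow f (uT Q 1)) =
        D.i Q[T;T⁻¹] (TPt.cow f (uT Q 1)) * D.i Q[T;T⁻¹] t₁ := by
      rw [← i_mul', ← i_mul', TPt.mul_comm']
    rw [h6]
    have h7 : D.uu a Q[T;T⁻¹] (Q1 * T 1 - Q1) =
        (D.uu a Q[T;T⁻¹] Q1)⁻¹ * D.uu a Q[T;T⁻¹] (Q1 * T 1) := by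
      rw [← D.uu_neg, ← D.uu_add]
      congr 1
      ring
    rw [h7]
    group
  rw [← cell_two H.nodup H.mem_neg H.mem_pos, ← cell_two H.nodup H.mem_neg H.mem_pos] at h4
  have h5 := congrFun (H.inj h4).1 a'
  rw [two_left, two_left] at h5
  have h6 : (T 1 - 1 : Q[T;T⁻¹]) = 0 := (TPt.isUnit_ch (D.root a') t₁).mul_right_eq_zero.mp h5
  have h7 := congrArg (fun z : Q[T;T⁻¹] => z.coeff 1) (sub_eq_zero.mp h6)
  have h8 : (1 : Q[T;T⁻¹]) = T 0 := T_zero.symm
  simp only [h8, LaurentPolynomial.T, AddMonoidAlgebra.coeff_single, Finsupp.single_apply] at h7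
  norm_num at h7
  exact subsingleton_of_zero_eq_one h7.symm

/-- the relation for `z` invertible -/
lemma rel_unit {p : Rˣ} {q : R} {t₀ : TPt D.M R} {r : Rˣ}
    (h : ∀ {B : Type u} [CommRing B] [Algebra R B] (y : Bˣ),
      bp B n * D.uu a' B y = D.uu a' B (algebraMap R B p * (y⁻¹ : Bˣ)) *
        D.uu a B (algebraMap R B q * y) *
        D.i B (TPt.map (Algebra.ofId R B) t₀ * TPt.cow f y))
    (hr : ∀ {B : Type u} [CommRing B] [Algebra R B] (y : B),
      bp B n * D.uu a' B y * (bp B n)⁻¹ = D.uu a B (algebraMap R B r * y))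
    (x : B) (z v : Bˣ) (hv : (v : B) = 1 + algebraMap R B ((r * p)⁻¹ : Rˣ) * x * z) :
    D.uu a B x * D.uu a' B z = D.uu a' B ((v⁻¹ : Bˣ) * z) * D.i B (TPt.cow f v) *
      D.uu a B (algebraMap R B (-q * (r⁻¹ : Rˣ)) * (v⁻¹ : Bˣ) * x) := by
  -- the units
  set P : Bˣ := Units.map (algebraMap R B : R →* B) p with hP
  set Q : Bˣ := Units.map (algebraMap R B : R →* B) r with hQ
  have hPp : algebraMap R B p = (P : B) := rfl
  have hQr : algebraMap R B r = (Q : B) := rfl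
  have hQi : algebraMap R B ((r⁻¹ : Rˣ) : R) = ((Q⁻¹ : Bˣ) : B) := by
    rw [hQ, ← map_inv]; rfl
  have hc : algebraMap R B (((r * p)⁻¹ : Rˣ) : R) = ((Q⁻¹ * P⁻¹ : Bˣ) : B) := by
    rw [hQ, hP, ← map_inv, ← map_inv, ← map_mul, mul_inv]; rfl
  set Y : Bˣ := P * z⁻¹ with hY
  have hYz : (P : B) * ((Y⁻¹ : Bˣ) : B) = z := by
    rw [← Units.val_mul, hY]
    congr 1
    rw [mul_inv, inv_inv, ← mul_assoc, mul_inv_cancel, one_mul]
  have hYv : (P : B) * (((Y * v)⁻¹ : Bˣ) : B) = (v⁻¹ : Bˣ) * z := by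
    rw [← Units.val_mul, ← Units.val_mul, hY]
    congr 1
    rw [mul_inv, mul_inv, inv_inv, ← mul_assoc, ← mul_assoc, mul_inv_cancel, one_mul, mul_comm]
  have hsum : ((Y * v : Bˣ) : B) = (Q⁻¹ : Bˣ) * x + Y := by
    rw [Units.val_mul, hv, hc, hY, Units.val_mul, Units.val_mul]
    have h1 : (P : B) * ((P⁻¹ : Bˣ) : B) = 1 := Units.mul_inv P
    have h2 : ((z⁻¹ : Bˣ) : B) * (z : B) = 1 := Units.inv_mul z
    linear_combination ((Q⁻¹ : Bˣ) : B) * x * ((z⁻¹ : Bˣ) : B) * (z : B) * h1 +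
      ((Q⁻¹ : Bˣ) : B) * x * h2
  have h1 : bp B n * D.uu a' B ((Y * v : Bˣ) : B) = D.uu a B x * (bp B n * D.uu a' B Y) := by
    rw [hsum, D.uu_add, ← mul_assoc, ← mul_assoc]
    congr 1
    have h2 := hr (B := B) ((Q⁻¹ : Bˣ) * x)
    rw [hQr, ← mul_assoc, Units.mul_inv, one_mul] at h2
    rw [← h2]
    group
  rw [h, h, hPp, hYz, hYv] at h1
  set t₁ := TPt.map (Algebra.ofId R B) t₀ with ht₁
  have hcow : TPt.cow f (Y * v) = TPt.cow f Y * TPt.cow f v := by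
    apply TPt.ext_ch
    intro m
    rw [TPt.ch_mul, TPt.ch_cow, TPt.ch_cow, TPt.ch_cow, mul_zpow, Units.val_mul]
  have hcom : D.i B (t₁ * TPt.cow f (Y * v)) = D.i B (TPt.cow f v) * D.i B (t₁ * TPt.cow f Y) := by
    rw [hcow, ← i_mul']
    congr 1
    apply TPt.ext_ch
    intro m
    rw [TPt.ch_mul, TPt.ch_mul, TPt.ch_mul, TPt.ch_mul]
    ring
  rw [hcom] at h1
  set q' : B := algebraMap R B q with hq'
  have h3 : D.uu a B x * D.uu a' B z = D.uu a' B ((v⁻¹ : Bˣ) * z) *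
      D.uu a B (q' * ((Y * v : Bˣ) : B)) * D.i B (TPt.cow f v) * (D.uu a B (q' * Y))⁻¹ := by
    have h4 : D.uu a B x * D.uu a' B z = (D.uu a B x * (D.uu a' B z * D.uu a B (q' * Y) *
      D.i B (t₁ * TPt.cow f Y))) * (D.i B (t₁ * TPt.cow f Y))⁻¹ * (D.uu a B (q' * Y))⁻¹ := by group
    rw [h4, ← h1]
    group
  rw [h3]
  have h5 : D.uu a B (q' * ((Y * v : Bˣ) : B)) * D.i B (TPt.cow f v) =
      D.i B (TPt.cow f v) * D.uu a B ((v⁻¹ : Bˣ) * (q' * Y)) := by
    have h6 := D.rel a (TPt.cow f v) ((v⁻¹ : Bˣ) * (q' * (Y : B)))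
    have h7 : TPt.ch (D.root a) (TPt.cow f v) = (v : B) * v := by
      rw [TPt.ch_cow, H.two, zpow_ofNat, pow_two, Units.val_mul]
    rw [h7] at h6
    have h8 : (v : B) * v * ((v⁻¹ : Bˣ) * (q' * (Y : B))) = q' * ((Y * v : Bˣ) : B) := by
      have h9 : (v : B) * ((v⁻¹ : Bˣ) : B) = 1 := Units.mul_inv v
      rw [Units.val_mul Y v]
      linear_combination (v : B) * (q' * Y) * h9
    rw [h8] at h6
    rw [← h6]
    group
  have h10 : D.uu a' B ((v⁻¹ : Bˣ) * z) * D.uu a B (q' * ((Y * v : Bˣ) : B)) *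
      D.i B (TPt.cow f v) * (D.uu a B (q' * Y))⁻¹ =
      D.uu a' B ((v⁻¹ : Bˣ) * z) * D.i B (TPt.cow f v) *
        (D.uu a B ((v⁻¹ : Bˣ) * (q' * Y)) * D.uu a B (-(q' * Y))) := by
    rw [mul_assoc (D.uu a' B _), h5, D.uu_neg]
    group
  rw [h10, ← D.uu_add]
  congr 2
  have h11 : (v : B) * ((v⁻¹ : Bˣ) : B) = 1 := Units.mul_inv v
  have h12 : ((Y * v : Bˣ) : B) = (Q⁻¹ : Bˣ) * x + Y := hsum
  rw [Units.val_mul] at h12
  rw [map_mul, map_neg, hQi]
  linear_combination (-q' * ((v⁻¹ : Bˣ) : B)) * h12 + q' * (Y : B) * h11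

/-- the relation in general, up to a constant -/
lemma rel_gen {p : Rˣ} {q : R} {t₀ : TPt D.M R} {r : Rˣ}
    (h : ∀ {B : Type u} [CommRing B] [Algebra R B] (y : Bˣ),
      bp B n * D.uu a' B y = D.uu a' B (algebraMap R B p * (y⁻¹ : Bˣ)) *
        D.uu a B (algebraMap R B q * y) *
        D.i B (TPt.map (Algebra.ofId R B) t₀ * TPt.cow f y))
    (hr : ∀ {B : Type u} [CommRing B] [Algebra R B] (y : B),
      bp B n * D.uu a' B y * (bp B n)⁻¹ = D.uu a B (algebraMap R B r * y))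
    (x z : B) (v : Bˣ) (hv : (v : B) = 1 + algebraMap R B ((r * p)⁻¹ : Rˣ) * x * z) :
    D.uu a B x * D.uu a' B z = D.uu a' B ((v⁻¹ : Bˣ) * z) * D.i B (TPt.cow f v) *
      D.uu a B (algebraMap R B (-q * (r⁻¹ : Rˣ)) * (v⁻¹ : Bˣ) * x) := by
  set c : R := (((r * p)⁻¹ : Rˣ) : R) with hc
  let zt : B[X] := X + Polynomial.C z
  let vt : B[X] := 1 + Polynomial.C (algebraMap R B c * x) * zt
  let B2 := Localization.Away vt
  let j2 : B[X] →ₐ[R] B2 := IsScalarTower.toAlgHom R B[X] B2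
  let zt2 : B2 := j2 zt
  let B3 := Localization.Away zt2
  let j3 : B2 →ₐ[R] B3 := IsScalarTower.toAlgHom R B2 B3
  have hvu : IsUnit (j2 vt) := IsLocalization.Away.algebraMap_isUnit vt
  have hzu : IsUnit (j3 zt2) := IsLocalization.Away.algebraMap_isUnit zt2
  -- `j3` is injective
  have hj3 : Function.Injective j3 := by
    have h1 : zt ∈ nonZeroDivisors B[X] := by
      have h2 : zt.Monic := Polynomial.monic_X_add_C z
      exact h2.mem_nonZeroDivisors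
    have h2 : zt2 ∈ nonZeroDivisors B2 :=
      IsLocalization.map_nonZeroDivisors_le (Submonoid.powers vt) B2 ⟨zt, h1, rfl⟩
    exact IsLocalization.injective B3 (Submonoid.powers_le.mpr h2)
  -- the relation over `B2`
  obtain ⟨v2, hv2⟩ := hvu
  obtain ⟨z3, hz3⟩ := hzu
  let x2 : B2 := j2 (Polynomial.C x)
  have hvt : (v2 : B2) = 1 + algebraMap R B2 c * x2 * zt2 := by
    rw [hv2]
    change j2 (1 + Polynomial.C (algebraMap R B c * x) * zt) = _
    rw [map_add, map_one, map_mul, map_mul, map_mul]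
    congr 3
  have key : D.uu a B2 x2 * D.uu a' B2 zt2 = D.uu a' B2 ((v2⁻¹ : B2ˣ) * zt2) *
      D.i B2 (TPt.cow f v2) * D.uu a B2 (algebraMap R B2 (-q * (r⁻¹ : Rˣ)) * (v2⁻¹ : B2ˣ) * x2) := by
    apply Pt.map_injective hj3
    rw [Pt.map_mul, Pt.map_mul, Pt.map_mul, D.uu_nat, D.uu_nat, D.uu_nat, D.uu_nat, D.i_nat,
      TPt.map_cow, ← hz3]
    have h1 := H.rel_unit h hr (B := B3) (j3 x2) z3 (Units.map (j3 : B2 →* B3) v2) (by
      rw [Units.coe_map, hz3]
      change j3 (v2 : B2) = _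
      rw [hvt, map_add, map_one, map_mul, map_mul]
      congr 3)
    rw [h1]
    congr 2
    · congr 1
      rw [map_mul, ← hz3]
      congr 1
    · rw [map_mul j3, map_mul j3, AlgHom.commutes]
      congr 1
  -- evaluate at `X = 0`
  have hev : ∀ y : Submonoid.powers vt, IsUnit (pev R B 0 y) := by
    rintro ⟨y, m, rfl⟩
    rw [map_pow]
    apply IsUnit.pow
    have h1 : pev R B 0 vt = v := by
      rw [pev_apply, hv]
      simp [vt, zt, mul_assoc]
    rw [h1]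
    exact v.isUnit
  let ε : B2 →ₐ[R] B := IsLocalization.liftAlgHom (M := Submonoid.powers vt) (f := pev R B 0) hev
  have hε : ∀ y, ε (j2 y) = pev R B 0 y := fun y => IsLocalization.lift_eq _ y
  have hεx : ε x2 = x := by
    rw [hε, pev_apply, Polynomial.eval_C]
  have hεz : ε zt2 = z := by
    rw [hε, pev_apply]
    simp [zt]
  have hεv : Units.map (ε : B2 →* B) v2 = v := by
    apply Units.ext
    rw [Units.coe_map]
    change ε (v2 : B2) = v
    rw [hvt, map_add, map_mul, map_mul, AlgHom.commutes, hεx, hεz, map_one, hv]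
  have h1 := congrArg (Pt.map ε) key
  rw [Pt.map_mul, Pt.map_mul, Pt.map_mul, D.uu_nat, D.uu_nat, D.uu_nat, D.uu_nat, D.i_nat,
      TPt.map_cow, hεx, hεz, hεv, map_mul, map_mul, map_mul, AlgHom.commutes, hεx, hεz] at h1
  have h2 : ε ((v2⁻¹ : B2ˣ) : B2) = ((v⁻¹ : Bˣ) : B) := by
    rw [← hεv, ← map_inv]
    rfl
  rw [h2] at h1
  exact h1

/-- **The rank one relation (F1).** -/
theorem rank_one : ∃ c : Rˣ, ∀ {B : Type u} [CommRing B] [Algebra R B] (x z : B) (v : Bˣ),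
    (v : B) = 1 + algebraMap R B c * x * z →
    D.uu a B x * D.uu a' B z = D.uu a' B ((v⁻¹ : Bˣ) * z) * D.i B (TPt.cow f v) *
      D.uu a B ((v⁻¹ : Bˣ) * x) := by
  obtain ⟨p, q, t₀, h⟩ := H.exists_pq
  obtain ⟨r, hr⟩ := H.exists_conj
  obtain ⟨p, rfl⟩ := H.isUnit_p h
  have he : -q * (r⁻¹ : Rˣ) = 1 := by
    have h1 := H.rel_gen h hr (B := R) 1 0 1 (by simp)
    have hc1 : TPt.cow f (1 : Rˣ) = 1 := by
      apply TPt.ext_ch
      intro m
      rw [TPt.ch_cow, one_zpow]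
      rfl
    rw [mul_zero, D.uu_zero, hc1, i_one', mul_one, one_mul, one_mul] at h1
    have h2 := D.uu_inj a h1
    simpa using h2.symm
  refine ⟨(r * p)⁻¹, ?_⟩
  intro B _ _ x z v hv
  have h1 := H.rel_gen h hr x z v hv
  rw [he, map_one, one_mul] at h1
  exact h1

/-- The rank one relation in the normalised form of `PinCell.rank1`. -/
theorem rank_one_norm : ∃ c : Rˣ, ∀ {B : Type u} [CommRing B] [Algebra R B] (x y : B) (v : Bˣ),
    (v : B) = 1 + x * y →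
    D.uu a B x * D.uu a' B (algebraMap R B c * y) =
      D.uu a' B (algebraMap R B c * ((v⁻¹ : Bˣ) * y)) * D.i B (TPt.cow f v) *
        D.uu a B ((v⁻¹ : Bˣ) * x) := by
  obtain ⟨c, hc⟩ := H.rank_one
  refine ⟨c⁻¹, ?_⟩
  intro B _ _ x y v hv
  have h1 : algebraMap R B c * algebraMap R B ((c⁻¹ : Rˣ) : R) = 1 := by
    rw [← map_mul, Units.mul_inv, map_one]
  rw [hc x (algebraMap R B ((c⁻¹ : Rˣ) : R) * y) v (by
    rw [hv]
    linear_combination (-x * y) * h1)]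
  congr 3
  ring

end RankOneHyp

end Groth.Agent.Sga3B.Cell.Datum
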