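import Groth.Agent.Sga3B.CellN

/-!
# Rescaling the root homomorphisms by units
-/

set_option autoImplicit false
universe u

open Polynomial

namespace Groth.Agent.Sga3B.Cell.Datum

open Groth.Agent.Sga3B.Cell

variable {R A : Type u} [CommRing R] [CommRing A] [Algebra R A] [PtGrp R A] (D : Datum R A)
  (ε : D.idx → Rˣ)

/-- the datum with `u_a(x)` replaced by `u_a(ε_a x)` -/
def rescale : Datum R A where
  M := D.M
  acg := D.acg
  free := D.free
  fin := D.fin
  idx := D.idx
  fty := D.fty
  root := D.root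
  i := D.i
  i_nat := D.i_nat
  i_inj := D.i_inj
  uu a B _ _ x := D.uu a B (algebraMap R B (ε a) * x)
  uu_add a B _ _ x y := by rw [mul_add, D.uu_add]
  uu_nat a B C _ _ _ _ φ x := by rw [D.uu_nat, map_mul, AlgHom.commutes]
  uu_surj a := by
    have h1 : D.uu a R[X] (algebraMap R R[X] (ε a) * X) =
        Pt.map (Polynomial.aeval (algebraMap R R[X] (ε a) * X) : R[X] →ₐ[R] R[X])
          (D.uu a R[X] X) := by
      rw [D.uu_nat, Polynomial.aeval_X]
    rw [h1]
    have h2 : Function.Surjective
        (Polynomial.aeval (algebraMap R R[X] (ε a) * X) : R[X] →ₐ[R] R[X]) := by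
      intro p
      refine ⟨Polynomial.aeval (algebraMap R R[X] (ε a)⁻¹.val * X) p, ?_⟩
      have h3 : ((Polynomial.aeval (algebraMap R R[X] (ε a) * X) : R[X] →ₐ[R] R[X]).comp
          (Polynomial.aeval (algebraMap R R[X] (ε a)⁻¹.val * X))) = AlgHom.id R R[X] := by
        apply Polynomial.algHom_ext
        simp only [AlgHom.comp_apply, Polynomial.aeval_X, map_mul, AlgHom.commutes,
          AlgHom.id_apply]
        rw [← mul_assoc, ← map_mul, Units.inv_mul, map_one, one_mul]
      exact congrArg (fun f : R[X] →ₐ[R] R[X] => f p) h3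
    exact h2.comp (D.uu_surj a)
  rel a B _ _ t x := by rw [D.rel]; congr 1; ring
  root_inj := D.root_inj
  root_ne := D.root_ne

lemma rescale_uu (a : D.idx) (B : Type u) [CommRing B] [Algebra R B] (x : B) :
    (D.rescale ε).uu a B x = D.uu a B (algebraMap R B (ε a) * x) := rfl

lemma rescale_cell {B : Type u} [CommRing B] [Algebra R B] (L : List D.idx) (x : D.idx → B)
    (t : TPt D.M B) : (D.rescale ε).cell L x t = D.cell L (fun a => algebraMap R B (ε a) * x a) t :=
  rfl

/-- the substitution `X_a ↦ ε_a X_a` -/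
noncomputable def scale : D.CR →ₐ[R] D.CR := D.ev (fun a => algebraMap R D.CR (ε a) * MvPolynomial.X a) D.tU

lemma scale_comp (η : D.idx → Rˣ) (h : ∀ a, ε a * η a = 1) :
    (D.scale ε).comp (D.scale η) = AlgHom.id R D.CR := by
  apply D.algHom_ext
  · intro a
    simp only [AlgHom.comp_apply, scale, ev_X, map_mul, AlgHom.commutes, AlgHom.id_apply]
    rw [← mul_assoc, ← map_mul, ← Units.val_mul, mul_comm (η a), h, Units.val_one, map_one, one_mul]
  · intro m
    rw [AlgHom.comp_apply, scale, scale, ← TPt.ch_map, map_ev_tU, ← TPt.ch_map, map_ev_tU]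
    rfl

lemma phi_rescale (L : List D.idx) : (D.rescale ε).phi L = (D.scale ε).comp (D.phi L) := by
  rw [scale, ev_comp_phi]
  rfl

/-- rescaling preserves the étaleness near the origin -/
theorem EtOn.rescale {L : List D.idx} {δ : D.CR} (hδ : D.EtOn L δ) :
    (D.rescale ε).EtOn L (D.scale ε δ) := by
  let e : D.CR ≃ₐ[R] D.CR := AlgEquiv.ofAlgHom (D.scale ε) (D.scale (fun a => (ε a)⁻¹))
    (D.scale_comp ε _ (fun a => mul_inv_cancel _)) (D.scale_comp _ ε (fun a => inv_mul_cancel _))
  have hmap : Submonoid.map (e.toRingEquiv : D.CR →* D.CR) (Submonoid.powers δ) =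
      Submonoid.powers (D.scale ε δ) := by
    rw [Submonoid.map_powers]; rfl
  let E : Localization.Away δ ≃+* Localization.Away (D.scale ε δ) :=
    IsLocalization.ringEquivOfRingEquiv (M := Submonoid.powers δ)
      (T := Submonoid.powers (D.scale ε δ)) _ _ e.toRingEquiv hmap
  have h1 : ((algebraMap D.CR (Localization.Away (D.scale ε δ))).comp
      (((D.scale ε).comp (D.phi L) : A →ₐ[R] D.CR) : A →+* D.CR)) =
      (E : Localization.Away δ →+* Localization.Away (D.scale ε δ)).comp
        ((algebraMap D.CR (Localization.Away δ)).comp (D.phi L : A →+* D.CR)) := by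
    refine RingHom.ext fun x => ?_
    simp only [RingHom.comp_apply]
    change algebraMap D.CR _ (D.scale ε (D.phi L x)) = E (algebraMap D.CR _ (D.phi L x))
    rw [IsLocalization.ringEquivOfRingEquiv_eq]
    rfl
  unfold EtOn
  rw [phi_rescale]
  change RingHom.Etale ((algebraMap D.CR (Localization.Away (D.scale ε δ))).comp
      (((D.scale ε).comp (D.phi L) : A →ₐ[R] D.CR) : A →+* D.CR))
  rw [h1]
  exact RingHom.Etale.respectsIso.1 _ E hδ

lemma ev0_rescale (δ : D.CR) : (D.rescale ε).ev0 (D.scale ε δ) = D.ev0 δ := by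
  have h : (D.ev0).comp (D.scale ε) = D.ev0 := by
    rw [scale, comp_ev, ev0]
    congr 1
    · funext a
      simp
    · rw [map_ev_tU]
  exact congrArg (fun f : D.CR →ₐ[R] R => f δ) h

/-- rescaling preserves goodness -/
theorem Good.rescale (hG : D.Good) : (D.rescale ε).Good := by
  intro L hL hLc
  obtain ⟨δ, hδ, hδ0⟩ := hG L hL hLc
  exact ⟨D.scale ε δ, EtOn.rescale D ε hδ, (D.ev0_rescale ε δ).trans hδ0⟩

end Groth.Agent.Sga3B.Cell.Datum
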