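import Groth.Agent.Sga3B.ChartEx
import Groth.Agent.Sga3B.ChartFib
import Groth.Agent.Sga3B.CellEt
import Groth.Agent.Sga3B.PinBuild
import Groth.Agent.Sga3B.PinFinal

/-!
# The pinned model of a pinned group from a chart
-/

set_option autoImplicit false
universe u

open CategoryTheory MonoidalCategory CartesianMonoidalCategory MonObj GrpObj AlgebraicGeometry
open TensorProduct

namespace Groth.Agent.Sga3B.PinModelOf

open Cell Cell.Datum PinMod PinFinal DSPts GaPts

variable {S : Scheme.{u}} {G : Over S} [GrpObj G] {R : Type u} [CommRing R]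
  {s : Spec (CommRingCat.of R) ⟶ S}

/-- conjugation by a reflection point -/
theorem conj_of_acts {A : Type u} [CommRing A] [Algebra R A] [PtGrp R A] {D : Datum R A}
    (P : RootPairing D.idx ℤ D.M (Module.Dual ℤ D.M)) (hP : ∀ a, P.root a = D.root a)
    (hpe : P.toLinearMap = Module.Dual.eval ℤ D.M) {a : D.idx} {n : Pt R A R}
    (h : D.Acts n (P.reflection a).toLinearMap.toAddMonoidHom) {B : Type u} [CommRing B]
    [Algebra R B] (t : TPt D.M B) :
    bp B n * D.i B t * (bp B n)⁻¹ =
      D.i B (t * (TPt.cow (P.coroot a) (t (Multiplicative.ofAdd (D.root a))))⁻¹) := by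
  rw [mul_inv_eq_iff_eq_mul]
  apply h
  intro m
  have h1 : P.reflection a m = m - (P.coroot a m) • D.root a := by
    rw [RootPairing.reflection_apply, ← hP]
    congr 2
    change P.toLinearMap m (P.coroot a) = _
    rw [hpe]
    rfl
  change _ = TPt.ch (P.reflection a m) t
  rw [h1]
  change ((t (Multiplicative.ofAdd m) * ((t (Multiplicative.ofAdd (D.root a))) ^
    (P.coroot a m))⁻¹ : Bˣ) : B) = ((t (Multiplicative.ofAdd (m - P.coroot a m • D.root a)) : Bˣ) : B)
  congr 1
  rw [ofAdd_sub, ofAdd_zsmul, map_div, map_zpow, div_eq_mul_inv]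

/-- reflection points -/
theorem exists_acts (D : Red.SplitRed G) (c : Chart G s) (a : D.idx) :
    ∃ n : Pt R c.A R, (c.datum D).Acts n (D.P.reflection a).toLinearMap.toAddMonoidHom := by
  obtain ⟨n₀, hn₀⟩ := D.refl a
  refine ⟨(c.pts R).symm (toUnit _ ≫ n₀), ?_⟩
  intro B _ _ t t' htt'
  have h1 : c.pts B (bp B ((c.pts R).symm (toUnit _ ≫ n₀))) = toUnit _ ≫ n₀ := by
    rw [bp, ← c.pts_nat, MulEquiv.apply_symm_apply, ← Category.assoc]
    congr 1
    exact toUnit_unique _ _
  apply (c.pts B).injective
  rw [map_mul, map_mul, h1, Chart.pts_i, Chart.pts_i]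
  have h2 := hn₀ (tB s B) (dsEquiv (tB s B) D.M (chΓ s t) ≫ D.split.inv.hom.hom)
  rw [mul_inv_eq_iff_eq_mul] at h2
  have h3 : D.split.inv.hom.hom ≫ D.split.hom.hom.hom = 𝟙 _ :=
    congrArg (fun f => f.hom.hom) D.split.inv_hom_id
  have h4 : (dsEquiv (tB s B) D.M (chΓ s t) ≫ D.split.inv.hom.hom) ≫ D.split.hom.hom.hom ≫
      Red.DSmap S (D.P.reflection a).toLinearMap.toAddMonoidHom ≫ D.split.inv.hom.hom ≫ D.i =
      dsEquiv (tB s B) D.M (chΓ s t') ≫ Chart.j D := by
    simp only [Category.assoc]
    rw [← Category.assoc D.split.inv.hom.hom, h3, Category.id_comp, ← Category.assoc, dsEquiv_DSmap]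
    change _ = dsEquiv (tB s B) D.M (chΓ s t') ≫ D.split.inv.hom.hom ≫ D.i
    congr 2
    refine MonoidHom.ext fun m => ?_
    exact (congrArg (fnOf s) (htt' m.toAdd)).symm
  rw [h4, Category.assoc] at h2
  exact h2

/-- **The datum of a splitting is good.** -/
theorem good (D : Red.SplitRed G) (c : Chart G s) : (c.datum D).Good := by
  have : Smooth G.hom := D.reductive.2.1
  have : Algebra.Smooth R c.A := ChartFib.smooth_of_isPullback c.isPullback
  have hrk : (c.datum D).RankOK := fun K _ _ _ _ _ _ =>
    (ChartFib.finrank_eq D.reductive (N := Module.finrank ℤ D.M + Fintype.card D.idx)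
      D.dim_fibre c.isPullback K).trans (add_comm _ _)
  exact Datum.good (c.datum D) hrk

/-- The pinned model from a chart. -/
theorem exists_pinModel (D : Red.Pinning G) (c : Chart G s) :
    Nonempty (PinModel D.P D.base G (jOf D.toSplitRed) D.u s) := by
  have : Smooth G.hom := D.reductive.2.1
  have : Algebra.Smooth R c.A := ChartFib.smooth_of_isPullback c.isPullback
  obtain ⟨E, hi, hu⟩ := PinBuild.exists_pinCell (D := c.datum D.toSplitRed)
    (fun K _ _ => ChartFib.isDomain D.reductive c.isPullback K) (good D.toSplitRed c) D.P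
    (fun a => rfl) D.pairing_eq D.base (fun a _ => by
      obtain ⟨n, hn⟩ := exists_acts D.toSplitRed c a
      exact ⟨n, fun t => conj_of_acts (D := c.datum D.toSplitRed) D.P (fun a => rfl)
        D.pairing_eq hn t⟩)
  exact ⟨{ A := c.A
           E := E
           pts := c.pts
           pts_nat := c.pts_nat
           pts_i := fun B _ _ t =>
             (congrArg (c.pts B) (hi B t)).trans (c.pts_i D.toSplitRed t)
           pts_uu := fun a ha B _ _ x =>
             (congrArg (c.pts B) (hu a ha B x)).trans (c.pts_uu D.toSplitRed a x) }⟩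

/-- Pinned models exist over every `s : Spec R ⟶ S`. -/
theorem nonempty_pinModel (D : Red.Pinning G) (R : Type u) [CommRing R]
    (s : Spec (CommRingCat.of R) ⟶ S) :
    Nonempty (PinModel D.P D.base G (jOf D.toSplitRed) D.u s) := by
  have : IsAffineHom G.hom := D.reductive.1
  obtain ⟨c⟩ := exists_chart G s
  exact exists_pinModel D c

end Groth.Agent.Sga3B.PinModelOf
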