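import Groth.Agent.Sga3B.SplitIso848
import Groth.Agent.Sga3B.SplitBc

/-!
# Simultaneous étale-local pinnings of two group schemes
-/

set_option autoImplicit false
open CategoryTheory MonoidalCategory CartesianMonoidalCategory MonObj GrpObj AlgebraicGeometry Limits
universe u

namespace Groth.Agent.Sga3B.IsomPin848

open Groth.Agent.Sga3B Groth.Agent.Sga3B.RedIso SplitIso848 ResAlg

variable {S : Scheme.{u}}

/-- `G` is split with a reduced root datum étale-locally around `s`. -/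
def SplitNear (G : Over S) [GrpObj G] (s : S) : Prop :=
  ∃ (U : Scheme.{u}) (f : U ⟶ S) (_ : Etale f), s ∈ Set.range f.base ∧
    ∃ D : Red.SplitRed ((Over.pullback f).obj G), D.P.IsReduced

/-- Splittings pulled back along a composition. -/
noncomputable def splitComp {U V : Scheme.{u}} (f : U ⟶ S) (w : V ⟶ U) [AlgRes w] (v : V ⟶ S)
    (hv : w ≫ f = v) (G : Over S) [GrpObj G] (D : Red.SplitRed (Red.bc f G)) : Red.SplitRed (Red.bc v G) :=
  splitOfIso ((BcIso.bcCompIso w f G).symm ≪≫ BcIso.bcCongrIso hv G) (SplitBc.bcSplit w D)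

/-- Pinnings pulled back along a composition. -/
noncomputable def pinComp {U V : Scheme.{u}} (f : U ⟶ S) (w : V ⟶ U) [AlgRes w] (v : V ⟶ S)
    (hv : w ≫ f = v) (G : Over S) [GrpObj G] (D : Red.Pinning (Red.bc f G)) : Red.Pinning (Red.bc v G) :=
  pinOfIso ((BcIso.bcCompIso w f G).symm ≪≫ BcIso.bcCongrIso hv G) (SplitBc.bcPinning w D)

/-- **Simultaneous pinnings.** If `G` and `H` are split étale-locally around `s`, there is an étale
morphism `Spec B ⟶ S` through `s` over which both are pinned. -/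
theorem exists_pinnings (G H : Over S) [GrpObj G] [GrpObj H] (s : S)
    (hG : SplitNear G s) (hH : SplitNear H s) :
    ∃ (B : CommRingCat.{u}) (v : Spec B ⟶ S), Etale v ∧ s ∈ Set.range v.base ∧
      Nonempty (Red.Pinning (Red.bc v G)) ∧ Nonempty (Red.Pinning (Red.bc v H)) := by
  obtain ⟨U₁, f₁, hf₁, ⟨x₁, hx₁⟩, D₁, hD₁⟩ := hG
  obtain ⟨U₂, f₂, hf₂, ⟨x₂, hx₂⟩, D₂, hD₂⟩ := hH
  obtain ⟨z, hz₁, hz₂⟩ := Scheme.Pullback.exists_preimage_pullback (f := f₁) (g := f₂) x₁ x₂ (hx₁.trans hx₂.symm)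
  obtain ⟨_, ⟨W, hW, rfl⟩, hzW, -⟩ :=
    (pullback f₁ f₂).isBasis_affineOpens.exists_subset_of_mem_open (a := z) (Set.mem_univ z) isOpen_univ
  obtain ⟨y, hy⟩ := hW.range_fromSpec.ge hzW
  refine ⟨Γ(pullback f₁ f₂, W), hW.fromSpec ≫ pullback.fst f₁ f₂ ≫ f₁, ?_, ⟨y, ?_⟩, ?_, ?_⟩
  · infer_instance
  · have h1 : (hW.fromSpec ≫ pullback.fst f₁ f₂ ≫ f₁) y = f₁ (pullback.fst f₁ f₂ (hW.fromSpec y)) := by
      rw [Scheme.Hom.comp_apply, Scheme.Hom.comp_apply]
    exact h1.trans (by rw [hy, hz₁]; exact hx₁)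
  · obtain ⟨E, -⟩ := nonempty_pinning D₁ hD₁
    exact ⟨pinComp f₁ (hW.fromSpec ≫ pullback.fst f₁ f₂) _ (Category.assoc _ _ _) G E⟩
  · obtain ⟨E, -⟩ := nonempty_pinning D₂ hD₂
    exact ⟨pinComp f₂ (hW.fromSpec ≫ pullback.snd f₁ f₂) _
      (by rw [Category.assoc, pullback.condition]) H E⟩

/-- **The form used for S2991**: both groups reductive, with the étale-local splitting theorem as a hypothesis. -/
theorem exists_pinning_pair
    (hsplit : ∀ {S : Scheme.{u}} (G : Over S) [GrpObj G], Red.IsReductive G → ∀ s : S, SplitNear G s)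
    {G H : Over S} [GrpObj G] [GrpObj H] (hG : Red.IsReductive G) (hH : Red.IsReductive H) (s : S) :
    ∃ (B : CommRingCat.{u}) (v : Spec B ⟶ S), Etale v ∧ s ∈ Set.range v.base ∧
      Nonempty (Red.Pinning (Red.bc v G)) ∧ Nonempty (Red.Pinning (Red.bc v H)) :=
  exists_pinnings G H s (hsplit G hG s) (hsplit H hH s)

/-- Local form: it suffices that `G` and `H` become reductive over an open neighbourhood of `s`. -/
theorem exists_pinning_pair_near
    (hsplit : ∀ {S : Scheme.{u}} (G : Over S) [GrpObj G], Red.IsReductive G → ∀ s : S, SplitNear G s)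
    (G H : Over S) [GrpObj G] [GrpObj H] (V : S.Opens) (hG : Red.IsReductive (Red.bc V.ι G))
    (hH : Red.IsReductive (Red.bc V.ι H)) (s : S) (hs : s ∈ V) :
    ∃ (B : CommRingCat.{u}) (v : Spec B ⟶ S), Etale v ∧ s ∈ Set.range v.base ∧
      Nonempty (Red.Pinning (Red.bc v G)) ∧ Nonempty (Red.Pinning (Red.bc v H)) := by
  obtain ⟨B, v, hv, ⟨y, hy⟩, ⟨D₁⟩, ⟨D₂⟩⟩ := exists_pinning_pair hsplit hG hH ⟨s, hs⟩
  refine ⟨B, v ≫ V.ι, inferInstance, ⟨y, ?_⟩, ⟨pinOfIso (BcIso.bcCompIso v V.ι G).symm D₁⟩,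
    ⟨pinOfIso (BcIso.bcCompIso v V.ι H).symm D₂⟩⟩
  have h1 : (v ≫ V.ι) y = V.ι (v y) := Scheme.Hom.comp_apply _ _ _
  exact h1.trans (congrArg V.ι hy)

end Groth.Agent.Sga3B.IsomPin848
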