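import Groth.Agent.Sga3B.BcPts
import Mathlib.AlgebraicGeometry.AlgClosed.Basic

/-!
# The locus of noncommutative geometric fibres is open

`isOpen_noncomm`: for a separated, flat, locally finitely presented group scheme `G` over `S` the set
of `s` such that the group of rational points of the geometric fibre at `s` is not commutative is open.
-/

set_option autoImplicit false
open CategoryTheory MonoidalCategory CartesianMonoidalCategory MonObj GrpObj AlgebraicGeometry Limits
universe u

namespace Groth.Agent.Sga3B.NonComm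

open BcPts

variable {S : Scheme.{u}}

/-- The commutator morphism. -/
noncomputable def comm (G : Over S) [GrpObj G] : G ⊗ G ⟶ G :=
  fst G G * snd G G * (fst G G)⁻¹ * (snd G G)⁻¹

lemma comp_comm {G : Over S} [GrpObj G] {T : Over S} (p : T ⟶ G ⊗ G) :
    p ≫ comm G = (p ≫ fst G G) * (p ≫ snd G G) * (p ≫ fst G G)⁻¹ * (p ≫ snd G G)⁻¹ := by
  simp only [comm, MonObj.comp_mul, GrpObj.comp_inv]

lemma comp_comm_eq_one_iff {G : Over S} [GrpObj G] {T : Over S} (p : T ⟶ G ⊗ G) :
    p ≫ comm G = 1 ↔ (p ≫ fst G G) * (p ≫ snd G G) = (p ≫ snd G G) * (p ≫ fst G G) := by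
  rw [comp_comm, mul_inv_eq_one, mul_inv_eq_iff_eq_mul]

instance isClosedImmersion_one (G : Over S) [GrpObj G] [IsSeparated G.hom] :
    IsClosedImmersion (η[G] : 𝟙_ (Over S) ⟶ G).left := by
  have h : (η[G] : 𝟙_ (Over S) ⟶ G).left ≫ G.hom = 𝟙 S := by
    rw [Over.w]; rfl
  haveI : IsClosedImmersion ((η[G] : 𝟙_ (Over S) ⟶ G).left ≫ G.hom) := by
    rw [h]; exact inferInstanceAs (IsClosedImmersion (𝟙 S))
  exact IsClosedImmersion.of_comp (η[G] : 𝟙_ (Over S) ⟶ G).left G.hom

/-- A point with values in a field whose image lies in the unit section is the unit. -/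
lemma eq_one_of_mem_range {G : Over S} [GrpObj G] [IsSeparated G.hom] {T : Over S}
    [AlgebraicGeometry.IsReduced T.left] [Subsingleton ↥T.left] (g : T ⟶ G) (t : T.left)
    (h : g.left t ∈ Set.range (η[G] : 𝟙_ (Over S) ⟶ G).left) : g = 1 := by
  obtain ⟨s, hs⟩ := h
  obtain ⟨z, hz1, hz2⟩ := Scheme.Pullback.exists_preimage_pullback (f := (η[G] : 𝟙_ (Over S) ⟶ G).left)
    (g := g.left) s t hs
  haveI : Surjective (pullback.snd (η[G] : 𝟙_ (Over S) ⟶ G).left g.left) :=
    ⟨fun y => ⟨z, Subsingleton.elim _ _⟩⟩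
  haveI : IsIso (pullback.snd (η[G] : 𝟙_ (Over S) ⟶ G).left g.left) :=
    isIso_of_isClosedImmersion_of_surjective _
  have h1 : g.left = (inv (pullback.snd (η[G] : 𝟙_ (Over S) ⟶ G).left g.left) ≫
      pullback.fst (η[G] : 𝟙_ (Over S) ⟶ G).left g.left) ≫ (η[G] : 𝟙_ (Over S) ⟶ G).left := by
    rw [Category.assoc, pullback.condition, IsIso.inv_hom_id_assoc]
  have h2 : inv (pullback.snd (η[G] : 𝟙_ (Over S) ⟶ G).left g.left) ≫
      pullback.fst (η[G] : 𝟙_ (Over S) ⟶ G).left g.left = T.hom := by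
    have h3 : g.left ≫ G.hom = T.hom := Over.w g
    rw [← h3]
    conv_rhs => rw [h1, Category.assoc, Over.w]
    exact (Category.comp_id _).symm
  rw [h2] at h1
  rw [Hom.one_def]
  apply Over.OverMorphism.ext
  rw [h1, Over.comp_left, Over.toUnit_left]

/-- The open set of pairs that do not commute. -/
def ncOpen (G : Over S) [GrpObj G] : Set ↥(G ⊗ G).left :=
  {z | (comm G).left z ∉ Set.range (η[G] : 𝟙_ (Over S) ⟶ G).left}

lemma isOpen_ncOpen (G : Over S) [GrpObj G] [IsSeparated G.hom] : IsOpen (ncOpen G) := by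
  have h : IsClosed (Set.range (η[G] : 𝟙_ (Over S) ⟶ G).left) :=
    (η[G] : 𝟙_ (Over S) ⟶ G).left.isClosedEmbedding.isClosed_range
  exact (h.preimage (comm G).left.continuous).isOpen_compl

/-- The rational points of the geometric fibre at `s` do not commute. -/
def IsNC (G : Over S) [GrpObj G] (s : S) : Prop :=
  ∃ x y : 𝟙_ (Over (Spec (CommRingCat.of (AlgebraicClosure (S.residueField s))))) ⟶
    Red.geomFibre s G, x * y ≠ y * x

lemma exists_of_isNC {G : Over S} [GrpObj G] [IsSeparated G.hom] {s : S} (h : IsNC G s) :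
    ∃ z ∈ ncOpen G, (G ⊗ G).hom z = s := by
  obtain ⟨x, y, hxy⟩ := h
  let b := Red.geomPt s
  let x' := (bcMulEquiv b _ G).symm x
  let y' := (bcMulEquiv b _ G).symm y
  have hxy' : x' * y' ≠ y' * x' := by
    intro h
    apply hxy
    have := congrArg (bcMulEquiv b _ G) h
    simpa [x', y'] using this
  let p := lift x' y'
  have hp : p ≫ comm G ≠ 1 := by
    rw [Ne, comp_comm_eq_one_iff]
    simpa [p] using hxy'
  let T := (Over.map b).obj (𝟙_ (Over (Spec (CommRingCat.of (AlgebraicClosure (S.residueField s))))))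
  haveI : AlgebraicGeometry.IsReduced T.left :=
    inferInstanceAs (AlgebraicGeometry.IsReduced (Spec (CommRingCat.of (AlgebraicClosure (S.residueField s)))))
  haveI : Subsingleton ↥T.left :=
    inferInstanceAs (Subsingleton (PrimeSpectrum (AlgebraicClosure (S.residueField s))))
  let t : T.left := IsLocalRing.closedPoint (AlgebraicClosure (S.residueField s))
  refine ⟨p.left t, fun h => hp (eq_one_of_mem_range _ t ?_), ?_⟩
  · rw [Over.comp_left, Scheme.Hom.comp_apply]
    exact h
  · have h1 : (G ⊗ G).hom (p.left t) = T.hom t := by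
      rw [← Scheme.Hom.comp_apply, Over.w]
    rw [h1]
    have h2 : T.hom = b := Category.id_comp _
    rw [h2]
    change (Spec.map _ ≫ S.fromSpecResidueField s) _ = s
    rw [Scheme.Hom.comp_apply]
    exact Scheme.fromSpecResidueField_apply _ _

lemma isNC_of_exists {G : Over S} [GrpObj G] [IsSeparated G.hom] [LocallyOfFiniteType G.hom] {s : S}
    (h : ∃ z ∈ ncOpen G, (G ⊗ G).hom z = s) : IsNC G s := by
  obtain ⟨z, hz, hzs⟩ := h
  let K := AlgebraicClosure (S.residueField s)
  let b := Red.geomPt s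
  have hb : b (IsLocalRing.closedPoint K) = s := by
    change (Spec.map _ ≫ S.fromSpecResidueField s) _ = s
    rw [Scheme.Hom.comp_apply]
    exact Scheme.fromSpecResidueField_apply _ _
  obtain ⟨w, hw1, hw2⟩ := Scheme.Pullback.exists_preimage_pullback (f := (G ⊗ G).hom) (g := b) z
    (IsLocalRing.closedPoint K) (hzs.trans hb.symm)
  haveI : LocallyOfFiniteType (G ⊗ G).hom := by
    rw [Over.tensorObj_hom]; infer_instance
  let q : pullback (G ⊗ G).hom b ⟶ Spec (.of K) := pullback.snd _ _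
  haveI : LocallyOfFiniteType q := inferInstance
  haveI : JacobsonSpace ↥(pullback (G ⊗ G).hom b) := LocallyOfFiniteType.jacobsonSpace q
  have hU : IsOpen ((pullback.fst (G ⊗ G).hom b) ⁻¹' ncOpen G) :=
    (isOpen_ncOpen G).preimage (pullback.fst (G ⊗ G).hom b).continuous
  obtain ⟨w', hw', hw'c⟩ := nonempty_inter_closedPoints (Z := (pullback.fst (G ⊗ G).hom b) ⁻¹' ncOpen G)
    ⟨w, by rw [Set.mem_preimage, hw1]; exact hz⟩ hU.isLocallyClosed
  let r := pointOfClosedPoint q w' hw'c
  have hr : r ≫ q = 𝟙 _ := pointOfClosedPoint_comp q w' hw'c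
  let T := (Over.map b).obj (𝟙_ (Over (Spec (CommRingCat.of K))))
  let p : T ⟶ G ⊗ G := Over.homMk (r ≫ pullback.fst _ _) (by
    rw [Category.assoc, pullback.condition, ← Category.assoc]
    change (r ≫ q) ≫ b = _
    rw [hr]; rfl)
  refine ⟨bcMulEquiv b _ G (p ≫ fst G G), bcMulEquiv b _ G (p ≫ snd G G), fun h => ?_⟩
  rw [← map_mul, ← map_mul] at h
  have h1 := (comp_comm_eq_one_iff p).2 ((bcMulEquiv b _ G).injective h)
  apply hw'
  have h2 : (comm G).left ((pullback.fst (G ⊗ G).hom b) w') =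
      (p ≫ comm G).left (IsLocalRing.closedPoint K) := by
    rw [Over.comp_left, Scheme.Hom.comp_apply]
    congr 1
    change _ = (r ≫ pullback.fst _ _) _
    rw [Scheme.Hom.comp_apply, pointOfClosedPoint_apply]
  rw [h2, h1, Hom.one_def, Over.comp_left, Scheme.Hom.comp_apply]
  exact ⟨_, rfl⟩

lemma isNC_iff_exists {G : Over S} [GrpObj G] [IsSeparated G.hom] [LocallyOfFiniteType G.hom] {s : S} :
    IsNC G s ↔ ∃ z ∈ ncOpen G, (G ⊗ G).hom z = s :=
  ⟨exists_of_isNC, isNC_of_exists⟩

/-- The set of points over which the geometric fibre is noncommutative is open. -/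
theorem isOpen_noncomm (G : Over S) [GrpObj G] [IsSeparated G.hom] [Flat G.hom]
    [LocallyOfFinitePresentation G.hom] : IsOpen {s : S | IsNC G s} := by
  have h1 : {s : S | IsNC G s} = (G ⊗ G).hom '' ncOpen G := by
    ext s
    exact isNC_iff_exists
  rw [h1]
  haveI : Flat (G ⊗ G).hom := by
    rw [Over.tensorObj_hom]; infer_instance
  haveI : LocallyOfFinitePresentation (G ⊗ G).hom := by
    rw [Over.tensorObj_hom]; infer_instance
  have h2 : IsOpenMap (G ⊗ G).hom := (G ⊗ G).hom.isOpenMap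
  exact h2 _ (isOpen_ncOpen G)

end Groth.Agent.Sga3B.NonComm
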