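import Groth.Prelude.Def_Red
import Mathlib.AlgebraicGeometry.Morphisms.FlatDescent
import Mathlib.AlgebraicGeometry.Morphisms.QuasiSeparated

set_option autoImplicit false
open CategoryTheory CategoryTheory.Limits AlgebraicGeometry
universe u

namespace Groth.Agent.Sga3B.FpqcLoc

lemma of_isPullback' {P : MorphismProperty Scheme.{u}} [P.IsStableUnderBaseChange]
    {X S S' S'' Z : Scheme.{u}} {g : X ⟶ S} {f : S' ⟶ S} {a : Z ⟶ X} {b : Z ⟶ S''} {q : S'' ⟶ S'}
    (H : IsPullback a b g (q ≫ f)) (h : P (pullback.snd g f)) : P b := by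
  have h2 : P (pullback.snd (pullback.snd g f) q) := P.pullback_snd _ _ h
  have h3 : IsPullback (pullback.fst (pullback.snd g f) q ≫ pullback.fst g f)
    (pullback.snd (pullback.snd g f) q) g (q ≫ f) :=
    (IsPullback.of_hasPullback (pullback.snd g f) q).paste_horiz (IsPullback.of_hasPullback g f)
  exact (P.arrow_mk_iso_iff (Arrow.isoMk (H.isoIsPullback _ _ h3) (Iso.refl _) (by simp))).mpr h2

/-- A property which is Zariski local on the target, stable under base change and descends along
quasi-compact faithfully flat morphisms can be checked locally on an fpqc covering (in the sense of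
`Red.IsTorus`). -/
theorem of_fpqc_cover {P : MorphismProperty Scheme.{u}} [IsZariskiLocalAtTarget P]
    [P.IsStableUnderBaseChange] [P.DescendsAlong (@Surjective ⊓ @Flat ⊓ @QuasiCompact)]
    {X S S' : Scheme.{u}} (g : X ⟶ S) (f : S' ⟶ S) [Flat f]
    (hf : ∀ V : S.Opens, IsAffineOpen V →
      ∃ W : S'.Opens, IsCompact (W : Set S') ∧ f.base '' (W : Set S') = (V : Set S))
    (h : ∀ s' : S', ∃ U : S'.Opens, s' ∈ U ∧ P (pullback.snd g (U.ι ≫ f))) : P g := by
  have h1 : P (pullback.snd g f) := by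
    apply IsZariskiLocalAtTarget.of_forall_exists_morphismRestrict
    intro s'
    obtain ⟨U, hU, hP⟩ := h s'
    refine ⟨U, hU, ?_⟩
    have e1 : IsPullback ((pullback.snd g f ⁻¹ᵁ U).ι ≫ pullback.fst g f) (pullback.snd g f ∣_ U) g (U.ι ≫ f) :=
      (isPullback_morphismRestrict (pullback.snd g f) U).flip.paste_horiz (IsPullback.of_hasPullback g f)
    exact (P.arrow_mk_iso_iff (Arrow.isoMk e1.isoPullback (Iso.refl _)
      ((e1.isoPullback_hom_snd).trans (Category.comp_id _).symm))).mpr hP
  apply IsZariskiLocalAtTarget.of_forall_exists_morphismRestrict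
  intro s
  obtain ⟨_, ⟨V, hV, rfl⟩, hsV, -⟩ :=
    S.isBasis_affineOpens.exists_subset_of_mem_open (Set.mem_univ s) isOpen_univ
  refine ⟨V, hsV, ?_⟩
  obtain ⟨W, hW, hWV⟩ := hf V hV
  have hle : W ≤ f ⁻¹ᵁ V := by
    intro w hw
    have : f.base w ∈ f.base '' (W : Set S') := ⟨w, hw, rfl⟩
    rw [hWV] at this
    exact this
  have : IsAffine V := hV
  have : CompactSpace W := isCompact_iff_compactSpace.mp hW
  have hflat : Flat (f.resLE V W hle) := inferInstance
  have hqc : QuasiCompact (f.resLE V W hle) := inferInstance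
  have hsurj : Surjective (f.resLE V W hle) := by
    constructor
    rintro ⟨v, hv⟩
    have : v ∈ f.base '' (W : Set S') := by rw [hWV]; exact hv
    obtain ⟨w, hw, rfl⟩ := this
    refine ⟨⟨w, hw⟩, ?_⟩
    apply Subtype.ext
    simp
  apply MorphismProperty.of_pullback_snd_of_descendsAlong (P := P)
    (Q := @Surjective ⊓ @Flat ⊓ @QuasiCompact) (g := f.resLE V W hle) ⟨⟨hsurj, hflat⟩, hqc⟩
  have h4 := (IsPullback.of_hasPullback (g ∣_ V) (f.resLE V W hle)).paste_horiz
    (isPullback_morphismRestrict g V).flip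
  have h5 : f.resLE V W hle ≫ Scheme.Opens.ι V = W.ι ≫ f := f.resLE_comp_ι hle
  rw [h5] at h4
  exact of_isPullback' h4 h1

end Groth.Agent.Sga3B.FpqcLoc
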