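import Groth.Agent.Sga3B.RepDescent8
import Groth.Agent.Sga3B.FpqcLoc
import Groth.Agent.Etbase.FpqcDescent

/-!
# Étale descent of representability, part 9: `Hom_{S-gr}(G, H)` and `Isom_{S-gr}(G, H)`

* `representsHom_bc`, `representsIsom_bc`: representing objects commute with arbitrary base change;
* `exists_iso_of_representsHom` / `..Isom`: uniqueness;
* `exists_representsHom_of_etale`, `exists_representsIsom_of_etale`: representability is étale local on the base as soon as
  the quasi-compact opens of the local representing schemes are quasi-affine;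
* `prop_of_representsHom`, `prop_of_representsIsom`: étale local properties of the representing scheme.
-/

set_option autoImplicit false
universe u

open CategoryTheory CategoryTheory.Limits MonoidalCategory CartesianMonoidalCategory MonObj GrpObj AlgebraicGeometry
  Opposite

namespace Groth.Agent.Sga3B.RepDescent

section general

variable {S V : Scheme.{u}} (v : V ⟶ S)

/-- Base change of a representing object. -/
noncomputable def repBC {F : (Over S)ᵒᵖ ⥤ Type u} {A : Over S} (r : F.RepresentableBy A) :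
    ((Over.map v).op ⋙ F).RepresentableBy (Red.bc v A) where
  homEquiv {T} := ((Over.mapPullbackAdj v).homEquiv T A).symm.trans r.homEquiv
  homEquiv_comp {T T'} f g := by
    change r.homEquiv (((Over.mapPullbackAdj v).homEquiv T A).symm (f ≫ g)) =
      F.map _ (r.homEquiv (((Over.mapPullbackAdj v).homEquiv T' A).symm g))
    rw [Adjunction.homEquiv_naturality_left_symm, r.homEquiv_comp]
    rfl

/-- A property of morphisms which descends along fpqc and is local can be checked étale locally on the target. -/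
theorem of_etale_cover {P : MorphismProperty Scheme.{u}} [IsZariskiLocalAtTarget P]
    [P.IsStableUnderBaseChange] [P.DescendsAlong (@Surjective ⊓ @Flat ⊓ @QuasiCompact)] {X : Scheme.{u}} (g : X ⟶ S)
    (h : ∀ s : S, ∃ (V : Scheme.{u}) (v : V ⟶ S), Etale v ∧ s ∈ Set.range v ∧ P (pullback.snd g v)) : P g := by
  apply IsZariskiLocalAtTarget.of_forall_exists_morphismRestrict
  intro s
  obtain ⟨V, v, hv, hs, hP⟩ := h s
  let O : S.Opens := ⟨Set.range v, v.isOpenMap.isOpen_range⟩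
  refine ⟨O, hs, ?_⟩
  let q : V ⟶ (O : Scheme.{u}) := liftU O v subset_rfl
  have hq : q ≫ O.ι = v := liftU_ι _ _ _
  have hqe : Etale q := by
    have h1 : Etale (q ≫ O.ι) := by rw [hq]; exact hv
    exact Etale.of_comp q O.ι
  have hqs : Surjective q := ⟨by
    rintro ⟨_, x, rfl⟩
    refine ⟨x, ?_⟩
    apply O.ι.isOpenEmbedding.injective
    rw [← Scheme.Hom.comp_apply, hq]
    rfl⟩
  apply MorphismProperty.of_pullback_snd_of_descendsAlong (P := P)
    (Q := @Surjective ⊓ @Flat ⊓ @LocallyOfFinitePresentation) (g := q) ⟨⟨hqs, inferInstance⟩, inferInstance⟩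
  have h4 := (IsPullback.of_hasPullback (g ∣_ O) q).paste_horiz (isPullback_morphismRestrict g O).flip
  rw [hq, ← Category.id_comp v] at h4
  exact FpqcLoc.of_isPullback' h4 hP

end general

variable {S : Scheme.{u}} {G H : Over S} [GrpObj G] [GrpObj H]

/-- `Hom_{S-gr}(G, H)` commutes with base change. -/
theorem representsHom_bc {A : Over S} {υ : G ⊗ A ⟶ H} (h : AutFam.RepresentsHom G H A υ) {V : Scheme.{u}} (v : V ⟶ S) :
    ∃ υ' : Red.bc v G ⊗ Red.bc v A ⟶ Red.bc v H, AutFam.RepresentsHom (Red.bc v G) (Red.bc v H) (Red.bc v A) υ' :=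
  exists_representsHom ((repBC v (repHom h)).ofIso (homFIso v G H).symm)

/-- `Isom_{S-gr}(G, H)` commutes with base change. -/
theorem representsIsom_bc {A : Over S} {υ : G ⊗ A ⟶ H} (h : AutFam.RepresentsIsom G H A υ) {V : Scheme.{u}}
    (v : V ⟶ S) :
    ∃ υ' : Red.bc v G ⊗ Red.bc v A ⟶ Red.bc v H, AutFam.RepresentsIsom (Red.bc v G) (Red.bc v H) (Red.bc v A) υ' :=
  exists_representsIsom ((repBC v (repIsom h)).ofIso (isomFIso v G H).symm)

theorem nonempty_iso_of_representsHom {A A' : Over S} {υ : G ⊗ A ⟶ H} {υ' : G ⊗ A' ⟶ H}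
    (h : AutFam.RepresentsHom G H A υ) (h' : AutFam.RepresentsHom G H A' υ') : Nonempty (A ≅ A') :=
  ⟨(repHom h).uniqueUpToIso (repHom h')⟩

theorem nonempty_iso_of_representsIsom {A A' : Over S} {υ : G ⊗ A ⟶ H} {υ' : G ⊗ A' ⟶ H}
    (h : AutFam.RepresentsIsom G H A υ) (h' : AutFam.RepresentsIsom G H A' υ') : Nonempty (A ≅ A') :=
  ⟨(repIsom h).uniqueUpToIso (repIsom h')⟩

variable (G H) in
/-- Étale descent of representability of `Hom_{S-gr}(G, H)`. -/
theorem exists_representsHom_of_etale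
    (h : ∀ s : S, ∃ (V : Scheme.{u}) (v : V ⟶ S), Etale v ∧ s ∈ Set.range v ∧
      ∃ (A : Over V) (υ : Red.bc v G ⊗ A ⟶ Red.bc v H), AutFam.RepresentsHom (Red.bc v G) (Red.bc v H) A υ ∧
        ∀ U : A.left.Opens, IsCompact (U : Set A.left) → (U : Scheme.{u}).IsQuasiAffine) :
    ∃ (A : Over S) (υ : G ⊗ A ⟶ H), AutFam.RepresentsHom G H A υ := by
  obtain ⟨A, ⟨r⟩⟩ := exists_representableBy_of_etale (isEtSheaf_homF G H) (by
    intro s
    obtain ⟨V, v, hv, hs, A, υ, hA, hq⟩ := h s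
    exact ⟨V, v, hv, hs, A, ⟨(repHom hA).ofIso (homFIso v G H)⟩, hq⟩)
  exact ⟨A, exists_representsHom r⟩

variable (G H) in
/-- Étale descent of representability of `Isom_{S-gr}(G, H)`. -/
theorem exists_representsIsom_of_etale
    (h : ∀ s : S, ∃ (V : Scheme.{u}) (v : V ⟶ S), Etale v ∧ s ∈ Set.range v ∧
      ∃ (A : Over V) (υ : Red.bc v G ⊗ A ⟶ Red.bc v H), AutFam.RepresentsIsom (Red.bc v G) (Red.bc v H) A υ ∧
        ∀ U : A.left.Opens, IsCompact (U : Set A.left) → (U : Scheme.{u}).IsQuasiAffine) :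
    ∃ (A : Over S) (υ : G ⊗ A ⟶ H), AutFam.RepresentsIsom G H A υ := by
  obtain ⟨A, ⟨r⟩⟩ := exists_representableBy_of_etale (isEtSheaf_isomF G H) (by
    intro s
    obtain ⟨V, v, hv, hs, A, υ, hA, hq⟩ := h s
    exact ⟨V, v, hv, hs, A, ⟨(repIsom hA).ofIso (isomFIso v G H)⟩, hq⟩)
  exact ⟨A, exists_representsIsom r⟩

section prop

variable (P : MorphismProperty Scheme.{u}) [IsZariskiLocalAtTarget P] [P.IsStableUnderBaseChange]
  [P.DescendsAlong (@Surjective ⊓ @Flat ⊓ @QuasiCompact)]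

/-- Étale local properties of `Hom_{S-gr}(G, H)`. -/
theorem prop_of_representsHom {A : Over S} {υ : G ⊗ A ⟶ H} (hA : AutFam.RepresentsHom G H A υ)
    (h : ∀ s : S, ∃ (V : Scheme.{u}) (v : V ⟶ S), Etale v ∧ s ∈ Set.range v ∧
      ∃ (A' : Over V) (υ' : Red.bc v G ⊗ A' ⟶ Red.bc v H), AutFam.RepresentsHom (Red.bc v G) (Red.bc v H) A' υ' ∧
        P A'.hom) : P A.hom := by
  refine of_etale_cover A.hom fun s => ?_
  obtain ⟨V, v, hv, hs, A', υ', hA', hP⟩ := h s
  obtain ⟨υ'', h''⟩ := representsHom_bc hA v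
  obtain ⟨e⟩ := nonempty_iso_of_representsHom h'' hA'
  refine ⟨V, v, hv, hs, ?_⟩
  exact (P.arrow_mk_iso_iff (Arrow.isoMk ((Over.forget _).mapIso e) (Iso.refl _) (by simp))).mpr hP

/-- Étale local properties of `Isom_{S-gr}(G, H)`. -/
theorem prop_of_representsIsom {A : Over S} {υ : G ⊗ A ⟶ H} (hA : AutFam.RepresentsIsom G H A υ)
    (h : ∀ s : S, ∃ (V : Scheme.{u}) (v : V ⟶ S), Etale v ∧ s ∈ Set.range v ∧
      ∃ (A' : Over V) (υ' : Red.bc v G ⊗ A' ⟶ Red.bc v H), AutFam.RepresentsIsom (Red.bc v G) (Red.bc v H) A' υ' ∧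
        P A'.hom) : P A.hom := by
  refine of_etale_cover A.hom fun s => ?_
  obtain ⟨V, v, hv, hs, A', υ', hA', hP⟩ := h s
  obtain ⟨υ'', h''⟩ := representsIsom_bc hA v
  obtain ⟨e⟩ := nonempty_iso_of_representsIsom h'' hA'
  refine ⟨V, v, hv, hs, ?_⟩
  exact (P.arrow_mk_iso_iff (Arrow.isoMk ((Over.forget _).mapIso e) (Iso.refl _) (by simp))).mpr hP

end prop

/-- Quasi-compact opens contained in affine opens are quasi-affine. -/
theorem isQuasiAffine_of_le {X : Scheme.{u}} {U W : X.Opens} (h : U ≤ W) (hW : IsAffineOpen W)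
    (hU : IsCompact (U : Set X)) : (U : Scheme.{u}).IsQuasiAffine := by
  have : IsAffine (W : Scheme.{u}) := hW
  have : CompactSpace U := isCompact_iff_compactSpace.1 hU
  exact Scheme.IsQuasiAffine.of_isImmersion (X.homOfLE h)

/-- Quasi-compact schemes with an open immersion into an affine scheme are quasi-affine. -/
theorem isQuasiAffine_of_exists {X : Scheme.{u}} {U : X.Opens} (hU : IsCompact (U : Set X))
    (h : ∃ (P : Scheme.{u}) (k : (U : Scheme.{u}) ⟶ P), IsAffine P ∧ IsOpenImmersion k) :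
    (U : Scheme.{u}).IsQuasiAffine := by
  obtain ⟨P, k, hP, hk⟩ := h
  have : CompactSpace U := isCompact_iff_compactSpace.1 hU
  exact Scheme.IsQuasiAffine.of_isImmersion k

variable (G H) in
/-- **Étale descent of representability of `Hom_{S-gr}(G, H)`, smooth separated case.** -/
theorem exists_representsHom_smooth_of_etale
    (h : ∀ s : S, ∃ (V : Scheme.{u}) (v : V ⟶ S), Etale v ∧ s ∈ Set.range v ∧
      ∃ (A : Over V) (υ : Red.bc v G ⊗ A ⟶ Red.bc v H), AutFam.RepresentsHom (Red.bc v G) (Red.bc v H) A υ ∧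
        Smooth A.hom ∧ IsSeparated A.hom ∧ ∀ U : A.left.Opens, IsCompact (U : Set A.left) →
          ∃ (P : Scheme.{u}) (k : (U : Scheme.{u}) ⟶ P), IsAffine P ∧ IsOpenImmersion k) :
    ∃ (A : Over S) (υ : G ⊗ A ⟶ H), AutFam.RepresentsHom G H A υ ∧ Smooth A.hom ∧ IsSeparated A.hom := by
  obtain ⟨A, υ, hA⟩ := exists_representsHom_of_etale G H (by
    intro s
    obtain ⟨V, v, hv, hs, A, υ, hA, -, -, hq⟩ := h s
    exact ⟨V, v, hv, hs, A, υ, hA, fun U hU => isQuasiAffine_of_exists hU (hq U hU)⟩)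
  refine ⟨A, υ, hA, ?_, ?_⟩
  · refine prop_of_representsHom @Smooth hA fun s => ?_
    obtain ⟨V, v, hv, hs, A, υ, hA, hP, -, -⟩ := h s
    exact ⟨V, v, hv, hs, A, υ, hA, hP⟩
  · refine prop_of_representsHom @IsSeparated hA fun s => ?_
    obtain ⟨V, v, hv, hs, A, υ, hA, -, hP, -⟩ := h s
    exact ⟨V, v, hv, hs, A, υ, hA, hP⟩

variable (G H) in
/-- **Étale descent of representability of `Isom_{S-gr}(G, H)`, smooth separated case.** The last clause lets one
deduce that `A` is affine over `S`. -/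
theorem exists_representsIsom_smooth_of_etale
    (h : ∀ s : S, ∃ (V : Scheme.{u}) (v : V ⟶ S), Etale v ∧ s ∈ Set.range v ∧
      ∃ (A : Over V) (υ : Red.bc v G ⊗ A ⟶ Red.bc v H), AutFam.RepresentsIsom (Red.bc v G) (Red.bc v H) A υ ∧
        Smooth A.hom ∧ IsSeparated A.hom ∧ ∀ U : A.left.Opens, IsCompact (U : Set A.left) →
          ∃ W : A.left.Opens, U ≤ W ∧ IsAffineOpen W) :
    ∃ (A : Over S) (υ : G ⊗ A ⟶ H), AutFam.RepresentsIsom G H A υ ∧ Smooth A.hom ∧ IsSeparated A.hom ∧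
      ((∀ s : S, ∃ (V : Scheme.{u}) (v : V ⟶ S), Etale v ∧ s ∈ Set.range v ∧
        ∃ (A : Over V) (υ : Red.bc v G ⊗ A ⟶ Red.bc v H), AutFam.RepresentsIsom (Red.bc v G) (Red.bc v H) A υ ∧
          IsAffineHom A.hom) → IsAffineHom A.hom) := by
  obtain ⟨A, υ, hA⟩ := exists_representsIsom_of_etale G H (by
    intro s
    obtain ⟨V, v, hv, hs, A, υ, hA, -, -, hq⟩ := h s
    refine ⟨V, v, hv, hs, A, υ, hA, fun U hU => ?_⟩
    obtain ⟨W, hUW, hW⟩ := hq U hU
    exact isQuasiAffine_of_le hUW hW hU)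
  refine ⟨A, υ, hA, ?_, ?_, fun h' => prop_of_representsIsom @IsAffineHom hA h'⟩
  · refine prop_of_representsIsom @Smooth hA fun s => ?_
    obtain ⟨V, v, hv, hs, A, υ, hA, hP, -, -⟩ := h s
    exact ⟨V, v, hv, hs, A, υ, hA, hP⟩
  · refine prop_of_representsIsom @IsSeparated hA fun s => ?_
    obtain ⟨V, v, hv, hs, A, υ, hA, -, hP, -⟩ := h s
    exact ⟨V, v, hv, hs, A, υ, hA, hP⟩

end Groth.Agent.Sga3B.RepDescent
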