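import Groth.Agent.S3032
import Mathlib.RingTheory.Smooth.NoetherianDescent
import Mathlib.RingTheory.Smooth.Flat
import Mathlib.RingTheory.HopfAlgebra.Basic
import Mathlib.RingTheory.IsTensorProduct
import Mathlib.RingTheory.Flat.Stability

set_option autoImplicit false

universe u

open TensorProduct

namespace Groth.Agent.Sga3B.ComodGen

section Mixed

variable {A R : Type*} [CommRing A] [CommRing R] [Algebra A R]
variable {M N P Q : Type*} [AddCommGroup M] [AddCommGroup N] [AddCommGroup P] [AddCommGroup Q]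
variable [Module A M] [Module A N] [Module R N] [IsScalarTower A R N]
variable [Module A Q] [Module A P] [Module R P] [IsScalarTower A R P]

/-- The map `M ⊗[A] Q → N ⊗[R] P` induced by two `A`-linear maps. -/
noncomputable def mixed (R : Type*) [CommRing R] [Algebra A R] [Module R N] [IsScalarTower A R N]
    [Module R P] [IsScalarTower A R P] (j : M →ₗ[A] N) (k : Q →ₗ[A] P) :
    M ⊗[A] Q →ₗ[A] N ⊗[R] P :=
  (TensorProduct.mapOfCompatibleSMul R A A N P) ∘ₗ TensorProduct.map j k

@[simp]
lemma mixed_tmul (j : M →ₗ[A] N) (k : Q →ₗ[A] P) (m : M) (q : Q) :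
    mixed R j k (m ⊗ₜ q) = j m ⊗ₜ k q := by
  simp [mixed]

lemma mixed_injective (j : M →ₗ[A] N) (k : Q →ₗ[A] P) (hj : IsBaseChange R j)
    [Module.Flat A M] (hk : Function.Injective k) : Function.Injective (mixed R j k) := by
  let e : M ⊗[A] P ≃ₗ[A] N ⊗[R] P :=
    (TensorProduct.comm A M P) ≪≫ₗ ((hj.tensorEquiv P).symm.restrictScalars A) ≪≫ₗ
      ((TensorProduct.comm R P N).restrictScalars A)
  have h : mixed R j k = e.toLinearMap ∘ₗ (k.lTensor M) := by
    ext m q
    simp only [AlgebraTensorModule.curry_apply, curry_apply,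
      LinearMap.coe_restrictScalars, mixed_tmul, LinearMap.coe_comp, LinearEquiv.coe_coe,
      Function.comp_apply, LinearMap.lTensor_tmul]
    have : (hj.tensorEquiv P).symm (k q ⊗ₜ[A] m) = k q ⊗ₜ[R] j m := by
      rw [LinearEquiv.symm_apply_eq]
      simp [IsBaseChange.tensorEquiv]
    simp [e, this]
  rw [h]
  exact e.injective.comp (Module.Flat.lTensor_preserves_injective_linearMap k hk)

end Mixed


section SubToComod

variable {R C : Type*} [CommRing R] [CommRing C] [Bialgebra R C]

/-- A finitely generated submodule of a flat coalgebra which is stable under comultiplication is a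
comodule. -/
theorem exists_coaction [Module.Flat R C] (E : Submodule R C)
    (hE : ∀ w ∈ E, Coalgebra.comul (R := R) w ∈ LinearMap.range (E.subtype.rTensor C)) :
    ∃ (ρ : E →ₗ[R] E ⊗[R] C),
      (E.subtype.rTensor C) ∘ₗ ρ = Coalgebra.comul ∘ₗ E.subtype ∧
      (TensorProduct.assoc R E C C).toLinearMap ∘ₗ (ρ.rTensor C) ∘ₗ ρ =
        (Coalgebra.comul.lTensor E) ∘ₗ ρ ∧
      (TensorProduct.rid R E).toLinearMap ∘ₗ (Coalgebra.counit.lTensor E) ∘ₗ ρ = LinearMap.id := by
  have hinj : Function.Injective (E.subtype.rTensor C) :=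
    Module.Flat.rTensor_preserves_injective_linearMap _ E.injective_subtype
  have hinj2 : Function.Injective (E.subtype.rTensor (C ⊗[R] C)) :=
    Module.Flat.rTensor_preserves_injective_linearMap _ E.injective_subtype
  let e := LinearEquiv.ofInjective (E.subtype.rTensor C) hinj
  let ρ : E →ₗ[R] E ⊗[R] C := e.symm.toLinearMap ∘ₗ
    (LinearMap.codRestrict (LinearMap.range (E.subtype.rTensor C))
      (Coalgebra.comul ∘ₗ E.subtype) (fun w ↦ hE w.1 w.2))
  have hρ : (E.subtype.rTensor C) ∘ₗ ρ = Coalgebra.comul ∘ₗ E.subtype := by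
    ext w
    have h1 : e (ρ w) = ⟨Coalgebra.comul w.1, hE w.1 w.2⟩ := by
      simp only [ρ, LinearMap.comp_apply, LinearEquiv.coe_coe, LinearEquiv.apply_symm_apply]
      rfl
    have h2 := congrArg Subtype.val h1
    simpa [e] using h2
  have hρ' : ∀ w, (E.subtype.rTensor C) (ρ w) = Coalgebra.comul (R := R) w.1 := fun w ↦
    LinearMap.congr_fun hρ w
  refine ⟨ρ, hρ, ?_, ?_⟩
  · ext w
    apply hinj2
    have a1 : (E.subtype.rTensor (C ⊗[R] C)) ∘ₗ (TensorProduct.assoc R E C C).toLinearMap =
        (TensorProduct.assoc R C C C).toLinearMap ∘ₗ ((E.subtype.rTensor C).rTensor C) := by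
      ext x y z; simp
    have a2 : (E.subtype.rTensor (C ⊗[R] C)) ∘ₗ (Coalgebra.comul (R := R) (A := C)).lTensor E =
        (Coalgebra.comul (R := R) (A := C)).lTensor C ∘ₗ (E.subtype.rTensor C) := by
      ext x y; simp
    have a1' := fun z ↦ LinearMap.congr_fun a1 z
    have a2' := fun z ↦ LinearMap.congr_fun a2 z
    simp only [LinearMap.comp_apply, LinearEquiv.coe_coe] at a1' a2' ⊢
    rw [a1', a2', hρ']
    have a3 : ((E.subtype.rTensor C).rTensor C) ((ρ.rTensor C) (ρ w)) =
        (Coalgebra.comul (R := R) (A := C)).rTensor C ((E.subtype.rTensor C) (ρ w)) := by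
      rw [← LinearMap.comp_apply, ← LinearMap.rTensor_comp, hρ, LinearMap.rTensor_comp,
        LinearMap.comp_apply]
    rw [a3, hρ']
    exact LinearMap.congr_fun (Coalgebra.coassoc (R := R) (A := C)) w.1
  · ext w
    have a4 : E.subtype ∘ₗ (TensorProduct.rid R E).toLinearMap ∘ₗ
        (Coalgebra.counit (R := R) (A := C)).lTensor E =
        (TensorProduct.rid R C).toLinearMap ∘ₗ (Coalgebra.counit (R := R) (A := C)).lTensor C ∘ₗ
          (E.subtype.rTensor C) := by
      ext x y; simp
    have a4' := LinearMap.congr_fun a4 (ρ w)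
    simp only [LinearMap.comp_apply, LinearEquiv.coe_coe, hρ', Submodule.subtype_apply,
      LinearMap.id_coe, id_eq] at a4' ⊢
    rw [a4']
    have := LinearMap.congr_fun (Coalgebra.lTensor_counit_comp_comul (R := R) (A := C)) w.1
    simp only [LinearMap.comp_apply] at this
    rw [this]
    simp

/-- The output format wanted for S2992. -/
theorem exists_comodule_of_sub [Module.Flat R C] (E : Submodule R C)
    (hE : ∀ w ∈ E, Coalgebra.comul (R := R) w ∈ LinearMap.range (E.subtype.rTensor C)) :
    ∃ (ρ : E →ₗ[R] E ⊗[R] C) (l : E →ₗ[R] R),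
      (TensorProduct.assoc R E C C).toLinearMap ∘ₗ (ρ.rTensor C) ∘ₗ ρ =
        (Coalgebra.comul.lTensor E) ∘ₗ ρ ∧
      (TensorProduct.rid R E).toLinearMap ∘ₗ (Coalgebra.counit.lTensor E) ∘ₗ ρ = LinearMap.id ∧
      ∀ e : E, (TensorProduct.lid R C) (l.rTensor C (ρ e)) = e.1 := by
  obtain ⟨ρ, h1, h2, h3⟩ := exists_coaction E hE
  refine ⟨ρ, Coalgebra.counit ∘ₗ E.subtype, h2, h3, fun e ↦ ?_⟩
  have h1' := LinearMap.congr_fun h1 e
  simp only [LinearMap.comp_apply, Submodule.subtype_apply] at h1'
  rw [LinearMap.rTensor_comp, LinearMap.comp_apply, h1']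
  have := LinearMap.congr_fun (Coalgebra.rTensor_counit_comp_comul (R := R) (A := C)) e.1
  simp only [LinearMap.comp_apply] at this
  rw [this]
  simp

end SubToComod


section Descend

variable {A R C₁ C : Type u} [CommRing A] [CommRing R] [CommRing C₁] [CommRing C]
variable [Algebra A R] [Algebra A C₁] [Algebra A C] [HopfAlgebra R C] [IsScalarTower A R C]

lemma injective_of_isBaseChange (hA : Function.Injective (algebraMap A R)) [Module.Flat A C₁]
    (j : C₁ →ₗ[A] C) (hj : IsBaseChange R j) : Function.Injective j := by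
  have h : ⇑j = hj.equiv ∘ ((Algebra.linearMap A R).rTensor C₁) ∘ (TensorProduct.lid A C₁).symm := by
    funext c
    simp
  rw [h]
  exact hj.equiv.injective.comp ((Module.Flat.rTensor_preserves_injective_linearMap _ hA).comp
    (TensorProduct.lid A C₁).symm.injective)

lemma mixed_mul (j : C₁ →ₐ[A] C) (x y : C₁ ⊗[A] C₁) :
    mixed R j.toLinearMap j.toLinearMap (x * y) =
      mixed R j.toLinearMap j.toLinearMap x * mixed R j.toLinearMap j.toLinearMap y := by
  induction x with
  | zero => simp
  | add x₁ x₂ h₁ h₂ => rw [add_mul, map_add, map_add, add_mul, h₁, h₂]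
  | tmul a b =>
    induction y with
    | zero => simp
    | add y₁ y₂ h₁ h₂ => rw [mul_add, map_add, map_add, mul_add, h₁, h₂]
    | tmul c d => simp [Algebra.TensorProduct.tmul_mul_tmul]

lemma comul_mem_range (j : C₁ →ₐ[A] C) (X : Set C₁) (hX : Algebra.adjoin A X = ⊤)
    (hΔ : ∀ x ∈ X, Coalgebra.comul (R := R) (j x) ∈
      LinearMap.range (mixed R j.toLinearMap j.toLinearMap)) (c : C₁) :
    Coalgebra.comul (R := R) (j c) ∈ LinearMap.range (mixed R j.toLinearMap j.toLinearMap) := by
  have hc : c ∈ Algebra.adjoin A X := by rw [hX]; trivial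
  induction hc using Algebra.adjoin_induction with
  | mem x hx => exact hΔ x hx
  | algebraMap a =>
    refine ⟨algebraMap A (C₁ ⊗[A] C₁) a, ?_⟩
    rw [Algebra.TensorProduct.algebraMap_apply, mixed_tmul]
    simp only [AlgHom.toLinearMap_apply, AlgHom.commutes, map_one]
    rw [IsScalarTower.algebraMap_apply A R C, Bialgebra.comul_algebraMap,
      Algebra.TensorProduct.algebraMap_apply]
  | add x y _ _ hx hy =>
    rw [map_add, map_add]; exact Submodule.add_mem _ hx hy
  | mul x y _ _ hx hy =>
    obtain ⟨x', hx'⟩ := hx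
    obtain ⟨y', hy'⟩ := hy
    refine ⟨x' * y', ?_⟩
    rw [mixed_mul, hx', hy', map_mul, Bialgebra.comul_mul]

lemma counit_mem_range (j : C₁ →ₐ[A] C) (X : Set C₁) (hX : Algebra.adjoin A X = ⊤)
    (hε : ∀ x ∈ X, Coalgebra.counit (R := R) (j x) ∈ LinearMap.range (Algebra.linearMap A R))
    (c : C₁) : Coalgebra.counit (R := R) (j c) ∈ LinearMap.range (Algebra.linearMap A R) := by
  have hc : c ∈ Algebra.adjoin A X := by rw [hX]; trivial
  induction hc using Algebra.adjoin_induction with
  | mem x hx => exact hε x hx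
  | algebraMap a =>
    refine ⟨a, ?_⟩
    rw [AlgHom.commutes, IsScalarTower.algebraMap_apply A R C, Bialgebra.counit_algebraMap]
    rfl
  | add x y _ _ hx hy =>
    rw [map_add, map_add]; exact Submodule.add_mem _ hx hy
  | mul x y _ _ hx hy =>
    obtain ⟨x', hx'⟩ := hx
    obtain ⟨y', hy'⟩ := hy
    refine ⟨x' * y', ?_⟩
    rw [map_mul j, Bialgebra.counit_mul, ← hx', ← hy']
    simp

/-- Descent of the coalgebra structure. -/
theorem exists_coalgebra (hA : Function.Injective (algebraMap A R)) [Module.Flat A C₁]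
    (j : C₁ →ₐ[A] C) (hj : IsBaseChange R j.toLinearMap) (X : Set C₁)
    (hX : Algebra.adjoin A X = ⊤)
    (hΔ : ∀ x ∈ X, Coalgebra.comul (R := R) (j x) ∈
      LinearMap.range (mixed R j.toLinearMap j.toLinearMap))
    (hε : ∀ x ∈ X, Coalgebra.counit (R := R) (j x) ∈ LinearMap.range (Algebra.linearMap A R)) :
    ∃ (_ : Coalgebra A C₁), ∀ c : C₁, mixed R j.toLinearMap j.toLinearMap
      (Coalgebra.comul (R := A) c) = Coalgebra.comul (R := R) (j c) := by
  have hji : Function.Injective j.toLinearMap := injective_of_isBaseChange hA j.toLinearMap hj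
  have hm : Function.Injective (mixed R j.toLinearMap j.toLinearMap) := mixed_injective _ _ hj hji
  have hm3 : Function.Injective
      (mixed R j.toLinearMap (mixed R j.toLinearMap j.toLinearMap)) := mixed_injective _ _ hj hm
  let e := LinearEquiv.ofInjective (mixed R j.toLinearMap j.toLinearMap) hm
  let Δ : C₁ →ₗ[A] C₁ ⊗[A] C₁ := e.symm.toLinearMap ∘ₗ
    (LinearMap.codRestrict (LinearMap.range (mixed R j.toLinearMap j.toLinearMap))
      ((Coalgebra.comul (R := R) (A := C)).restrictScalars A ∘ₗ j.toLinearMap)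
      (fun c ↦ comul_mem_range j X hX hΔ c))
  let e' := LinearEquiv.ofInjective (Algebra.linearMap A R) hA
  let ε : C₁ →ₗ[A] A := e'.symm.toLinearMap ∘ₗ
    (LinearMap.codRestrict (LinearMap.range (Algebra.linearMap A R))
      ((Coalgebra.counit (R := R) (A := C)).restrictScalars A ∘ₗ j.toLinearMap)
      (fun c ↦ counit_mem_range j X hX hε c))
  have hΔ' : ∀ c, mixed R j.toLinearMap j.toLinearMap (Δ c) = Coalgebra.comul (R := R) (j c) := by
    intro c
    have h1 : e (Δ c) = ⟨Coalgebra.comul (R := R) (j c), comul_mem_range j X hX hΔ c⟩ := by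
      simp only [Δ, LinearMap.comp_apply, LinearEquiv.coe_coe, LinearEquiv.apply_symm_apply]
      rfl
    have h2 := congrArg Subtype.val h1
    simpa [e] using h2
  have hε' : ∀ c, algebraMap A R (ε c) = Coalgebra.counit (R := R) (j c) := by
    intro c
    have h1 : e' (ε c) = ⟨Coalgebra.counit (R := R) (j c), counit_mem_range j X hX hε c⟩ := by
      simp only [ε, LinearMap.comp_apply, LinearEquiv.coe_coe, LinearEquiv.apply_symm_apply]
      rfl
    have h2 := congrArg Subtype.val h1
    simpa [e'] using h2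
  have b1 : ∀ z : C₁ ⊗[A] C₁, mixed R j.toLinearMap (mixed R j.toLinearMap j.toLinearMap)
      (Δ.lTensor C₁ z) = (Coalgebra.comul (R := R) (A := C)).lTensor C
        (mixed R j.toLinearMap j.toLinearMap z) := by
    intro z
    induction z with
    | zero => simp
    | add x y hx hy => simp only [map_add, hx, hy]
    | tmul x y => simp [hΔ']
  have b2 : ∀ z : C₁ ⊗[A] C₁, mixed R j.toLinearMap (mixed R j.toLinearMap j.toLinearMap)
      (TensorProduct.assoc A C₁ C₁ C₁ (Δ.rTensor C₁ z)) =
      TensorProduct.assoc R C C C ((Coalgebra.comul (R := R) (A := C)).rTensor C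
        (mixed R j.toLinearMap j.toLinearMap z)) := by
    intro z
    induction z with
    | zero => simp
    | add x y hx hy => simp only [map_add, hx, hy]
    | tmul x y =>
      simp only [LinearMap.rTensor_tmul, mixed_tmul, AlgHom.toLinearMap_apply]
      rw [← hΔ']
      generalize Δ x = w
      induction w with
      | zero => simp
      | add u v hu hv => simp only [map_add, TensorProduct.add_tmul, hu, hv]
      | tmul u v => simp
  have hR1 : Function.Injective (mixed R (Algebra.linearMap A R) j.toLinearMap) :=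
    mixed_injective _ _ (IsBaseChange.linearMap A R) hji
  have hR2 : Function.Injective (mixed R j.toLinearMap (Algebra.linearMap A R)) :=
    mixed_injective _ _ hj hA
  refine ⟨{ comul := Δ, counit := ε, coassoc := ?_, rTensor_counit_comp_comul := ?_,
            lTensor_counit_comp_comul := ?_ }, hΔ'⟩
  · ext c
    apply hm3
    simp only [LinearMap.comp_apply, LinearEquiv.coe_coe]
    rw [b1, b2, hΔ']
    exact LinearMap.congr_fun (Coalgebra.coassoc (R := R) (A := C)) (j c)
  · ext c
    apply hR1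
    have : ∀ z : C₁ ⊗[A] C₁, mixed R (Algebra.linearMap A R) j.toLinearMap (ε.rTensor C₁ z) =
        (Coalgebra.counit (R := R) (A := C)).rTensor C (mixed R j.toLinearMap j.toLinearMap z) := by
      intro z
      induction z with
      | zero => simp
      | add x y hx hy => simp only [map_add, hx, hy]
      | tmul x y => simp [hε']
    simp only [LinearMap.comp_apply]
    rw [this, hΔ']
    have h2 := LinearMap.congr_fun (Coalgebra.rTensor_counit_comp_comul (R := R) (A := C)) (j c)
    simp only [LinearMap.comp_apply] at h2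
    rw [h2]
    simp
  · ext c
    apply hR2
    have : ∀ z : C₁ ⊗[A] C₁, mixed R j.toLinearMap (Algebra.linearMap A R) (ε.lTensor C₁ z) =
        (Coalgebra.counit (R := R) (A := C)).lTensor C (mixed R j.toLinearMap j.toLinearMap z) := by
      intro z
      induction z with
      | zero => simp
      | add x y hx hy => simp only [map_add, hx, hy]
      | tmul x y => simp [hε']
    simp only [LinearMap.comp_apply]
    rw [this, hΔ']
    have h2 := LinearMap.congr_fun (Coalgebra.lTensor_counit_comp_comul (R := R) (A := C)) (j c)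
    simp only [LinearMap.comp_apply] at h2
    rw [h2]
    simp

/-- Serre's lemma over a noetherian subring, transported to `C`. -/
theorem exists_submodule (hA : Function.Injective (algebraMap A R)) [IsNoetherianRing A]
    [Module.Flat A C₁] (j : C₁ →ₐ[A] C) (hj : IsBaseChange R j.toLinearMap) (X : Set C₁)
    (hXf : X.Finite) (hX : Algebra.adjoin A X = ⊤)
    (hΔ : ∀ x ∈ X, Coalgebra.comul (R := R) (j x) ∈
      LinearMap.range (mixed R j.toLinearMap j.toLinearMap))
    (hε : ∀ x ∈ X, Coalgebra.counit (R := R) (j x) ∈ LinearMap.range (Algebra.linearMap A R)) :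
    ∃ E : Submodule R C, E.FG ∧ Algebra.adjoin R (E : Set C) = ⊤ ∧
      ∀ w ∈ E, Coalgebra.comul (R := R) w ∈ LinearMap.range (E.subtype.rTensor C) := by
  obtain ⟨inst, hinst⟩ := exists_coalgebra hA j hj X hX hΔ hε
  obtain ⟨W, hW, hXW, hWfg⟩ := Groth.Agent.S3032.result A C₁ C₁ (Submodule.span A X)
    (Submodule.fg_span hXf)
  obtain ⟨s, hs⟩ := hWfg
  let E : Submodule R C := Submodule.span R (j '' (W : Set C₁))
  have hjE : ∀ w ∈ W, j w ∈ E := fun w hw ↦ Submodule.subset_span ⟨w, hw, rfl⟩
  refine ⟨E, ?_, ?_, ?_⟩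
  · have hE : E = Submodule.span R (j '' (s : Set C₁)) := by
      apply le_antisymm
      · refine Submodule.span_le.mpr ?_
        rintro _ ⟨w, hw, rfl⟩
        rw [← hs] at hw
        induction hw using Submodule.span_induction with
        | mem x hx => exact Submodule.subset_span ⟨x, hx, rfl⟩
        | zero => rw [map_zero]; exact Submodule.zero_mem _
        | add x y _ _ hx hy => rw [map_add]; exact Submodule.add_mem _ hx hy
        | smul a x _ hx =>
          rw [map_smul, ← algebraMap_smul R a (j x)]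
          exact Submodule.smul_mem _ _ hx
      · refine Submodule.span_mono (Set.image_mono ?_)
        rw [← hs]; exact Submodule.subset_span
    rw [hE]
    exact Submodule.fg_span (s.finite_toSet.image _)
  · rw [eq_top_iff]
    rintro c -
    have hjc : ∀ c₁ : C₁, j c₁ ∈ Algebra.adjoin R (E : Set C) := by
      intro c₁
      have hc : c₁ ∈ Algebra.adjoin A X := by rw [hX]; trivial
      induction hc using Algebra.adjoin_induction with
      | mem x hx => exact Algebra.subset_adjoin (hjE x (hXW (Submodule.subset_span hx)))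
      | algebraMap a =>
        rw [AlgHom.commutes, IsScalarTower.algebraMap_apply A R C]
        exact Subalgebra.algebraMap_mem _ _
      | add x y _ _ hx hy => rw [map_add]; exact add_mem hx hy
      | mul x y _ _ hx hy => rw [map_mul]; exact mul_mem hx hy
    induction c using hj.inductionOn with
    | zero => exact zero_mem _
    | tmul m => exact hjc m
    | smul r n hn => exact Subalgebra.smul_mem _ hn r
    | add n₁ n₂ h₁ h₂ => exact add_mem h₁ h₂
  · intro w hw
    induction hw using Submodule.span_induction with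
    | zero => rw [map_zero]; exact Submodule.zero_mem _
    | add x y _ _ hx hy => rw [map_add]; exact Submodule.add_mem _ hx hy
    | smul a x _ hx => rw [map_smul]; exact Submodule.smul_mem _ _ hx
    | mem x hx =>
      obtain ⟨c, hc, rfl⟩ := hx
      rw [← hinst c]
      obtain ⟨z, hz⟩ := hW c hc
      change (W.subtype.rTensor C₁) z = Coalgebra.comul c at hz
      rw [← hz]
      clear hz
      induction z with
      | zero => simp
      | add x y hx hy => rw [map_add, map_add]; exact Submodule.add_mem _ hx hy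
      | tmul x y => exact ⟨(⟨j x.1, hjE x.1 x.2⟩ : E) ⊗ₜ[R] j y, by simp⟩

end Descend


lemma span_descend {R N : Type*} [CommRing R] [AddCommGroup N] [Module R N] (Y : Set N) (z : N)
    (hz : z ∈ Submodule.span R Y) :
    ∃ F : Set R, F.Finite ∧ ∀ R₁ : Subalgebra ℤ R, F ⊆ R₁ → z ∈ Submodule.span R₁ Y := by
  induction hz using Submodule.span_induction with
  | mem x hx => exact ⟨∅, Set.finite_empty, fun R₁ _ ↦ Submodule.subset_span hx⟩
  | zero => exact ⟨∅, Set.finite_empty, fun R₁ _ ↦ Submodule.zero_mem _⟩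
  | add x y _ _ hx hy =>
    obtain ⟨F, hF, hF'⟩ := hx
    obtain ⟨G, hG, hG'⟩ := hy
    exact ⟨F ∪ G, hF.union hG, fun R₁ h ↦ Submodule.add_mem _
      (hF' R₁ (Set.subset_union_left.trans h)) (hG' R₁ (Set.subset_union_right.trans h))⟩
  | smul a x _ hx =>
    obtain ⟨F, hF, hF'⟩ := hx
    refine ⟨insert a F, hF.insert a, fun R₁ h ↦ ?_⟩
    have ha : a ∈ R₁ := h (Set.mem_insert _ _)
    have := Submodule.smul_mem _ (⟨a, ha⟩ : R₁) (hF' R₁ ((Set.subset_insert _ _).trans h))
    exact this

/-- Every smooth affine group scheme over an affine base has a finitely generated comodule with a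
linear form whose matrix coefficients generate the coordinate ring. -/
theorem exists_comodule {R : Type u} [CommRing R] {C : Type u} [CommRing C] [HopfAlgebra R C]
    [Algebra.Smooth R C] :
    ∃ (E : Type u) (_ : AddCommGroup E) (_ : Module R E) (_ : Module.Finite R E)
      (ρ : E →ₗ[R] E ⊗[R] C) (l : E →ₗ[R] R),
      (TensorProduct.assoc R E C C).toLinearMap ∘ₗ (ρ.rTensor C) ∘ₗ ρ =
        (Coalgebra.comul.lTensor E) ∘ₗ ρ ∧
      (TensorProduct.rid R E).toLinearMap ∘ₗ (Coalgebra.counit.lTensor E) ∘ₗ ρ = LinearMap.id ∧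
      Algebra.adjoin R (Set.range fun e => (TensorProduct.lid R C) (l.rTensor C (ρ e))) = ⊤ := by
  have hflat : Module.Flat R C := Algebra.Smooth.flat R C
  suffices h : ∃ E : Submodule R C, E.FG ∧ Algebra.adjoin R (E : Set C) = ⊤ ∧
      ∀ w ∈ E, Coalgebra.comul (R := R) w ∈ LinearMap.range (E.subtype.rTensor C) by
    obtain ⟨E, hfg, hadj, hE⟩ := h
    obtain ⟨ρ, l, h1, h2, h3⟩ := exists_comodule_of_sub E hE
    refine ⟨E, inferInstance, inferInstance, Module.Finite.iff_fg.mpr hfg, ρ, l, h1, h2, ?_⟩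
    rw [← hadj]
    congr 1
    ext c
    simp only [Set.mem_range, h3]
    exact ⟨fun ⟨y, hy⟩ ↦ hy ▸ y.2, fun hc ↦ ⟨⟨c, hc⟩, rfl⟩⟩
  obtain ⟨R₀, C₀, _, _, hfg, hsm, ⟨e⟩⟩ := Algebra.Smooth.exists_subalgebra_fg ℤ R C
  let g : C₀ →ₐ[R₀] C := (e.symm.toAlgHom.restrictScalars R₀).comp
    Algebra.TensorProduct.includeRight
  have hg : ∀ c, g c = e.symm (1 ⊗ₜ c) := fun c ↦ rfl
  have hgb : IsBaseChange R g.toLinearMap := by
    refine IsBaseChange.of_equiv e.symm.toLinearEquiv fun x ↦ rfl
  have hgspan : ∀ c : C, c ∈ Submodule.span R (Set.range g) := by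
    intro c
    induction c using hgb.inductionOn with
    | zero => exact zero_mem _
    | tmul m => exact Submodule.subset_span ⟨m, rfl⟩
    | smul r n hn => exact Submodule.smul_mem _ r hn
    | add n₁ n₂ h₁ h₂ => exact add_mem h₁ h₂
  let Y : Set (C ⊗[R] C) := Set.range fun p : C₀ × C₀ ↦ g p.1 ⊗ₜ[R] g p.2
  have hYspan : ∀ z : C ⊗[R] C, z ∈ Submodule.span R Y := by
    intro z
    induction z with
    | zero => exact zero_mem _
    | add x y hx hy => exact add_mem hx hy
    | tmul x y =>
      have hx := hgspan x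
      induction hx using Submodule.span_induction with
      | zero => rw [TensorProduct.zero_tmul]; exact zero_mem _
      | add a b _ _ ha hb => rw [TensorProduct.add_tmul]; exact add_mem ha hb
      | smul r a _ ha => rw [← TensorProduct.smul_tmul']; exact Submodule.smul_mem _ _ ha
      | mem a ha =>
        obtain ⟨a, rfl⟩ := ha
        have hy := hgspan y
        induction hy using Submodule.span_induction with
        | zero => rw [TensorProduct.tmul_zero]; exact zero_mem _
        | add b c _ _ hb hc => rw [TensorProduct.tmul_add]; exact add_mem hb hc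
        | smul r b _ hb => rw [TensorProduct.tmul_smul]; exact Submodule.smul_mem _ _ hb
        | mem b hb =>
          obtain ⟨b, rfl⟩ := hb
          exact Submodule.subset_span ⟨(a, b), rfl⟩
  obtain ⟨X₀, hX₀⟩ := (inferInstance : Algebra.FiniteType R₀ C₀).out
  choose F hFfin hF using fun x : C₀ ↦ span_descend Y _ (hYspan (Coalgebra.comul (R := R) (g x)))
  let F' : Set R := (⋃ x ∈ (X₀ : Set C₀), F x) ∪
    ((fun x ↦ Coalgebra.counit (R := R) (g x)) '' (X₀ : Set C₀))
  have hF' : F'.Finite := (X₀.finite_toSet.biUnion fun x _ ↦ hFfin x).union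
    (X₀.finite_toSet.image _)
  let R₁ : Subalgebra ℤ R := R₀ ⊔ Algebra.adjoin ℤ F'
  have hR₁ : R₁.FG := hfg.sup (Subalgebra.fg_def.mpr ⟨F', hF', rfl⟩)
  have hle : R₀ ≤ R₁ := le_sup_left
  have hFR₁ : F' ⊆ R₁ := Algebra.subset_adjoin.trans (SetLike.coe_subset_coe.mpr le_sup_right)
  have : IsNoetherianRing R₁ := by
    have : Algebra.FiniteType ℤ R₁ := (Subalgebra.fg_iff_finiteType R₁).mp hR₁
    exact Algebra.FiniteType.isNoetherianRing ℤ R₁
  let : Algebra R₀ R₁ := (Subalgebra.inclusion hle).toAlgebra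
  have : IsScalarTower R₀ R₁ R := IsScalarTower.of_algebraMap_eq fun _ ↦ rfl
  have : IsScalarTower R₀ R₁ C := IsScalarTower.of_algebraMap_eq fun _ ↦ rfl
  have hflat₀ : Module.Flat R₀ C₀ := Algebra.Smooth.flat R₀ C₀
  let j : R₁ ⊗[R₀] C₀ →ₐ[R₁] C := Algebra.TensorProduct.lift (Algebra.ofId R₁ C) g
    (fun _ _ ↦ Commute.all _ _)
  have hj1 : ∀ c, j (1 ⊗ₜ c) = g c := fun c ↦ by simp [j]
  have hj : IsBaseChange R j.toLinearMap := by
    refine IsBaseChange.of_comp (R := R₀) (f := TensorProduct.mk R₀ R₁ C₀ 1)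
      (TensorProduct.isBaseChange R₀ C₀ R₁) ?_
    have : (j.toLinearMap.restrictScalars R₀) ∘ₗ (TensorProduct.mk R₀ R₁ C₀ 1) =
        g.toLinearMap := by
      ext c; exact hj1 c
    rw [this]
    exact hgb
  refine exists_submodule (A := R₁) (C₁ := R₁ ⊗[R₀] C₀) Subtype.val_injective j hj
    ((fun c ↦ (1 : R₁) ⊗ₜ[R₀] c) '' (X₀ : Set C₀)) (X₀.finite_toSet.image _) ?_ ?_ ?_
  · rw [eq_top_iff]
    rintro z -
    induction z with
    | zero => exact zero_mem _
    | add x y hx hy => exact add_mem hx hy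
    | tmul r c =>
      have e1 : r ⊗ₜ[R₀] c = r • ((1 : R₁) ⊗ₜ[R₀] c) := by
        rw [TensorProduct.smul_tmul', smul_eq_mul, mul_one]
      rw [e1]
      refine Subalgebra.smul_mem _ ?_ r
      have hc : c ∈ Algebra.adjoin R₀ (X₀ : Set C₀) := by rw [hX₀]; trivial
      induction hc using Algebra.adjoin_induction with
      | mem x hx => exact Algebra.subset_adjoin ⟨x, hx, rfl⟩
      | algebraMap a =>
        have : (1 : R₁) ⊗ₜ[R₀] (algebraMap R₀ C₀ a) =
            algebraMap R₁ (R₁ ⊗[R₀] C₀) (algebraMap R₀ R₁ a) := by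
          rw [Algebra.TensorProduct.algebraMap_apply, Algebra.algebraMap_eq_smul_one,
            ← TensorProduct.smul_tmul, Algebra.smul_def, mul_one]
          rfl
        rw [this]
        exact Subalgebra.algebraMap_mem _ _
      | add x y _ _ hx hy =>
        rw [TensorProduct.tmul_add]
        exact add_mem (hx (by simp [TensorProduct.smul_tmul'])) (hy (by simp [TensorProduct.smul_tmul']))
      | mul x y _ _ hx hy =>
        have : (1 : R₁) ⊗ₜ[R₀] (x * y) = ((1 : R₁) ⊗ₜ[R₀] x) * ((1 : R₁) ⊗ₜ[R₀] y) := by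
          rw [Algebra.TensorProduct.tmul_mul_tmul, mul_one]
        rw [this]
        exact mul_mem (hx (by simp [TensorProduct.smul_tmul'])) (hy (by simp [TensorProduct.smul_tmul']))
  · rintro _ ⟨x, hx, rfl⟩
    have h1 : Coalgebra.comul (R := R) (g x) ∈ Submodule.span R₁ Y :=
      hF x R₁ ((Set.subset_biUnion_of_mem (u := F) hx).trans (Set.subset_union_left.trans hFR₁))
    rw [hj1]
    refine (Submodule.span_le.mpr ?_) h1
    rintro _ ⟨⟨a, b⟩, rfl⟩
    exact ⟨(1 ⊗ₜ a) ⊗ₜ (1 ⊗ₜ b), by simp [hj1]⟩
  · rintro _ ⟨x, hx, rfl⟩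
    rw [hj1]
    exact ⟨⟨_, hFR₁ (Or.inr ⟨x, hx, rfl⟩)⟩, rfl⟩

end Groth.Agent.Sga3B.ComodGen
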