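import Mathlib.AlgebraicGeometry.Morphisms.Separated

/-!
# A directed union of separated open subschemes is separated
-/

set_option autoImplicit false
open CategoryTheory AlgebraicGeometry Limits
universe u

namespace Groth.Agent.Sga3B.DirSep898

variable {S Y : Scheme.{u}}

/-- The map on self products. -/
noncomputable abbrev pm {U : Scheme.{u}} (j : U ⟶ Y) (f : Y ⟶ S) :
    pullback (j ≫ f) (j ≫ f) ⟶ pullback f f :=
  pullback.map (j ≫ f) (j ≫ f) f f j j (𝟙 S) (by simp) (by simp)

lemma pm_fst {U : Scheme.{u}} (j : U ⟶ Y) (f : Y ⟶ S) :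
    pm j f ≫ pullback.fst f f = pullback.fst _ _ ≫ j := pullback.lift_fst _ _ _

lemma pm_snd {U : Scheme.{u}} (j : U ⟶ Y) (f : Y ⟶ S) :
    pm j f ≫ pullback.snd f f = pullback.snd _ _ ≫ j := pullback.lift_snd _ _ _

/-- The diagonal of a mono followed by `f` is a pullback of the diagonal of `f`. -/
lemma isPullback_diagonal {U : Scheme.{u}} (j : U ⟶ Y) [Mono j] (f : Y ⟶ S) :
    IsPullback j (pullback.diagonal (j ≫ f)) (pullback.diagonal f) (pm j f) where
  w := by
    apply pullback.hom_ext
    · rw [Category.assoc, pullback.diagonal_fst, Category.comp_id, Category.assoc, pm_fst,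
        pullback.diagonal_fst_assoc]
    · rw [Category.assoc, pullback.diagonal_snd, Category.comp_id, Category.assoc, pm_snd,
        pullback.diagonal_snd_assoc]
  isLimit' := by
    have h1 : ∀ s : PullbackCone (pullback.diagonal f) (pm j f), s.fst = (s.snd ≫ pullback.fst _ _) ≫ j := by
      intro s
      have h := congrArg (fun q => q ≫ pullback.fst _ _) s.condition
      rw [Category.assoc, pullback.diagonal_fst, Category.comp_id, Category.assoc, pm_fst] at h
      rw [h, Category.assoc]
    have h2 : ∀ s : PullbackCone (pullback.diagonal f) (pm j f), s.fst = (s.snd ≫ pullback.snd _ _) ≫ j := by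
      intro s
      have h := congrArg (fun q => q ≫ pullback.snd _ _) s.condition
      rw [Category.assoc, pullback.diagonal_snd, Category.comp_id, Category.assoc, pm_snd] at h
      rw [h, Category.assoc]
    have h3 : ∀ s : PullbackCone (pullback.diagonal f) (pm j f),
        s.snd ≫ pullback.fst _ _ = s.snd ≫ pullback.snd _ _ := by
      intro s
      rw [← cancel_mono j, ← h1, ← h2]
    exact ⟨PullbackCone.IsLimit.mk _ (fun s => s.snd ≫ pullback.fst _ _) (fun s => (h1 s).symm)
      (fun s => by
        apply pullback.hom_ext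
        · rw [Category.assoc, pullback.diagonal_fst]
          exact Category.comp_id _
        · rw [Category.assoc, pullback.diagonal_snd]
          exact (Category.comp_id _).trans (h3 s))
      (fun s m h1 h2 => by
        rw [← h2, Category.assoc, pullback.diagonal_fst]
        exact (Category.comp_id _).symm)⟩

/-- A directed union of separated open subschemes is separated. -/
theorem isSeparated_of_directed (f : Y ⟶ S) {ι : Type u} (U : ι → Scheme.{u}) (j : ∀ i, U i ⟶ Y)
    [∀ i, IsOpenImmersion (j i)] (hsep : ∀ i, IsSeparated (j i ≫ f))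
    (hdir : ∀ y y' : Y, ∃ i, y ∈ Set.range (j i) ∧ y' ∈ Set.range (j i)) : IsSeparated f := by
  rw [isSeparated_iff]
  have hm : ∀ i, IsOpenImmersion (pm (j i) f) := fun i => inferInstance
  let 𝒰 : Scheme.OpenCover.{u} (pullback f f) :=
    { I₀ := ι
      X := fun i => pullback (j i ≫ f) (j i ≫ f)
      f := fun i => pm (j i) f
      mem₀ := by
        rw [Scheme.presieve₀_mem_precoverage_iff]
        refine ⟨fun z => ?_, hm⟩
        obtain ⟨i, ⟨a, ha⟩, ⟨b, hb⟩⟩ := hdir (pullback.fst f f z) (pullback.snd f f z)
        refine ⟨i, ?_⟩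
        have h1 : Set.range (pm (j i) f) = _ := Scheme.Pullback.range_map _ _ _ _ _ _ _ _ _
        change z ∈ Set.range (pm (j i) f)
        rw [h1]
        exact ⟨⟨a, ha⟩, ⟨b, hb⟩⟩ }
  refine IsZariskiLocalAtTarget.of_openCover (P := @IsClosedImmersion) 𝒰 fun i => ?_
  have h1 : IsClosedImmersion (pullback.diagonal (j i ≫ f)) := (hsep i).isClosedImmersion_diagonal
  have h2 := (isPullback_diagonal (j i) f)
  have h3 : h2.isoPullback.inv ≫ pullback.diagonal (j i ≫ f) = pullback.snd (pullback.diagonal f) (pm (j i) f) := by
    simp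
  change IsClosedImmersion (pullback.snd (pullback.diagonal f) (pm (j i) f))
  rw [← h3]
  infer_instance

end Groth.Agent.Sga3B.DirSep898
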