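import Groth.Agent.Sga3B.TorusCharts898
import Groth.Agent.Sga3B.DirSep898
import Groth.Agent.Sga3B.ComodGen
import Groth.Agent.Sga3B.DSAff
import Groth.Agent.Books.AffBridge2
import Mathlib.AlgebraicGeometry.Morphisms.Smooth

/-!
# Representability of `Hom(T, G)` for a split torus `T` and a smooth affine group `G` over an affine base
-/

set_option autoImplicit false
open CategoryTheory MonoidalCategory CartesianMonoidalCategory AlgebraicGeometry Opposite Limits
open scoped TensorProduct
universe w u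

namespace Groth.Agent.Sga3B.TorusRep898
open Groth.Agent.Books.AffBridge Groth.Agent.Picfga.OverRep Groth.Agent.Sga3B.HomFun898
open Groth.Agent.Sga3B.HomFunAff898 Groth.Agent.Sga3B.OverAff898
open Groth.Agent.Sga3B.HaarDef Groth.Agent.Sga3B.TorusWt Groth.Agent.Sga3B.TorusUniv
open Groth.Agent.Sga3B.TorusSmooth Groth.Agent.Sga3B.TorusChart898 Groth.Agent.Sga3B.TorusCharts898

variable {R : Type u} [CommRing R] {N : Type} [CommGroup N]
variable {C : Type u} [CommRing C] [HopfAlgebra R C]
variable {E : Type u} [AddCommGroup E] [Module R E]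
variable {ρ : E →ₗ[R] E ⊗[R] C} {l : E →ₗ[R] R} {ι' : Type} {e : ι' → E}

/-- The charts are smooth. -/
theorem smooth_X [Algebra.Smooth R C] (hρ : IsComod C ρ) [Module.Finite R E] {W : Finset N} (d : CD ρ l e W) :
    Smooth (X ρ W d.U).hom := by
  have hloc : ∀ a : bad ρ W d.U, ∃ k : SpecOver R (Localization.Away (a : d.P)) ⟶ X ρ W d.U,
      k ≫ inc ρ W d.U = specMap R (IsScalarTower.toAlgHom R d.P (Localization.Away (a : d.P))) := by
    intro a
    apply exists_lift
    rw [range_inc, ← TorusChart898.map_eq_top_iff]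
    apply Ideal.eq_top_of_isUnit_mem _ (Ideal.mem_map_of_mem _ a.2)
    exact IsLocalization.Away.algebraMap_isUnit (a : d.P)
  choose k hk using hloc
  have hko : ∀ a, IsOpenImmersion (k a).left := by
    intro a
    have h1 : IsOpenImmersion ((k a).left ≫ (inc ρ W d.U).left) := by
      rw [← Over.comp_left, hk]
      exact isOpenImmersion_away _
    exact IsOpenImmersion.of_comp (k a).left (inc ρ W d.U).left
  let 𝒰 : Scheme.OpenCover.{u} (X ρ W d.U).left :=
    { I₀ := bad ρ W d.U
      X := fun a => (SpecOver R (Localization.Away (a : d.P))).left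
      f := fun a => (k a).left
      mem₀ := by
        rw [Scheme.presieve₀_mem_precoverage_iff]
        refine ⟨fun z => ?_, hko⟩
        have hz : (inc ρ W d.U).left z ∈ O ρ W d.U := by
          have : (inc ρ W d.U).left z ∈ Set.range (inc ρ W d.U).left := ⟨z, rfl⟩
          rw [range_inc] at this
          exact this
        obtain ⟨a, ha, ha'⟩ := (mem_O_iff _).1 hz
        refine ⟨⟨a, ha⟩, ?_⟩
        obtain ⟨y, hy⟩ := mem_range_away (R := R) a _ ha'
        refine ⟨y, ?_⟩
        apply (inc ρ W d.U).left.isOpenEmbedding.injective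
        rw [← hy, ← hk ⟨a, ha⟩]
        rfl }
  refine IsZariskiLocalAtSource.of_openCover (P := @Smooth) 𝒰 fun a => ?_
  change Smooth ((k a).left ≫ (X ρ W d.U).hom)
  rw [Over.w]
  have h1 : Algebra.Smooth R (Localization.Away (a : d.P)) := by
    have := d.fp
    have h2 := formallySmooth_away hρ e d.hU d.huniv (a := (a : d.P)) a.2
    have h3 : Algebra.FinitePresentation R (Localization.Away (a : d.P)) :=
      Algebra.FinitePresentation.trans R d.P (Localization.Away (a : d.P))
    exact ⟨h2, h3⟩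
  exact (Books.AffBridge2.smooth_specOver_iff R _).2 h1

/-- The charts are separated. -/
theorem isSeparated_X {W : Finset N} (d : CD ρ l e W) : IsSeparated (X ρ W d.U).hom := by
  have h1 : IsSeparated (SpecOver R d.P).hom :=
    inferInstanceAs (IsSeparated (Spec.map (CommRingCat.ofHom (algebraMap R d.P))))
  change IsSeparated ((O ρ W d.U).ι ≫ (SpecOver R d.P).hom)
  infer_instance

/-- **Representability**, Hopf algebra form. -/
theorem exists_representsHom_specOver [Algebra.Smooth R C] (hρ : IsComod C ρ) [Module.Finite R E] [Finite ι']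
    (hc : Algebra.adjoin R (Set.range fun i => mc ρ l (e i)) = ⊤) :
    ∃ (A : Over (Spec (CommRingCat.of R))) (υ : SpecOver R (MonoidAlgebra R N) ⊗ A ⟶ SpecOver R C),
      AutFam.RepresentsHom (SpecOver R (MonoidAlgebra R N)) (SpecOver R C) A υ ∧ Smooth A.hom ∧
      IsSeparated A.hom ∧ ∀ U : A.left.Opens, IsCompact (U : Set A.left) →
        ∃ (P : Scheme.{u}) (k : U.toScheme ⟶ P), IsAffine P ∧ IsOpenImmersion k := by
  classical
  have hcd : ∀ W : Finset N, Nonempty (CD ρ l e W) := nonempty_CD hc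
  let cd : ∀ W : Finset N, CD ρ l e W := fun W => (hcd W).some
  obtain ⟨H, Z, j, huniv, hop, hξ, hcov⟩ := (charts hρ cd).exists_universal' isZarSheaf_homFun
  have hdir : ∀ W W' : Finset N, W ⊆ W' → Set.range (j ⟨W⟩).left ⊆ Set.range (j ⟨W'⟩).left := by
    intro W W' hWW
    obtain ⟨h, hh⟩ := (charts hρ cd).exists_lift isZarSheaf_homFun ⟨W'⟩ (T := X ρ W (cd W).U)
      (ξ ρ W (cd W).U (cd W).hU) (𝟙 _) (by
        intro t
        rw [Charts.mem_locus_iff]
        obtain ⟨K, _, _, y, hy⟩ := exists_field_point (X ρ W (cd W).U) t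
        obtain ⟨F₀, hF₀, hx⟩ := exists_hf ((homFun (SpecOver R (MonoidAlgebra R N)) (SpecOver R C)).map
          y.op (ξ ρ W (cd W).U (cd W).hU))
        have hS : SuppIn ρ F₀ (W : Set N) := suppIn_of_point (cd W).hU y hx.symm
        exact exists_chart_near hρ (cd W') _ y F₀ hF₀ hx.symm (hS.mono (by exact_mod_cast hWW)) t hy)
    have h1 : h ≫ j ⟨W'⟩ = j ⟨W⟩ := by
      apply (huniv _ (ξ ρ W (cd W).U (cd W).hU)).unique
      · rw [map_comp_apply, hξ]
        refine hh.trans ?_
        rw [op_id, CategoryTheory.Functor.map_id]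
        rfl
      · exact hξ ⟨W⟩
    rintro _ ⟨z, rfl⟩
    refine ⟨h.left z, ?_⟩
    rw [← h1]
    rfl
  have hsm : ∀ W, Smooth ((j W).left ≫ H.hom) := by
    intro W
    rw [Over.w]
    exact smooth_X hρ (cd W.down)
  have hsep : ∀ W, IsSeparated ((j W).left ≫ H.hom) := by
    intro W
    rw [Over.w]
    exact isSeparated_X (cd W.down)
  refine ⟨H, Z.1, representsHom_of_universal H Z huniv, ?_, ?_, ?_⟩
  · let 𝒰 : Scheme.OpenCover.{u} H.left :=
      { I₀ := ULift.{u} (Finset N)
        X := fun W => ((charts hρ cd).X W).left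
        f := fun W => (j W).left
        mem₀ := by
          rw [Scheme.presieve₀_mem_precoverage_iff]
          exact ⟨hcov, hop⟩ }
    exact IsZariskiLocalAtSource.of_openCover (P := @Smooth) 𝒰 hsm
  · refine DirSep898.isSeparated_of_directed H.hom (fun W : ULift.{u} (Finset N) => ((charts hρ cd).X W).left)
      (fun W => (j W).left) hsep ?_
    intro y y'
    obtain ⟨W, z, hz⟩ := hcov y
    obtain ⟨W', z', hz'⟩ := hcov y'
    exact ⟨⟨W.down ∪ W'.down⟩, hdir _ _ Finset.subset_union_left ⟨z, hz⟩,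
      hdir _ _ Finset.subset_union_right ⟨z', hz'⟩⟩
  · intro U hU
    have hne : Nonempty (Finset N) := ⟨∅⟩
    obtain ⟨W, hW⟩ := hU.elim_directed_cover (fun W : Finset N => Set.range (j ⟨W⟩).left)
      (fun W => (j ⟨W⟩).left.isOpenEmbedding.isOpen_range)
      (fun y _ => by
        obtain ⟨W, z, hz⟩ := hcov y
        exact Set.mem_iUnion.2 ⟨W.down, z, hz⟩)
      (fun W W' => ⟨W ∪ W', hdir _ _ Finset.subset_union_left, hdir _ _ Finset.subset_union_right⟩)
    have key : ∀ (V : Over (Spec (CommRingCat.of R))) (jj : V ⟶ H), IsOpenImmersion jj.left →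
        (U : Set H.left) ⊆ Set.range jj.left → ∃ f : U.toScheme ⟶ V.left, IsOpenImmersion f := by
      intro V jj hjj hr
      have hr' : Set.range U.ι ⊆ Set.range jj.left := by
        rw [Scheme.Opens.range_ι]
        exact hr
      refine ⟨IsOpenImmersion.lift jj.left U.ι hr', ?_⟩
      have : IsOpenImmersion (IsOpenImmersion.lift jj.left U.ι hr' ≫ jj.left) := by
        rw [IsOpenImmersion.lift_fac]
        infer_instance
      exact IsOpenImmersion.of_comp _ jj.left
    obtain ⟨f, hf⟩ := key (X ρ W (cd W).U) (j ⟨W⟩) (hop ⟨W⟩) hW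
    exact ⟨(SpecOver R (cd W).P).left, f ≫ (inc ρ W (cd W).U).left,
      inferInstanceAs (IsAffine (Spec _)), inferInstance⟩

/-- **Split case of SGA 3 XI 4.2.** -/
theorem exists_representsHom_split {B : Type u} [CommRing B] (H G : Over (Spec (CommRingCat.of B)))
    [GrpObj H] [GrpObj G] (r : ℕ) (hH : Red.IsSplitTorusWith (Fin r → ℤ) H) (hG : Smooth G.hom)
    (hGa : IsAffineHom G.hom) :
    ∃ (A : Over (Spec (CommRingCat.of B))) (υ : H ⊗ A ⟶ G), AutFam.RepresentsHom H G A υ ∧ Smooth A.hom ∧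
      IsSeparated A.hom ∧ ∀ U : A.left.Opens, IsCompact (U : Set A.left) →
        ∃ (P : Scheme.{u}) (k : U.toScheme ⟶ P), IsAffine P ∧ IsOpenImmersion k := by
  have haff : IsAffine G.left := isAffine_of_isAffineHom G.hom
  obtain ⟨C, _, _, eG, heG⟩ := exists_hopf B G
  have hC : Smooth (SpecOver B C).hom := by
    rw [← Over.w eG.inv]
    have : IsIso eG.inv.left := inferInstanceAs (IsIso ((Over.forget _).map eG.inv))
    infer_instance
  have hC' : Algebra.Smooth B C := (Books.AffBridge2.smooth_specOver_iff B C).1 hC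
  obtain ⟨E, _, _, _, ρ, l, h1, h2, h3⟩ := ComodGen.exists_comodule (R := B) (C := C)
  obtain ⟨k, e, he⟩ := Module.Finite.exists_fin (R := B) (M := E)
  have hρ : IsComod C ρ := ⟨h1, h2⟩
  obtain ⟨A, υ, hυ, hA1, hA2, hA3⟩ := exists_representsHom_specOver (N := Multiplicative (Fin r → ℤ)) hρ
    (adjoin_mc (l := l) he h3)
  obtain ⟨sp⟩ := hH
  let eH : H ≅ SpecOver B (MonoidAlgebra B (Multiplicative (Fin r → ℤ))) :=
    { hom := sp.hom.hom.hom ≫ DSAff.dsTo B (Fin r → ℤ)
      inv := DSAff.dsFrom B (Fin r → ℤ) ≫ sp.inv.hom.hom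
      hom_inv_id := by
        have h5 : sp.hom.hom.hom ≫ sp.inv.hom.hom = 𝟙 _ := congrArg (fun f => f.hom.hom) sp.hom_inv_id
        rw [Category.assoc, ← Category.assoc (DSAff.dsTo B (Fin r → ℤ)), DSAff.dsTo_dsFrom, Category.id_comp, h5]
      inv_hom_id := by
        have h5 : sp.inv.hom.hom ≫ sp.hom.hom.hom = 𝟙 _ := congrArg (fun f => f.hom.hom) sp.inv_hom_id
        rw [Category.assoc, ← Category.assoc sp.inv.hom.hom, h5, Category.id_comp, DSAff.dsFrom_dsTo] }
  have heH : IsMonHom eH.hom := by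
    have h6 : IsMonHom sp.hom.hom.hom := sp.hom.hom.isMonHom_hom
    show IsMonHom (sp.hom.hom.hom ≫ DSAff.dsTo B (Fin r → ℤ))
    infer_instance
  exact ⟨A, _, representsHom_of_iso eH eG hυ, hA1, hA2, hA3⟩

end Groth.Agent.Sga3B.TorusRep898
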