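import Groth.Agent.Sga3B.CellUP

/-!
# Curves extending an orbit of a cocharacter are equivariant

If `c ∈ G(B[T])` restricts to `λ(T) p λ(T)⁻¹` over `B[T;T⁻¹]` then `c(st) = λ(s) c(t) λ(s)⁻¹`, and
`c(1) = p`.
-/

set_option autoImplicit false
universe u

open Polynomial LaurentPolynomial

namespace Groth.Agent.Sga3B.OrbEqui829

open Groth.Agent.Sga3B.Cell Groth.Agent.Sga3B.Cell.Datum

section maps

variable (R B : Type u) [CommRing R] [CommRing B] [Algebra R B]

section lift
variable {R B} {E : Type u} [CommRing E] [Algebra R E]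

/-- algebra maps out of Laurent polynomials -/
noncomputable def lft (f : B →ₐ[R] E) (g : Multiplicative ℤ →* E) : B[T;T⁻¹] →ₐ[R] E :=
  AddMonoidAlgebra.liftNCAlgHom f g (fun _ _ => Commute.all _ _)

lemma lft_C (f : B →ₐ[R] E) (g : Multiplicative ℤ →* E) (b : B) :
    lft f g (LaurentPolynomial.C b) = f b := by
  rw [← LaurentPolynomial.single_eq_C]
  change AddMonoidAlgebra.liftNC _ _ _ = _
  rw [AddMonoidAlgebra.liftNC_single]
  change f b * g (Multiplicative.ofAdd 0) = f b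
  rw [ofAdd_zero, map_one, mul_one]

lemma lft_T (f : B →ₐ[R] E) (g : Multiplicative ℤ →* E) (n : ℤ) :
    lft f g (T n) = g (Multiplicative.ofAdd n) := by
  change AddMonoidAlgebra.liftNC _ _ (AddMonoidAlgebra.single n 1) = _
  rw [AddMonoidAlgebra.liftNC_single]
  change f 1 * _ = _
  rw [map_one, one_mul]

lemma lft_comp_lC (f : B →ₐ[R] E) (g : Multiplicative ℤ →* E) : (lft f g).comp (lC R B) = f := by
  refine AlgHom.ext fun b => ?_
  rw [AlgHom.comp_apply, lC_apply, lft_C]

end lift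

/-- constants of constants -/
noncomputable def cc : B →ₐ[R] B[T;T⁻¹][T;T⁻¹] := (lC R B[T;T⁻¹]).comp (lC R B)

/-- `T ↦ s T` -/
noncomputable def alp : B[T;T⁻¹] →ₐ[R] B[T;T⁻¹][T;T⁻¹] := lft (cc R B)
  { toFun := fun n : Multiplicative ℤ =>
      (LaurentPolynomial.C (T n.toAdd : B[T;T⁻¹]) * T n.toAdd : B[T;T⁻¹][T;T⁻¹])
    map_one' := by simp
    map_mul' := fun a b => by rw [toAdd_mul, T_add, T_add, map_mul]; ring }

/-- `T ↦ T` -/
noncomputable def iot : B[T;T⁻¹] →ₐ[R] B[T;T⁻¹][T;T⁻¹] := lft (cc R B)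
  { toFun := fun n : Multiplicative ℤ => (T n.toAdd : B[T;T⁻¹][T;T⁻¹])
    map_one' := by simp
    map_mul' := fun a b => by rw [toAdd_mul, T_add] }

/-- `T ↦ 1` -/
noncomputable def ev1 : B[T;T⁻¹] →ₐ[R] B := lft (AlgHom.id R B) 1

lemma alp_T (n : ℤ) : alp R B (T n) = LaurentPolynomial.C (T n : B[T;T⁻¹]) * T n := lft_T _ _ _

lemma iot_T (n : ℤ) : iot R B (T n) = T n := lft_T _ _ _

lemma ev1_T (n : ℤ) : ev1 R B (T n) = 1 := lft_T _ _ _

lemma alp_comp_lC : (alp R B).comp (lC R B) = cc R B := lft_comp_lC _ _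

lemma iot_comp_lC : (iot R B).comp (lC R B) = cc R B := lft_comp_lC _ _

lemma ev1_comp_lC : (ev1 R B).comp (lC R B) = AlgHom.id R B := lft_comp_lC _ _

variable {R B} in
lemma algHom_ext_poly {E : Type u} [CommRing E] [Algebra R E] {f g : B[X] →ₐ[R] E}
    (h : f.comp (pC R B) = g.comp (pC R B)) (hX : f X = g X) : f = g := by
  have h1 : (f : B[X] →+* E) = (g : B[X] →+* E) := by
    apply Polynomial.ringHom_ext
    · intro b
      exact congrArg (fun k : B →ₐ[R] E => k b) h
    · exact hX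
  exact AlgHom.ext fun p => congrArg (fun k : B[X] →+* E => k p) h1

lemma lau_comp_sigmaM :
    (lau R B[T;T⁻¹]).comp (sigmaM R B) = (alp R B).comp (lau R B) := by
  apply algHom_ext_poly
  · rw [AlgHom.comp_assoc, AlgHom.comp_assoc, lau_comp_pC, alp_comp_lC]
    refine AlgHom.ext fun b => ?_
    have h1 : sigmaM R B (Polynomial.C b) = Polynomial.C (LaurentPolynomial.C b) := by
      ext1 d
      rw [sigmaM_coeff, Polynomial.coeff_C, Polynomial.coeff_C]
      by_cases hd : d = 0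
      · simp [hd]
      · simp [hd]
    simp only [AlgHom.comp_apply, pC_apply, lau_apply, cc, lC_apply]
    rw [h1, Polynomial.toLaurent_C]
  · have h1 : sigmaM R B X = Polynomial.C (T 1) * X := by
      ext1 d
      rw [sigmaM_coeff, Polynomial.coeff_C_mul, Polynomial.coeff_X, Polynomial.coeff_X]
      by_cases hd : 1 = d
      · subst hd; simp
      · simp [hd]
    simp only [AlgHom.comp_apply, lau_apply]
    rw [h1, map_mul, Polynomial.toLaurent_C, Polynomial.toLaurent_X, Polynomial.toLaurent_X, alp_T]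

lemma lau_comp_iotaM :
    (lau R B[T;T⁻¹]).comp (iotaM R B) = (iot R B).comp (lau R B) := by
  apply algHom_ext_poly
  · rw [AlgHom.comp_assoc, AlgHom.comp_assoc, lau_comp_pC, iot_comp_lC]
    refine AlgHom.ext fun b => ?_
    have h1 : iotaM R B (Polynomial.C b) = Polynomial.C (LaurentPolynomial.C b) := by
      ext1 d
      rw [iotaM_coeff, Polynomial.coeff_C, Polynomial.coeff_C]
      by_cases hd : d = 0
      · simp [hd]
      · simp [hd]
    simp only [AlgHom.comp_apply, pC_apply, lau_apply, cc, lC_apply]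
    rw [h1, Polynomial.toLaurent_C]
  · have h1 : iotaM R B X = X := by
      ext1 d
      rw [iotaM_coeff, Polynomial.coeff_X, Polynomial.coeff_X]
      by_cases hd : 1 = d
      · subst hd; simp
      · simp [hd]
    simp only [AlgHom.comp_apply, lau_apply]
    rw [h1, Polynomial.toLaurent_X, Polynomial.toLaurent_X, iot_T]

lemma lau_comp_kapM : (lau R B[T;T⁻¹]).comp (kapM R B) = lC R B[T;T⁻¹] := by
  refine AlgHom.ext fun z => ?_
  simp only [AlgHom.comp_apply, kapM_apply, lau_apply, Polynomial.toLaurent_C, lC_apply]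

lemma ev1_comp_lau : (ev1 R B).comp (lau R B) = pev R B 1 := by
  apply algHom_ext_poly
  · rw [AlgHom.comp_assoc, lau_comp_pC, ev1_comp_lC, pev_comp_pC]
  · simp only [AlgHom.comp_apply, lau_apply, Polynomial.toLaurent_X, ev1_T, pev_apply,
      Polynomial.eval_X]

end maps

variable {R A : Type u} [CommRing R] [CommRing A] [Algebra R A] [PtGrp R A] (D : Datum R A)
variable {B : Type u} [CommRing B] [Algebra R B]

/-- **A curve extending the orbit of a point is equivariant.** -/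
theorem equi_of_orbit {lam : D.M →+ ℤ} {c : Pt R A B[X]} {p : Pt R A B}
    (h : Pt.map (lau R B) c =
      D.i _ (D.cochar lam) * Pt.map (lC R B) p * (D.i _ (D.cochar lam))⁻¹) :
    D.Equi (D.cochar lam) c := by
  unfold Equi
  apply Pt.map_injective (lau_injective (R := R) (B := B[T;T⁻¹]))
  rw [Pt.map_map, lau_comp_sigmaM, ← Pt.map_map, h, Pt.map_mul, Pt.map_mul, Pt.map_mul, Pt.map_mul,
    Pt.map_inv, Pt.map_inv, Pt.map_map, alp_comp_lC, Pt.map_map, lau_comp_iotaM, ← Pt.map_map, h,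
    Pt.map_mul, Pt.map_mul, Pt.map_inv, Pt.map_map, iot_comp_lC, D.i_nat, D.i_nat, D.i_nat,
    TPt.map_map, lau_comp_kapM]
  have h1 : D.i _ (TPt.map (alp R B) (D.cochar lam : TPt D.M B[T;T⁻¹])) =
      D.i _ (TPt.map (lC R B[T;T⁻¹]) (D.cochar lam : TPt D.M B[T;T⁻¹])) *
        D.i _ (TPt.map (iot R B) (D.cochar lam : TPt D.M B[T;T⁻¹])) := by
    rw [← map_mul]
    congr 1
    apply TPt.ext_ch
    intro m
    rw [TPt.ch_mul, TPt.ch_map, TPt.ch_map, TPt.ch_map, ch_cochar, alp_T, iot_T, lC_apply]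
  rw [h1]
  group

/-- the value at `1` -/
theorem eval_one_of_orbit {lam : D.M →+ ℤ} {c : Pt R A B[X]} {p : Pt R A B}
    (h : Pt.map (lau R B) c =
      D.i _ (D.cochar lam) * Pt.map (lC R B) p * (D.i _ (D.cochar lam))⁻¹) :
    Pt.map (pev R B 1) c = p := by
  rw [← ev1_comp_lau, ← Pt.map_map, h, Pt.map_mul, Pt.map_mul, Pt.map_inv, Pt.map_map, ev1_comp_lC,
    Pt.map_id, D.i_nat]
  have h1 : TPt.map (ev1 R B) (D.cochar lam : TPt D.M B[T;T⁻¹]) = 1 := by
    apply TPt.ext_ch
    intro m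
    rw [TPt.ch_map, ch_cochar, ev1_T, TPt.ch_one]
  rw [h1, map_one]
  group

/-- **Points contracted by a cocharacter are products of root group elements of positive weight.** -/
theorem exists_eq_of_orbit {L : List D.idx} {δ : D.CR} (hδ : D.EtOn L δ) (hδ0 : D.ev0 δ = 1)
    {lam : D.M →+ ℤ} {c : Pt R A B[X]} {p : Pt R A B}
    (h : Pt.map (lau R B) c =
      D.i _ (D.cochar lam) * Pt.map (lC R B) p * (D.i _ (D.cochar lam))⁻¹)
    (h0 : Pt.map (pev R B 0) c = 1) :
    ∃ y : D.idx → B, (∀ a, lam (D.root a) ≤ 0 → y a = 0) ∧ p = D.cell L y 1 :=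
  (D.mem_UP_iff hδ hδ0 (k := fun a => lam (D.root a)) (θ := D.cochar lam)
    (fun a => D.ch_cochar lam (D.root a))).2 ⟨c, equi_of_orbit D h, h0, eval_one_of_orbit D h⟩

end Groth.Agent.Sga3B.OrbEqui829
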