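import Groth.Agent.Sga3B.RootGa
import Mathlib.RingTheory.TensorProduct.IncludeLeftSubRight
import Mathlib.RingTheory.LocalRing.Module
import Mathlib.RingTheory.HopfAlgebra.TensorProduct
import Mathlib.RingTheory.FinitePresentation
import Mathlib.RingTheory.FiniteType
import Mathlib.RingTheory.Spectrum.Prime.FreeLocus
import Mathlib.FieldTheory.IsAlgClosed.AlgebraicClosure

/-!
# Torsors under split tori over a local ring

* `exists_section`: a torsor under `D(M)`, `M` free of finite rank, over a local ring is trivial.
* `surjective_of_residue`: `p : A →ₐc[R] R[M]` is surjective if it is so modulo the maximal ideal.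
* `injective_of_fibres`: a surjection onto a projective algebra, injective on the geometric fibres,
  is injective; `cent_of_fibres`: version for the centralizer of a torus.
-/

set_option autoImplicit false

open TensorProduct WithConv
open Groth.Agent.Books.DynBasic (mapPt mapPt_apply mapPt_injective)
open Groth.Agent.Sga3B.RootCoact Groth.Agent.Sga3B.RootOrb Groth.Agent.Sga3B.RootGr

universe u

namespace Groth.Agent.Sga3B.RootTors878

section Torsor

variable {R : Type u} [CommRing R] {B : Type u} [CommRing B] [Algebra R B]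
variable {M : Type} [AddCommGroup M] (c : Coact R B M)

/-- the map `B ⊗ B → B[M]`, `y ⊗ z ↦ y * rho z`. -/
noncomputable def tor : B ⊗[R] B →ₐ[R] MonoidAlgebra B (Multiplicative M) :=
  Algebra.TensorProduct.productMap (cst R M B) c.rho

lemma tor_tmul (y z : B) : tor c (y ⊗ₜ z) = MonoidAlgebra.single 1 y * c.rho z := rfl

lemma coeff_tor_tmul (y z : B) (m : M) :
    (tor c (y ⊗ₜ z)).coeff (Multiplicative.ofAdd m) = y * pr c m z := by
  rw [tor_tmul, MonoidAlgebra.coeff_single_one_mul]; rfl

lemma inv_mem_gr {m : M} {x y : B} (hx : x ∈ gr c m) (hxy : x * y = 1) : y ∈ gr c (-m) := by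
  rw [mem_gr] at hx ⊢
  have h1 : c.rho x * c.rho y = 1 := by rw [← map_mul, hxy, map_one]
  have h2 : c.rho x * MonoidAlgebra.single (Multiplicative.ofAdd (-m)) y = 1 := by
    rw [hx, MonoidAlgebra.single_mul_single, hxy, ← ofAdd_add, add_neg_cancel]; rfl
  calc c.rho y = c.rho y * (c.rho x * MonoidAlgebra.single (Multiplicative.ofAdd (-m)) y) := by
        rw [h2, mul_one]
    _ = (c.rho x * c.rho y) * MonoidAlgebra.single (Multiplicative.ofAdd (-m)) y := by ring
    _ = _ := by rw [h1, one_mul]

/-- the degree zero part of a torsor is the base -/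
lemma mem_range_of_mem_gr_zero [Module.FaithfullyFlat R B] (h : Function.Injective (tor c))
    {b : B} (hb : b ∈ gr c 0) : ∃ r : R, algebraMap R B r = b := by
  have h1 : tor c (b ⊗ₜ 1) = tor c (1 ⊗ₜ b) := by
    rw [tor_tmul, tor_tmul, map_one, mul_one, (mem_gr c).1 hb]
    change _ = (1 : MonoidAlgebra B (Multiplicative M)) * MonoidAlgebra.single 1 b
    rw [one_mul]
  have h2 := h h1
  have h3 := Algebra.IsEffective.of_faithfullyFlat R B b
  rw [Algebra.TensorProduct.includeLeftSubRight_apply, h2, sub_self] at h3
  obtain ⟨r, hr⟩ := h3.1 rfl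
  exact ⟨r, hr⟩

/-- homogeneous units in every degree -/
lemma exists_unit [IsLocalRing R] [Module.FaithfullyFlat R B] (h : Function.Bijective (tor c))
    (m : M) : ∃ x y : B, x ∈ gr c m ∧ x * y = 1 := by
  by_contra hcon
  push Not at hcon
  have hinj : Function.Injective (algebraMap R B) :=
    FaithfulSMul.algebraMap_injective R B
  have key : ∀ t : B ⊗[R] B, ∃ r ∈ IsLocalRing.maximalIdeal R,
      algebraMap R B r = pr c 0 ((tor c t).coeff (Multiplicative.ofAdd m)) := by
    intro t
    induction t using TensorProduct.induction_on with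
    | zero => exact ⟨0, zero_mem _, by simp⟩
    | add x y hx hy =>
      obtain ⟨r, hr, hrx⟩ := hx
      obtain ⟨s, hs, hsy⟩ := hy
      refine ⟨r + s, add_mem hr hs, ?_⟩
      rw [map_add, hrx, hsy, map_add (tor c), MonoidAlgebra.coeff_add, Finsupp.add_apply, map_add]
    | tmul y z =>
      rw [coeff_tor_tmul]
      have hz := pr_mem_gr c m z
      have e : pr c 0 (y * pr c m z) = pr c (-m) y * pr c m z := by
        classical
        have h0 : pr c (-m) y * pr c m z ∈ gr c 0 := by
          have := mul_mem_gr c (pr_mem_gr c (-m) y) hz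
          rwa [neg_add_cancel] at this
        have h1 : y * pr c m z = ∑ n ∈ insert (-m) (supp c y), pr c n y * pr c m z := by
          rw [← Finset.sum_mul]
          congr 1
          conv_lhs => rw [← sum_pr c y]
          refine Finset.sum_subset (Finset.subset_insert _ _) ?_
          intro n _ hn
          rw [mem_supp, not_not] at hn
          exact hn
        rw [h1, pr_sum, Finset.sum_eq_single (-m)]
        · exact pr_of_mem_same c h0
        · intro n _ hn
          apply pr_of_mem_ne c (mul_mem_gr c (pr_mem_gr c n y) hz)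
          intro h2
          exact hn (eq_neg_of_add_eq_zero_left h2)
        · intro h2
          exact absurd (Finset.mem_insert_self _ _) h2
      rw [e]
      have h0 : pr c (-m) y * pr c m z ∈ gr c 0 := by
        have := mul_mem_gr c (pr_mem_gr c (-m) y) hz
        rwa [neg_add_cancel] at this
      obtain ⟨r, hr⟩ := mem_range_of_mem_gr_zero c h.1 h0
      refine ⟨r, ?_, hr⟩
      rw [IsLocalRing.mem_maximalIdeal, mem_nonunits_iff]
      rintro ⟨u, rfl⟩
      apply hcon (pr c m z) (pr c (-m) y * algebraMap R B (↑u⁻¹ : R)) hz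
      rw [← mul_assoc, mul_comm (pr c m z), ← hr, ← map_mul, Units.mul_inv, map_one]
  obtain ⟨t, ht⟩ := h.2 (MonoidAlgebra.single (Multiplicative.ofAdd m) 1)
  obtain ⟨r, hr, hrt⟩ := key t
  rw [ht, MonoidAlgebra.coeff_single, Finsupp.single_eq_same, pr_of_mem_same c (one_mem_gr c),
    ← map_one (algebraMap R B)] at hrt
  rw [hinj hrt] at hr
  exact (IsLocalRing.mem_maximalIdeal _).1 hr isUnit_one

/-- a family of homogeneous units in all degrees, multiplicative in the degree -/
lemma exists_units [IsLocalRing R] [Module.FaithfullyFlat R B] [Module.Free ℤ M]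
    (h : Function.Bijective (tor c)) :
    ∃ χ : Multiplicative M →* Bˣ, ∀ m : M, (χ (Multiplicative.ofAdd m) : B) ∈ gr c m := by
  let b := Module.Free.chooseBasis ℤ M
  have h1 : ∀ i, ∃ u : Bˣ, (u : B) ∈ gr c (b i) := by
    intro i
    obtain ⟨x, y, hx, hxy⟩ := exists_unit c h (b i)
    exact ⟨⟨x, y, hxy, by rw [mul_comm]; exact hxy⟩, hx⟩
  choose u hu using h1
  let F : M →+ Additive Bˣ := (b.constr ℤ fun i => Additive.ofMul (u i) : M →ₗ[ℤ] Additive Bˣ).toAddMonoidHom
  have hF : ∀ i, F (b i) = Additive.ofMul (u i) := fun i => b.constr_basis ℤ _ i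
  let S : AddSubgroup M :=
    { carrier := {m | ((F m).toMul : B) ∈ gr c m}
      zero_mem' := by
        change ((F 0).toMul : B) ∈ gr c 0
        rw [map_zero, toMul_zero, Units.val_one]
        exact one_mem_gr c
      add_mem' := by
        intro m n hm hn
        change ((F (m + n)).toMul : B) ∈ gr c (m + n)
        rw [map_add, toMul_add, Units.val_mul]
        exact mul_mem_gr c hm hn
      neg_mem' := by
        intro m hm
        change ((F (-m)).toMul : B) ∈ gr c (-m)
        rw [map_neg, toMul_neg]
        exact inv_mem_gr c hm (Units.mul_inv _) }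
  have hS : ∀ m, m ∈ S := by
    intro m
    have h2 : (⊤ : Submodule ℤ M) ≤ S.toIntSubmodule := by
      rw [← b.span_eq, Submodule.span_le]
      rintro _ ⟨i, rfl⟩
      change ((F (b i)).toMul : B) ∈ gr c (b i)
      rw [hF]
      exact hu i
    exact h2 (Submodule.mem_top (x := m))
  exact ⟨AddMonoidHom.toMultiplicativeLeft F, fun m => hS m⟩

/-- **Hilbert 90**: a torsor under `D(M)`, `M` free, over a local ring has a section. -/
theorem exists_section [IsLocalRing R] [Module.FaithfullyFlat R B] [Module.Free ℤ M]
    (h : Function.Bijective (tor c)) : Nonempty (B →ₐ[R] R) := by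
  obtain ⟨χ, hχ⟩ := exists_units c h
  have hinj : Function.Injective (algebraMap R B) :=
    FaithfulSMul.algebraMap_injective R B
  let σ : B →ₐ[R] B := (evC (R := R) χ⁻¹).comp c.rho
  have hσ : ∀ b, σ b ∈ (⊥ : Subalgebra R B) := by
    intro b
    induction b using induction_gr c with
    | h0 => rw [map_zero]; exact zero_mem _
    | hadd x y hx hy => rw [map_add]; exact add_mem hx hy
    | h m x hx =>
      change evC (R := R) χ⁻¹ (c.rho x) ∈ _
      rw [(mem_gr c).1 hx, evC_single, Algebra.mem_bot]
      have h1 : x * ((χ⁻¹ (Multiplicative.ofAdd m) : Bˣ) : B) ∈ gr c 0 := by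
        have h2 := mul_mem_gr c hx (inv_mem_gr c (hχ m) (Units.mul_inv _))
        rwa [add_neg_cancel] at h2
      exact mem_range_of_mem_gr_zero c h.1 h1
  exact ⟨(Algebra.botEquivOfInjective hinj).toAlgHom.comp (σ.codRestrict ⊥ hσ)⟩

end Torsor

section Surj

variable {R : Type u} [CommRing R] {A : Type u} [CommRing A] [HopfAlgebra R A]
variable {M : Type} [AddCommGroup M]
variable (p : A →ₐc[R] MonoidAlgebra R (Multiplicative M))

variable (R A M) in
/-- the trivial homomorphism -/
noncomputable def triv : A →ₐc[R] MonoidAlgebra R (Multiplicative M) :=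
  (Bialgebra.unitBialgHom R _).comp (Bialgebra.counitBialgHom R A)

lemma torPt_triv {C : Type u} [CommRing C] [Algebra R C] (t : Multiplicative M →* Cˣ) :
    torPt (triv R A M) t = 1 := by
  apply WithConv.ofConv_injective
  apply AlgHom.ext
  intro a
  rw [torPt_apply]
  change evT R t (algebraMap R _ (Coalgebra.counit a)) = algebraMap R C (Coalgebra.counit a)
  rw [AlgHom.commutes]

lemma coeff_apply (a : A) (m : M) : (p a).coeff (Multiplicative.ofAdd m) =
    Coalgebra.counit (R := R) (pr (coact p (triv R A M)) m a) := by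
  have h1 := coeff_orbU' (C := R) p (triv R A M) 1 a m
  have h2 : orbU p (triv R A M) (1 : WithConv (A →ₐ[R] R)) = torPt p (tau M R) := by
    rw [orbU, orb, torPt_triv, map_one, mul_one, inv_one, mul_one]
  rw [h2] at h1
  have h3 : (torPt p (tau M R)).ofConv a = p a := by
    rw [torPt_apply]
    have h4 : evT R (tau M R) = AlgHom.id R (MonoidAlgebra R (Multiplicative M)) := by
      apply algHom_ext_single
      intro m
      rw [evT_single, one_smul, tau_apply]; rfl
    rw [h4]; rfl
  rw [h3] at h1
  exact h1

lemma apply_pr (a : A) (m : M) : p (pr (coact p (triv R A M)) m a) =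
    MonoidAlgebra.single (Multiplicative.ofAdd m) ((p a).coeff (Multiplicative.ofAdd m)) := by
  classical
  ext n
  obtain ⟨n, rfl⟩ := Multiplicative.ofAdd.surjective n
  rw [coeff_apply, pr_pr, MonoidAlgebra.coeff_single, Finsupp.single_apply, coeff_apply p a m]
  by_cases h : m = n
  · subst h; simp
  · rw [if_neg h, if_neg (fun h' => h (Multiplicative.ofAdd.injective h')), map_zero]

/-- the image of `p` is spanned by multiples of group elements -/
lemma single_coeff_mem_range (a : A) (m : M) :
    ∃ a', p a' = MonoidAlgebra.single (Multiplicative.ofAdd m)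
      ((p a).coeff (Multiplicative.ofAdd m)) :=
  ⟨_, apply_pr p a m⟩

/-- `p` is surjective as soon as every group element is a value of `p` modulo the maximal ideal -/
theorem surjective_of_residue [IsLocalRing R]
    (h : ∀ m : M, ∃ a : A, (p a).coeff (Multiplicative.ofAdd m) ∉ IsLocalRing.maximalIdeal R) :
    Function.Surjective p := by
  intro f
  induction f using MonoidAlgebra.induction_linear with
  | zero => exact ⟨0, map_zero p⟩
  | add x y hx hy =>
    obtain ⟨a, rfl⟩ := hx
    obtain ⟨b, rfl⟩ := hy
    exact ⟨a + b, map_add p a b⟩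
  | single m r =>
    obtain ⟨m, rfl⟩ := Multiplicative.ofAdd.surjective m
    obtain ⟨a, ha⟩ := h m
    rw [IsLocalRing.notMem_maximalIdeal] at ha
    obtain ⟨u, hu⟩ := ha
    refine ⟨(r * ↑u⁻¹ : R) • pr (coact p (triv R A M)) m a, ?_⟩
    rw [map_smul, apply_pr, MonoidAlgebra.smul_single, ← hu, smul_eq_mul, mul_assoc,
      Units.inv_mul, mul_one]

end Surj

section Fibres

variable {R : Type u} [CommRing R] {Z T : Type u} [CommRing Z] [CommRing T] [Algebra R Z]
  [Algebra R T]

/-- A surjection `Z → T` with `T` projective over `R` and finitely generated kernel which is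
injective on all geometric fibres is injective. -/
theorem injective_of_fibres [Module.Projective R T] (f : Z →ₐ[R] T) (hf : Function.Surjective f)
    (hker : (RingHom.ker f).FG)
    (h : ∀ (K : Type u) [Field K] [IsAlgClosed K] [Algebra R K],
      Function.Injective (f.toLinearMap.lTensor K)) : Function.Injective f := by
  let I : Submodule Z Z := RingHom.ker f
  obtain ⟨s, hs⟩ := Module.projective_lifting_property f.toLinearMap (LinearMap.id (R := R) (M := T)) hf
  have hs' : ∀ t, f (s t) = t := fun t => LinearMap.congr_fun hs t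
  let IR : Submodule R Z := I.restrictScalars R
  let r : Z →ₗ[R] IR := (LinearMap.id - s.comp f.toLinearMap).codRestrict IR (by
    intro z
    change f (z - s (f z)) = 0
    rw [map_sub, hs', sub_self])
  have hr : ∀ i : IR, r i.1 = i := by
    intro i
    apply Subtype.ext
    change i.1 - s (f i.1) = i.1
    have : f i.1 = 0 := i.2
    rw [this, map_zero, sub_zero]
  have h0 : ∀ (K : Type u) [Field K] [IsAlgClosed K] [Algebra R K], Subsingleton (K ⊗[R] IR) := by
    intro K _ _ _
    have h1 : Function.Injective (IR.subtype.lTensor K) := by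
      have h2 : (r.lTensor K) ∘ₗ (IR.subtype.lTensor K) = LinearMap.id := by
        rw [← LinearMap.lTensor_comp]
        have : r ∘ₗ IR.subtype = LinearMap.id := LinearMap.ext hr
        rw [this, LinearMap.lTensor_id]
      exact Function.LeftInverse.injective (g := r.lTensor K) (LinearMap.congr_fun h2)
    have h3 : (f.toLinearMap.lTensor K) ∘ₗ (IR.subtype.lTensor K) = 0 := by
      rw [← LinearMap.lTensor_comp]
      have : f.toLinearMap ∘ₗ IR.subtype = 0 := LinearMap.ext fun i => i.2
      rw [this, LinearMap.lTensor_zero]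
    refine ⟨fun x y => ?_⟩
    apply h1
    apply h K
    exact (LinearMap.congr_fun h3 x).trans (LinearMap.congr_fun h3 y).symm
  have hfin : Module.Finite Z I := Module.Finite.iff_fg.2 hker
  have hsub : Subsingleton I := by
    rw [← Module.support_eq_empty_iff (R := Z)]
    rw [Set.eq_empty_iff_forall_notMem]
    intro q hq
    rw [Module.mem_support_iff_nontrivial_residueField_tensorProduct] at hq
    let κ := q.asIdeal.ResidueField
    let K := AlgebraicClosure κ
    let _ : Algebra R κ := inferInstance
    have h4 : Subsingleton (K ⊗[R] I) := h0 K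
    have h5 : Subsingleton (K ⊗[Z] I) := by
      have : IsScalarTower R Z κ := inferInstance
      have : IsScalarTower R Z K := by
        refine IsScalarTower.of_algebraMap_eq fun x => ?_
        rw [IsScalarTower.algebraMap_apply Z κ K, ← IsScalarTower.algebraMap_apply R Z κ]
        exact IsScalarTower.algebraMap_apply R κ K x
      exact (TensorProduct.mapOfCompatibleSMul_surjective Z R R K I).subsingleton
    have h6 : Nontrivial (K ⊗[κ] (κ ⊗[Z] I)) := inferInstance
    have e := AlgebraTensorModule.cancelBaseChange Z κ κ K I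
    exact not_subsingleton _ (e.symm.toEquiv.subsingleton_congr.1 h5)
  intro x y hxy
  have h7 : (⟨x - y, by change f (x - y) = 0; rw [map_sub, hxy, sub_self]⟩ : I) = 0 :=
    Subsingleton.elim _ _
  exact sub_eq_zero.1 (congrArg Subtype.val h7)

end Fibres

section BaseChange

variable {R : Type u} [CommRing R] {A : Type u} [CommRing A] [HopfAlgebra R A]
variable {M : Type} [AddCommGroup M]
variable {K : Type u} [CommRing K] [Algebra R K]
variable {B : Type u} [CommRing B] [HopfAlgebra K B] [Algebra R B] [IsScalarTower R K B]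
variable (ι : A →ₐ[R] B)
variable {C : Type u} [CommRing C] [Algebra K C] [Algebra R C] [IsScalarTower R K C]
variable {D : Type u} [CommRing D] [Algebra K D] [Algebra R D] [IsScalarTower R K D]

variable (K) in
/-- the comparison of the tensor squares -/
noncomputable def bcTT : A ⊗[R] A →ₐ[R] B ⊗[K] B :=
  Algebra.TensorProduct.lift
    (((Algebra.TensorProduct.includeLeft : B →ₐ[K] B ⊗[K] B).restrictScalars R).comp ι)
    (((Algebra.TensorProduct.includeRight : B →ₐ[K] B ⊗[K] B).restrictScalars R).comp ι)
    (fun _ _ => Commute.all _ _)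

lemma bcTT_tmul (x y : A) : bcTT K ι (x ⊗ₜ y) = (ι x) ⊗ₜ[K] (ι y) := by
  rw [bcTT, Algebra.TensorProduct.lift_tmul]
  change (ι x ⊗ₜ[K] (1 : B)) * ((1 : B) ⊗ₜ[K] ι y) = _
  rw [Algebra.TensorProduct.tmul_mul_tmul, mul_one, one_mul]

variable (K) in
/-- `ι` is compatible with the coalgebra structures (over `R` and over `K`). -/
structure IsHopfBC : Prop where
  comul : ∀ a, Coalgebra.comul (R := K) (ι a) = bcTT K ι (Coalgebra.comul (R := R) a)
  counit : ∀ a, Coalgebra.counit (R := K) (ι a) = algebraMap R K (Coalgebra.counit (R := R) a)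

variable (R A K) in
/-- the inclusion of `A` in `K ⊗[R] A` -/
theorem isHopfBC_includeRight : IsHopfBC K (B := K ⊗[R] A)
    (Algebra.TensorProduct.includeRight : A →ₐ[R] K ⊗[R] A) where
  comul a := by
    change Coalgebra.comul (R := K) ((1 : K) ⊗ₜ[R] a) = _
    rw [TensorProduct.comul_tmul]
    have h1 : Coalgebra.comul (R := K) (1 : K) = 1 ⊗ₜ 1 := rfl
    rw [h1]
    generalize Coalgebra.comul (R := R) a = w
    induction w using TensorProduct.induction_on with
    | zero => simp
    | add x y hx hy => rw [TensorProduct.tmul_add, map_add, hx, hy, map_add]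
    | tmul x y => rw [bcTT_tmul]; rfl
  counit a := by
    change Coalgebra.counit (R := K) ((1 : K) ⊗ₜ[R] a) = _
    rw [TensorProduct.counit_tmul, Algebra.smul_def]
    have : Coalgebra.counit (R := K) (1 : K) = 1 := rfl
    rw [this, mul_one]

variable {ι}

/-- restriction of a point of `B` to a point of `A`. -/
noncomputable def res (hι : IsHopfBC K ι) : WithConv (B →ₐ[K] C) →* WithConv (A →ₐ[R] C) where
  toFun g := toConv ((g.ofConv.restrictScalars R).comp ι)
  map_one' := by
    apply WithConv.ofConv_injective
    apply AlgHom.ext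
    intro a
    change algebraMap K C (Coalgebra.counit (ι a)) = algebraMap R C (Coalgebra.counit a)
    rw [hι.counit, ← IsScalarTower.algebraMap_apply R K C]
  map_mul' g h := by
    apply WithConv.ofConv_injective
    apply AlgHom.ext
    intro a
    rw [Groth.Agent.Sga3B.RootGa.convMul_apply']
    change (g * h).ofConv (ι a) = _
    rw [Groth.Agent.Sga3B.RootGa.convMul_apply', hι.comul]
    generalize Coalgebra.comul (R := R) a = w
    induction w using TensorProduct.induction_on with
    | zero => simp
    | add x y hx hy => simp only [map_add, hx, hy]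
    | tmul x y =>
      rw [bcTT_tmul, Algebra.TensorProduct.map_tmul, Algebra.TensorProduct.map_tmul,
        Algebra.TensorProduct.lmul'_apply_tmul, Algebra.TensorProduct.lmul'_apply_tmul]
      rfl

variable (hι : IsHopfBC K ι)

lemma res_apply (g : WithConv (B →ₐ[K] C)) (a : A) :
    (res hι g).ofConv a = g.ofConv (ι a) := rfl

lemma res_mapPt (φ : C →ₐ[K] D) (g : WithConv (B →ₐ[K] C)) :
    res hι (mapPt φ g) = mapPt (φ.restrictScalars R) (res hι g) := rfl

variable (p q : A →ₐc[R] MonoidAlgebra R (Multiplicative M))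
variable (pK qK : B →ₐc[K] MonoidAlgebra K (Multiplicative M))

variable (ι) in
/-- `pK` is the base change of `p` -/
def IsBC : Prop :=
  ∀ a m, (pK (ι a)).coeff m = algebraMap R K ((p a).coeff m)

variable {p q pK qK}

lemma res_torPt (h : IsBC ι p pK) (t : Multiplicative M →* Cˣ) :
    res hι (torPt pK t) = torPt p t := by
  apply WithConv.ofConv_injective
  apply AlgHom.ext
  intro a
  rw [res_apply, torPt_apply, torPt_apply]
  have h1 : pK (ι a) = MonoidAlgebra.mapRingHom (Multiplicative M) (algebraMap R K) (p a) := by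
    ext m
    rw [h, MonoidAlgebra.coeff_mapRingHom]
  rw [h1]
  generalize p a = f
  induction f using MonoidAlgebra.induction_linear with
  | zero => simp
  | add x y hx hy => rw [map_add, map_add, map_add, hx, hy]
  | single m r =>
    rw [MonoidAlgebra.mapRingHom_single, evT_single, evT_single, algebraMap_smul]

lemma res_orb (hp : IsBC ι p pK) (hq : IsBC ι q qK) (t : Multiplicative M →* Cˣ)
    (g : WithConv (B →ₐ[K] C)) : res hι (orb pK qK t g) = orb p q t (res hι g) := by
  simp only [orb, map_mul, map_inv, res_torPt hι hp, res_torPt hι hq]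

lemma res_orbU (hp : IsBC ι p pK) (hq : IsBC ι q qK) (g : WithConv (B →ₐ[K] C)) :
    res hι (orbU pK qK g) = orbU p q (res hι g) := by
  rw [orbU, res_orb hι hp hq, res_mapPt]
  rfl

include hι in
/-- compatibility of the coactions with base change -/
lemma coeff_rho (hp : IsBC ι p pK) (hq : IsBC ι q qK) (a : A) (m : Multiplicative M) :
    (rho pK qK (ι a)).coeff m = ι ((rho p q a).coeff m) := by
  have h1 := congrArg (fun g : WithConv (A →ₐ[R] MonoidAlgebra B (Multiplicative M)) =>
    (g.ofConv a).coeff m) (res_orbU hι hp hq (toConv (AlgHom.id K B)))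
  simp only [coeff_orbU] at h1
  exact h1

include hι in
lemma pr_apply (hp : IsBC ι p pK) (hq : IsBC ι q qK) (a : A) (m : M) :
    pr (coact pK qK) m (ι a) = ι (pr (coact p q) m a) :=
  coeff_rho hι hp hq a _

include hι in
lemma ι_mem_gr (hp : IsBC ι p pK) (hq : IsBC ι q qK) {m : M} {a : A} (ha : a ∈ gr (coact p q) m) :
    ι a ∈ gr (coact pK qK) m := by
  rw [mem_gr_iff_pr, pr_apply hι hp hq, pr_of_mem_same _ ha]

include hι in
lemma mem_span_gr (hspan : Submodule.span K (Set.range ι) = ⊤) (hp : IsBC ι p pK)
    (hq : IsBC ι q qK) {m : M} {y : B} (hy : y ∈ gr (coact pK qK) m) :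
    y ∈ Submodule.span K (ι '' (gr (coact p q) m : Set A)) := by
  rw [← pr_of_mem_same _ hy]
  have hy' : y ∈ Submodule.span K (Set.range ι) := hspan ▸ Submodule.mem_top
  clear hy
  induction hy' using Submodule.span_induction with
  | mem x hx =>
    obtain ⟨a, rfl⟩ := hx
    rw [pr_apply hι hp hq]
    exact Submodule.subset_span ⟨_, pr_mem_gr _ _ _, rfl⟩
  | zero => rw [map_zero]; exact zero_mem _
  | add x y _ _ hx hy => rw [map_add]; exact add_mem hx hy
  | smul k x _ hx => rw [map_smul]; exact Submodule.smul_mem _ k hx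

include hι in
lemma map_JP (hspan : Submodule.span K (Set.range ι) = ⊤) (hp : IsBC ι p pK)
    (Ψ : AddSubmonoid M) : JP pK Ψ = (JP p Ψ).map ι := by
  apply le_antisymm
  · rw [JP, Ideal.span_le]
    rintro y ⟨m, hm, hy⟩
    have h1 := mem_span_gr hι hspan hp hp hy
    have h2 : Submodule.span K (ι '' (gr (conjCoact p) m : Set A)) ≤
        ((JP p Ψ).map ι).restrictScalars K := by
      rw [Submodule.span_le]
      rintro _ ⟨a, ha, rfl⟩
      exact Ideal.mem_map_of_mem _ (Ideal.subset_span ⟨m, hm, ha⟩)
    exact h2 h1
  · rw [Ideal.map_le_iff_le_comap, JP, Ideal.span_le]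
    rintro a ⟨m, hm, ha⟩
    exact Ideal.subset_span ⟨m, hm, ι_mem_gr hι hp hp ha⟩

end BaseChange

section BCHom

variable {R : Type u} [CommRing R] {A A' : Type u} [CommRing A] [HopfAlgebra R A]
  [CommRing A'] [HopfAlgebra R A']
variable {K : Type u} [CommRing K] [Algebra R K]
variable {B : Type u} [CommRing B] [HopfAlgebra K B] [Algebra R B] [IsScalarTower R K B]
variable {B' : Type u} [CommRing B'] [HopfAlgebra K B'] [Algebra R B'] [IsScalarTower R K B']
variable {ι : A →ₐ[R] B} {ι' : A' →ₐ[R] B'}

lemma map_bcTT (f : A →ₐ[R] A') (fK : B →ₐ[K] B') (h : ∀ a, fK (ι a) = ι' (f a))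
    (w : A ⊗[R] A) : Algebra.TensorProduct.map fK fK (bcTT K ι w) =
      bcTT K ι' (Algebra.TensorProduct.map f f w) := by
  induction w using TensorProduct.induction_on with
  | zero => simp
  | add x y hx hy => simp only [map_add, hx, hy]
  | tmul x y =>
    rw [bcTT_tmul, Algebra.TensorProduct.map_tmul, Algebra.TensorProduct.map_tmul, bcTT_tmul,
      h, h]

/-- an algebra map extending a bialgebra map after base change is a bialgebra map -/
theorem exists_bialgHom (hι : IsHopfBC K ι) (hι' : IsHopfBC K ι')
    (hspan : Submodule.span K (Set.range ι) = ⊤) (f : A →ₐc[R] A') (fK : B →ₐ[K] B')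
    (h : ∀ a, fK (ι a) = ι' (f a)) : ∃ F : B →ₐc[K] B', ∀ b, F b = fK b := by
  have hext : ∀ {X : Type u} [CommRing X] [Algebra K X] (g g' : B →ₐ[K] X),
      (∀ a, g (ι a) = g' (ι a)) → g = g' := by
    intro X _ _ g g' hg
    have h1 : g.toLinearMap = g'.toLinearMap := by
      apply LinearMap.ext_on hspan
      rintro _ ⟨a, rfl⟩
      exact hg a
    exact AlgHom.toLinearMap_injective h1
  refine ⟨BialgHom.ofAlgHom fK ?_ ?_, fun b => rfl⟩
  · apply hext
    intro a
    change Coalgebra.counit (R := K) (fK (ι a)) = Coalgebra.counit (R := K) (ι a)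
    rw [h, hι'.counit, hι.counit, CoalgHomClass.counit_comp_apply]
  · apply hext
    intro a
    change Algebra.TensorProduct.map fK fK (Coalgebra.comul (R := K) (ι a)) =
      Coalgebra.comul (R := K) (fK (ι a))
    rw [h, hι'.comul, hι.comul, map_bcTT (f : A →ₐ[R] A') fK h]
    congr 1
    exact CoalgHomClass.map_comp_comul_apply f a

end BCHom

section BCMon

variable (R : Type u) [CommRing R] (M : Type) [AddCommGroup M]
variable (K : Type u) [CommRing K] [Algebra R K]

/-- the map `R[M] → K[M]` -/
noncomputable def monBC : MonoidAlgebra R (Multiplicative M) →ₐ[R]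
    MonoidAlgebra K (Multiplicative M) :=
  MonoidAlgebra.mapAlgHom (Multiplicative M) (Algebra.ofId R K)

lemma coeff_monBC (f : MonoidAlgebra R (Multiplicative M)) (m : Multiplicative M) :
    (monBC R M K f).coeff m = algebraMap R K (f.coeff m) := by
  rw [monBC, MonoidAlgebra.coeff_mapAlgHom]; rfl

lemma monBC_single (r : R) (m : Multiplicative M) :
    monBC R M K (MonoidAlgebra.single m r) = MonoidAlgebra.single m (algebraMap R K r) := by
  rw [monBC, MonoidAlgebra.mapAlgHom_single]; rfl

theorem isHopfBC_monBC : IsHopfBC K (monBC R M K) where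
  comul a := by
    induction a using MonoidAlgebra.induction_linear with
    | zero => simp
    | add x y hx hy => simp only [map_add, hx, hy]
    | single m r =>
      rw [monBC_single, MonoidAlgebra.comul_single, MonoidAlgebra.comul_single,
        CommSemiring.comul_apply, CommSemiring.comul_apply, TensorProduct.map_tmul,
        TensorProduct.map_tmul, bcTT_tmul]
      change MonoidAlgebra.single m (1 : K) ⊗ₜ[K] MonoidAlgebra.single m (algebraMap R K r) =
        monBC R M K (MonoidAlgebra.single m 1) ⊗ₜ[K] monBC R M K (MonoidAlgebra.single m r)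
      rw [monBC_single, monBC_single, map_one]
  counit a := by
    induction a using MonoidAlgebra.induction_linear with
    | zero => simp
    | add x y hx hy => simp only [map_add, hx, hy]
    | single m r =>
      rw [monBC_single, MonoidAlgebra.counit_single, MonoidAlgebra.counit_single]
      rfl

end BCMon

section Cent

variable {R : Type u} [CommRing R] {A : Type u} [CommRing A] [HopfAlgebra R A]
variable {M : Type} [AddCommGroup M]
variable (p : A →ₐc[R] MonoidAlgebra R (Multiplicative M))
variable (K : Type u) [CommRing K] [Algebra R K]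

lemma span_includeRight : Submodule.span K
    (Set.range (Algebra.TensorProduct.includeRight : A →ₐ[R] K ⊗[R] A)) = ⊤ := by
  rw [eq_top_iff]
  intro y _
  induction y using TensorProduct.induction_on with
  | zero => exact zero_mem _
  | add x y hx hy => exact add_mem (hx trivial) (hy trivial)
  | tmul k a =>
    have : k ⊗ₜ[R] a = k • ((1 : K) ⊗ₜ[R] a) := by rw [TensorProduct.smul_tmul', smul_eq_mul, mul_one]
    rw [this]
    exact Submodule.smul_mem _ _ (Submodule.subset_span ⟨a, rfl⟩)

/-- the base change of `p` -/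
theorem exists_bc : ∃ pK : K ⊗[R] A →ₐc[K] MonoidAlgebra K (Multiplicative M),
    IsBC (Algebra.TensorProduct.includeRight : A →ₐ[R] K ⊗[R] A) p pK ∧
    ∀ k a, pK (k ⊗ₜ a) = k • monBC R M K (p a) := by
  let fK : K ⊗[R] A →ₐ[K] MonoidAlgebra K (Multiplicative M) :=
    Algebra.TensorProduct.lift (Algebra.ofId K _)
      ((monBC R M K).comp (p : A →ₐ[R] MonoidAlgebra R (Multiplicative M)))
      (fun _ _ => Commute.all _ _)
  have h : ∀ k a, fK (k ⊗ₜ a) = k • monBC R M K (p a) := by
    intro k a
    rw [Algebra.TensorProduct.lift_tmul, Algebra.smul_def]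
    rfl
  obtain ⟨pK, hpK⟩ := exists_bialgHom (isHopfBC_includeRight R A K) (isHopfBC_monBC R M K)
    (span_includeRight K) p fK (fun a => by
      change fK ((1 : K) ⊗ₜ a) = _
      rw [h, one_smul])
  refine ⟨pK, fun a m => ?_, fun k a => by rw [hpK, h]⟩
  change (pK ((1 : K) ⊗ₜ a)).coeff m = _
  rw [hpK, h, one_smul, coeff_monBC]

/-- `p` factors through the centralizer. -/
lemma apply_eq_zero_of_mem_JP {y : A} (hy : y ∈ JP p (⊥ : AddSubmonoid M)) : p y = 0 := by
  have h1 : orbU p p (torPt p (tau M R)) = mapPt (cst R M _) (torPt p (tau M R)) := by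
    rw [orbU, orb, mapPt_torPt, ← map_inv, ← map_mul, ← map_mul]
    congr 1
    refine MonoidHom.ext fun m => ?_
    rw [MonoidHom.mul_apply, MonoidHom.mul_apply, MonoidHom.inv_apply, mul_right_comm,
      mul_inv_cancel, one_mul]
  rw [fixed_iff] at h1
  have h2 : JP p (⊥ : AddSubmonoid M) ≤ RingHom.ker (torPt p (tau M R)).ofConv := by
    rw [JP, Ideal.span_le]
    rintro x ⟨m, hm, hx⟩
    exact h1 m hm x hx
  have h3 := h2 hy
  have h4 : evT R (tau M R) = AlgHom.id R (MonoidAlgebra R (Multiplicative M)) := by
    apply algHom_ext_single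
    intro m
    rw [evT_single, one_smul, tau_apply]; rfl
  change evT R (tau M R) (p y) = 0 at h3
  rw [h4] at h3
  exact h3

/-- group algebras of finitely generated commutative groups are finitely presented -/
theorem finitePresentation_monoidAlgebra (M : Type) [AddCommGroup M] [AddGroup.FG M] (R : Type u)
    [CommRing R] : Algebra.FinitePresentation R (MonoidAlgebra R (Multiplicative M)) := by
  have h1 : Algebra.FiniteType ℤ (MonoidAlgebra ℤ (Multiplicative M)) := by
    rw [MonoidAlgebra.finiteType_iff_fg]
    have : Group.FG (Multiplicative M) := inferInstance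
    exact Monoid.fg_of_group_fg
  have h2 : Algebra.FinitePresentation ℤ (MonoidAlgebra ℤ (Multiplicative M)) :=
    Algebra.FinitePresentation.of_finiteType.mp h1
  exact Algebra.FinitePresentation.equiv (MonoidAlgebra.scalarTensorEquiv ℤ R (M := Multiplicative M))

/-- the kernel of a surjection from a finite type algebra onto a finitely presented one is finitely
generated -/
theorem ker_fg {Z T : Type u} [CommRing Z] [CommRing T] [Algebra R Z] [Algebra R T]
    [Algebra.FiniteType R Z] [Algebra.FinitePresentation R T] (f : Z →ₐ[R] T)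
    (hf : Function.Surjective f) : (RingHom.ker f).FG := by
  obtain ⟨n, g, hg⟩ := Algebra.FiniteType.iff_quotient_mvPolynomial''.1 ‹Algebra.FiniteType R Z›
  have h1 : (RingHom.ker (f.comp g)).FG :=
    Algebra.FinitePresentation.ker_fG_of_surjective (f.comp g) (hf.comp hg)
  have h2 : (RingHom.ker (f.comp g)).map g = RingHom.ker f := by
    apply le_antisymm
    · rw [Ideal.map_le_iff_le_comap]
      intro x hx
      exact hx
    · intro x hx
      obtain ⟨y, rfl⟩ := hg x
      exact Ideal.mem_map_of_mem _ hx
  rw [← h2]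
  exact h1.map _

/-- **The centralizer of a torus is the torus** if this holds on the geometric fibres
(only `p` surjective and `A` of finite type are needed). -/
theorem cent_of_fibres [AddGroup.FG M] [Algebra.FiniteType R A] (hp : Function.Surjective p)
    (h : ∀ (K : Type u) [Field K] [IsAlgClosed K] [Algebra R K]
      (pK : K ⊗[R] A →ₐc[K] MonoidAlgebra K (Multiplicative M)),
      IsBC (Algebra.TensorProduct.includeRight : A →ₐ[R] K ⊗[R] A) p pK →
      ∀ y, pK y = 0 → y ∈ JP pK (⊥ : AddSubmonoid M)) :
    ∀ y, p y = 0 → y ∈ JP p (⊥ : AddSubmonoid M) := by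
  let J := JP p (⊥ : AddSubmonoid M)
  let f : A ⧸ J →ₐ[R] MonoidAlgebra R (Multiplicative M) :=
    Ideal.Quotient.liftₐ J (p : A →ₐ[R] MonoidAlgebra R (Multiplicative M))
      (fun y hy => apply_eq_zero_of_mem_JP p hy)
  have hf : Function.Surjective f := by
    intro x
    obtain ⟨a, rfl⟩ := hp x
    exact ⟨Ideal.Quotient.mk _ a, rfl⟩
  have := finitePresentation_monoidAlgebra M R
  have hproj : Module.Projective R (MonoidAlgebra R (Multiplicative M)) := inferInstance
  have hinj : Function.Injective f := by
    apply injective_of_fibres f hf (ker_fg f hf)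
    intro K _ _ _
    obtain ⟨pK, hpK, hpK'⟩ := exists_bc p K
    rw [← LinearMap.ker_eq_bot, eq_bot_iff]
    intro z hz
    have hq : Function.Surjective
        ((Ideal.Quotient.mkₐ R J).toLinearMap.lTensor K) :=
      LinearMap.lTensor_surjective K (Ideal.Quotient.mkₐ_surjective R J)
    obtain ⟨y, rfl⟩ := hq z
    have h1 : (f.toLinearMap.lTensor K) (((Ideal.Quotient.mkₐ R J).toLinearMap.lTensor K) y) =
        ((p : A →ₐ[R] MonoidAlgebra R (Multiplicative M)).toLinearMap.lTensor K) y := by
      rw [← LinearMap.comp_apply, ← LinearMap.lTensor_comp]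
      rfl
    rw [LinearMap.mem_ker, h1] at hz
    let L : K ⊗[R] MonoidAlgebra R (Multiplicative M) →ₐ[K] MonoidAlgebra K (Multiplicative M) :=
      Algebra.TensorProduct.lift (Algebra.ofId K _) (monBC R M K) (fun _ _ => Commute.all _ _)
    have h2 : ∀ y : K ⊗[R] A, pK y =
        L (((p : A →ₐ[R] MonoidAlgebra R (Multiplicative M)).toLinearMap.lTensor K) y) := by
      intro y
      induction y using TensorProduct.induction_on with
      | zero => simp
      | add x y hx hy => simp only [map_add, hx, hy]
      | tmul k a =>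
        rw [hpK', LinearMap.lTensor_tmul]
        change _ = L (k ⊗ₜ p a)
        rw [Algebra.TensorProduct.lift_tmul, Algebra.smul_def]
        rfl
    have h3 : y ∈ JP pK (⊥ : AddSubmonoid M) := h K pK hpK y (by rw [h2, hz, map_zero])
    rw [map_JP (isHopfBC_includeRight R A K) (span_includeRight K) hpK] at h3
    let Q : K ⊗[R] A →ₐ[R] K ⊗[R] (A ⧸ J) :=
      Algebra.TensorProduct.map (AlgHom.id R K) (Ideal.Quotient.mkₐ R J)
    have h4 : J.map (Algebra.TensorProduct.includeRight : A →ₐ[R] K ⊗[R] A) ≤ RingHom.ker Q := by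
      rw [Ideal.map_le_iff_le_comap]
      intro j hj
      change Q (1 ⊗ₜ j) = 0
      rw [Algebra.TensorProduct.map_tmul]
      change _ ⊗ₜ Ideal.Quotient.mk J j = _
      rw [Ideal.Quotient.eq_zero_iff_mem.2 hj, TensorProduct.tmul_zero]
    exact h4 h3
  intro y hy
  have h3 : f (Ideal.Quotient.mk J y) = f 0 := by
    rw [map_zero]
    exact hy
  exact Ideal.Quotient.eq_zero_iff_mem.1 (hinj h3)

end Cent

end Groth.Agent.Sga3B.RootTors878
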