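import Groth.Agent.Sga3B.GrDynHopf678
import Mathlib.RingTheory.HopfAlgebra.Quotient

/-!
# Gradings from inner cocharacters, quotient gradings

* `isHopfGrading_gr`: the conjugation grading of a cocharacter is compatible with the Hopf algebra
  structure.
* `quotGr`: the grading of `A ⧸ J` for a homogeneous ideal `J`; it is compatible with the Hopf
  algebra structure if `J` is a Hopf ideal.
-/

set_option autoImplicit false
set_option linter.unusedSectionVars false

universe u v

open LaurentPolynomial TensorProduct WithConv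

namespace Groth.Agent.Sga3B.GrDynInner678

open Groth.Agent.Sga3B.GrDynAlg678 Groth.Agent.Sga3B.GrDynHopf678
open Groth.Agent.Books.DynBasic Groth.Agent.Books.DynLim

section Inner

variable {k A : Type u} [CommRing k] [CommRing A] [HopfAlgebra k A] (lam : A →ₐc[k] k[T;T⁻¹])

lemma rho_antipode (a : A) : rho lam (HopfAlgebra.antipodeAlgHom k A a) =
    AddMonoidAlgebra.mapAlgHom ℤ (HopfAlgebra.antipodeAlgHom k A) (rho lam a) := by
  have h1 : (orbHom lam (toConv (AlgHom.id k A)))⁻¹ = orbHom lam (toConv (AlgHom.id k A))⁻¹ :=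
    (map_inv (orbHom (R := A) lam) _).symm
  rw [orbHom_eq, orbHom_eq lam (toConv (AlgHom.id k A))⁻¹] at h1
  have h2 := DFunLike.congr_fun (congrArg WithConv.ofConv h1) a
  rw [inv_apply] at h2
  have h3 : ∀ x : A[T;T⁻¹], AddMonoidAlgebra.mapAlgHom ℤ (AlgHom.id k A) x = x := by
    intro x
    rw [AddMonoidAlgebra.mapAlgHom_id]
    rfl
  change AddMonoidAlgebra.mapAlgHom ℤ (AlgHom.id k A) (rho lam _) = _ at h2
  rw [h3] at h2
  exact h2

lemma antipode_mem_gr {n : ℤ} {a : A} (ha : a ∈ gr lam n) :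
    HopfAlgebra.antipodeAlgHom k A a ∈ gr lam n := by
  rw [mem_gr, rho_antipode, (mem_gr lam).1 ha, ← single_eq_C_mul_T, ← single_eq_C_mul_T,
    AddMonoidAlgebra.mapAlgHom_single]

lemma comul_mem_gr {n : ℤ} {a : A} (ha : a ∈ gr lam n) : Coalgebra.comul (R := k) a ∈
    ⨆ i : ℤ, LinearMap.range (TensorProduct.map (gr lam i).subtype (gr lam (n - i)).subtype) := by
  let i₁ : WithConv (A →ₐ[k] A ⊗[k] A) := toConv Algebra.TensorProduct.includeLeft
  let i₂ : WithConv (A →ₐ[k] A ⊗[k] A) := toConv Algebra.TensorProduct.includeRight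
  have h12 : (i₁ * i₂).ofConv = Bialgebra.comulAlgHom k A := by
    ext a
    rw [mul_apply]
    change _ = Coalgebra.comul (R := k) a
    generalize Coalgebra.comul (R := k) a = t
    induction t using TensorProduct.induction_on with
    | zero => simp
    | tmul x y =>
      rw [TensorProduct.map_tmul, LinearMap.mul'_apply]
      change (x ⊗ₜ[k] (1 : A)) * ((1 : A) ⊗ₜ[k] y) = _
      rw [Algebra.TensorProduct.tmul_mul_tmul, mul_one, one_mul]
    | add x y hx hy => rw [map_add, map_add, hx, hy]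
  have h1 : orbHom lam (i₁ * i₂) = orbHom lam i₁ * orbHom lam i₂ := map_mul _ _ _
  have h2 := congrArg (fun z => (z.ofConv a).coeff n) h1
  rw [orbHom_eq, mul_apply] at h2
  change (AddMonoidAlgebra.mapAlgHom ℤ (i₁ * i₂).ofConv (rho lam a)).coeff n = _ at h2
  rw [h12, (mem_gr lam).1 ha, ← single_eq_C_mul_T, AddMonoidAlgebra.mapAlgHom_single,
    AddMonoidAlgebra.coeff_single, Finsupp.single_eq_same] at h2
  change Coalgebra.comul (R := k) a = _ at h2
  rw [h2]
  generalize Coalgebra.comul (R := k) a = t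
  induction t using TensorProduct.induction_on with
  | zero => simp
  | tmul x y =>
    rw [TensorProduct.map_tmul, LinearMap.mul'_apply]
    change ((orbHom lam i₁).ofConv x * (orbHom lam i₂).ofConv y).coeff n ∈ _
    rw [orbHom_eq, orbHom_eq]
    change (AddMonoidAlgebra.mapAlgHom ℤ i₁.ofConv (rho lam x) *
      AddMonoidAlgebra.mapAlgHom ℤ i₂.ofConv (rho lam y)).coeff n ∈ _
    rw [AddMonoidAlgebra.coeff_mul, Finsupp.sum]
    apply Submodule.sum_mem
    intro i _
    rw [Finsupp.sum]
    apply Submodule.sum_mem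
    intro j _
    split_ifs with hij
    · apply Submodule.mem_iSup_of_mem i
      have hj : j = n - i := by rw [← hij]; ring
      subst hj
      refine ⟨⟨pr lam i x, pr_mem_gr lam i x⟩ ⊗ₜ ⟨pr lam (n - i) y, pr_mem_gr lam _ y⟩, ?_⟩
      rw [TensorProduct.map_tmul]
      rw [AddMonoidAlgebra.coeff_mapAlgHom, AddMonoidAlgebra.coeff_mapAlgHom]
      change _ = (pr lam i x ⊗ₜ[k] (1 : A)) * ((1 : A) ⊗ₜ[k] pr lam (n - i) y)
      rw [Algebra.TensorProduct.tmul_mul_tmul, mul_one, one_mul]
      rfl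
    · exact zero_mem _
  | add x y hx hy =>
    rw [map_add, map_add, AddMonoidAlgebra.coeff_add]
    exact add_mem hx hy

/-- the conjugation grading is compatible with the Hopf algebra structure. -/
theorem isHopfGrading_gr : IsHopfGrading (gr lam) where
  counit_zero _ hm _ ha := counit_of_mem_gr lam hm ha
  comul_mem _ _ ha := comul_mem_gr lam ha
  antipode_mem _ _ ha := antipode_mem_gr lam ha

lemma proj_gr (n : ℤ) (a : A) : GradedAlgebra.proj (gr lam) n a = Books.DynBasic.pr lam n a :=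
  decompose_apply lam a n

/-- a closed subscheme stable under conjugation by the cocharacter is defined by a homogeneous
ideal -/
lemma pr_mem_of_orb (J : Ideal A)
    (h : ∀ a ∈ J, (orbHom lam (toConv (Ideal.Quotient.mkₐ k J))).ofConv a = 0) (a : A)
    (ha : a ∈ J) (n : ℤ) : GradedAlgebra.proj (gr lam) n a ∈ J := by
  have h1 := h a ha
  rw [orbHom_eq] at h1
  have h2 := congrArg (fun z => z.coeff n) h1
  change (AddMonoidAlgebra.mapAlgHom ℤ (Ideal.Quotient.mkₐ k J) (rho lam a)).coeff n = 0 at h2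
  rw [AddMonoidAlgebra.coeff_mapAlgHom] at h2
  rw [proj_gr]
  exact Ideal.Quotient.eq_zero_iff_mem.1 h2

end Inner

section Quot

variable {k : Type u} [CommRing k] {A : Type v} [CommRing A] [Algebra k A]
variable {M : Type*} [AddCommGroup M] [DecidableEq M] (𝒜 : M → Submodule k A) [GradedAlgebra 𝒜]
variable (J : Ideal A)

/-- the image grading on a quotient -/
def quotGr (m : M) : Submodule k (A ⧸ J) := (𝒜 m).map (Ideal.Quotient.mkₐ k J).toLinearMap

lemma mk_mem_quotGr {m : M} {a : A} (ha : a ∈ 𝒜 m) : Ideal.Quotient.mk J a ∈ quotGr 𝒜 J m :=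
  ⟨a, ha, rfl⟩

/-- the composition of the decomposition with the quotient map -/
noncomputable def preDec : A →+ DirectSum M fun m => quotGr 𝒜 J m :=
  (DirectSum.map fun m => ((Ideal.Quotient.mkₐ k J).toLinearMap.restrict
    (p := 𝒜 m) (q := quotGr 𝒜 J m) fun a ha => ⟨a, ha, rfl⟩).toAddMonoidHom).comp
    (DirectSum.decomposeAddEquiv 𝒜).toAddMonoidHom

lemma preDec_apply (a : A) (m : M) : (preDec 𝒜 J a m : A ⧸ J) =
    Ideal.Quotient.mk J (GradedAlgebra.proj 𝒜 m a) := rfl

variable {J}

/-- the decomposition map of the quotient -/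
noncomputable def quotDec (hJ : ∀ a ∈ J, ∀ m, GradedAlgebra.proj 𝒜 m a ∈ J) :
    A ⧸ J →+ DirectSum M fun m => quotGr 𝒜 J m :=
  QuotientAddGroup.lift J.toAddSubgroup (preDec 𝒜 J) (by
    intro a ha
    rw [AddMonoidHom.mem_ker]
    ext m
    rw [preDec_apply]
    exact Ideal.Quotient.eq_zero_iff_mem.2 (hJ a ha m))

variable (hJ : ∀ a ∈ J, ∀ m, GradedAlgebra.proj 𝒜 m a ∈ J)

lemma quotDec_mk (a : A) (m : M) : (quotDec 𝒜 hJ (Ideal.Quotient.mk J a) m : A ⧸ J) =
    Ideal.Quotient.mk J (GradedAlgebra.proj 𝒜 m a) := rfl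

/-- the grading of the quotient by a homogeneous ideal -/
@[implicit_reducible]
noncomputable def quotGraded : GradedAlgebra (quotGr 𝒜 J) where
  one_mem := mk_mem_quotGr 𝒜 J SetLike.GradedOne.one_mem
  mul_mem := by
    rintro i j _ _ ⟨a, ha, rfl⟩ ⟨b, hb, rfl⟩
    exact ⟨a * b, SetLike.GradedMul.mul_mem ha hb, map_mul (Ideal.Quotient.mkₐ k J) _ _⟩
  decompose' := quotDec 𝒜 hJ
  left_inv := by
    intro x
    obtain ⟨a, rfl⟩ := Ideal.Quotient.mk_surjective x
    classical
    have h1 : ∀ y : DirectSum M fun m => quotGr 𝒜 J m, DirectSum.coeAddMonoidHom (quotGr 𝒜 J) y =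
        ∑ m ∈ DFinsupp.support y, (y m : A ⧸ J) := by
      intro y
      rw [DirectSum.coeAddMonoidHom_eq_dfinsuppSum]
      rfl
    rw [h1]
    conv_rhs => rw [← sum_pr 𝒜 a, map_sum]
    apply Finset.sum_subset_zero_on_sdiff
    · intro m hm
      by_contra hms
      rw [DFinsupp.mem_support_iff] at hm
      apply hm
      ext
      rw [quotDec_mk]
      have h2 := pr_eq_zero_of_notMem 𝒜 hms
      rw [h2, map_zero]
      rfl
    · intro m hm
      rw [Finset.mem_sdiff, DFinsupp.notMem_support_iff] at hm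
      have h2 := quotDec_mk 𝒜 hJ a m
      rw [hm.2] at h2
      exact h2.symm
    · intro m _
      exact quotDec_mk 𝒜 hJ a m
  right_inv := by
    intro x
    induction x using DirectSum.induction_on with
    | zero => simp
    | of i x =>
      obtain ⟨_, a, ha, rfl⟩ := x
      rw [DirectSum.coeAddMonoidHom_of]
      ext m
      change (quotDec 𝒜 hJ (Ideal.Quotient.mk J a) m : A ⧸ J) = _
      rw [quotDec_mk]
      by_cases h : i = m
      · subst h
        have h2 := pr_same 𝒜 ha
        rw [h2, DirectSum.of_eq_same]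
        rfl
      · have h2 := pr_ne 𝒜 ha h
        rw [h2, DirectSum.of_eq_of_ne _ _ _ (Ne.symm h), map_zero]
        rfl
    | add x y hx hy => rw [map_add, map_add, hx, hy]

variable (J)

lemma JS_quotGr (S : AddSubmonoid M) : JS (quotGr 𝒜 J) S = (JS 𝒜 S).map (Ideal.Quotient.mk J) := by
  rw [JS, JS, Ideal.map_span]
  congr 1
  ext x
  constructor
  · rintro ⟨m, hm, a, ha, rfl⟩
    exact ⟨a, ⟨m, hm, ha⟩, rfl⟩
  · rintro ⟨a, ⟨m, hm, ha⟩, rfl⟩
    exact ⟨m, hm, a, ha, rfl⟩

end Quot

section QuotHopf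

variable {k : Type u} [CommRing k] {A : Type u} [CommRing A] [HopfAlgebra k A]
variable {M : Type v} [AddCommGroup M] {𝒜 : M → Submodule k A} (J : Ideal A) [J.IsHopfIdeal k]

/-- the image grading on a quotient Hopf algebra is compatible with the Hopf algebra structure -/
lemma isHopfGrading_quotGr (h𝒜 : IsHopfGrading 𝒜) : IsHopfGrading (quotGr 𝒜 J) where
  counit_zero := by
    rintro m hm _ ⟨a, ha, rfl⟩
    exact h𝒜.counit_zero m hm a ha
  comul_mem := by
    rintro m _ ⟨a, ha, rfl⟩
    have h1 := h𝒜.comul_mem m a ha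
    have h2 : Coalgebra.comul (R := k) ((Ideal.Quotient.mkₐ k J).toLinearMap a) =
      TensorProduct.map (Ideal.Quotient.mkₐ k J).toLinearMap (Ideal.Quotient.mkₐ k J).toLinearMap
        (Coalgebra.comul (R := k) a) := rfl
    rw [h2]
    have h3 : (⨆ i : M, LinearMap.range (TensorProduct.map (𝒜 i).subtype
        (𝒜 (m - i)).subtype)) ≤
        (⨆ i : M, LinearMap.range (TensorProduct.map (quotGr 𝒜 J i).subtype
        (quotGr 𝒜 J (m - i)).subtype)).comap (TensorProduct.map
          (Ideal.Quotient.mkₐ k J).toLinearMap (Ideal.Quotient.mkₐ k J).toLinearMap) := by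
      apply iSup_le
      rintro i _ ⟨t, rfl⟩
      rw [Submodule.mem_comap]
      apply Submodule.mem_iSup_of_mem i
      induction t using TensorProduct.induction_on with
      | zero => simp
      | tmul x y =>
        exact ⟨⟨_, x, x.2, rfl⟩ ⊗ₜ ⟨_, y, y.2, rfl⟩, rfl⟩
      | add x y hx hy =>
        rw [map_add, map_add]
        exact add_mem hx hy
    exact h3 h1
  antipode_mem := by
    rintro m _ ⟨a, ha, rfl⟩
    exact ⟨_, h𝒜.antipode_mem m a ha, rfl⟩

end QuotHopf

end Groth.Agent.Sga3B.GrDynInner678
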