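import Groth.Agent.Sga3B.PinCover

/-!
# The isomorphism attached to a functorial graph between two pinned groups (for S3004)
-/

set_option autoImplicit false
universe u

open TensorProduct

namespace Groth.Agent.Sga3B.PinIso

open Cell PtDescent PinCover

variable {idx M : Type} [Fintype idx] [AddCommGroup M] [Module.Free ℤ M]
    [Module.Finite ℤ M] {P : RootPairing idx ℤ M (Module.Dual ℤ M)} {b : P.Base}
    {R : Type u} [CommRing R]

/-- A functorial family of subgroups of `Pt R A B × Pt R A' B` containing matching root groups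
and tori, which is the graph of an injective relation in both directions. -/
structure PinGraph {A A' : Type u} [CommRing A] [Algebra R A] [PtGrp R A] [CommRing A']
    [Algebra R A'] [PtGrp R A'] (E : PinCell P b R A) (E' : PinCell P b R A') where
  Γ : ∀ (B : Type u) [CommRing B] [Algebra R B], Subgroup (Pt R A B × Pt R A' B)
  map_mem : ∀ {B C : Type u} [CommRing B] [Algebra R B] [CommRing C] [Algebra R C]
    (φ : B →ₐ[R] C) (w : Pt R A B × Pt R A' B), w ∈ Γ B → (Pt.map φ w.1, Pt.map φ w.2) ∈ Γ C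
  uu_mem : ∀ c : idx, ∃ r : Rˣ, ∀ (B : Type u) [CommRing B] [Algebra R B] (x : B),
    (E.uu c B x, E'.uu c B (algebraMap R B r * x)) ∈ Γ B
  uu_mem_simple : ∀ a ∈ b.support, ∀ (B : Type u) [CommRing B] [Algebra R B] (x : B),
    (E.uu a B x, E'.uu a B x) ∈ Γ B
  i_mem : ∀ (B : Type u) [CommRing B] [Algebra R B] (t : TPt M B), (E.i B t, E'.i B t) ∈ Γ B
  inj_left : ∀ (B : Type u) [CommRing B] [Algebra R B] (g' : Pt R A' B), (1, g') ∈ Γ B → g' = 1
  inj_right : ∀ (B : Type u) [CommRing B] [Algebra R B] (g : Pt R A B), (g, 1) ∈ Γ B → g = 1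

variable {A A' : Type u} [CommRing A] [Algebra R A] [PtGrp R A] [CommRing A']
    [Algebra R A'] [PtGrp R A'] {E : PinCell P b R A} {E' : PinCell P b R A'}

namespace PinGraph

/-- the word system of a graph -/
def sys (F : PinGraph E E') : WordSys R where
  Wd B _ _ := F.Γ B
  map φ w := ⟨(Pt.map φ w.1.1, Pt.map φ w.1.2), F.map_mem φ w.1 w.2⟩

/-- first projection -/
def fstEv (F : PinGraph E E') : WordEv F.sys A where
  ev B _ _ := (MonoidHom.fst _ _).comp (F.Γ B).subtype
  ev_nat _ _ := rfl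

/-- second projection -/
def sndEv (F : PinGraph E E') : WordEv F.sys A' where
  ev B _ _ := (MonoidHom.snd _ _).comp (F.Γ B).subtype
  ev_nat _ _ := rfl

variable (F : PinGraph E E') {B : Type u} [CommRing B] [Algebra R B]

lemma eq_of_mem {g : Pt R A B} {g' g'' : Pt R A' B} (h : (g, g') ∈ F.Γ B) (h' : (g, g'') ∈ F.Γ B) :
    g' = g'' := by
  have h1 := (F.Γ B).mul_mem h ((F.Γ B).inv_mem h')
  have h2 : ((g, g') * (g, g'')⁻¹ : Pt R A B × Pt R A' B) = (1, g' * g''⁻¹) := by
    ext1
    · exact mul_inv_cancel g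
    · rfl
  rw [h2] at h1
  exact mul_inv_eq_one.mp (F.inj_left B _ h1)

lemma eq_of_mem' {g₁ g₂ : Pt R A B} {g' : Pt R A' B} (h : (g₁, g') ∈ F.Γ B)
    (h' : (g₂, g') ∈ F.Γ B) : g₁ = g₂ := by
  have h1 := (F.Γ B).mul_mem h ((F.Γ B).inv_mem h')
  have h2 : ((g₁, g') * (g₂, g')⁻¹ : Pt R A B × Pt R A' B) = (g₁ * g₂⁻¹, 1) := by
    ext1
    · rfl
    · exact mul_inv_cancel g'
  rw [h2] at h1
  exact mul_inv_eq_one.mp (F.inj_right B _ h1)

/-- every point of the cell of `A` occurs in the graph -/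
lemma exists_cell_mem (x : idx → B) (t : TPt M B) : ∃ g', (E.cell x t, g') ∈ F.Γ B := by
  choose r hr using F.uu_mem
  refine ⟨E'.cell (fun c => algebraMap R B (r c) * x c) t, ?_⟩
  have h : ∀ L : List idx, ((L.map (fun a => E.uu a B (x a))).prod,
      (L.map (fun a => E'.uu a B (algebraMap R B (r a) * x a))).prod) ∈ F.Γ B := by
    intro L
    induction L with
    | nil => exact (F.Γ B).one_mem
    | cons a L ih =>
      simp only [List.map_cons, List.prod_cons]
      exact (F.Γ B).mul_mem (hr a B (x a)) ih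
  exact (F.Γ B).mul_mem (h (allList b)) (F.i_mem B t)

/-- every point of the cell of `A'` occurs in the graph -/
lemma exists_cell_mem' (x : idx → B) (t : TPt M B) : ∃ g, (g, E'.cell x t) ∈ F.Γ B := by
  choose r hr using F.uu_mem
  refine ⟨E.cell (fun c => algebraMap R B ((r c)⁻¹ : Rˣ) * x c) t, ?_⟩
  have h : ∀ L : List idx, ((L.map (fun a => E.uu a B (algebraMap R B ((r a)⁻¹ : Rˣ) * x a))).prod,
      (L.map (fun a => E'.uu a B (x a))).prod) ∈ F.Γ B := by
    intro L
    induction L with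
    | nil => exact (F.Γ B).one_mem
    | cons a L ih =>
      simp only [List.map_cons, List.prod_cons]
      have h1 := hr a B (algebraMap R B ((r a)⁻¹ : Rˣ) * x a)
      rw [← mul_assoc, ← map_mul, Units.mul_inv, map_one, one_mul] at h1
      exact (F.Γ B).mul_mem h1 ih
  exact (F.Γ B).mul_mem (h (allList b)) (F.i_mem B t)

lemma covers_fst : F.fstEv.Covers := by
  apply covers E
  intro B _ _ x t
  obtain ⟨g', h⟩ := F.exists_cell_mem x t
  exact ⟨⟨_, h⟩, rfl⟩

lemma covers_snd : F.sndEv.Covers := by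
  apply covers E'
  intro B _ _ x t
  obtain ⟨g, h⟩ := F.exists_cell_mem' x t
  exact ⟨⟨_, h⟩, rfl⟩

/-- **The isomorphism of a graph.** -/
theorem exists_equiv : ∃ φ : A' ≃ₐ[R] A,
      (∀ (B : Type u) [CommRing B] [Algebra R B] (g : Pt R A B) (g' : Pt R A' B),
        (g, g') ∈ F.Γ B → comap (φ : A' →ₐ[R] A) g = g') ∧
      ∀ (B : Type u) [CommRing B] [Algebra R B] (g h : Pt R A B),
        comap (φ : A' →ₐ[R] A) (g * h) = comap (φ : A' →ₐ[R] A) g * comap (φ : A' →ₐ[R] A) h := by
  obtain ⟨φ, h1, h2⟩ := PtDescent.exists_equiv F.covers_fst F.covers_snd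
    (fun B _ _ w v h => F.eq_of_mem (g := w.1.1) w.2 (by
      have h' : w.1.1 = v.1.1 := h
      rw [h']
      exact v.2))
    (fun B _ _ w v h => F.eq_of_mem' (g' := w.1.2) w.2 (by
      have h' : w.1.2 = v.1.2 := h
      rw [h']
      exact v.2))
  exact ⟨φ, fun B _ _ g g' h => h1 B ⟨(g, g'), h⟩, h2⟩

end PinGraph

end Groth.Agent.Sga3B.PinIso
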