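import Groth.Agent.Sga3B.CellUP
import Mathlib.RingTheory.Spectrum.Prime.Chevalley
import Mathlib.RingTheory.Nullstellensatz
import Mathlib.RingTheory.Etale.StandardEtale
import Mathlib.RingTheory.Flat.FaithfullyFlat.Basic
import Mathlib.RingTheory.Smooth.Flat
import Mathlib.RingTheory.LocalRing.ResidueField.Ideal

/-!
# Points over algebraically closed fields
-/

set_option autoImplicit false
universe u

open TensorProduct

namespace Groth.Agent.Sga3B.Cell

/-- Nullstellensatz: a nontrivial algebra of finite type has a rational point. -/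
lemma exists_point (K B : Type u) [Field K] [IsAlgClosed K] [CommRing B] [Algebra K B]
    [Algebra.FiniteType K B] [Nontrivial B] : Nonempty (B →ₐ[K] K) := by
  obtain ⟨m, hm⟩ := Ideal.exists_maximal B
  let _ := Ideal.Quotient.field m
  have : Module.Finite K (B ⧸ m) := finite_of_finite_type_of_isJacobsonRing K (B ⧸ m)
  have hbij : Function.Bijective (algebraMap K (B ⧸ m)) :=
    IsAlgClosed.algebraMap_bijective_of_isIntegral
  exact ⟨((AlgEquiv.ofBijective (Algebra.ofId K (B ⧸ m)) hbij).symm : (B ⧸ m) →ₐ[K] K).comp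
    (Ideal.Quotient.mkₐ K m)⟩

/-- a rational point where a given non-nilpotent function does not vanish -/
lemma exists_point_ne_zero (K : Type u) {B : Type u} [Field K] [IsAlgClosed K] [CommRing B]
    [Algebra K B] [Algebra.FiniteType K B] {f : B} (hf : ¬ IsNilpotent f) :
    ∃ φ : B →ₐ[K] K, φ f ≠ 0 := by
  have : Nontrivial (Localization.Away f) := by
    by_contra h
    rw [not_nontrivial_iff_subsingleton] at h
    apply hf
    have h1 : (1 : Localization.Away f) = 0 := Subsingleton.elim _ _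
    rw [← map_one (algebraMap B _), IsLocalization.map_eq_zero_iff (Submonoid.powers f)] at h1
    obtain ⟨⟨_, n, rfl⟩, hn⟩ := h1
    exact ⟨n, by simpa using hn⟩
  obtain ⟨φ⟩ := exists_point K (Localization.Away f)
  refine ⟨φ.comp (IsScalarTower.toAlgHom K B _), ?_⟩
  have : IsUnit (φ (algebraMap B (Localization.Away f) f)) :=
    (IsLocalization.Away.algebraMap_isUnit f).map φ
  exact this.ne_zero

/-- points of étale (finite type) algebras over algebraically closed field-valued points -/
lemma exists_lift_point {A S K : Type u} [CommRing A] [CommRing S] [Algebra A S]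
    [Algebra.FiniteType A S] [Field K] [IsAlgClosed K] [Algebra A K]
    (q : PrimeSpectrum S) (hq : q.asIdeal.comap (algebraMap A S) = RingHom.ker (algebraMap A K)) :
    Nonempty (S →ₐ[A] K) := by
  let p : Ideal A := RingHom.ker (algebraMap A K)
  have hp : p.IsPrime := RingHom.ker_isPrime _
  let g : p.ResidueField →+* K := Ideal.ResidueField.lift p (algebraMap A K) le_rfl (by
    intro x hx
    have : algebraMap A K x ≠ 0 := hx
    exact this.isUnit)
  let _ : Algebra p.ResidueField K := g.toAlgebra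
  have : IsScalarTower A p.ResidueField K := IsScalarTower.of_algebraMap_eq fun x => by
    exact (Ideal.ResidueField.lift_algebraMap (I := p) _ _ _ x).symm
  have h1 : Nontrivial (p.ResidueField ⊗[A] S) := by
    have := PrimeSpectrum.nontrivial_iff_mem_rangeComap (S := S) (⟨p, hp⟩ : PrimeSpectrum A)
    rw [this]
    exact ⟨q, PrimeSpectrum.ext hq⟩
  have h2 : Nontrivial (K ⊗[p.ResidueField] (p.ResidueField ⊗[A] S)) := inferInstance
  let e := Algebra.TensorProduct.cancelBaseChange A p.ResidueField K K S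
  have h3 : Nontrivial (K ⊗[A] S) := e.injective.nontrivial
  obtain ⟨φ⟩ := exists_point K (K ⊗[A] S)
  exact ⟨(φ.restrictScalars A).comp Algebra.TensorProduct.includeRight⟩

namespace Datum

variable {R A : Type u} [CommRing R] [CommRing A] [Algebra R A] [PtGrp R A] (D : Datum R A)

/-- the image of the étale locus -/
def W (L : List D.idx) (δ : D.CR) : Set (PrimeSpectrum A) :=
  Set.range (PrimeSpectrum.comap ((algebraMap D.CR (Localization.Away δ)).comp (D.phi L : A →+* D.CR)))

variable {D}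

lemma isOpen_W {L : List D.idx} {δ : D.CR} (hδ : D.EtOn L δ) : IsOpen (D.W L δ) := by
  let S := Localization.Away δ
  let _ : Algebra A S := ((algebraMap D.CR S).comp (D.phi L : A →+* D.CR)).toAlgebra
  have : Algebra.Etale A S := hδ
  have : Module.Flat A S := inferInstance
  have h := PrimeSpectrum.isOpenMap_comap_of_hasGoingDown_of_finitePresentation (R := A) (S := S)
  exact h.isOpen_range

/-- the prime of a point with values in a field -/
def Pt.prime {K : Type u} [Field K] [Algebra R K] (ω : Pt R A K) : PrimeSpectrum A :=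
  ⟨RingHom.ker (ω.hom : A →+* K), RingHom.ker_isPrime _⟩

lemma exists_cell_of_mem_W {L : List D.idx} {δ : D.CR} (hδ : D.EtOn L δ) {K : Type u} [Field K]
    [IsAlgClosed K] [Algebra R K] {ω : Pt R A K} (h : Pt.prime ω ∈ D.W L δ) :
    ∃ (x : D.idx → K) (t : TPt D.M K), D.cell L x t = ω ∧ D.ev x t δ ≠ 0 := by
  let S := Localization.Away δ
  let _ : Algebra A S := ((algebraMap D.CR S).comp (D.phi L : A →+* D.CR)).toAlgebra
  have : Algebra.Etale A S := hδ
  let _ : Algebra A K := (ω.hom : A →+* K).toAlgebra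
  obtain ⟨q, hq⟩ := h
  obtain ⟨φ⟩ := exists_lift_point (A := A) (S := S) (K := K) q (congrArg PrimeSpectrum.asIdeal hq)
  have hφ : ∀ a, φ (algebraMap D.CR S (D.phi L a)) = ω.hom a := fun a => φ.commutes a
  let G : D.CR →ₐ[R] K := { (φ : S →+* K).comp (algebraMap D.CR S) with
    commutes' := fun r => by
      change φ (algebraMap D.CR S (algebraMap R D.CR r)) = _
      have : algebraMap R D.CR r = D.phi L (algebraMap R A r) := by rw [AlgHom.commutes]
      rw [this, hφ, AlgHom.commutes] }
  have hG := D.eq_ev G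
  refine ⟨fun a => G (MvPolynomial.X a), TPt.map G D.tU, ?_, ?_⟩
  · apply Pt.ext
    intro a
    rw [← D.ev_phi, ← hG]
    exact hφ a
  · rw [← hG]
    change φ (algebraMap D.CR S δ) ≠ 0
    exact ((IsLocalization.Away.algebraMap_isUnit δ).map φ).ne_zero

lemma mem_W_of_cell {L : List D.idx} {δ : D.CR} {K : Type u} [Field K]
    [Algebra R K] {x : D.idx → K} {t : TPt D.M K} (h : D.ev x t δ ≠ 0) :
    Pt.prime (D.cell L x t) ∈ D.W L δ := by
  let g : Localization.Away δ →+* K := IsLocalization.Away.lift (S := Localization.Away δ) δ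
    (g := (D.ev x t : D.CR →+* K)) h.isUnit
  refine ⟨⟨RingHom.ker g, RingHom.ker_isPrime _⟩, ?_⟩
  apply PrimeSpectrum.ext
  ext a
  change g (algebraMap _ _ (D.phi L a)) = 0 ↔ (D.cell L x t).hom a = 0
  rw [← D.ev_phi]
  have : g (algebraMap _ _ (D.phi L a)) = D.ev x t (D.phi L a) := IsLocalization.Away.lift_eq δ _ _
  rw [this]

/-- In a geometrically irreducible group every point is a quotient of two points of the cell. -/
theorem exists_quot [Algebra.FiniteType R A] {L : List D.idx} {δ : D.CR} (hδ : D.EtOn L δ)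
    (hδ0 : D.ev0 δ = 1) {K : Type u} [Field K] [IsAlgClosed K] [Algebra R K]
    [IsDomain (K ⊗[R] A)] (h : Pt R A K) :
    ∃ (x x' : D.idx → K) (t t' : TPt D.M K), D.ev x t δ ≠ 0 ∧ D.ev x' t' δ ≠ 0 ∧
      h * D.cell L x t = D.cell L x' t' := by
  let AK := K ⊗[R] A
  let univ : Pt R A AK := Pt.mk Algebra.TensorProduct.includeRight
  let hAK : Pt R A AK := Pt.map (Algebra.TensorProduct.includeLeft : K →ₐ[R] AK) h
  let m : Pt R A AK := hAK * univ
  let V : Set (PrimeSpectrum AK) := (PrimeSpectrum.comap (univ.hom : A →+* AK)) ⁻¹' (D.W L δ)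
  let V' : Set (PrimeSpectrum AK) := (PrimeSpectrum.comap (m.hom : A →+* AK)) ⁻¹' (D.W L δ)
  have hV : IsOpen V := (isOpen_W hδ).preimage (PrimeSpectrum.continuous_comap _)
  have hV' : IsOpen V' := (isOpen_W hδ).preimage (PrimeSpectrum.continuous_comap _)
  -- K-points of AK
  have pt : ∀ ω : Pt R A K, ∃ φ : AK →ₐ[K] K, Pt.map (φ.restrictScalars R) univ = ω ∧
      Pt.map (φ.restrictScalars R) m = h * ω := by
    intro ω
    let φ : AK →ₐ[K] K := Algebra.TensorProduct.lift (AlgHom.id K K) ω.hom (fun _ _ => Commute.all _ _)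
    have h1 : Pt.map (φ.restrictScalars R) univ = ω := by
      apply Pt.ext; intro a
      exact (Algebra.TensorProduct.lift_tmul (AlgHom.id K K) ω.hom (fun _ _ => Commute.all _ _) 1 a).trans (by simp)
    refine ⟨φ, h1, ?_⟩
    have h2 : Pt.map (φ.restrictScalars R) hAK = h := by
      apply Pt.ext; intro a
      exact (Algebra.TensorProduct.lift_tmul (AlgHom.id K K) ω.hom (fun _ _ => Commute.all _ _) (h.hom a) 1).trans (by simp)
    rw [Pt.map_mul, h1, h2]
  have one_mem : Pt.prime (1 : Pt R A K) ∈ D.W L δ := by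
    have h1 := mem_W_of_cell (L := L) (D := D) (δ := δ) (K := K) (x := fun _ => 0) (t := 1)
      (by rw [D.ev_origin hδ0]; exact one_ne_zero)
    rwa [cell_zero, map_one] at h1
  have hne : ∀ (ω : Pt R A K) (φ : AK →ₐ[K] K) (u : Pt R A AK),
      Pt.map (φ.restrictScalars R) u = ω → 
      PrimeSpectrum.comap (u.hom : A →+* AK) ⟨RingHom.ker (φ : AK →+* K), RingHom.ker_isPrime _⟩ =
        Pt.prime ω := by
    rintro ω φ u rfl
    rfl
  have hVne : V.Nonempty := by
    obtain ⟨φ, hφ1, hφ2⟩ := pt 1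
    refine ⟨⟨RingHom.ker (φ : AK →+* K), RingHom.ker_isPrime _⟩, ?_⟩
    change PrimeSpectrum.comap (univ.hom : A →+* AK) _ ∈ D.W L δ
    rw [hne _ φ univ hφ1]
    exact one_mem
  have hV'ne : V'.Nonempty := by
    obtain ⟨φ, hφ1, hφ2⟩ := pt h⁻¹
    refine ⟨⟨RingHom.ker (φ : AK →+* K), RingHom.ker_isPrime _⟩, ?_⟩
    change PrimeSpectrum.comap (m.hom : A →+* AK) _ ∈ D.W L δ
    rw [mul_inv_cancel] at hφ2
    rw [hne _ φ m hφ2]
    exact one_mem
  have hirr : IsPreirreducible (Set.univ : Set (PrimeSpectrum AK)) :=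
    (PreirreducibleSpace.isPreirreducible_univ)
  obtain ⟨z, -, hzV, hzV'⟩ := hirr V V' hV hV' ⟨_, trivial, hVne.some_mem⟩ ⟨_, trivial, hV'ne.some_mem⟩
  obtain ⟨_, ⟨f, rfl⟩, hzf, hf⟩ := PrimeSpectrum.isTopologicalBasis_basic_opens.exists_subset_of_mem_open
    (⟨hzV, hzV'⟩ : z ∈ V ∩ V') (hV.inter hV')
  have hf0 : ¬ IsNilpotent f := by
    rintro ⟨n, hn⟩
    apply hzf
    exact z.isPrime.mem_of_pow_mem n (by rw [hn]; exact Ideal.zero_mem _)
  obtain ⟨φ, hφ⟩ := exists_point_ne_zero K hf0
  have hmem : (⟨RingHom.ker (φ : AK →+* K), RingHom.ker_isPrime _⟩ : PrimeSpectrum AK) ∈ V ∩ V' :=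
    hf (by simpa using hφ)
  let ω : Pt R A K := Pt.map (φ.restrictScalars R) univ
  have hω2 : Pt.map (φ.restrictScalars R) m = h * ω := by
    have h2 : Pt.map (φ.restrictScalars R) hAK = h := by
      apply Pt.ext; intro a
      simp only [hAK, Pt.map_hom_apply]
      change φ (algebraMap K AK (h.hom a)) = _
      rw [AlgHom.commutes]
      rfl
    rw [Pt.map_mul, h2]
  have h1 : Pt.prime ω ∈ D.W L δ := by
    rw [← hne ω φ univ rfl]; exact hmem.1
  have h2 : Pt.prime (h * ω) ∈ D.W L δ := by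
    rw [← hne (h * ω) φ m hω2]; exact hmem.2
  obtain ⟨x, t, hx, hxδ⟩ := exists_cell_of_mem_W hδ h1
  obtain ⟨x', t', hx', hx'δ⟩ := exists_cell_of_mem_W hδ h2
  exact ⟨x, x', t, t', hxδ, hx'δ, by rw [hx, hx']⟩

end Datum

end Groth.Agent.Sga3B.Cell
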