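import Groth.Agent.Sga3B.CellBase
import Groth.Agent.Sga3A.FFDescent

/-!
# Homomorphisms of group functors from "word systems" by faithfully flat descent

A word system for an affine group functor `Pt R A` is a functor `Wd` to monoids with natural
homomorphisms `ev : Wd B →* Pt R A B` such that the universal point of `A` becomes a word over a
faithfully flat `A`-algebra.  If `ev W = ev V` implies `ev' W = ev' V`, there is a unique homomorphism
`Pt R A → Pt R A'` with `ev W ↦ ev' W`.
-/

set_option autoImplicit false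
universe u

open TensorProduct

namespace Groth.Agent.Sga3B.PtDescent

open Cell

variable {R : Type u} [CommRing R]

/-- precomposition of points with an algebra homomorphism -/
def comap {A A' : Type u} [CommRing A] [Algebra R A] [CommRing A'] [Algebra R A']
    (φ : A' →ₐ[R] A) {B : Type u} [CommRing B] [Algebra R B] (g : Pt R A B) : Pt R A' B :=
  Pt.mk (g.hom.comp φ)

section comap
variable {A A' : Type u} [CommRing A] [Algebra R A] [CommRing A'] [Algebra R A']
  {B C : Type u} [CommRing B] [Algebra R B] [CommRing C] [Algebra R C]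

@[simp] lemma comap_hom_apply (φ : A' →ₐ[R] A) (g : Pt R A B) (a : A') :
    (comap φ g).hom a = g.hom (φ a) := rfl

lemma map_comap (φ : A' →ₐ[R] A) (ψ : B →ₐ[R] C) (g : Pt R A B) :
    Pt.map ψ (comap φ g) = comap φ (Pt.map ψ g) := rfl

@[simp] lemma comap_id (g : Pt R A B) : comap (AlgHom.id R A) g = g := rfl

lemma comap_comap {A'' : Type u} [CommRing A''] [Algebra R A''] (φ : A' →ₐ[R] A)
    (ψ : A'' →ₐ[R] A') (g : Pt R A B) : comap ψ (comap φ g) = comap (φ.comp ψ) g := rfl

end comap

/-- The universal point of `A`. -/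
def univ (R A : Type u) [CommRing R] [CommRing A] [Algebra R A] : Pt R A A := Pt.mk (AlgHom.id R A)

lemma map_univ {A : Type u} [CommRing A] [Algebra R A] {B : Type u} [CommRing B] [Algebra R B]
    (g : Pt R A B) : Pt.map g.hom (univ R A) = g := rfl

/-- A word system: a functor to monoids. -/
structure WordSys (R : Type u) [CommRing R] where
  Wd : ∀ (B : Type u) [CommRing B] [Algebra R B], Type u
  [mon : ∀ (B : Type u) [CommRing B] [Algebra R B], Monoid (Wd B)]
  map : ∀ {B C : Type u} [CommRing B] [Algebra R B] [CommRing C] [Algebra R C] (_ : B →ₐ[R] C),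
    Wd B → Wd C

attribute [instance] WordSys.mon

/-- An evaluation of a word system in a group functor. -/
structure WordEv (W : WordSys R) (A : Type u) [CommRing A] [Algebra R A] [PtGrp R A] where
  ev : ∀ (B : Type u) [CommRing B] [Algebra R B], W.Wd B →* Pt R A B
  ev_nat : ∀ {B C : Type u} [CommRing B] [Algebra R B] [CommRing C] [Algebra R C] (φ : B →ₐ[R] C)
    (w : W.Wd B), Pt.map φ (ev B w) = ev C (W.map φ w)

/-- The universal point becomes a word over a faithfully flat algebra. -/
def WordEv.Covers {W : WordSys R} {A : Type u} [CommRing A] [Algebra R A] [PtGrp R A]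
    (E : WordEv W A) : Prop :=
  ∃ (T : Type u) (_ : CommRing T) (_ : Algebra R T) (_ : Algebra A T) (_ : IsScalarTower R A T)
    (_ : Module.FaithfullyFlat A T) (w : W.Wd T),
    E.ev T w = Pt.mk (IsScalarTower.toAlgHom R A T)

section

variable {W : WordSys R} {A A' : Type u} [CommRing A] [Algebra R A] [PtGrp R A]
  [CommRing A'] [Algebra R A'] [PtGrp R A']

/-- Over a faithfully flat extension every point is a word. -/
lemma WordEv.Covers.exists_word {E : WordEv W A} (hE : E.Covers) {B : Type u} [CommRing B]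
    [Algebra R B] (g : Pt R A B) :
    ∃ (T : Type u) (_ : CommRing T) (_ : Algebra R T) (_ : Algebra B T) (_ : IsScalarTower R B T)
      (_ : Module.FaithfullyFlat B T) (w : W.Wd T),
      E.ev T w = Pt.map (IsScalarTower.toAlgHom R B T) g := by
  obtain ⟨T, _, _, _, _, _, w, hw⟩ := hE
  let _ : Algebra A B := (g.hom : A →+* B).toAlgebra
  have : IsScalarTower R A B := IsScalarTower.of_algebraMap_eq fun r => (g.hom.commutes r).symm
  let _ : Algebra R (B ⊗[A] T) := inferInstance
  have : IsScalarTower R B (B ⊗[A] T) := inferInstance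
  let ι : T →ₐ[R] B ⊗[A] T :=
    (Algebra.TensorProduct.includeRight : T →ₐ[A] B ⊗[A] T).restrictScalars R
  refine ⟨B ⊗[A] T, inferInstance, inferInstance, inferInstance, inferInstance, inferInstance,
    W.map ι w, ?_⟩
  rw [← E.ev_nat, hw]
  apply Pt.ext
  intro a
  change (1 : B) ⊗ₜ[A] (algebraMap A T a) = (algebraMap A B a) ⊗ₜ[A] (1 : T)
  rw [Algebra.algebraMap_eq_smul_one, Algebra.algebraMap_eq_smul_one, TensorProduct.tmul_smul,
    TensorProduct.smul_tmul']

/-- faithfully flat extensions are injective on points -/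
lemma map_injective_of_ff {B T : Type u} [CommRing B] [Algebra R B] [CommRing T] [Algebra R T]
    [Algebra B T] [IsScalarTower R B T] [Module.FaithfullyFlat B T] {A : Type u} [CommRing A]
    [Algebra R A] : Function.Injective (Pt.map (A := A) (IsScalarTower.toAlgHom R B T)) :=
  Pt.map_injective (FaithfulSMul.algebraMap_injective B T)

/-- faithfully flat descent of elements of the extension -/
lemma exists_algebraMap_eq {A T : Type u} [CommRing A] [CommRing T] [Algebra A T]
    [Module.FaithfullyFlat A T] (t : T) (h : t ⊗ₜ[A] (1 : T) = (1 : T) ⊗ₜ[A] t) :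
    ∃ x : A, algebraMap A T x = t := by
  obtain ⟨x, hx⟩ := Sga3A.FFDescent.exists_eq_one_tmul (R := A) (S := T) (N := A)
    (t ⊗ₜ[A] (1 : A)) (by
      rw [LinearMap.lTensor_tmul]
      apply (LinearEquiv.lTensor T (TensorProduct.rid A T)).injective
      rw [LinearEquiv.lTensor_tmul, LinearEquiv.lTensor_tmul, TensorProduct.mk_apply,
        TensorProduct.rid_tmul, TensorProduct.rid_tmul, one_smul, one_smul]
      exact h.symm)
  refine ⟨x, ?_⟩
  have h2 := congrArg (TensorProduct.rid A T) hx
  rwa [TensorProduct.rid_tmul, TensorProduct.rid_tmul, one_smul, ← Algebra.algebraMap_eq_smul_one]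
    at h2

/-- The word relations of `A` hold in `A'`. -/
def Rel (E : WordEv W A) (E' : WordEv W A') : Prop :=
  ∀ (B : Type u) [CommRing B] [Algebra R B] (w v : W.Wd B), E.ev B w = E.ev B v →
    E'.ev B w = E'.ev B v

/-- The homomorphism attached to an inclusion of word relations. -/
theorem exists_hom {E : WordEv W A} {E' : WordEv W A'} (hE : E.Covers) (hR : Rel E E') :
    ∃ φ : A' →ₐ[R] A,
      ∀ (B : Type u) [CommRing B] [Algebra R B] (w : W.Wd B), comap φ (E.ev B w) = E'.ev B w := by
  obtain ⟨T, _, _, _, _, _, w, hw⟩ := id hE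
  -- descent of `E'.ev w`
  let i₁ : T →ₐ[R] T ⊗[A] T :=
    (Algebra.TensorProduct.includeLeft : T →ₐ[A] T ⊗[A] T).restrictScalars R
  let i₂ : T →ₐ[R] T ⊗[A] T :=
    (Algebra.TensorProduct.includeRight : T →ₐ[A] T ⊗[A] T).restrictScalars R
  have h12 : E.ev _ (W.map i₁ w) = E.ev _ (W.map i₂ w) := by
    rw [← E.ev_nat, ← E.ev_nat, hw]
    apply Pt.ext
    intro a
    change (algebraMap A T a) ⊗ₜ[A] (1 : T) = (1 : T) ⊗ₜ[A] (algebraMap A T a)
    rw [Algebra.algebraMap_eq_smul_one, TensorProduct.tmul_smul, TensorProduct.smul_tmul']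
  have hdesc : ∀ a, ∃ x : A, algebraMap A T x = (E'.ev T w).hom a := by
    intro a
    apply exists_algebraMap_eq
    have h := hR _ _ _ h12
    rw [← E'.ev_nat, ← E'.ev_nat] at h
    exact congrArg (fun k : Pt R A' (T ⊗[A] T) => k.hom a) h
  choose f hf using hdesc
  have hinj : Function.Injective (algebraMap A T) := FaithfulSMul.algebraMap_injective A T
  let φ : A' →ₐ[R] A :=
    { toFun := f
      map_one' := hinj (by rw [hf, map_one, map_one])
      map_mul' := fun x y => hinj (by rw [hf, map_mul, map_mul, hf, hf])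
      map_zero' := hinj (by rw [hf, map_zero, map_zero])
      map_add' := fun x y => hinj (by rw [hf, map_add, map_add, hf, hf])
      commutes' := fun r => hinj (by
        rw [hf, AlgHom.commutes, ← IsScalarTower.algebraMap_apply]) }
  have hφ : comap φ (Pt.mk (IsScalarTower.toAlgHom R A T)) = E'.ev T w := by
    apply Pt.ext
    intro a
    exact hf a
  refine ⟨φ, fun B _ _ v => ?_⟩
  -- compare over `B ⊗[A] T`
  let g : Pt R A B := E.ev B v
  let _ : Algebra A B := (g.hom : A →+* B).toAlgebra
  have : IsScalarTower R A B := IsScalarTower.of_algebraMap_eq fun r => (g.hom.commutes r).symm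
  let ι : T →ₐ[R] B ⊗[A] T :=
    (Algebra.TensorProduct.includeRight : T →ₐ[A] B ⊗[A] T).restrictScalars R
  apply map_injective_of_ff (R := R) (B := B) (T := B ⊗[A] T)
  have hg : Pt.map (IsScalarTower.toAlgHom R B (B ⊗[A] T)) g =
      Pt.map ι (Pt.mk (IsScalarTower.toAlgHom R A T)) := by
    apply Pt.ext
    intro a
    change (algebraMap A B a) ⊗ₜ[A] (1 : T) = (1 : B) ⊗ₜ[A] (algebraMap A T a)
    rw [Algebra.algebraMap_eq_smul_one, Algebra.algebraMap_eq_smul_one, TensorProduct.tmul_smul,
      TensorProduct.smul_tmul']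
  have hrel : E.ev _ (W.map (IsScalarTower.toAlgHom R B (B ⊗[A] T)) v) = E.ev _ (W.map ι w) := by
    rw [← E.ev_nat, ← E.ev_nat, hw]
    exact hg
  have h := hR _ _ _ hrel
  rw [← E'.ev_nat, ← E'.ev_nat, ← hφ, map_comap, ← hg] at h
  exact h.symm

/-- A point map compatible with words is multiplicative. -/
theorem comap_mul {E : WordEv W A} {E' : WordEv W A'} (hE : E.Covers) {φ : A' →ₐ[R] A}
    (hφ : ∀ (B : Type u) [CommRing B] [Algebra R B] (w : W.Wd B),
      comap φ (E.ev B w) = E'.ev B w)
    {B : Type u} [CommRing B] [Algebra R B] (g h : Pt R A B) :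
    comap φ (g * h) = comap φ g * comap φ h := by
  obtain ⟨T, _, _, _, _, _, w, hw⟩ := hE.exists_word g
  obtain ⟨T', _, _, _, _, _, v, hv⟩ :=
    hE.exists_word (Pt.map (IsScalarTower.toAlgHom R B T) h)
  apply map_injective_of_ff (R := R) (B := B) (T := T)
  apply map_injective_of_ff (R := R) (B := T) (T := T')
  rw [PtGrp.map_mul', PtGrp.map_mul', map_comap, map_comap, map_comap, map_comap, map_comap,
    map_comap, PtGrp.map_mul', PtGrp.map_mul', ← hv, ← hw, E.ev_nat, ← map_mul, hφ, hφ, hφ,
    map_mul]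

/-- two homomorphisms with the same values on words are equal -/
theorem hom_unique {E : WordEv W A} (hE : E.Covers) {φ ψ : A' →ₐ[R] A}
    (h : ∀ (B : Type u) [CommRing B] [Algebra R B] (w : W.Wd B),
      comap φ (E.ev B w) = comap ψ (E.ev B w)) : φ = ψ := by
  obtain ⟨T, _, _, _, _, _, w, hw⟩ := id hE
  have h1 := h T w
  rw [hw] at h1
  refine AlgHom.ext fun a => ?_
  apply FaithfulSMul.algebraMap_injective A T
  exact congrArg (fun k : Pt R A' T => k.hom a) h1

/-- **Isomorphisms from equality of word relations.** -/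
theorem exists_equiv {E : WordEv W A} {E' : WordEv W A'} (hE : E.Covers) (hE' : E'.Covers)
    (hR : Rel E E') (hR' : Rel E' E) :
    ∃ φ : A' ≃ₐ[R] A,
      (∀ (B : Type u) [CommRing B] [Algebra R B] (w : W.Wd B),
        comap (φ : A' →ₐ[R] A) (E.ev B w) = E'.ev B w) ∧
      ∀ (B : Type u) [CommRing B] [Algebra R B] (g h : Pt R A B),
        comap (φ : A' →ₐ[R] A) (g * h) = comap (φ : A' →ₐ[R] A) g * comap (φ : A' →ₐ[R] A) h := by
  obtain ⟨φ, hφ⟩ := exists_hom hE hR
  obtain ⟨ψ, hψ⟩ := exists_hom hE' hR'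
  have h1 : φ.comp ψ = AlgHom.id R A := by
    apply hom_unique hE
    intro B _ _ w
    rw [← comap_comap, hφ, hψ, comap_id]
  have h2 : ψ.comp φ = AlgHom.id R A' := by
    apply hom_unique hE'
    intro B _ _ w
    rw [← comap_comap, hψ, hφ, comap_id]
  refine ⟨AlgEquiv.ofAlgHom φ ψ h1 h2, hφ, fun B _ _ g h => comap_mul hE hφ g h⟩

end

end Groth.Agent.Sga3B.PtDescent
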