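import Groth.Agent.Sga3B.PinCell
import Groth.Agent.Sga3B.PtDescent
import Groth.Agent.Sga3B.CellField
import Groth.Agent.Sga3A.FibRes
import Mathlib.RingTheory.Smooth.Flat
import Mathlib.RingTheory.Flat.FaithfullyFlat.Algebra
import Mathlib.RingTheory.Flat.Stability

/-!
# The big cell is étale over the group; `Ω × Ω → G` is faithfully flat (for the isomorphism theorem)
-/

set_option autoImplicit false
universe u

open TensorProduct

namespace Groth.Agent.Sga3B.PinCover

open Cell PtDescent

variable {idx M : Type} [Fintype idx] [AddCommGroup M] [Module.Free ℤ M]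
    [Module.Finite ℤ M] {P : RootPairing idx ℤ M (Module.Dual ℤ M)} {b : P.Base}
    {R A : Type u} [CommRing R] [CommRing A] [Algebra R A] [PtGrp R A] (E : PinCell P b R A)

/-- coordinate ring of the big cell -/
abbrev CRing (idx M : Type) [AddCommGroup M] (R : Type u) [CommRing R] : Type u :=
  MvPolynomial idx (MonoidAlgebra R (Multiplicative M))

instance : Algebra.FinitePresentation R (CRing idx M R) := by
  have h0 : Group.FG (Multiplicative M) := by
    have : AddGroup.FG M := by
      rw [← Module.Finite.iff_addGroup_fg]; infer_instance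
    infer_instance
  have h1 : Algebra.FinitePresentation R (MonoidAlgebra R (Multiplicative M)) :=
    Sga3A.FibRes.finitePresentation_monoidAlgebra R (Multiplicative M)
  have h2 : Algebra.FinitePresentation (MonoidAlgebra R (Multiplicative M)) (CRing idx M R) :=
    inferInstance
  exact Algebra.FinitePresentation.trans R (MonoidAlgebra R (Multiplicative M)) _

/-- the algebra homomorphism `A → O(Ω)` of the big cell -/
noncomputable def phi : A →ₐ[R] CRing idx M R := E.toDatum.phi (allList b)

/-- evaluation of functions on the cell -/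
noncomputable def ev {B : Type u} [CommRing B] [Algebra R B] (x : idx → B) (t : TPt M B) :
    CRing idx M R →ₐ[R] B := E.toDatum.ev x t

variable {B : Type u} [CommRing B] [Algebra R B] {C : Type u} [CommRing C] [Algebra R C]

lemma ev_phi (x : idx → B) (t : TPt M B) (a : A) :
    ev E x t (phi E a) = (E.cell x t).hom a := E.toDatum.ev_phi (allList b) x t a

lemma eq_ev (f : CRing idx M R →ₐ[R] B) :
    f = ev E (fun a => f (MvPolynomial.X a)) (TPt.map f E.toDatum.tU) := E.toDatum.eq_ev f

lemma comp_ev (φ : B →ₐ[R] C) (x : idx → B) (t : TPt M B) :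
    φ.comp (ev E x t) = ev E (fun a => φ (x a)) (TPt.map φ t) := E.toDatum.comp_ev φ x t

lemma exists_ev (f : CRing idx M R →ₐ[R] B) : ∃ (x : idx → B) (t : TPt M B), f = ev E x t :=
  ⟨_, _, eq_ev E f⟩

/-- points of the cell as algebra homs -/
lemma exists_cell_iff_hom (g : Pt R A B) : (∃ (x : idx → B) (t : TPt M B), g = E.cell x t) ↔
    ∃ f : CRing idx M R →ₐ[R] B, g.hom = f.comp (phi E) := by
  constructor
  · rintro ⟨x, t, rfl⟩
    exact ⟨ev E x t, AlgHom.ext fun a => (ev_phi E x t a).symm⟩
  · rintro ⟨f, hf⟩
    obtain ⟨x, t, rfl⟩ := exists_ev E f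
    refine ⟨x, t, ?_⟩
    apply Pt.ext
    intro a
    rw [← ev_phi, hf]
    rfl

lemma comp_phi_injective {f f' : CRing idx M R →ₐ[R] B} (h : f.comp (phi E) = f'.comp (phi E)) :
    f = f' := by
  obtain ⟨x, t, rfl⟩ := exists_ev E f
  obtain ⟨x', t', rfl⟩ := exists_ev E f'
  have : E.cell x t = E.cell x' t' := by
    apply Pt.ext
    intro a
    rw [← ev_phi, ← ev_phi]
    exact congrArg (fun k : A →ₐ[R] B => k a) h
  obtain ⟨rfl, rfl⟩ := E.cell_injective this
  rfl

/-- The big cell is étale over the group. -/
theorem etale_phi : letI : Algebra A (CRing idx M R) := (phi E : A →+* CRing idx M R).toAlgebra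
    Algebra.Etale A (CRing idx M R) := by
  let _ : Algebra A (CRing idx M R) := (phi E : A →+* CRing idx M R).toAlgebra
  have hst : IsScalarTower R A (CRing idx M R) :=
    IsScalarTower.of_algebraMap_eq fun r => ((phi E).commutes r).symm
  have hfp : Algebra.FinitePresentation A (CRing idx M R) := by
    have := E.fp
    exact Algebra.FinitePresentation.of_restrict_scalars_finitePresentation R A (CRing idx M R)
  have hfe : Algebra.FormallyEtale A (CRing idx M R) := by
    rw [Algebra.FormallyEtale.iff_comp_bijective]
    intro B _ _ J hJ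
    let _ : Algebra R B := ((algebraMap A B).comp (algebraMap R A)).toAlgebra
    have : IsScalarTower R A B := IsScalarTower.of_algebraMap_eq fun r => rfl
    have hdef : ∀ (f : CRing idx M R →ₐ[A] B ⧸ J) (a : A), f (phi E a) = algebraMap A (B ⧸ J) a :=
      fun f a => f.commutes a
    have hdefB : ∀ (f : CRing idx M R →ₐ[A] B) (a : A), f (phi E a) = algebraMap A B a :=
      fun f a => f.commutes a
    constructor
    · intro f f' h
      have h2 : f.restrictScalars R = f'.restrictScalars R := by
        apply comp_phi_injective E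
        refine AlgHom.ext fun a => ?_
        change f (phi E a) = f' (phi E a)
        rw [hdefB, hdefB]
      exact AlgHom.ext fun z => congrArg (fun k : CRing idx M R →ₐ[R] B => k z) h2
    · intro f
      let g : Pt R A B := Pt.mk (IsScalarTower.toAlgHom R A B)
      have hg : ∃ (x : idx → B) (t : TPt M B), g = E.cell x t := by
        change ∃ (x : idx → B) (t : TPt M B), g =
          ((allList b).map (fun a => E.uu a B (x a))).prod * E.i B t
        rw [E.mem_cell_iff]
        have h1 : (E.cellIdeal.map (Pt.map (Ideal.Quotient.mkₐ R J) g).hom.toRingHom) = ⊤ := by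
          rw [← E.mem_cell_iff]
          apply (exists_cell_iff_hom E _).2
          refine ⟨f.restrictScalars R, AlgHom.ext fun a => ?_⟩
          exact (hdef f a).symm
        have h2 : (E.cellIdeal.map g.hom.toRingHom).map (Ideal.Quotient.mk J) = ⊤ := by
          rw [Ideal.map_map]
          exact h1
        have h3 : E.cellIdeal.map g.hom.toRingHom ⊔ J = ⊤ := by
          have h4 := congrArg (Ideal.comap (Ideal.Quotient.mk J)) h2
          rwa [Ideal.comap_map_of_surjective _ Ideal.Quotient.mk_surjective, Ideal.comap_top,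
            ← RingHom.ker_eq_comap_bot, Ideal.mk_ker] at h4
        have h5 : J ≤ nilradical B := by
          intro x hx
          rw [mem_nilradical]
          refine ⟨2, ?_⟩
          have := Ideal.pow_mem_pow hx 2
          rwa [hJ] at this
        by_contra hne
        obtain ⟨m, hm, hle⟩ := Ideal.exists_le_maximal _ hne
        apply hm.ne_top
        rw [← top_le_iff, ← h3]
        exact sup_le hle (h5.trans (nilradical_le_prime m))
      obtain ⟨F, hF⟩ := (exists_cell_iff_hom E g).1 hg
      have hF' : ∀ a, F (phi E a) = algebraMap A B a := fun a =>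
        (congrArg (fun k : A →ₐ[R] B => k a) hF).symm
      let F' : CRing idx M R →ₐ[A] B := { (F : CRing idx M R →+* B) with commutes' := hF' }
      refine ⟨F', ?_⟩
      have h2 : ((Ideal.Quotient.mkₐ A J).comp F').restrictScalars R = f.restrictScalars R := by
        apply comp_phi_injective E
        refine AlgHom.ext fun a => ?_
        change Ideal.Quotient.mk J (F (phi E a)) = f (phi E a)
        rw [hF', hdef]
        rfl
      exact AlgHom.ext fun z => congrArg (fun k : CRing idx M R →ₐ[R] (B ⧸ J) => k z) h2
  exact ⟨hfe, hfp⟩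

/-- (L1) the open subset of `Spec B` where a point lies in the big cell -/
theorem exists_cellLocus (u : Pt R A B) :
    ∃ (T : Type u) (_ : CommRing T) (_ : Algebra R T) (_ : Algebra B T) (_ : IsScalarTower R B T)
      (_ : Module.Flat B T), (∃ (x : idx → T) (t : TPt M T),
        Pt.map (IsScalarTower.toAlgHom R B T) u = E.cell x t) ∧
      ∀ (K : Type u) [Field K] [Algebra R K] (k : B →ₐ[R] K),
        (∃ (x : idx → K) (t : TPt M K), Pt.map k u = E.cell x t) →
        ∃ k' : T →ₐ[R] K, k'.comp (IsScalarTower.toAlgHom R B T) = k := by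
  let _ : Algebra A (CRing idx M R) := (phi E : A →+* CRing idx M R).toAlgebra
  have hst : IsScalarTower R A (CRing idx M R) :=
    IsScalarTower.of_algebraMap_eq fun r => ((phi E).commutes r).symm
  have het : Algebra.Etale A (CRing idx M R) := etale_phi E
  have hflat : Module.Flat A (CRing idx M R) := inferInstance
  let _ : Algebra A B := (u.hom : A →+* B).toAlgebra
  have hst' : IsScalarTower R A B := IsScalarTower.of_algebraMap_eq fun r => (u.hom.commutes r).symm
  refine ⟨B ⊗[A] CRing idx M R, inferInstance, inferInstance, inferInstance, inferInstance,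
    inferInstance, ?_, ?_⟩
  · rw [exists_cell_iff_hom]
    refine ⟨(Algebra.TensorProduct.includeRight :
      CRing idx M R →ₐ[A] B ⊗[A] CRing idx M R).restrictScalars R, AlgHom.ext fun a => ?_⟩
    change (algebraMap A B a) ⊗ₜ[A] (1 : CRing idx M R) =
      (1 : B) ⊗ₜ[A] (algebraMap A (CRing idx M R) a)
    rw [Algebra.algebraMap_eq_smul_one, Algebra.algebraMap_eq_smul_one, TensorProduct.tmul_smul,
      TensorProduct.smul_tmul']
  · intro K _ _ k hk
    rw [exists_cell_iff_hom] at hk
    obtain ⟨f, hf⟩ := hk
    let _ : Algebra A K := ((k : B →+* K).comp (algebraMap A B)).toAlgebra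
    have : IsScalarTower R A K := IsScalarTower.of_algebraMap_eq fun r => by
      change algebraMap R K r = k (algebraMap A B (algebraMap R A r))
      rw [← IsScalarTower.algebraMap_apply, AlgHom.commutes]
    let kA : B →ₐ[A] K := { (k : B →+* K) with commutes' := fun a => rfl }
    let fA : CRing idx M R →ₐ[A] K := { (f : CRing idx M R →+* K) with
      commutes' := fun a => by
        change f (phi E a) = k (u.hom a)
        exact (congrArg (fun z : A →ₐ[R] K => z a) hf).symm }
    refine ⟨(Algebra.TensorProduct.productMap kA fA).restrictScalars R, AlgHom.ext fun x => ?_⟩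
    change Algebra.TensorProduct.productMap kA fA (x ⊗ₜ 1) = k x
    simp [kA]

/-- (L2) over an algebraically closed field every point is the product of two points of the cell. -/
theorem exists_cell_mul_cell {K : Type u} [Field K] [IsAlgClosed K] [Algebra R K] (g : Pt R A K) :
    ∃ (x : idx → K) (t : TPt M K) (x' : idx → K) (t' : TPt M K), g = E.cell x t * E.cell x' t' := by
  have hfp := E.fp
  have hdom : IsDomain (K ⊗[R] A) := E.domain K
  let D := K ⊗[R] A
  -- the generic point
  let γ : Pt R A D := Pt.mk Algebra.TensorProduct.includeRight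
  let gD : Pt R A D := Pt.map ((Algebra.TensorProduct.includeLeft : K →ₐ[K] D).restrictScalars R) g
  -- points of `D` as points of `A`
  let pt : Pt R A K → (D →ₐ[K] K) := fun h => Algebra.TensorProduct.lift (AlgHom.id K K)
    h.hom (fun _ _ => Commute.all _ _)
  have hpt : ∀ h, Pt.map ((pt h).restrictScalars R) γ = h := by
    intro h
    apply Pt.ext
    intro a
    change Algebra.TensorProduct.lift (AlgHom.id K K) h.hom (fun _ _ => Commute.all _ _)
      ((1 : K) ⊗ₜ[R] a) = _
    erw [Algebra.TensorProduct.lift_tmul]
    rw [map_one, one_mul]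
  have hptg : ∀ s : D →ₐ[K] K, Pt.map (s.restrictScalars R) gD = g := by
    intro s
    apply Pt.ext
    intro a
    change s ((g.hom a) ⊗ₜ (1 : A)) = _
    have : (g.hom a) ⊗ₜ[R] (1 : A) = algebraMap K D (g.hom a) := rfl
    rw [this, AlgHom.commutes]
    rfl
  -- both ideals are nonzero
  have hone : E.cellIdeal.map (1 : Pt R A K).hom.toRingHom = ⊤ := by
    rw [← E.mem_cell_iff]
    refine ⟨fun _ => 0, 1, ?_⟩
    have := E.toDatum.cell_zero (B := K) (allList b) 1
    rw [map_one] at this
    exact this.symm
  have key : ∀ (u : Pt R A D) (s : D →ₐ[K] K), Pt.map (s.restrictScalars R) u = 1 →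
      ∃ f ∈ E.cellIdeal.map u.hom.toRingHom, f ≠ 0 := by
    intro u s hs
    have hne : E.cellIdeal.map u.hom.toRingHom ≠ ⊥ := by
      intro h0
      have h1 : (E.cellIdeal.map u.hom.toRingHom).map (s : D →+* K) = ⊤ := by
        rw [Ideal.map_map, ← hone, ← hs]
        rfl
      rw [h0, Ideal.map_bot] at h1
      exact bot_ne_top h1
    exact Submodule.exists_mem_ne_zero_of_ne_bot hne
  obtain ⟨f₁, hf₁, hf₁0⟩ := key γ (pt 1) (hpt 1)
  obtain ⟨f₂, hf₂, hf₂0⟩ := key (γ⁻¹ * gD) (pt g) (by
    rw [Pt.map_mul, Pt.map_inv, hpt, hptg, inv_mul_cancel])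
  have hnil : ¬ IsNilpotent (f₁ * f₂) := by
    rw [isNilpotent_iff_eq_zero]
    exact mul_ne_zero hf₁0 hf₂0
  obtain ⟨s, hs⟩ := exists_point_ne_zero K hnil
  rw [map_mul] at hs
  have hcell : ∀ (u : Pt R A D) (f : D), f ∈ E.cellIdeal.map u.hom.toRingHom → s f ≠ 0 →
      ∃ (x : idx → K) (t : TPt M K), Pt.map (s.restrictScalars R) u = E.cell x t := by
    intro u f hf hsf
    change ∃ (x : idx → K) (t : TPt M K), Pt.map (s.restrictScalars R) u =
          ((allList b).map (fun a => E.uu a K (x a))).prod * E.i K t
    rw [E.mem_cell_iff]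
    have h1 : s f ∈ E.cellIdeal.map (Pt.map (s.restrictScalars R) u).hom.toRingHom := by
      have : E.cellIdeal.map (Pt.map (s.restrictScalars R) u).hom.toRingHom =
          (E.cellIdeal.map u.hom.toRingHom).map (s : D →+* K) := by
        rw [Ideal.map_map]
        rfl
      rw [this]
      exact Ideal.mem_map_of_mem _ hf
    exact Ideal.eq_top_of_isUnit_mem _ h1 (IsUnit.mk0 _ hsf)
  obtain ⟨x, t, h1⟩ := hcell γ f₁ hf₁ (left_ne_zero_of_mul hs)
  obtain ⟨x', t', h2⟩ := hcell (γ⁻¹ * gD) f₂ hf₂ (right_ne_zero_of_mul hs)
  refine ⟨x, t, x', t', ?_⟩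
  rw [← h1, ← h2, Pt.map_mul, Pt.map_inv, hptg, mul_inv_cancel_left]

/-- **The universal point is a product of two cell points over a faithfully flat extension.** -/
theorem exists_cover : ∃ (T : Type u) (_ : CommRing T) (_ : Algebra R T) (_ : Algebra A T)
      (_ : IsScalarTower R A T) (_ : Module.FaithfullyFlat A T) (x : idx → T) (t : TPt M T)
      (x' : idx → T) (t' : TPt M T),
      Pt.mk (IsScalarTower.toAlgHom R A T) = E.cell x t * E.cell x' t' := by
  let B := A ⊗[R] CRing idx M R
  let ωx : idx → B := fun a => Algebra.TensorProduct.includeRight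
    (MvPolynomial.X a : CRing idx M R)
  let ωt : TPt M B := TPt.map (Algebra.TensorProduct.includeRight : CRing idx M R →ₐ[R] B)
    E.toDatum.tU
  let ω : Pt R A B := E.cell ωx ωt
  let un : Pt R A B := Pt.mk ((Algebra.TensorProduct.includeLeft : A →ₐ[A] B).restrictScalars R)
  obtain ⟨T, _, _, _, _, hflat, ⟨x', t', hcell⟩, hK⟩ := exists_cellLocus E (ω⁻¹ * un)
  let _ : Algebra A T := ((algebraMap B T).comp (algebraMap A B)).toAlgebra
  have hABT : IsScalarTower A B T :=
    IsScalarTower.of_algebraMap_eq (R := A) (S := B) (A := T) fun a => rfl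
  have hst : IsScalarTower R A T := IsScalarTower.of_algebraMap_eq fun r => by
    change algebraMap R T r = algebraMap B T (algebraMap A B (algebraMap R A r))
    rw [← IsScalarTower.algebraMap_apply R A B, ← IsScalarTower.algebraMap_apply R B T]
  have hfree : Module.Free R (CRing idx M R) := by
    have : Module.Free R (MonoidAlgebra R (Multiplicative M)) := inferInstance
    exact Module.Free.trans (S := MonoidAlgebra R (Multiplicative M))
  have hAB : Module.Flat A B := inferInstance
  have hAT : Module.Flat A T := Module.Flat.trans A B T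
  have hff : Module.FaithfullyFlat A T := by
    apply Module.FaithfullyFlat.of_comap_surjective
    intro p
    let K := AlgebraicClosure p.asIdeal.ResidueField
    have hstK : IsScalarTower R A K := inferInstance
    let g : Pt R A K := Pt.mk (IsScalarTower.toAlgHom R A K)
    obtain ⟨y, s, y', s', hg⟩ := exists_cell_mul_cell E g
    let k : B →ₐ[R] K := Algebra.TensorProduct.productMap g.hom (ev E y s)
    have hk0 : ∀ (a : A) (z : CRing idx M R), k (a ⊗ₜ z) = g.hom a * ev E y s z := fun a z =>
      Algebra.TensorProduct.productMap_apply_tmul _ _ _ _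
    have hk1 : Pt.map k un = g := by
      apply Pt.ext
      intro a
      change k (a ⊗ₜ 1) = _
      rw [hk0, map_one, mul_one]
    have hk2 : Pt.map k ω = E.cell y s := by
      have h1 : k.comp (Algebra.TensorProduct.includeRight : CRing idx M R →ₐ[R] B) = ev E y s := by
        refine AlgHom.ext fun z => ?_
        change k (1 ⊗ₜ z) = _
        rw [hk0, map_one, one_mul]
      rw [E.cell_nat]
      have h2 : (fun a => k (ωx a)) = y := by
        funext a
        have := congrArg (fun z : CRing idx M R →ₐ[R] K => z (MvPolynomial.X a)) h1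
        exact this.trans (E.toDatum.ev_X y s a)
      have h3 : TPt.map k ωt = s := by
        have h4 : TPt.map k ωt = TPt.map (k.comp
          (Algebra.TensorProduct.includeRight : CRing idx M R →ₐ[R] B)) E.toDatum.tU := rfl
        rw [h4, h1]
        exact E.toDatum.map_ev_tU y s
      rw [h2, h3]
    obtain ⟨k', hk'⟩ := hK K k ⟨y', s', by
      rw [Pt.map_mul, Pt.map_inv, hk1, hk2, hg, inv_mul_cancel_left]⟩
    refine ⟨⟨RingHom.ker (k' : T →+* K), RingHom.ker_isPrime _⟩, ?_⟩
    apply PrimeSpectrum.ext
    change Ideal.comap (algebraMap A T) (RingHom.ker (k' : T →+* K)) = p.asIdeal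
    rw [RingHom.comap_ker]
    have h5 : (k' : T →+* K).comp (algebraMap A T) = algebraMap A K := by
      refine RingHom.ext fun a => ?_
      have h6 := congrArg (fun z : B →ₐ[R] K => z (algebraMap A B a)) hk'
      change k' (algebraMap B T (algebraMap A B a)) = algebraMap A K a
      refine h6.trans ?_
      change k (a ⊗ₜ 1) = _
      rw [hk0, map_one, mul_one]
      rfl
    rw [h5, IsScalarTower.algebraMap_eq A p.asIdeal.ResidueField K, ← RingHom.comap_ker,
      (RingHom.injective_iff_ker_eq_bot _).1 (algebraMap p.asIdeal.ResidueField K).injective,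
      ← RingHom.ker_eq_comap_bot]
    exact Ideal.ker_algebraMap_residueField p.asIdeal
  refine ⟨T, inferInstance, inferInstance, inferInstance, hst, hff,
    fun a => IsScalarTower.toAlgHom R B T (ωx a), TPt.map (IsScalarTower.toAlgHom R B T) ωt,
    x', t', ?_⟩
  rw [← hcell, ← E.cell_nat, Pt.map_mul, Pt.map_inv, mul_inv_cancel_left]
  rfl

/-- A word system whose values contain the points of the big cell covers. -/
theorem covers {W : WordSys R} (F : WordEv W A)
    (hF : ∀ (B : Type u) [CommRing B] [Algebra R B] (x : idx → B) (t : TPt M B),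
      ∃ w, F.ev B w = E.cell x t) : F.Covers := by
  obtain ⟨T, _, _, _, _, _, x, t, x', t', h⟩ := exists_cover E
  obtain ⟨w, hw⟩ := hF T x t
  obtain ⟨w', hw'⟩ := hF T x' t'
  exact ⟨T, inferInstance, inferInstance, inferInstance, inferInstance, inferInstance, w * w', by
    rw [map_mul, hw, hw', h]⟩

end Groth.Agent.Sga3B.PinCover
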