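import Groth.Agent.Sga3B.WordCell
import Groth.Agent.Sga3B.PinCover

/-!
# The field case of the word relations
-/

set_option autoImplicit false
set_option linter.unusedSectionVars false
universe u v

namespace Groth.Agent.Sga3B.Word

open Groth.Agent.Sga3B.Cell TensorProduct

variable {idx M : Type} [Fintype idx] [AddCommGroup M] [Module.Free ℤ M]
    [Module.Finite ℤ M] {P : RootPairing idx ℤ M (Module.Dual ℤ M)} {b : P.Base}
    {R A A' : Type u} [CommRing R] [CommRing A] [Algebra R A] [PtGrp R A]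
    [CommRing A'] [Algebra R A'] [PtGrp R A']

/-- over an algebraically closed field there is a point of the cell whose product with a given point
is in the cell -/
theorem exists_mul_mem_cell (E : PinCell P b R A) {K : Type u} [Field K] [IsAlgClosed K]
    [Algebra R K] (g : Pt R A K) :
    ∃ (x : idx → K) (t : TPt M K) (x' : idx → K) (t' : TPt M K), E.cell x t * g = E.cell x' t' := by
  have hfp := E.fp
  have hdom : IsDomain (K ⊗[R] A) := E.domain K
  let D := K ⊗[R] A
  -- the generic point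
  let γ : Pt R A D := Pt.mk Algebra.TensorProduct.includeRight
  let gD : Pt R A D := Pt.map ((Algebra.TensorProduct.includeLeft : K →ₐ[K] D).restrictScalars R) g
  -- points of `D` as points of `A`
  let pt : Pt R A K → (D →ₐ[K] K) := fun h => Algebra.TensorProduct.lift (AlgHom.id K K)
    h.hom (fun _ _ => Commute.all _ _)
  have hpt : ∀ h, Pt.map ((pt h).restrictScalars R) γ = h := by
    intro h
    apply Pt.ext
    intro a
    change Algebra.TensorProduct.lift (AlgHom.id K K) h.hom (fun _ _ => Commute.all _ _)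
      ((1 : K) ⊗ₜ[R] a) = _
    erw [Algebra.TensorProduct.lift_tmul]
    rw [map_one, one_mul]
  have hptg : ∀ s : D →ₐ[K] K, Pt.map (s.restrictScalars R) gD = g := by
    intro s
    apply Pt.ext
    intro a
    change s ((g.hom a) ⊗ₜ (1 : A)) = _
    have : (g.hom a) ⊗ₜ[R] (1 : A) = algebraMap K D (g.hom a) := rfl
    rw [this, AlgHom.commutes]
    rfl
  -- both ideals are nonzero
  have hone : E.cellIdeal.map (1 : Pt R A K).hom.toRingHom = ⊤ := by
    rw [← E.mem_cell_iff]
    refine ⟨fun _ => 0, 1, ?_⟩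
    have := E.toDatum.cell_zero (B := K) (allList b) 1
    rw [map_one] at this
    exact this.symm
  have key : ∀ (u : Pt R A D) (s : D →ₐ[K] K), Pt.map (s.restrictScalars R) u = 1 →
      ∃ f ∈ E.cellIdeal.map u.hom.toRingHom, f ≠ 0 := by
    intro u s hs
    have hne : E.cellIdeal.map u.hom.toRingHom ≠ ⊥ := by
      intro h0
      have h1 : (E.cellIdeal.map u.hom.toRingHom).map (s : D →+* K) = ⊤ := by
        rw [Ideal.map_map, ← hone, ← hs]
        rfl
      rw [h0, Ideal.map_bot] at h1
      exact bot_ne_top h1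
    exact Submodule.exists_mem_ne_zero_of_ne_bot hne
  obtain ⟨f₁, hf₁, hf₁0⟩ := key γ (pt 1) (hpt 1)
  obtain ⟨f₂, hf₂, hf₂0⟩ := key (γ * gD) (pt g⁻¹) (by
    rw [Pt.map_mul, hpt, hptg, inv_mul_cancel])
  have hnil : ¬ IsNilpotent (f₁ * f₂) := by
    rw [isNilpotent_iff_eq_zero]
    exact mul_ne_zero hf₁0 hf₂0
  obtain ⟨s, hs⟩ := exists_point_ne_zero K hnil
  rw [map_mul] at hs
  have hcell : ∀ (u : Pt R A D) (f : D), f ∈ E.cellIdeal.map u.hom.toRingHom → s f ≠ 0 →
      ∃ (x : idx → K) (t : TPt M K), Pt.map (s.restrictScalars R) u = E.cell x t := by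
    intro u f hf hsf
    change ∃ (x : idx → K) (t : TPt M K), Pt.map (s.restrictScalars R) u =
          ((allList b).map (fun a => E.uu a K (x a))).prod * E.i K t
    rw [E.mem_cell_iff]
    have h1 : s f ∈ E.cellIdeal.map (Pt.map (s.restrictScalars R) u).hom.toRingHom := by
      have : E.cellIdeal.map (Pt.map (s.restrictScalars R) u).hom.toRingHom =
          (E.cellIdeal.map u.hom.toRingHom).map (s : D →+* K) := by
        rw [Ideal.map_map]
        rfl
      rw [this]
      exact Ideal.mem_map_of_mem _ hf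
    exact Ideal.eq_top_of_isUnit_mem _ h1 (IsUnit.mk0 _ hsf)
  obtain ⟨x, t, h1⟩ := hcell γ f₁ hf₁ (left_ne_zero_of_mul hs)
  obtain ⟨x', t', h2⟩ := hcell (γ * gD) f₂ hf₂ (right_ne_zero_of_mul hs)
  refine ⟨x, t, x', t', ?_⟩
  rw [← h1, ← h2, Pt.map_mul, hptg]

section inv

variable (E : PinCell P b R A) {B : Type u} [CommRing B] [Algebra R B] [DecidableEq idx]

lemma exists_posP_list_inv (L : List idx) (hL : ∀ a ∈ L, b.IsPos a) (x : idx → B) :
    ∃ z : idx → B, ((L.map (fun a => E.uu a B (x a))).prod)⁻¹ = posP E z := by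
  induction L with
  | nil => exact ⟨0, by simp⟩
  | cons a L ih =>
    obtain ⟨z, hz⟩ := ih (fun c hc => hL c (List.mem_cons_of_mem _ hc))
    obtain ⟨w, hw, -⟩ := exists_posP_mul E z (Pi.single a (-x a))
    refine ⟨w, ?_⟩
    rw [List.map_cons, List.prod_cons, mul_inv_rev, hz, ← hw,
      posP_single E (hL a List.mem_cons_self), E.uu_neg]

lemma exists_negP_list_inv (L : List idx) (hL : ∀ a ∈ L, ¬ b.IsPos a) (x : idx → B) :
    ∃ z : idx → B, ((L.map (fun a => E.uu a B (x a))).prod)⁻¹ = negP E z := by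
  induction L with
  | nil => exact ⟨0, by simp⟩
  | cons a L ih =>
    obtain ⟨z, hz⟩ := ih (fun c hc => hL c (List.mem_cons_of_mem _ hc))
    obtain ⟨w, hw, -⟩ := exists_negP_mul E z (Pi.single a (-x a))
    refine ⟨w, ?_⟩
    rw [List.map_cons, List.prod_cons, mul_inv_rev, hz, ← hw,
      negP_single E (hL a List.mem_cons_self), E.uu_neg]

lemma exists_posP_inv (x : idx → B) : ∃ z : idx → B, (posP E x)⁻¹ = posP E z :=
  exists_posP_list_inv E (posList b) (fun _ h => (mem_posList b).mp h) x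

lemma exists_negP_inv (x : idx → B) : ∃ z : idx → B, (negP E x)⁻¹ = negP E z :=
  exists_negP_list_inv E (negList b) (fun _ h => (mem_negList b).mp h) x

lemma commute_list {h : Pt R A B} (hc : ∀ (c : idx) (x : B), Commute (E.uu c B x) h)
    (L : List idx) (x : idx → B) : Commute ((L.map (fun a => E.uu a B (x a))).prod) h := by
  induction L with
  | nil => simp
  | cons a L ih =>
    rw [List.map_cons, List.prod_cons]
    exact (hc a _).mul_left ih

/-- a point commuting with the root groups commutes with the coroot tori of simple roots -/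
lemma commute_cow {h : Pt R A B} (hc : ∀ (c : idx) (x : B), Commute (E.uu c B x) h)
    {a : idx} (ha : a ∈ b.support) (v : Bˣ) : Commute (E.i B (TPt.cow (P.coroot a) v)) h := by
  have h1 := E.rank1 a ha (1 : B) ((v : B) - 1) v (by ring)
  have h2 : E.i B (TPt.cow (P.coroot a) v) =
      (E.uu (P.reflectionPerm a a) B ((v⁻¹ : Bˣ) * ((v : B) - 1)))⁻¹ *
        (E.uu a B 1 * E.uu (P.reflectionPerm a a) B ((v : B) - 1)) *
        (E.uu a B ((v⁻¹ : Bˣ) * 1))⁻¹ := by
    rw [h1]; group
  rw [h2]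
  exact (((hc _ _).inv_left).mul_left ((hc _ _).mul_left (hc _ _))).mul_left ((hc _ _).inv_left)

end inv

/-- in an infinite field there is a unit which is not a root of unity of a given order -/
lemma exists_zpow_ne_one {K : Type u} [Field K] [Infinite K] {k : ℤ} (hk : k ≠ 0) :
    ∃ v : Kˣ, ((v ^ k : Kˣ) : K) ≠ 1 := by
  obtain ⟨x, hx⟩ : ∃ x : K, (Polynomial.X * (Polynomial.X ^ k.natAbs - 1) : Polynomial K).eval x ≠ 0 := by
    by_contra! h
    have h1 : (Polynomial.X * (Polynomial.X ^ k.natAbs - 1) : Polynomial K) = 0 :=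
      Polynomial.funext fun x => by rw [h x, Polynomial.eval_zero]
    have h2 : (Polynomial.X ^ k.natAbs - 1 : Polynomial K) ≠ 0 := by
      have := Polynomial.X_pow_sub_C_ne_zero (R := K) (n := k.natAbs) (by omega) 1
      rwa [Polynomial.C_1] at this
    exact (mul_ne_zero Polynomial.X_ne_zero h2) h1
  rw [Polynomial.eval_mul, Polynomial.eval_X, Polynomial.eval_sub, Polynomial.eval_pow,
    Polynomial.eval_X, Polynomial.eval_one] at hx
  have hx0 : x ≠ 0 := left_ne_zero_of_mul hx
  have hx1 : x ^ k.natAbs ≠ 1 := sub_ne_zero.mp (right_ne_zero_of_mul hx)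
  refine ⟨Units.mk0 x hx0, ?_⟩
  rw [Units.val_zpow_eq_zpow_val, Units.val_mk0]
  intro h
  apply hx1
  rcases Int.natAbs_eq k with h2 | h2
  · rw [h2, zpow_natCast] at h
    exact h
  · rw [h2, zpow_neg, zpow_natCast, inv_eq_one] at h
    exact h

/-- **the field case of the word relations** -/
theorem eq_one_of_commute (E : PinCell P b R A) (E' : PinCell P b R A') (K : Type u) [Field K]
    [IsAlgClosed K] [Algebra R K]
    (hS : ∀ (x' : idx → K) (t : TPt M K), ∃ x : idx → K, (E.cell x t, E'.cell x' t) ∈ graph E E' K)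
    (h' : Pt R A' K) (h1 : ((1 : Pt R A K), h') ∈ graph E E' K)
    (hc : ∀ (c : idx) (x : K), Commute (E'.uu c K x) h') : h' = 1 := by
  classical
  have hinf : Infinite K := IsAlgClosed.instInfinite
  obtain ⟨x₁, t, x₂, t₂, hx⟩ := exists_mul_mem_cell E' h'
  obtain ⟨x, hxg⟩ := hS x₁ t
  have hg : (E.cell x t, E'.cell x₁ t * h') ∈ graph E E' K := by
    have := mul_mem hxg h1
    rwa [Prod.mk_mul_mk, mul_one] at this
  obtain ⟨y, y', s, hy, hy', -⟩ := agree_of_mem_graph E E' hg (inCell_cell E x t)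
    (by rw [hx]; exact inCell_cell E' x₂ t₂)
  obtain ⟨-, hts⟩ := E.cell_injective hy
  subst hts
  rw [cell_eq_mul, cell_eq_mul] at hy'
  -- the conjugate by the torus element
  set k : Pt R A' K := E'.i K t * h' * (E'.i K t)⁻¹ with hk
  have hkc : ∀ (c : idx) (z : K), Commute (E'.uu c K z) k := by
    intro c z
    have h2 : E'.i K t * E'.uu c K (TPt.ch (P.root c) t⁻¹ * z) * (E'.i K t)⁻¹ = E'.uu c K z := by
      rw [E'.rel, ← mul_assoc, ch_mul_ch_inv, one_mul]
    have h3 := (hc c (TPt.ch (P.root c) t⁻¹ * z)).eq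
    change E'.uu c K z * k = k * E'.uu c K z
    rw [← h2, hk]
    calc _ = E'.i K t * (E'.uu c K (TPt.ch (P.root c) t⁻¹ * z) * h') * (E'.i K t)⁻¹ := by group
      _ = _ := by rw [h3]; group
  have hk1 : negP E' x₁ * posP E' x₁ * k = negP E' y' * posP E' y' := by
    rw [hk]
    have h2 := congrArg (fun z => z * (E'.i K t)⁻¹) hy'
    have h3 : negP E' y' * posP E' y' * E'.i K t * (E'.i K t)⁻¹ = negP E' y' * posP E' y' :=
      mul_inv_cancel_right _ _
    rw [← h3]
    refine Eq.trans ?_ h2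
    simp only [mul_assoc]
  have hpk : Commute (posP E' x₁) k := commute_list E' hkc _ _
  obtain ⟨n₁, hn₁⟩ := exists_negP_inv E' x₁
  obtain ⟨p₁, hp₁⟩ := exists_posP_inv E' x₁
  obtain ⟨n₂, hn₂, -⟩ := exists_negP_mul E' n₁ y'
  obtain ⟨p₂, hp₂, -⟩ := exists_posP_mul E' y' p₁
  have hk2 : k = negP E' n₂ * posP E' p₂ := by
    rw [← hn₂, ← hp₂, ← hn₁, ← hp₁]
    have h2 : negP E' x₁ * (k * posP E' x₁) = negP E' y' * posP E' y' := by
      rw [← hpk.eq, ← mul_assoc, hk1]
    have h3 : k = (negP E' x₁)⁻¹ * (negP E' x₁ * (k * posP E' x₁)) * (posP E' x₁)⁻¹ := by group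
    rw [h3, h2]
    group
  set z : idx → K := glue b n₂ p₂ with hz
  have hk3 : k = E'.cell z 1 := by
    rw [cell_eq_mul, hz, negP_glue, posP_glue, map_one, mul_one, hk2]
  have hz0 : z = 0 := by
    funext c
    by_contra hzc
    change z c ≠ 0 at hzc
    obtain ⟨a, ha, hac⟩ : ∃ a ∈ b.support, P.pairing c a ≠ 0 := by
      obtain ⟨a, ha, h2⟩ := b.exists_mem_support_pos_pairingIn_ne_zero c
      refine ⟨a, ha, fun h3 => h2 ?_⟩
      have h4 : P.pairing a c = 0 := P.pairing_eq_zero_iff.mp h3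
      have h5 := P.algebraMap_pairingIn ℤ a c
      rw [h4] at h5
      simpa using h5
    obtain ⟨v, hv⟩ := exists_zpow_ne_one (K := K) (k := P.coroot a (P.root c)) (by
      have h2 : P.pairing c a = P.coroot a (P.root c) := by
        rw [← P.root_coroot_eq_pairing, E'.pairing_eq]
        rfl
      rwa [← h2])
    have h2 := commute_cow E' hkc ha v
    have h3 := E'.toDatum.conj_cell (allList b) z 1 (TPt.cow (P.coroot a) v)
    have h4 : E'.i K (TPt.cow (P.coroot a) v) * E'.cell z 1 *
        (E'.i K (TPt.cow (P.coroot a) v))⁻¹ = E'.cell z 1 := by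
      rw [← hk3, h2.eq]; group
    have h5 := E'.cell_injective (h4.symm.trans h3)
    have h6 : z c = ((v ^ (P.coroot a (P.root c)) : Kˣ) : K) * z c := congrFun h5.1 c
    exact hv (mul_right_cancel₀ hzc (by rw [one_mul]; exact h6.symm))
  have hk4 : k = 1 := by
    rw [hk3, hz0, cell_eq_mul, negP_zero, posP_zero, map_one, mul_one, mul_one]
  have h5 : h' = (E'.i K t)⁻¹ * k * E'.i K t := by rw [hk]; group
  rw [h5, hk4]; group

end Groth.Agent.Sga3B.Word
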