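import Groth.Agent.Sga3B.WordComm
import Groth.Agent.Sga3B.WordField
import Groth.Agent.Sga3B.PinIso

/-!
# The word relations: the graph subgroup of two pinned groups with the same root datum is the graph
of a bijection
-/

set_option autoImplicit false
set_option linter.unusedSectionVars false
universe u v

namespace Groth.Agent.Sga3B.Word

open Groth.Agent.Sga3B.Cell TensorProduct Groth.Agent.Sga3B.PinIso

variable {idx M : Type} [Fintype idx] [AddCommGroup M] [Module.Free ℤ M]
    [Module.Finite ℤ M] {P : RootPairing idx ℤ M (Module.Dual ℤ M)} {b : P.Base}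
    {R A A' : Type u} [CommRing R] [CommRing A] [Algebra R A] [PtGrp R A]
    [CommRing A'] [Algebra R A'] [PtGrp R A']

section

variable (E : PinCell P b R A) (E' : PinCell P b R A')

/-- **word relations, field case** -/
theorem eq_one_field (K : Type u) [Field K] [IsAlgClosed K] [Algebra R K] (h' : Pt R A' K)
    (hh : h' ∈ ZZ E E' K) : h' = 1 :=
  eq_one_of_commute E E' K (exists_cell_mem_graph E E' K) h' hh (commute_uu E E' K h' hh)

/-- **word relations** -/
theorem eq_one_of_mem_graph (C : Type u) [CommRing C] [Algebra R C] (h' : Pt R A' C)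
    (hh : ((1 : Pt R A C), h') ∈ graph E E' C) : h' = 1 := by
  have : Algebra.FinitePresentation R A' := E'.fp
  exact eq_one_of_field (R := R) (A := A') (fun C _ _ => ZZ E E' C)
    (fun φ g hg => ZZ_map E E' φ g hg)
    (fun C _ _ I hI g hg hk => eq_one_of_nilpotent E E' C I hI g hg hk)
    (fun K _ _ _ g hg => eq_one_field E E' K g hg) C h' hh

/-- **word relations**: a word which is trivial in the first group is trivial in the second -/
theorem evL_mul_i_eq_one (C : Type u) [CommRing C] [Algebra R C] (L : List (Lt b.support × C))
    (t : TPt M C) (h : (mdl E C).evL L * E.i C t = 1) : (mdl E' C).evL L * E'.i C t = 1 :=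
  eq_one_of_mem_graph E E' C _ ⟨L, t, by rw [h]⟩

/-- the graph of two pinned groups with the same root datum -/
def pinGraph : PinGraph E E' where
  Γ B _ _ := graph E E' B
  map_mem φ _ hw := graph_map E E' φ hw
  uu_mem c := exists_uu_mem_graph E E' c
  uu_mem_simple _ ha _ _ _ x := uu_simple_mem_graph E E' ha x
  i_mem _ _ _ t := i_mem_graph E E' t
  inj_left B _ _ g' h := eq_one_of_mem_graph E E' B g' h
  inj_right B _ _ g h := eq_one_of_mem_graph E' E B g (graph_swap E E' h)

/-- **word relations**, final form -/
theorem nonempty_pinGraph : Nonempty (PinGraph E E') := ⟨pinGraph E E'⟩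

end

end Groth.Agent.Sga3B.Word
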