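import Groth.Agent.Sga3B.CentLift
import Groth.Agent.S0346

/-!
# Centralizers and normalizers of subtori of smooth group schemes are smooth

* `exists_smooth_centralizer`, `exists_smooth_normalizer`
* `smooth_centralizer`, `smooth_normalizer` : for any representing closed subgroup.
-/

set_option autoImplicit false
universe u
open CategoryTheory MonoidalCategory CartesianMonoidalCategory MonObj GrpObj AlgebraicGeometry Limits

namespace Groth.Agent.Sga3B.CentSmooth

open InfConj InfConjFam DSPts DSRigid CentRep CentLift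

variable {S : Scheme.{u}}

/-- Abstract form of the smoothness argument. -/
lemma smooth_of_lift {Z G : Over S} [GrpObj G] [Smooth G.hom] (z : Z ⟶ G) [Mono z]
    [LocallyOfFinitePresentation z.left] (H : ∀ T : Over S, Set (T ⟶ G))
    (hZ : ∀ (T : Over S) (g : T ⟶ G), (∃ a : T ⟶ Z, a ≫ z = g) ↔ g ∈ H T)
    {S' : Scheme.{u}} (f : S' ⟶ S) [Flat f] [Surjective f]
    (hc : ∀ V : S.Opens, IsAffineOpen V →
      ∃ W : S'.Opens, IsCompact (W : Set S') ∧ f '' (W : Set S') = (V : Set S))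
    (hl : ∀ s' : S', ∃ U : S'.Opens, s' ∈ U ∧ ∀ (B : Type u) [CommRing B] [IsLocalRing B] (I : Ideal B),
      I * I = ⊥ → ∀ (x : Spec (CommRingCat.of B) ⟶ S) (β : Spec (CommRingCat.of B) ⟶ U), x = β ≫ U.ι ≫ f →
        ∀ (g₁ : Over.mk x ⟶ G), redMap x I ≫ g₁ ∈ H _ →
          ∃ w : Over.mk x ⟶ G, redMap x I ≫ w = 1 ∧ w⁻¹ * g₁ ∈ H _) :
    Smooth Z.hom := by
  have h1 : LocallyOfFinitePresentation Z.hom := by
    rw [← Over.w z]; infer_instance
  refine LocalLift.smooth_of_local_lift_fpqc Z f hc fun s' => ?_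
  obtain ⟨U, hU, hlU⟩ := hl s'
  refine ⟨U, hU, ?_⟩
  intro B _ _ I hI α β h
  let x : Spec (CommRingCat.of B) ⟶ S := β ≫ U.ι ≫ f
  let α₀ : Over.mk (Spec.map (CommRingCat.ofHom (Ideal.Quotient.mk I)) ≫ x) ⟶ Z := Over.homMk α h.symm
  obtain ⟨l, hl1, hl2⟩ := Flat2H.FSSmoothHom.isFormallySmoothHom_of_smooth G.hom B I (by rw [pow_two, hI])
    (α₀ ≫ z).left x (by rw [Over.w]; rfl)
  let g₁ : Over.mk x ⟶ G := Over.homMk l hl2
  have hg₁ : redMap x I ≫ g₁ = α₀ ≫ z := by
    apply Over.OverMorphism.ext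
    exact hl1
  obtain ⟨w, hw1, hw2⟩ := hlU B I hI x β rfl g₁ (by rw [hg₁]; exact (hZ _ _).mp ⟨α₀, rfl⟩)
  obtain ⟨γ, hγ⟩ := (hZ _ _).mpr hw2
  have h3 : redMap x I ≫ γ = α₀ := by
    rw [← cancel_mono z, Category.assoc, hγ, MonObj.comp_mul, GrpObj.comp_inv, hw1, hg₁, inv_one,
      _root_.one_mul]
  exact ⟨γ.left, congrArg CommaMorphism.left h3, Over.w γ⟩

lemma isSplit_bc {S' S'' : Scheme.{u}} (f : S' ⟶ S) (β : S'' ⟶ S') {M : Type} [AddCommGroup M]
    {Q : Over S} [GrpObj Q] (h : Red.IsSplitTorusWith M (Red.bc f Q)) :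
    Red.IsSplitTorusWith M (Red.bc (β ≫ f) Q) := by
  obtain ⟨e⟩ := TorusAlgClosed.isSplitTorusWith_bc β h
  exact ⟨BcIso.bcCompIso β f Q ≪≫ e⟩

variable {G Q : Over S} [GrpObj G] [GrpObj Q] (q : Q ⟶ G) [IsMonHom q] (hQ : Red.IsTorus Q)

include hQ

lemma isSeparated_of_subtorus [IsClosedImmersion q.left] : IsSeparated G.hom := by
  have := TorusAlgClosed.isAffineHom_of_isTorus hQ
  exact (S0346.result S G).1.mpr (isClosedImmersion_one q)

/-- A centralizer of a subtorus of a smooth group is smooth. -/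
theorem smooth_centralizer [Smooth G.hom] [IsClosedImmersion q.left] {Z : Over S} (z : Z ⟶ G)
    [GrpObj Z] (hz : Red.IsCentralizerOf q z) [LocallyOfFinitePresentation z.left] : Smooth Z.hom := by
  have := isSeparated_of_subtorus q hQ
  obtain ⟨-, hz', hz⟩ := hz
  obtain ⟨S', f, hf, hs, hc, h⟩ := hQ
  refine smooth_of_lift z (fun T => centPts q T) hz f hc fun s' => ?_
  obtain ⟨U, hU, r, hr⟩ := h s'
  refine ⟨U, hU, fun B _ _ I hI x β hx g₁ hg₁ => ?_⟩
  subst hx
  exact cent_lift q I hI _ (isSplit_bc _ β hr) g₁ hg₁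

/-- A normalizer of a subtorus of a smooth group is smooth. -/
theorem smooth_normalizer [Smooth G.hom] [IsClosedImmersion q.left] {Z : Over S} (z : Z ⟶ G)
    [GrpObj Z] (hz : Red.IsNormalizerOf q z) [LocallyOfFinitePresentation z.left] : Smooth Z.hom := by
  have := isSeparated_of_subtorus q hQ
  have : Mono q := Over.mono_of_mono_left q
  obtain ⟨-, hz', hz⟩ := hz
  obtain ⟨S', f, hf, hs, hc, h⟩ := hQ
  refine smooth_of_lift z (fun T => normPts q T) hz f hc fun s' => ?_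
  obtain ⟨U, hU, r, hr⟩ := h s'
  refine ⟨U, hU, fun B _ _ I hI x β hx g₁ hg₁ => ?_⟩
  subst hx
  exact norm_lift q I hI _ (isSplit_bc _ β hr) g₁ hg₁

/-- The centralizer of a subtorus. -/
theorem exists_smooth_centralizer [Smooth G.hom] [IsClosedImmersion q.left] :
    ∃ (Z : Over S) (_ : GrpObj Z) (z : Z ⟶ G), Red.IsCentralizerOf q z ∧ IsClosedImmersion z.left ∧
      Smooth Z.hom ∧ LocallyOfFinitePresentation z.left := by
  have := TorusAlgClosed.isAffineHom_of_isTorus hQ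
  have := TorusAlgClosed.smooth_of_isTorus hQ
  have := TorusIrr.geometricallyIrreducible_of_isTorus hQ
  obtain ⟨Z, i1, z, hz, hzc, hfp⟩ := exists_centralizer q
  have := hfp inferInstance
  exact ⟨Z, i1, z, hzc, hz, smooth_centralizer q hQ z hzc, this⟩

/-- The normalizer of a subtorus. -/
theorem exists_smooth_normalizer [Smooth G.hom] [IsClosedImmersion q.left] :
    ∃ (Z : Over S) (_ : GrpObj Z) (z : Z ⟶ G), Red.IsNormalizerOf q z ∧ IsClosedImmersion z.left ∧
      Smooth Z.hom ∧ LocallyOfFinitePresentation z.left := by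
  have := TorusAlgClosed.isAffineHom_of_isTorus hQ
  have := TorusAlgClosed.smooth_of_isTorus hQ
  have := TorusIrr.geometricallyIrreducible_of_isTorus hQ
  obtain ⟨Z, i1, z, hz, hzc, hfp⟩ := exists_normalizer q
  have := hfp inferInstance
  exact ⟨Z, i1, z, hzc, hz, smooth_normalizer q hQ z hzc, this⟩

end Groth.Agent.Sga3B.CentSmooth
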