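import Groth.Agent.Sga3B.AlgBc
import Groth.Prelude.Def_Red2

/-!
# Base change of Borel and parabolic subgroups, solvable groups
-/

set_option autoImplicit false
open CategoryTheory MonoidalCategory CartesianMonoidalCategory MonObj GrpObj AlgebraicGeometry
universe u

namespace Groth.Agent.Sga3B.ParBc

open Groth.Agent.Sga3B Groth.Agent.Sga3B.RedIso Groth.Agent.Sga3B.ResAlg Groth.Agent.Sga3B.BcNat
  Groth.Agent.Sga3B.TorusBc Groth.Agent.Sga3B.NormBc Groth.Agent.Sga3B.AlgBc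

variable {S S' : Scheme.{u}}

lemma isIso_of_iso_comp {C : Type*} [Category C] {X Y Z : C} (e : X ≅ Y) (f : Y ⟶ Z) (h : IsIso (e.hom ≫ f)) :
    IsIso f := by
  have h1 : f = e.inv ≫ (e.hom ≫ f) := by rw [Iso.inv_hom_id_assoc]
  rw [h1]
  infer_instance

lemma derivedSeries_eq_bot_of_equiv {G H : Type*} [Group G] [Group H] (e : G ≃* H) {n : ℕ}
    (h : derivedSeries G n = ⊥) : derivedSeries H n = ⊥ := by
  rw [← map_derivedSeries_eq (f := e.toMonoidHom) e.surjective, h, Subgroup.map_bot]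

theorem isSolvableGrp_bc (f : S' ⟶ S) {G : Over S} [GrpObj G] (h : Red.IsSolvableGrp G) :
    Red.IsSolvableGrp (Red.bc f G) := by
  obtain ⟨n, hn⟩ := h
  exact ⟨n, fun X => derivedSeries_eq_bot_of_equiv (BcPts.bcMulEquiv f X G) (hn _)⟩

/-- the isomorphism of groups of points given by an isomorphism of group schemes -/
noncomputable def ptsEquiv {G H : Over S} [GrpObj G] [GrpObj H] (e : Grp.mk G ≅ Grp.mk H) (X : Over S) :
    (X ⟶ G) ≃* (X ⟶ H) where
  toFun x := x ≫ (und e).hom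
  invFun y := y ≫ (und e).inv
  left_inv x := by beta_reduce; rw [Category.assoc, Iso.hom_inv_id, Category.comp_id]
  right_inv x := by beta_reduce; rw [Category.assoc, Iso.inv_hom_id, Category.comp_id]
  map_mul' x y := MonObj.mul_comp _ _ _

theorem isSolvableGrp_of_iso {G H : Over S} [GrpObj G] [GrpObj H] (e : Grp.mk G ≅ Grp.mk H)
    (h : Red.IsSolvableGrp G) : Red.IsSolvableGrp H := by
  obtain ⟨n, hn⟩ := h
  exact ⟨n, fun X => derivedSeries_eq_bot_of_equiv (ptsEquiv e X) (hn _)⟩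

section Arrow

variable {K : Type u} [Field K] {B G B₁ G₁ : Over (Spec (CommRingCat.of K))} [GrpObj B] [GrpObj G] [GrpObj B₁] [GrpObj G₁]

lemma eq_of_arrow {i : B ⟶ G} {i₁ : B₁ ⟶ G₁} (φ : Grp.mk B ≅ Grp.mk B₁) (ψ : Grp.mk G ≅ Grp.mk G₁)
    (hc : i ≫ (und ψ).hom = (und φ).hom ≫ i₁) : i₁ = (und φ).inv ≫ i ≫ (und ψ).hom := by
  rw [hc, Iso.inv_hom_id_assoc]

lemma isMonHom_of_arrow {i : B ⟶ G} {i₁ : B₁ ⟶ G₁} (φ : Grp.mk B ≅ Grp.mk B₁) (ψ : Grp.mk G ≅ Grp.mk G₁)
    (hc : i ≫ (und ψ).hom = (und φ).hom ≫ i₁) (h : IsMonHom i) : IsMonHom i₁ := by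
  rw [eq_of_arrow φ ψ hc]
  infer_instance

lemma isClosedImmersion_of_arrow {i : B ⟶ G} {i₁ : B₁ ⟶ G₁} (φ : Grp.mk B ≅ Grp.mk B₁) (ψ : Grp.mk G ≅ Grp.mk G₁)
    (hc : i ≫ (und ψ).hom = (und φ).hom ≫ i₁) (h : IsClosedImmersion i.left) : IsClosedImmersion i₁.left := by
  rw [eq_of_arrow φ ψ hc, Over.comp_left, Over.comp_left]
  infer_instance

lemma isBorelOver_of_arrow {i : B ⟶ G} {i₁ : B₁ ⟶ G₁} (φ : Grp.mk B ≅ Grp.mk B₁) (ψ : Grp.mk G ≅ Grp.mk G₁)
    (hc : i ≫ (und ψ).hom = (und φ).hom ≫ i₁) (h : Red.IsBorelOver K i) : Red.IsBorelOver K i₁ := by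
  obtain ⟨h1, h2, h3, h4, h5, h6⟩ := h
  refine ⟨isMonHom_of_arrow φ ψ hc h1, isClosedImmersion_of_arrow φ ψ hc h2,
    TorusAlgClosed.prop_of_grp_iso (P := @Smooth) φ.symm h3, connectedSpace_of_iso (und φ).hom.left h4,
    isSolvableGrp_of_iso φ h5, ?_⟩
  intro B' _ i' _ f hi' hs hconn hsol hf
  have e1 : ((und φ).hom ≫ f) ≫ (i' ≫ (und ψ).inv) = i := by
    rw [Category.assoc, ← Category.assoc f, hf, ← Category.assoc, ← hc, Category.assoc, Iso.hom_inv_id,
      Category.comp_id]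
  have e2 : IsClosedImmersion (i' ≫ (und ψ).inv).left := by
    rw [Over.comp_left]; infer_instance
  have := h6 B' (i' ≫ (und ψ).inv) ((und φ).hom ≫ f) e2 hs hconn hsol e1
  exact isIso_of_iso_comp (und φ) f this

lemma isBorelOver_bc {K' : Type u} [Field K'] (θ : Spec (CommRingCat.of K') ⟶ Spec (CommRingCat.of K)) [IsIso θ]
    {i : B ⟶ G} (h : Red.IsBorelOver K i) : Red.IsBorelOver K' ((Over.pullback θ).map i) := by
  obtain ⟨h1, h2, h3, h4, h5, h6⟩ := h
  refine ⟨inferInstance, MorphismProperty.overPullbackMap (P := @IsClosedImmersion) _ i h2, ?_, ?_,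
    isSolvableGrp_bc θ h5, ?_⟩
  · change Smooth (Limits.pullback.snd B.hom _)
    infer_instance
  · exact connectedSpace_of_iso (CategoryTheory.inv (Limits.pullback.fst B.hom _)) h4
  intro B' _ i' _ f hi' hs hconn hsol hf
  have e1 : ((und (unbcIso' θ B)).inv ≫ (Over.pullback (CategoryTheory.inv θ)).map f) ≫
      ((Over.pullback (CategoryTheory.inv θ)).map i' ≫ (und (unbcIso' θ G)).hom) = i := by
    rw [Category.assoc, ← Category.assoc ((Over.pullback (CategoryTheory.inv θ)).map f), ← Functor.map_comp, hf,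
      unbc'_nat, Iso.inv_hom_id_assoc]
  have c1 : IsClosedImmersion ((Over.pullback (CategoryTheory.inv θ)).map i').left :=
    MorphismProperty.overPullbackMap (P := @IsClosedImmersion) _ i' hi'
  have e2 : IsClosedImmersion ((Over.pullback (CategoryTheory.inv θ)).map i' ≫ (und (unbcIso' θ G)).hom).left := by
    rw [Over.comp_left]; infer_instance
  have h7 := h6 _ ((Over.pullback (CategoryTheory.inv θ)).map i' ≫ (und (unbcIso' θ G)).hom)
    ((und (unbcIso' θ B)).inv ≫ (Over.pullback (CategoryTheory.inv θ)).map f) e2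
    (by change Smooth (Limits.pullback.snd B'.hom _); infer_instance)
    (connectedSpace_of_iso (CategoryTheory.inv (Limits.pullback.fst B'.hom _)) hconn)
    (isSolvableGrp_bc _ hsol) e1
  have h8 : IsIso ((Over.pullback (CategoryTheory.inv θ)).map f) := isIso_of_iso_comp (und (unbcIso' θ B)).symm _ h7
  exact isIso_of_bc (CategoryTheory.inv θ) f

lemma isParabolicOver_of_arrow {i : B ⟶ G} {i₁ : B₁ ⟶ G₁} (φ : Grp.mk B ≅ Grp.mk B₁) (ψ : Grp.mk G ≅ Grp.mk G₁)
    (hc : i ≫ (und ψ).hom = (und φ).hom ≫ i₁) (h : Red.IsParabolicOver K i) : Red.IsParabolicOver K i₁ := by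
  obtain ⟨h1, h2, h3, B', gB', b, hb⟩ := h
  refine ⟨isMonHom_of_arrow φ ψ hc h1, isClosedImmersion_of_arrow φ ψ hc h2,
    TorusAlgClosed.prop_of_grp_iso (P := @Smooth) φ.symm h3, B', gB', b ≫ (und φ).hom, ?_⟩
  refine isBorelOver_of_arrow (Iso.refl _) ψ ?_ hb
  rw [Category.assoc, Category.assoc, hc]
  exact (Category.id_comp _).symm

lemma isParabolicOver_bc {K' : Type u} [Field K'] (θ : Spec (CommRingCat.of K') ⟶ Spec (CommRingCat.of K)) [IsIso θ]
    {i : B ⟶ G} (h : Red.IsParabolicOver K i) : Red.IsParabolicOver K' ((Over.pullback θ).map i) := by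
  obtain ⟨h1, h2, h3, B', gB', b, hb⟩ := h
  refine ⟨inferInstance, MorphismProperty.overPullbackMap (P := @IsClosedImmersion) _ i h2, ?_, Red.bc θ B', inferInstance,
    (Over.pullback θ).map b, ?_⟩
  · change Smooth (Limits.pullback.snd B.hom _)
    infer_instance
  · rw [← Functor.map_comp]
    exact isBorelOver_bc θ hb

end Arrow

/-- **Borel subgroups are stable under base change with algebraic residue extensions.** -/
theorem isBorel_bc (f : S' ⟶ S) [AlgRes f] {B G : Over S} [GrpObj B] [GrpObj G] {i : B ⟶ G}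
    (h : Red.IsBorel i) : Red.IsBorel ((Over.pullback f).map i) := by
  obtain ⟨h1, h2, h3, h4⟩ := h
  refine ⟨inferInstance, MorphismProperty.overPullbackMap (P := @IsClosedImmersion) _ i h2, ?_, fun s' => ?_⟩
  · change Smooth (Limits.pullback.snd B.hom _)
    infer_instance
  obtain ⟨θ, hθ, hh⟩ := exists_iso_geomPt f s'
  have h6 := isBorelOver_bc θ (h4 (f s'))
  have h7 := isBorelOver_of_arrow (fibIso hh B).symm (fibIso hh G).symm (fib_arrow hh i) h6
  exact h7

/-- **Parabolic subgroups are stable under base change with algebraic residue extensions.** -/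
theorem isParabolic_bc (f : S' ⟶ S) [AlgRes f] {B G : Over S} [GrpObj B] [GrpObj G] {i : B ⟶ G}
    (h : Red.IsParabolic i) : Red.IsParabolic ((Over.pullback f).map i) := by
  obtain ⟨h1, h2, h3, h4⟩ := h
  refine ⟨inferInstance, MorphismProperty.overPullbackMap (P := @IsClosedImmersion) _ i h2, ?_, fun s' => ?_⟩
  · change Smooth (Limits.pullback.snd B.hom _)
    infer_instance
  obtain ⟨θ, hθ, hh⟩ := exists_iso_geomPt f s'
  have h6 := isParabolicOver_bc θ (h4 (f s'))
  have h7 := isParabolicOver_of_arrow (fibIso hh B).symm (fibIso hh G).symm (fib_arrow hh i) h6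
  exact h7

end Groth.Agent.Sga3B.ParBc
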