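import Groth.Agent.Sga3B.AdCop
import Groth.Prelude.Def_AutFam

/-!
# Representability of `Isom(G, G')` by a disjoint union of copies of the adjoint quotient
-/

set_option autoImplicit false
open CategoryTheory MonoidalCategory CartesianMonoidalCategory MonObj GrpObj AlgebraicGeometry Limits
universe u

namespace Groth.Agent.Sga3B.AdIsom
open AdFppf AdCop AdQuot

variable {S : Scheme.{u}} {G G' Z Q : Over S} [GrpObj G] [GrpObj G'] {z : Z ⟶ G'} {q : G' ⟶ Q}

/-- `z` is the centre of `G'`. -/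
def IsCent (z : Z ⟶ G') : Prop :=
  ∀ (X : Over S) (g : X ⟶ G'), (∃ t : X ⟶ Z, g = t ≫ z) ↔
    ∀ (X' : Over S) (x : X' ⟶ X) (h : X' ⟶ G'), (x ≫ g) * h = h * (x ≫ g)

lemma IsCent.comm (hz : IsCent z) {X : Over S} (t : X ⟶ Z) (h : X ⟶ G') : (t ≫ z) * h = h * (t ≫ z) := by
  have := (hz X (t ≫ z)).1 ⟨t, rfl⟩ X (𝟙 _) h
  simpa using this

lemma conj_eq (hq : IsQuot z q) (hz : IsCent z) {X : Over S} {g g' : X ⟶ G'} (h : g ≫ q = g' ≫ q) (y : X ⟶ G') :
    g * y * g⁻¹ = g' * y * g'⁻¹ := by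
  obtain ⟨t, rfl⟩ := (hq.agree X g g').1 h
  have h1 := hz.comm t y
  have h2 : (g * (t ≫ z)) * y * (g * (t ≫ z))⁻¹ = g * ((t ≫ z) * y) * (t ≫ z)⁻¹ * g⁻¹ := by group
  rw [h2, h1]
  group

lemma conj_inv_eq (hq : IsQuot z q) (hz : IsCent z) {X : Over S} {g g' : X ⟶ G'} (h : g ≫ q = g' ≫ q) (y : X ⟶ G') :
    g⁻¹ * y * g = g'⁻¹ * y * g' := by
  have h1 := conj_eq hq hz h (g⁻¹ * y * g)
  have h2 : g * (g⁻¹ * y * g) * g⁻¹ = y := by group
  rw [h2] at h1
  calc g⁻¹ * y * g = g'⁻¹ * (g' * (g⁻¹ * y * g) * g'⁻¹) * g' := by group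
    _ = g'⁻¹ * y * g' := by rw [← h1]

/-- conjugation composed with an isomorphism, as a family. -/
noncomputable def conjFam (F : G ⟶ G') : G ⊗ G' ⟶ G' := snd _ _ * (fst _ _ ≫ F) * (snd _ _)⁻¹

omit [GrpObj G] in
lemma lift_conjFam (F : G ⟶ G') {X : Over S} (x : X ⟶ G) (g : X ⟶ G') :
    lift x g ≫ conjFam F = g * (x ≫ F) * g⁻¹ := by
  rw [conjFam, comp_mul, comp_mul, GrpObj.comp_inv, lift_snd, lift_fst_assoc]

/-- the inverse family. -/
noncomputable def conjFamInv (F' : G' ⟶ G) : G' ⊗ G' ⟶ G := ((snd _ _)⁻¹ * fst _ _ * snd _ _) ≫ F'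

omit [GrpObj G] in
lemma lift_conjFamInv (F' : G' ⟶ G) {X : Over S} (y : X ⟶ G') (g : X ⟶ G') :
    lift y g ≫ conjFamInv F' = (g⁻¹ * y * g) ≫ F' := by
  rw [conjFamInv, ← Category.assoc, comp_mul, comp_mul, GrpObj.comp_inv, lift_snd, lift_fst]

/-- (Ad2) representability of `Isom` from a discrete set `E` of isomorphisms. -/
theorem exists_representsIsom (hq : IsQuot z q) (hz : IsCent z)
    (E : Type u) (f : E → (Grp.mk G ≅ Grp.mk G'))
    (h0 : ∀ (e e' : E) (X : Over S) (_ : Nonempty X.left) (g : X ⟶ G'),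
      (∀ (X' : Over S) (x : X' ⟶ X) (y : X' ⟶ G),
        (x ≫ g) * (y ≫ (f e).hom.hom.hom) * (x ≫ g)⁻¹ = y ≫ (f e').hom.hom.hom) → e = e')
    (h1 : ∀ (X : Over S) (φ : G ⊗ X ⟶ G'), AutFam.IsIsoFamily G G' φ → ∀ x : X.left,
      ∃ (V : Over S) (v : V ⟶ X) (_ : Flat v.left) (_ : LocallyOfFinitePresentation v.left)
        (_ : x ∈ Set.range v.left) (e : E) (g : V ⟶ G'), ∀ (X' : Over S) (x' : X' ⟶ V) (y : X' ⟶ G),
          lift y (x' ≫ v) ≫ φ = (x' ≫ g) * (y ≫ (f e).hom.hom.hom) * (x' ≫ g)⁻¹) :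
    ∃ υ : G ⊗ cop E Q ⟶ G', AutFam.RepresentsIsom G G' (cop E Q) υ := by
  have := hq.flat
  have := hq.surj
  have := hq.lfp
  obtain ⟨υ, hυ⟩ := exists_desc (P := G) (Y := G') q (E := E) (fun e => conjFam (f e).hom.hom.hom)
    (fun e X p g g' h => by rw [lift_conjFam, lift_conjFam, conj_eq hq hz h])
  obtain ⟨ψ, hψ⟩ := exists_desc (P := G') (Y := G) q (E := E) (fun e => conjFamInv (f e).inv.hom.hom)
    (fun e X p g g' h => by rw [lift_conjFamInv, lift_conjFamInv, conj_inv_eq hq hz h])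
  have hυ' : ∀ (e : E) {X : Over S} (x : X ⟶ G) (g : X ⟶ G'), lift x (g ≫ q ≫ inj e) ≫ υ =
      g * (x ≫ (f e).hom.hom.hom) * g⁻¹ := by
    intro e X x g
    rw [← lift_conjFam, ← hυ, lift_whiskerLeft_assoc]
  have hψ' : ∀ (e : E) {X : Over S} (x : X ⟶ G') (g : X ⟶ G'), lift x (g ≫ q ≫ inj e) ≫ ψ =
      (g⁻¹ * x * g) ≫ (f e).inv.hom.hom := by
    intro e X x g
    rw [← lift_conjFamInv, ← hψ, lift_whiskerLeft_assoc]
  have hff : ∀ e, (f e).hom.hom.hom ≫ (f e).inv.hom.hom = 𝟙 _ := fun e =>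
    congrArg (fun k => k.hom.hom) (f e).hom_inv_id
  have hff' : ∀ e, (f e).inv.hom.hom ≫ (f e).hom.hom.hom = 𝟙 _ := fun e =>
    congrArg (fun k => k.hom.hom) (f e).inv_hom_id
  -- a principle to check equalities of points
  have P : ∀ {X Y : Over S} (t : X ⟶ cop E Q) (a b : X ⟶ Y),
      (∀ (V : Over S) (v : V ⟶ X) (e : E) (g : V ⟶ G'), v ≫ t = g ≫ q ≫ inj e → v ≫ a = v ≫ b) → a = b := by
    intro X Y t a b h
    apply ext_fppf
    intro x
    obtain ⟨V, v, h1, h2, h3, e, g, h4⟩ := exists_lift q t x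
    exact ⟨V, v, h1, h2, h3, h V v e g h4⟩
  -- uniqueness
  have U : ∀ {T : Over S} (a a' : T ⟶ cop E Q), (G ◁ a) ≫ υ = (G ◁ a') ≫ υ → a = a' := by
    intro T a a' haa
    apply ext_fppf
    intro t
    obtain ⟨V, v, hv1, hv2, ⟨s, hs⟩, e, g, hg⟩ := exists_lift q a t
    obtain ⟨V', v', hv1', hv2', ⟨s', hs'⟩, e', g', hg'⟩ := exists_lift q (v ≫ a') s
    have key : ∀ (X' : Over S) (x : X' ⟶ V') (y : X' ⟶ G),
        (x ≫ v' ≫ g) * (y ≫ (f e).hom.hom.hom) * (x ≫ v' ≫ g)⁻¹ =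
          (x ≫ g') * (y ≫ (f e').hom.hom.hom) * (x ≫ g')⁻¹ := by
      intro X' x y
      have h2 := congrArg (fun k => lift y (x ≫ v' ≫ v) ≫ k) haa
      simp only [lift_whiskerLeft_assoc] at h2
      rw [← hυ', ← hυ']
      simp only [Category.assoc] at h2 ⊢
      rw [← hg, ← hg']
      exact h2
    let k : V' ⟶ G' := g'⁻¹ * (v' ≫ g)
    have key2 : ∀ (X' : Over S) (x : X' ⟶ V') (y : X' ⟶ G),
        (x ≫ k) * (y ≫ (f e).hom.hom.hom) * (x ≫ k)⁻¹ = y ≫ (f e').hom.hom.hom := by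
      intro X' x y
      have h2 := key X' x y
      simp only [k, comp_mul, GrpObj.comp_inv]
      calc _ = (x ≫ g')⁻¹ * ((x ≫ v' ≫ g) * (y ≫ (f e).hom.hom.hom) * (x ≫ v' ≫ g)⁻¹) * (x ≫ g') := by group
        _ = _ := by rw [h2]; group
    obtain rfl : e = e' := h0 e e' V' ⟨s'⟩ k key2
    obtain ⟨τ, hτ⟩ := (hz V' k).2 fun X' x h => by
      have h2 := key2 X' x (h ≫ (f e).inv.hom.hom)
      rw [Category.assoc, hff', Category.comp_id] at h2
      exact mul_inv_eq_iff_eq_mul.mp h2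
    have h3 : g' ≫ q = (v' ≫ g) ≫ q := (hq.agree V' _ _).2 ⟨τ, by rw [← hτ]; simp [k]⟩
    refine ⟨V', v' ≫ v, ?_, ?_, ⟨s', ?_⟩, ?_⟩
    · rw [Over.comp_left]; infer_instance
    · rw [Over.comp_left]; infer_instance
    · rw [Over.comp_left, Scheme.Hom.comp_apply, hs', hs]
    · rw [Category.assoc, Category.assoc, hg, hg', reassoc_of% h3]
  refine ⟨υ, ⟨⟨?_, ψ, ?_, ?_⟩, ?_⟩⟩
  · intro X g₁ g₂ t
    refine P t _ _ fun V v e g h => ?_
    rw [comp_mul]
    simp only [comp_lift_assoc, h, comp_mul]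
    simp only [hυ']
    rw [mul_comp]
    group
  · intro X x t
    refine P t _ _ fun V v e g h => ?_
    simp only [comp_lift_assoc, h]
    simp only [hυ', hψ']
    have : g⁻¹ * (g * (v ≫ x) ≫ (f e).hom.hom.hom * g⁻¹) * g = (v ≫ x) ≫ (f e).hom.hom.hom := by group
    rw [this, Category.assoc, hff, Category.comp_id]
  · intro X x t
    refine P t _ _ fun V v e g h => ?_
    simp only [comp_lift_assoc, h]
    simp only [hυ', hψ']
    rw [Category.assoc, hff', Category.comp_id]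
    group
  · intro T φ hφ
    choose V v hv1 hv2 hv3 e g hg using h1 T φ hφ
    have ha : ∀ t, (G ◁ (g t ≫ q ≫ inj (e t))) ≫ υ = (G ◁ v t) ≫ φ := by
      intro t
      have h2 := hg t (G ⊗ V t) (snd _ _) (fst _ _)
      have e1 : G ◁ (g t ≫ q ≫ inj (e t)) = lift (fst _ _) ((snd _ _ ≫ g t) ≫ q ≫ inj (e t)) := by
        apply CartesianMonoidalCategory.hom_ext <;> simp
      have e2 : G ◁ v t = lift (fst _ _) (snd _ _ ≫ v t) := by
        apply CartesianMonoidalCategory.hom_ext <;> simp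
      rw [e1, hυ', e2, h2]
    obtain ⟨b, hb, -⟩ := glue V v hv1 hv2 (fun t => ⟨t, hv3 t⟩) (fun t => g t ≫ q ≫ inj (e t))
      (fun i j W w w' hw => U _ _ (by
        rw [MonoidalCategory.whiskerLeft_comp, Category.assoc, ha, MonoidalCategory.whiskerLeft_comp,
          Category.assoc, ha, ← MonoidalCategory.whiskerLeft_comp_assoc,
          ← MonoidalCategory.whiskerLeft_comp_assoc, hw]))
    have hbφ : (G ◁ b) ≫ υ = φ := by
      apply ext_fppf
      intro x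
      have i1 := hv1 ((snd G T).left x)
      have i2 := hv2 ((snd G T).left x)
      refine ⟨G ⊗ V ((snd G T).left x), G ◁ v _, inferInstance, inferInstance, ?_, ?_⟩
      · rw [range_whisker]
        exact hv3 _
      · rw [← MonoidalCategory.whiskerLeft_comp_assoc, hb, ha]
    exact ⟨b, hbφ, fun b' hb' => U _ _ (by rw [hb', hbφ])⟩

/-- every quasi-compact open of a disjoint union of affines is contained in an affine clopen. -/
theorem exists_affine_clopen (E : Type u) [IsAffine Q.left] (U : (cop E Q).left.Opens)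
    (hU : IsCompact (U : Set (cop E Q).left)) :
    ∃ V : (cop E Q).left.Opens, U ≤ V ∧ IsAffineOpen V ∧ IsClosed (V : Set (cop E Q).left) := by
  classical
  obtain ⟨s, hs⟩ := hU.elim_finite_subcover (fun e : E => Set.range (inj (E := E) (Q := Q) e).left)
    (fun e => (inj (E := E) (Q := Q) e).left.isOpenEmbedding.isOpen_range) (by
      intro x _
      obtain ⟨e, y, rfl⟩ := exists_inj x
      exact Set.mem_iUnion.2 ⟨e, y, rfl⟩)
  refine ⟨⨆ e ∈ s, (inj (E := E) (Q := Q) e).left.opensRange, ?_, ?_, ?_⟩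
  · intro x hx
    have := hs hx
    simpa using this
  · refine IsAffineOpen.biSup_of_disjoint s.finite_toSet (fun e _ => isAffineOpen_opensRange _) ?_
    intro e _ e' _ hne
    rw [Function.onFun, ← TopologicalSpace.Opens.coe_disjoint, Set.disjoint_iff_forall_ne]
    rintro _ ⟨y, rfl⟩ _ ⟨y', rfl⟩ h
    exact hne (inj_eq h)
  · have : ((⨆ e ∈ s, (inj (E := E) (Q := Q) e).left.opensRange : (cop E Q).left.Opens) : Set (cop E Q).left) =
        ⋃ e ∈ s, Set.range (inj (E := E) (Q := Q) e).left := by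
      simp
    rw [this]
    exact Set.Finite.isClosed_biUnion s.finite_toSet fun e _ => (isClopen_range_inj E Q e).1

/-- **Representability of `Isom(G, G')` over an affine base** from a set `E` of isomorphisms, the centre being
diagonalizable. -/
theorem exists_representsIsom_spec (R : Type u) [CommRing R] {G G' Z : Over (Spec (CommRingCat.of R))}
    [GrpObj G] [GrpObj G'] [GrpObj Z] (hG : IsAffineHom G'.hom) (hsm : Smooth G'.hom) (z : Z ⟶ G') [IsMonHom z]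
    (hcl : IsClosedImmersion z.left) (N : Type) [AddCommGroup N]
    (hN : Nonempty (Grp.mk Z ≅ Grp.mk (Red.DS _ N))) (hz : IsCent z)
    (E : Type u) (f : E → (Grp.mk G ≅ Grp.mk G'))
    (h0 : ∀ (e e' : E) (X : Over (Spec (CommRingCat.of R))) (_ : Nonempty X.left) (g : X ⟶ G'),
      (∀ (X' : Over (Spec (CommRingCat.of R))) (x : X' ⟶ X) (y : X' ⟶ G),
        (x ≫ g) * (y ≫ (f e).hom.hom.hom) * (x ≫ g)⁻¹ = y ≫ (f e').hom.hom.hom) → e = e')
    (h1 : ∀ (X : Over (Spec (CommRingCat.of R))) (φ : G ⊗ X ⟶ G'), AutFam.IsIsoFamily G G' φ → ∀ x : X.left,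
      ∃ (V : Over (Spec (CommRingCat.of R))) (v : V ⟶ X) (_ : Flat v.left) (_ : LocallyOfFinitePresentation v.left)
        (_ : x ∈ Set.range v.left) (e : E) (g : V ⟶ G'),
          ∀ (X' : Over (Spec (CommRingCat.of R))) (x' : X' ⟶ V) (y : X' ⟶ G),
            lift y (x' ≫ v) ≫ φ = (x' ≫ g) * (y ≫ (f e).hom.hom.hom) * (x' ≫ g)⁻¹) :
    ∃ (A : Over (Spec (CommRingCat.of R))) (υ : G ⊗ A ⟶ G'), AutFam.RepresentsIsom G G' A υ ∧
      Smooth A.hom ∧ IsSeparated A.hom ∧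
      (∀ U : A.left.Opens, IsCompact (U : Set A.left) → ∃ V : A.left.Opens, U ≤ V ∧ IsAffineOpen V ∧
        IsClosed (V : Set A.left)) ∧
      (Finite E → IsAffineHom A.hom) := by
  obtain ⟨Q, q, hq, hQ, hQs⟩ := exists_quot R G' Z hG hsm z hcl N hN
  obtain ⟨υ, hυ⟩ := exists_representsIsom hq hz E f h0 h1
  have : IsAffine Q.left := isAffine_of_isAffineHom Q.hom
  exact ⟨cop E Q, υ, hυ, smooth_cop E Q hQs, isSeparated_cop E Q inferInstance,
    fun U hU => exists_affine_clopen E U hU, fun _ => isAffineHom_cop E Q hQ⟩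

end Groth.Agent.Sga3B.AdIsom
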