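import Groth.Agent.Sga3B.AdMono
import Groth.Agent.Sga3B.AdIsom

/-!
# The centre of a split reductive group and representability of `Isom` for split groups
-/

set_option autoImplicit false
universe u
open CategoryTheory MonoidalCategory CartesianMonoidalCategory MonObj GrpObj AlgebraicGeometry Limits

namespace Groth.Agent.Sga3B.AdCentre

open FreeBC DSPts AdGrad AdPts AdMono AdQuot AdIsom

section mono

variable {R : Type u} [CommRing R]

/-- an affine group over `Spec R` is of the form `Spec A`. -/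
theorem exists_specIso (G : Over (Spec (CommRingCat.of R))) (hG : IsAffineHom G.hom) :
    ∃ (A : Type u) (_ : CommRing A) (_ : Algebra R A), Nonempty (G ≅ DE R A) := by
  have : IsAffine G.left := isAffine_of_isAffineHom G.hom
  let A : Type u := Γ(G.left, ⊤)
  let _ : Algebra R A := ((Scheme.ΓSpecIso (CommRingCat.of R)).inv ≫ G.hom.appTop).hom.toAlgebra
  let e : G ≅ DE R A := Over.isoMk G.left.isoSpec (by
    apply ext_of_isAffine
    have h0 : (DE R A).hom = Spec.map (CommRingCat.ofHom (algebraMap R A)) := rfl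
    rw [← cancel_epi (Scheme.ΓSpecIso (CommRingCat.of R)).inv, h0, Scheme.Hom.comp_appTop,
      ← Scheme.ΓSpecIso_inv_naturality_assoc, Scheme.isoSpec_hom, Scheme.toSpecΓ_appTop]
    refine (congrArg (fun k => CommRingCat.ofHom (algebraMap R A) ≫ k)
      ((Scheme.ΓSpecIso (CommRingCat.of A)).inv_hom_id)).trans ?_
    exact Category.comp_id _)
  exact ⟨A, inferInstance, inferInstance, ⟨e⟩⟩

/-- A monomorphic homomorphism from a diagonalizable group to an affine group over `Spec R` is a closed immersion. -/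
theorem isClosedImmersion_of_mono {G Z : Over (Spec (CommRingCat.of R))} [GrpObj G] [GrpObj Z]
    (hG : IsAffineHom G.hom) (z : Z ⟶ G) [IsMonHom z] [Mono z] {N : Type} [AddCommGroup N]
    (hN : Nonempty (Grp.mk Z ≅ Grp.mk (Red.DS _ N))) : IsClosedImmersion z.left := by
  obtain ⟨A, _, _, ⟨e⟩⟩ := exists_specIso G hG
  let _ : GrpObj (DE R A) := GrpObj.ofIso e
  have : IsMonHom e.hom := by
    constructor
    · rfl
    · simp +instances
  obtain ⟨eN⟩ := hN
  have i1 : IsIso eN.inv.hom.hom := ((Grp.forget _).mapIso eN.symm).isIso_hom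
  let z' : Red.DS _ N ⟶ DE R A := eN.inv.hom.hom ≫ z ≫ e.hom
  have : IsMonHom z' := inferInstance
  have : Mono z' := inferInstance
  have h1 : IsClosedImmersion z'.left := AdMono.isClosedImmersion_of_mono z'
  have h2 : z.left = (eN.hom.hom.hom).left ≫ z'.left ≫ e.inv.left := by
    simp only [z', Over.comp_left, Category.assoc]
    have e1 : (eN.hom.hom.hom).left ≫ (eN.inv.hom.hom).left = 𝟙 _ := by
      rw [← Over.comp_left]
      have : eN.hom.hom.hom ≫ eN.inv.hom.hom = 𝟙 _ := congrArg (fun f => f.hom.hom) eN.hom_inv_id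
      rw [this]
      rfl
    have e2 : e.hom.left ≫ e.inv.left = 𝟙 _ := by
      rw [← Over.comp_left, e.hom_inv_id]
      rfl
    rw [e2, Category.comp_id, reassoc_of% e1]
  have i2 : IsIso (eN.hom.hom.hom).left :=
    ((Over.forget _).mapIso ((Grp.forget _).mapIso eN)).isIso_hom
  have i3 : IsIso e.inv.left := ((Over.forget _).mapIso e.symm).isIso_hom
  rw [h2]
  infer_instance

end mono

section centre

variable {S : Scheme.{u}}

instance isMonHom_DSmap {M N : Type} [AddCommGroup M] [AddCommGroup N] (φ : M →+ N) :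
    IsMonHom (Red.DSmap S φ) := by
  refine Pts.isMonHom_of_points (G := Red.DS S N) (H := Red.DS S M) (Red.DSmap S φ) fun X x y => ?_
  apply (dsEquiv X M).symm.injective
  change dsChar _ = dsChar _
  rw [dsChar_mul, dsChar_DSmap, dsChar_DSmap, dsChar_DSmap, dsChar_mul]
  rfl

lemma mono_DSmap {M N : Type} [AddCommGroup M] [AddCommGroup N] (φ : M →+ N) (hφ : Function.Surjective φ) :
    Mono (Red.DSmap S φ) := by
  constructor
  intro X x y h
  apply (dsEquiv X N).symm.injective
  change dsChar _ = dsChar _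
  have h2 := congrArg dsChar h
  rw [dsChar_DSmap, dsChar_DSmap] at h2
  refine MonoidHom.ext fun n => ?_
  obtain ⟨m, hm⟩ := hφ n.toAdd
  have h3 := DFunLike.congr_fun h2 (Multiplicative.ofAdd m)
  have h4 : AddMonoidHom.toMultiplicative φ (Multiplicative.ofAdd m) = n := congrArg Multiplicative.ofAdd hm
  rw [MonoidHom.comp_apply, MonoidHom.comp_apply, h4] at h3
  exact h3

variable {G : Over S} [GrpObj G] (D : Red.SplitRed G)

/-- the root lattice. -/
def Qr : AddSubgroup D.M := AddSubgroup.closure (Set.range D.P.root)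

/-- the centre of a split reductive group. -/
noncomputable def zc : Red.DS S (D.M ⧸ Qr D) ⟶ G :=
  Red.DSmap S (QuotientAddGroup.mk' (Qr D)) ≫ D.split.inv.hom.hom ≫ D.i

instance : IsMonHom (zc D) := by
  have : IsMonHom D.i := D.maximalTorus.1
  rw [zc]
  infer_instance

instance : Mono (zc D) := by
  have h1 : Mono D.i := D.maximalTorus.2.1
  have h2 : IsIso D.split.inv.hom.hom := ((Grp.forget _).mapIso D.split.symm).isIso_hom
  have h3 := mono_DSmap (S := S) (QuotientAddGroup.mk' (Qr D)) (QuotientAddGroup.mk'_surjective _)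
  rw [zc]
  infer_instance

lemma dsChar_chi {X : Over S} {M : Type} [AddCommGroup M] (τ : X ⟶ Red.DS S M) (m : M) :
    τ ≫ Red.chi S m = 1 ↔ dsChar τ (Multiplicative.ofAdd m) = 1 := by
  have h0 : dsChar (1 : X ⟶ Red.DS S ℤ) = 1 := by simp [dsChar]
  constructor
  · intro h
    have h2 := congrArg dsChar h
    rw [Red.chi, dsChar_DSmap, h0] at h2
    have h3 := DFunLike.congr_fun h2 (Multiplicative.ofAdd 1)
    rw [MonoidHom.comp_apply] at h3
    have h4 : AddMonoidHom.toMultiplicative (zmultiplesHom M m) (Multiplicative.ofAdd (1 : ℤ)) = Multiplicative.ofAdd m := by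
      simp
    rw [h4] at h3
    exact h3
  · intro h
    apply (dsEquiv X ℤ).symm.injective
    change dsChar _ = dsChar _
    rw [Red.chi, dsChar_DSmap, h0]
    refine MonoidHom.ext fun n => ?_
    rw [MonoidHom.comp_apply]
    have h4 : AddMonoidHom.toMultiplicative (zmultiplesHom M m) n = (Multiplicative.ofAdd m) ^ (n.toAdd) := by
      simp
    have h5 : (dsChar τ).toHomUnits (Multiplicative.ofAdd m) = 1 := Units.ext h
    have h6 : (dsChar τ).toHomUnits ((Multiplicative.ofAdd m) ^ (n.toAdd)) = 1 := by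
      rw [map_zpow, h5, one_zpow]
    rw [h4]
    exact congrArg Units.val h6

/-- The centre, from the point-wise description of S2962. -/
theorem isCent_zc
    (hcent : ∀ (X : Over S) (g : X ⟶ G), (∀ (X' : Over S) (x : X' ⟶ X) (h : X' ⟶ G), (x ≫ g) * h = h * (x ≫ g)) ↔
      ∃ t : X ⟶ D.T, t ≫ D.i = g ∧ ∀ a : D.idx, t ≫ D.split.hom.hom.hom ≫ Red.chi S (D.P.root a) = 1) :
    IsCent (zc D) := by
  intro X g
  rw [hcent]
  have hs1 : D.split.hom.hom.hom ≫ D.split.inv.hom.hom = 𝟙 _ := congrArg (fun f => f.hom.hom) D.split.hom_inv_id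
  have hs2 : D.split.inv.hom.hom ≫ D.split.hom.hom.hom = 𝟙 _ := congrArg (fun f => f.hom.hom) D.split.inv_hom_id
  constructor
  · rintro ⟨t, rfl⟩
    refine ⟨t ≫ Red.DSmap S (QuotientAddGroup.mk' (Qr D)) ≫ D.split.inv.hom.hom, ?_, fun a => ?_⟩
    · simp [zc]
    · have h1 : (t ≫ Red.DSmap S (QuotientAddGroup.mk' (Qr D)) ≫ D.split.inv.hom.hom) ≫
          D.split.hom.hom.hom ≫ Red.chi S (D.P.root a) =
          (t ≫ Red.DSmap S (QuotientAddGroup.mk' (Qr D))) ≫ Red.chi S (D.P.root a) := by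
        simp only [Category.assoc]
        rw [reassoc_of% hs2]
      rw [h1, dsChar_chi, dsChar_DSmap, MonoidHom.comp_apply]
      have h2 : AddMonoidHom.toMultiplicative (QuotientAddGroup.mk' (Qr D)) (Multiplicative.ofAdd (D.P.root a)) = 1 :=
        (QuotientAddGroup.eq_zero_iff _).2 (AddSubgroup.subset_closure ⟨a, rfl⟩)
      rw [h2, map_one]
  · rintro ⟨t, rfl, ht⟩
    let χ : D.M →+ Additive Γ(X.left, ⊤) := MonoidHom.toAdditiveRight (dsChar (t ≫ D.split.hom.hom.hom))
    have hχ : Qr D ≤ χ.ker := by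
      rw [Qr, AddSubgroup.closure_le]
      rintro _ ⟨a, rfl⟩
      have h1 := ht a
      rw [← Category.assoc, dsChar_chi] at h1
      exact h1
    let χ' : Multiplicative (D.M ⧸ Qr D) →* Γ(X.left, ⊤) := MonoidHom.toAdditiveRight.symm (QuotientAddGroup.lift _ χ hχ)
    refine ⟨dsEquiv X _ χ', ?_⟩
    rw [zc, ← Category.assoc, dsEquiv_DSmap]
    have h2 : χ'.comp (AddMonoidHom.toMultiplicative (QuotientAddGroup.mk' (Qr D))) = dsChar (t ≫ D.split.hom.hom.hom) := by
      refine MonoidHom.ext fun m => ?_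
      rfl
    rw [h2, dsEquiv_dsChar]
    simp only [Category.assoc]
    rw [reassoc_of% hs1]

end centre

section main

variable {R : Type u} [CommRing R] {G G' : Over (Spec (CommRingCat.of R))} [GrpObj G] [GrpObj G']

lemma isClosedImmersion_zc (D : Red.SplitRed G) : IsClosedImmersion (zc D).left :=
  isClosedImmersion_of_mono D.reductive.1 (zc D) ⟨Iso.refl _⟩

lemma isClosedImmersion_torus (D : Red.SplitRed G) : IsClosedImmersion D.i.left := by
  have := D.maximalTorus.1
  have := D.maximalTorus.2.1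
  exact isClosedImmersion_of_mono D.reductive.1 D.i ⟨D.split⟩

/-- **Representability of `Isom(G, G')`, `G'` split reductive over `Spec R`**, from a set `E` of isomorphisms. -/
theorem exists_representsIsom (D' : Red.SplitRed G')
    (hcent : ∀ (X : Over (Spec (CommRingCat.of R))) (g : X ⟶ G'),
      (∀ (X' : Over (Spec (CommRingCat.of R))) (x : X' ⟶ X) (h : X' ⟶ G'), (x ≫ g) * h = h * (x ≫ g)) ↔
      ∃ t : X ⟶ D'.T, t ≫ D'.i = g ∧
        ∀ a : D'.idx, t ≫ D'.split.hom.hom.hom ≫ Red.chi (Spec (CommRingCat.of R)) (D'.P.root a) = 1)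
    (E : Type u) (f : E → (Grp.mk G ≅ Grp.mk G'))
    (h0 : ∀ (e e' : E) (X : Over (Spec (CommRingCat.of R))) (_ : Nonempty X.left) (g : X ⟶ G'),
      (∀ (X' : Over (Spec (CommRingCat.of R))) (x : X' ⟶ X) (y : X' ⟶ G),
        (x ≫ g) * (y ≫ (f e).hom.hom.hom) * (x ≫ g)⁻¹ = y ≫ (f e').hom.hom.hom) → e = e')
    (h1 : ∀ (X : Over (Spec (CommRingCat.of R))) (φ : G ⊗ X ⟶ G'), AutFam.IsIsoFamily G G' φ → ∀ x : X.left,
      ∃ (V : Over (Spec (CommRingCat.of R))) (v : V ⟶ X) (_ : Flat v.left) (_ : LocallyOfFinitePresentation v.left)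
        (_ : x ∈ Set.range v.left) (e : E) (g : V ⟶ G'),
          ∀ (X' : Over (Spec (CommRingCat.of R))) (x' : X' ⟶ V) (y : X' ⟶ G),
            lift y (x' ≫ v) ≫ φ = (x' ≫ g) * (y ≫ (f e).hom.hom.hom) * (x' ≫ g)⁻¹) :
    ∃ (A : Over (Spec (CommRingCat.of R))) (υ : G ⊗ A ⟶ G'), AutFam.RepresentsIsom G G' A υ ∧
      Smooth A.hom ∧ IsSeparated A.hom ∧
      (∀ U : A.left.Opens, IsCompact (U : Set A.left) → ∃ V : A.left.Opens, U ≤ V ∧ IsAffineOpen V ∧
        IsClosed (V : Set A.left)) ∧
      (Finite E → IsAffineHom A.hom) :=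
  exists_representsIsom_spec R D'.reductive.1 D'.reductive.2.1 (zc D') (isClosedImmersion_zc D') _
    ⟨Iso.refl _⟩ (isCent_zc D' hcent) E f h0 h1

end main

end Groth.Agent.Sga3B.AdCentre
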