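import Groth.Agent.Sga3B.AdFppf

/-!
# Disjoint unions of copies of an object over `S`
-/

set_option autoImplicit false
open CategoryTheory MonoidalCategory CartesianMonoidalCategory MonObj GrpObj AlgebraicGeometry Limits
universe u

namespace Groth.Agent.Sga3B.AdCop
open AdFppf

variable {S : Scheme.{u}}

/-- the disjoint union of copies of `Q` -/
noncomputable def cop (E : Type u) (Q : Over S) : Over S := Over.mk (Sigma.desc fun _ : E => Q.hom)

/-- the inclusion of a copy -/
noncomputable def inj {E : Type u} {Q : Over S} (e : E) : Q ⟶ cop E Q :=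
  Over.homMk (Sigma.ι (fun _ : E => Q.left) e) (by simp [cop])

variable {E : Type u} {Q : Over S}

instance isOpenImmersion_inj (e : E) : IsOpenImmersion (inj (Q := Q) e).left :=
  ((sigmaOpenCover fun _ : E => Q.left).map_prop e)

instance (e : E) : Mono (inj (Q := Q) e) := Over.mono_of_mono_left _

lemma exists_inj (x : (cop E Q).left) : ∃ (e : E) (y : Q.left), (inj e).left y = x :=
  ⟨_, (sigmaOpenCover fun _ : E => Q.left).covers x⟩

lemma inj_eq {e e' : E} {y y' : Q.left} (h : (inj e).left y = (inj e').left y') : e = e' := by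
  by_contra hne
  have := disjoint_opensRange_sigmaι (fun _ : E => Q.left) e e' hne
  rw [← TopologicalSpace.Opens.coe_disjoint, Set.disjoint_iff_forall_ne] at this
  exact this ⟨y, rfl⟩ ⟨y', rfl⟩ h

lemma isPullback_whisker (P : Over S) {X Y : Over S} (f : X ⟶ Y) :
    IsPullback (P ◁ f).left (snd P X).left (snd P Y).left f.left := by
  have h : IsPullback (P ◁ f) (snd P X) (snd P Y) f := by
    refine ⟨⟨by simp⟩, ⟨PullbackCone.IsLimit.mk _ (fun s => lift (s.fst ≫ fst _ _) s.snd) ?_ ?_ ?_⟩⟩
    · intro s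
      apply CartesianMonoidalCategory.hom_ext
      · simp
      · simp [s.condition]
    · intro s
      simp
    · intro s m h1 h2
      apply CartesianMonoidalCategory.hom_ext
      · simp [← h1]
      · simp [← h2]
  exact h.map (Over.forget _)

lemma range_whisker (P : Over S) {X Y : Over S} (f : X ⟶ Y) :
    Set.range (P ◁ f).left = (snd P Y).left ⁻¹' Set.range f.left := by
  have h := isPullback_whisker P f
  rw [← Scheme.Pullback.range_fst]
  ext x
  constructor
  · rintro ⟨y, rfl⟩
    refine ⟨h.isoPullback.hom y, ?_⟩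
    rw [← Scheme.Hom.comp_apply, h.isoPullback_hom_fst]
  · rintro ⟨y, rfl⟩
    refine ⟨h.isoPullback.inv y, ?_⟩
    rw [← Scheme.Hom.comp_apply, h.isoPullback_inv_fst]

instance (P : Over S) {X Y : Over S} (f : X ⟶ Y) [Flat f.left] : Flat (P ◁ f).left :=
  MorphismProperty.of_isPullback (P := @Flat) (isPullback_whisker P f).flip ‹_›

instance (P : Over S) {X Y : Over S} (f : X ⟶ Y) [LocallyOfFinitePresentation f.left] :
    LocallyOfFinitePresentation (P ◁ f).left :=
  MorphismProperty.of_isPullback (P := @LocallyOfFinitePresentation) (isPullback_whisker P f).flip ‹_›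

section desc

variable {P G' Y : Over S} (q : G' ⟶ Q) [Flat q.left] [LocallyOfFinitePresentation q.left] [Surjective q.left]

instance (e : E) : Flat (q ≫ inj (E := E) (Q := Q) e).left := by
  rw [Over.comp_left]
  infer_instance

instance (e : E) : LocallyOfFinitePresentation (q ≫ inj (E := E) (Q := Q) e).left := by
  rw [Over.comp_left]
  infer_instance

omit [Flat q.left] [LocallyOfFinitePresentation q.left] in
lemma exists_comp_inj (x : (cop E Q).left) : ∃ (e : E) (y : G'.left), (q ≫ inj e).left y = x := by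
  obtain ⟨e, y, rfl⟩ := exists_inj x
  obtain ⟨z, rfl⟩ := q.left.surjective y
  exact ⟨e, z, rfl⟩

/-- Morphisms out of `P ⊗ ∐ Q` from morphisms out of the `P ⊗ G'`. -/
theorem exists_desc (c : E → (P ⊗ G' ⟶ Y))
    (hc : ∀ e (X : Over S) (p : X ⟶ P) (g g' : X ⟶ G'), g ≫ q = g' ≫ q → lift p g ≫ c e = lift p g' ≫ c e) :
    ∃ υ : P ⊗ cop E Q ⟶ Y, ∀ e, P ◁ (q ≫ inj e) ≫ υ = c e := by
  obtain ⟨b, hb, -⟩ := glue (I := E) (fun _ => P ⊗ G') (fun e => P ◁ (q ≫ inj e)) (fun _ => inferInstance)
    (fun _ => inferInstance) (fun x => by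
      obtain ⟨e, y, hy⟩ := exists_comp_inj q ((snd P (cop E Q)).left x)
      refine ⟨e, ?_⟩
      rw [range_whisker]
      exact ⟨y, hy⟩) c (fun e e' W w w' h => by
      rcases isEmpty_or_nonempty W.left with hW | ⟨⟨x⟩⟩
      · exact ext_fppf _ _ fun x => (hW.false x).elim
      · have h1 : w ≫ snd _ _ ≫ q ≫ inj e = w' ≫ snd _ _ ≫ q ≫ inj e' := by
          have := congrArg (fun k => k ≫ snd _ _) h
          simpa using this
        have h2 : w ≫ fst _ _ = w' ≫ fst _ _ := by
          have := congrArg (fun k => k ≫ fst _ _) h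
          simpa using this
        obtain rfl : e = e' := by
          have := congrArg (fun k => k.left x) h1
          exact inj_eq this
        have h3 : (w ≫ snd _ _) ≫ q = (w' ≫ snd _ _) ≫ q := by
          rw [← cancel_mono (inj e)]
          simpa using h1
        have h4 := hc e W (w ≫ fst _ _) _ _ h3
        have e1 : w = lift (w ≫ fst _ _) (w ≫ snd _ _) := by
          apply CartesianMonoidalCategory.hom_ext <;> simp
        have e2 : w' = lift (w ≫ fst _ _) (w' ≫ snd _ _) := by
          apply CartesianMonoidalCategory.hom_ext <;> simp [h2]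
        rw [e1, e2]
        exact h4)
  exact ⟨b, hb⟩

/-- local lifting of points of `∐ Q` to `G'`. -/
theorem exists_lift {T : Over S} (a : T ⟶ cop E Q) (t : T.left) :
    ∃ (V : Over S) (v : V ⟶ T), Flat v.left ∧ LocallyOfFinitePresentation v.left ∧ t ∈ Set.range v.left ∧
      ∃ (e : E) (g : V ⟶ G'), v ≫ a = g ≫ q ≫ inj e := by
  obtain ⟨e, y, hy⟩ := exists_comp_inj q (a.left t)
  let V : Over S := Over.mk (pullback.fst a.left (q ≫ inj e).left ≫ T.hom)
  let v : V ⟶ T := Over.homMk (pullback.fst a.left (q ≫ inj e).left) rfl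
  let g : V ⟶ G' := Over.homMk (pullback.snd a.left (q ≫ inj e).left) (by
    change pullback.snd a.left (q ≫ inj e).left ≫ G'.hom = pullback.fst a.left (q ≫ inj e).left ≫ T.hom
    rw [← Over.w a, ← Over.w (q ≫ inj e), pullback.condition_assoc])
  refine ⟨V, v, ?_, ?_, ?_, e, g, ?_⟩
  · change Flat (pullback.fst a.left (q ≫ inj e).left)
    infer_instance
  · change LocallyOfFinitePresentation (pullback.fst a.left (q ≫ inj e).left)
    infer_instance
  · change t ∈ Set.range (pullback.fst a.left (q ≫ inj e).left)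
    rw [Scheme.Pullback.range_fst]
    exact ⟨y, hy⟩
  · ext1
    exact pullback.condition

end desc

section props

variable (E Q)

lemma smooth_cop (h : Smooth Q.hom) : Smooth (cop E Q).hom :=
  IsZariskiLocalAtSource.sigmaDesc (P := @Smooth) fun _ => h

lemma isClopen_range_inj (e : E) : IsClopen (Set.range (inj (E := E) (Q := Q) e).left) := by
  refine ⟨?_, (inj (E := E) (Q := Q) e).left.isOpenEmbedding.isOpen_range⟩
  rw [← isOpen_compl_iff]
  have : (Set.range (inj (E := E) (Q := Q) e).left)ᶜ =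
      ⋃ e' : {e' : E // e' ≠ e}, Set.range (inj (E := E) (Q := Q) e'.1).left := by
    ext x
    simp only [Set.mem_compl_iff, Set.mem_iUnion]
    constructor
    · intro hx
      obtain ⟨e', y, rfl⟩ := exists_inj x
      refine ⟨⟨e', ?_⟩, y, rfl⟩
      rintro rfl
      exact hx ⟨y, rfl⟩
    · rintro ⟨⟨e', he'⟩, y, rfl⟩ ⟨z, hz⟩
      exact he' (inj_eq hz).symm
  rw [this]
  exact isOpen_iUnion fun e' => (inj (E := E) (Q := Q) e'.1).left.isOpenEmbedding.isOpen_range

lemma preimage_eq (U : S.Opens) : (cop E Q).hom ⁻¹ᵁ U =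
    ⨆ e : E, (inj (E := E) (Q := Q) e).left ''ᵁ (Q.hom ⁻¹ᵁ U) := by
  ext x
  simp only [TopologicalSpace.Opens.coe_iSup, Set.mem_iUnion, SetLike.mem_coe]
  constructor
  · intro hx
    obtain ⟨e, y, rfl⟩ := exists_inj x
    refine ⟨e, y, ?_, rfl⟩
    have h := Over.w (inj (E := E) (Q := Q) e)
    change (cop E Q).hom ((inj e).left y) ∈ U at hx
    rw [← Scheme.Hom.comp_apply, h] at hx
    exact hx
  · rintro ⟨e, y, hy, rfl⟩
    have h := Over.w (inj (E := E) (Q := Q) e)
    change (cop E Q).hom ((inj e).left y) ∈ U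
    rw [← Scheme.Hom.comp_apply, h]
    exact hy

lemma isAffineHom_cop [Finite E] (h : IsAffineHom Q.hom) : IsAffineHom (cop E Q).hom := by
  constructor
  intro U hU
  rw [preimage_eq]
  refine IsAffineOpen.iSup_of_disjoint (fun e => (hU.preimage Q.hom).image_of_isOpenImmersion _) ?_
  intro e e' hne
  rw [Function.onFun, ← TopologicalSpace.Opens.coe_disjoint, Set.disjoint_iff_forall_ne]
  rintro _ ⟨y, -, rfl⟩ _ ⟨y', -, rfl⟩ h
  exact hne (inj_eq h)

lemma isSeparated_cop (h : IsSeparated Q.hom) : IsSeparated (cop E Q).hom := by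
  constructor
  apply IsClosedImmersion.of_isPreimmersion
  rw [← isOpen_compl_iff, isOpen_iff_mem_nhds]
  intro x hx
  obtain ⟨e, y, hy⟩ := exists_inj ((pullback.fst (cop E Q).hom (cop E Q).hom) x)
  obtain ⟨e', y', hy'⟩ := exists_inj ((pullback.snd (cop E Q).hom (cop E Q).hom) x)
  let j : pullback Q.hom Q.hom ⟶ pullback (cop E Q).hom (cop E Q).hom :=
    pullback.map _ _ _ _ (inj e).left (inj e').left (𝟙 _) (by simp) (by simp)
  have hj : IsOpenImmersion j := inferInstance
  have hj1 : j ≫ pullback.fst _ _ = pullback.fst _ _ ≫ (inj e).left := pullback.lift_fst _ _ _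
  have hj2 : j ≫ pullback.snd _ _ = pullback.snd _ _ ≫ (inj e').left := pullback.lift_snd _ _ _
  have hj1' : ∀ v, pullback.fst (cop E Q).hom (cop E Q).hom (j v) = (inj e).left (pullback.fst Q.hom Q.hom v) :=
    fun v => by rw [← Scheme.Hom.comp_apply, ← Scheme.Hom.comp_apply, hj1]
  have hj2' : ∀ v, pullback.snd (cop E Q).hom (cop E Q).hom (j v) = (inj e').left (pullback.snd Q.hom Q.hom v) :=
    fun v => by rw [← Scheme.Hom.comp_apply, ← Scheme.Hom.comp_apply, hj2]
  have hd1 : ∀ a, pullback.fst (cop E Q).hom (cop E Q).hom (pullback.diagonal (cop E Q).hom a) = a :=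
    fun a => by rw [← Scheme.Hom.comp_apply, pullback.diagonal_fst]; rfl
  have hd2 : ∀ a, pullback.snd (cop E Q).hom (cop E Q).hom (pullback.diagonal (cop E Q).hom a) = a :=
    fun a => by rw [← Scheme.Hom.comp_apply, pullback.diagonal_snd]; rfl
  have hxj : x ∈ Set.range j := by
    have := Scheme.Pullback.range_map Q.hom Q.hom (cop E Q).hom (cop E Q).hom (inj e).left (inj e').left (𝟙 _)
      (by simp) (by simp)
    rw [this]
    exact ⟨⟨y, hy⟩, ⟨y', hy'⟩⟩
  obtain ⟨w, rfl⟩ := hxj
  rw [← (j.isOpenEmbedding.map_nhds_eq w), Filter.mem_map]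
  by_cases hee : e = e'
  · subst hee
    have hdj : pullback.diagonal Q.hom ≫ j = (inj e).left ≫ pullback.diagonal (cop E Q).hom := by
      apply pullback.hom_ext
      · rw [Category.assoc, hj1, pullback.diagonal_fst_assoc, Category.assoc, pullback.diagonal_fst,
          Category.comp_id]
      · rw [Category.assoc, hj2, pullback.diagonal_snd_assoc, Category.assoc, pullback.diagonal_snd,
          Category.comp_id]
    have hcl : IsOpen (Set.range (pullback.diagonal Q.hom))ᶜ :=
      (pullback.diagonal Q.hom).isClosedEmbedding.isClosed_range.isOpen_compl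
    have hw : w ∈ (Set.range (pullback.diagonal Q.hom))ᶜ := by
      rintro ⟨q, rfl⟩
      apply hx
      refine ⟨(inj e).left q, ?_⟩
      rw [← Scheme.Hom.comp_apply, ← Scheme.Hom.comp_apply, hdj]
    filter_upwards [hcl.mem_nhds hw] with v hv
    rintro ⟨a, ha⟩
    obtain ⟨e₁, b, rfl⟩ := exists_inj a
    have h1 := hj1' v
    rw [← ha, hd1] at h1
    obtain rfl : e₁ = e := inj_eq h1
    apply hv
    refine ⟨b, ?_⟩
    apply j.isOpenEmbedding.injective
    rw [← ha, ← Scheme.Hom.comp_apply, ← Scheme.Hom.comp_apply, hdj]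
  · filter_upwards with v
    rintro ⟨a, ha⟩
    have h1 := hj1' v
    have h2 := hj2' v
    rw [← ha, hd1] at h1
    rw [← ha, hd2] at h2
    exact hee (inj_eq (h1.symm.trans h2))

end props

end Groth.Agent.Sga3B.AdCop
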