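import Groth.Agent.Sga3B.AdQuot
import Mathlib.AlgebraicGeometry.Sites.Fpqc

/-!
# Fppf gluing of morphisms over a base, in elementary form
-/

set_option autoImplicit false
open CategoryTheory MonoidalCategory CartesianMonoidalCategory MonObj GrpObj AlgebraicGeometry Limits
universe u

namespace Groth.Agent.Sga3B.AdFppf

variable {S : Scheme.{u}}

/-- gluing of scheme morphisms along an fppf covering family. -/
theorem glueScheme {X Y : Scheme.{u}} {I : Type u} (V : I → Scheme.{u}) (v : ∀ i, V i ⟶ X) (hfl : ∀ i, Flat (v i))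
    (hlfp : ∀ i, LocallyOfFinitePresentation (v i)) (hsurj : ∀ x : X, ∃ i, x ∈ Set.range (v i))
    (a : ∀ i, V i ⟶ Y)
    (h : ∀ i j (W : Scheme.{u}) (w : W ⟶ V i) (w' : W ⟶ V j), w ≫ v i = w' ≫ v j → w ≫ a i = w' ≫ a j) :
    ∃! b : X ⟶ Y, ∀ i, v i ≫ b = a i := by
  have h1 : Presieve.ofArrows V v ∈ Scheme.fppfPrecoverage X := by
    rw [Scheme.fppfPrecoverage, Scheme.ofArrows_mem_precoverage_iff]
    exact ⟨hsurj, fun i => ⟨hfl i, hlfp i⟩⟩
  have h2 : Presieve.IsSheafFor (yoneda.obj Y) (Presieve.ofArrows V v) := by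
    exact (GrothendieckTopology.Subcanonical.isSheaf_of_isRepresentable (J := Scheme.fppfTopology) (yoneda.obj Y)).isSheafFor _
      (Precoverage.generate_mem_toGrothendieck h1)
  rw [Presieve.isSheafFor_arrows_iff] at h2
  exact h2 a fun i j W w w' hw => h i j W w w' hw

/-- gluing of morphisms over `S` along an fppf covering family. -/
theorem glue {X Y : Over S} {I : Type u} (V : I → Over S) (v : ∀ i, V i ⟶ X) (hfl : ∀ i, Flat (v i).left)
    (hlfp : ∀ i, LocallyOfFinitePresentation (v i).left) (hsurj : ∀ x : X.left, ∃ i, x ∈ Set.range (v i).left)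
    (a : ∀ i, V i ⟶ Y)
    (h : ∀ i j (W : Over S) (w : W ⟶ V i) (w' : W ⟶ V j), w ≫ v i = w' ≫ v j → w ≫ a i = w' ≫ a j) :
    ∃! b : X ⟶ Y, ∀ i, v i ≫ b = a i := by
  obtain ⟨b, hb, hb2⟩ := glueScheme (fun i => (V i).left) (fun i => (v i).left) hfl hlfp hsurj
    (fun i => (a i).left) (fun i j W w w' hw => by
      let W' : Over S := Over.mk (w ≫ (V i).hom)
      let ww : W' ⟶ V i := Over.homMk w rfl
      let ww' : W' ⟶ V j := Over.homMk w' (by
        change w' ≫ (V j).hom = w ≫ (V i).hom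
        rw [← Over.w (v i), ← Over.w (v j), ← Category.assoc, ← Category.assoc, hw])
      have := h i j W' ww ww' (by ext1; exact hw)
      exact congrArg (fun k => k.left) this)
  obtain ⟨c, hc, hc'⟩ := glueScheme (fun i => (V i).left) (fun i => (v i).left) hfl hlfp hsurj
    (fun i => (V i).hom) (fun i j W w w' hw => by
        rw [← Over.w (v i), ← Over.w (v j), ← Category.assoc, ← Category.assoc, hw])
  have h1 : b ≫ Y.hom = X.hom := by
    rw [hc' (b ≫ Y.hom) fun i => ?_, hc' X.hom fun i => Over.w _]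
    rw [← Category.assoc, hb, Over.w]
  refine ⟨Over.homMk b h1, fun i => by ext1; exact hb i, fun b' hb' => ?_⟩
  ext1
  exact hb2 b'.left fun i => congrArg (fun k => k.left) (hb' i)

/-- fppf separatedness -/
theorem ext_fppf {X Y : Over S} (a b : X ⟶ Y)
    (h : ∀ x : X.left, ∃ (V : Over S) (v : V ⟶ X), Flat v.left ∧ LocallyOfFinitePresentation v.left ∧
      x ∈ Set.range v.left ∧ v ≫ a = v ≫ b) : a = b := by
  choose V v hfl hlfp hx hab using h
  obtain ⟨c, -, hc⟩ := glue (Y := Y) V v hfl hlfp (fun x => ⟨x, hx x⟩) (fun i => v i ≫ a)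
    (fun i j W w w' hw => by rw [← Category.assoc, ← Category.assoc, hw])
  rw [hc a fun _ => rfl, hc b fun i => (hab i).symm]

/-- Descent of a morphism along one fppf cover. -/
theorem desc {X V Y : Over S} (v : V ⟶ X) [Flat v.left] [LocallyOfFinitePresentation v.left] [Surjective v.left]
    (a : V ⟶ Y) (h : ∀ (W : Over S) (w w' : W ⟶ V), w ≫ v = w' ≫ v → w ≫ a = w' ≫ a) :
    ∃ b : X ⟶ Y, v ≫ b = a := by
  obtain ⟨b, hb, -⟩ := glue (I := PUnit.{u+1}) (fun _ => V) (fun _ => v) (fun _ => ‹_›) (fun _ => ‹_›)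
    (fun x => ⟨⟨⟩, v.left.surjective x⟩) (fun _ => a) (fun _ _ W w w' => h W w w')
  exact ⟨b, hb ⟨⟩⟩

end Groth.Agent.Sga3B.AdFppf
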