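import Mathlib.Algebra.MonoidAlgebra.Basic
import Mathlib.Algebra.MonoidAlgebra.Ideal
import Mathlib.RingTheory.Flat.FaithfullyFlat.Algebra
import Mathlib.RingTheory.FinitePresentation
import Mathlib.GroupTheory.Finiteness
import Mathlib.Data.Finsupp.PWO
import Mathlib.LinearAlgebra.Finsupp.LinearCombination
import Mathlib.Algebra.Module.Projective

/-!
# Free actions of diagonalizable groups on affine schemes: the quotient is the degree zero part

`Coact R A N`: a coaction `A → A[N]` (a grading of the `R`-algebra `A` by the abelian group `N`).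
`Coact.A0`: the degree zero subalgebra.
`Coact.Free`: `1 ∈ A_{-n} A_n` for all `n` (the action of `D(N)` on `Spec A` is free).
Main results: `A` is faithfully flat (and projective) over `A0`; two points of `Spec A` agree on `A0`
iff they differ by a unique point of `D(N)`; `A0` is of finite type if `A` is.
-/

set_option autoImplicit false
universe u

open MonoidAlgebra

namespace Groth.Agent.Sga3B.AdGrad

/-- A coaction of the group algebra of `N` on the `R`-algebra `A`. -/
structure Coact (R A : Type u) [CommRing R] [CommRing A] [Algebra R A] (N : Type) [AddCommGroup N] where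
  /-- the coaction -/
  ρ : A →ₐ[R] MonoidAlgebra A (Multiplicative N)
  counit : ∀ a, ((ρ a).coeff.sum fun _ b => b) = a
  coassoc : ∀ a m, ρ ((ρ a).coeff m) = single m ((ρ a).coeff m)

namespace Coact

variable {R A : Type u} [CommRing R] [CommRing A] [Algebra R A] {N : Type} [AddCommGroup N]
variable (C : Coact R A N)

/-- component of degree `n` -/
noncomputable def comp (n : N) (a : A) : A := (C.ρ a).coeff (Multiplicative.ofAdd n)

/-- homogeneous of degree `n` -/
def IsHom (n : N) (a : A) : Prop := C.ρ a = single (Multiplicative.ofAdd n) a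

lemma isHom_comp (n : N) (a : A) : C.IsHom n (C.comp n a) := C.coassoc _ _

lemma comp_of_isHom {n : N} {a : A} (h : C.IsHom n a) : C.comp n a = a := by
  rw [comp, h, MonoidAlgebra.coeff_single, Finsupp.single_eq_same]

lemma comp_of_isHom_of_ne {n m : N} {a : A} (h : C.IsHom n a) (hne : n ≠ m) : C.comp m a = 0 := by
  rw [comp, h, MonoidAlgebra.coeff_single, Finsupp.single_eq_of_ne]
  simpa using hne.symm

variable {C} in
lemma IsHom.mul {m n : N} {a b : A} (ha : C.IsHom m a) (hb : C.IsHom n b) :
    C.IsHom (m + n) (a * b) := by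
  rw [IsHom, map_mul, ha, hb, single_mul_single, ofAdd_add]

variable {C} in
lemma IsHom.add {n : N} {a b : A} (ha : C.IsHom n a) (hb : C.IsHom n b) :
    C.IsHom n (a + b) := by
  rw [IsHom, map_add, ha, hb, single_add]

lemma isHom_zero (n : N) : C.IsHom n 0 := by
  rw [IsHom, map_zero, single_zero]

variable {C} in
lemma IsHom.sum {ι : Type*} (s : Finset ι) {n : N} (f : ι → A) (h : ∀ i ∈ s, C.IsHom n (f i)) :
    C.IsHom n (∑ i ∈ s, f i) := by
  classical
  induction s using Finset.induction_on with
  | empty => simpa using isHom_zero C n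
  | insert i s hi ih =>
    rw [Finset.sum_insert hi]
    exact (h i (Finset.mem_insert_self _ _)).add (ih fun j hj => h j (Finset.mem_insert_of_mem hj))

lemma isHom_algebraMap (r : R) : C.IsHom 0 (algebraMap R A r) := by
  rw [IsHom, AlgHom.commutes]
  rfl

/-- the degree zero part -/
def A0 : Subalgebra R A where
  carrier := {a | C.IsHom 0 a}
  mul_mem' {a b} ha hb := by
    have := IsHom.mul (C := C) ha hb
    rwa [add_zero] at this
  add_mem' ha hb := IsHom.add (C := C) ha hb
  algebraMap_mem' r := C.isHom_algebraMap r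

lemma mem_A0 {a : A} : a ∈ C.A0 ↔ C.IsHom 0 a := Iff.rfl

lemma comp_mul_of_mem_A0 (n : N) (a : A) {b : A} (hb : b ∈ C.A0) :
    C.comp n (b * a) = b * C.comp n a := by
  rw [comp, comp, map_mul, C.mem_A0.1 hb]
  have : (single (Multiplicative.ofAdd (0 : N)) b : MonoidAlgebra A (Multiplicative N)) =
    algebraMap A _ b := rfl
  rw [this, ← Algebra.smul_def]
  rfl

/-- The degree `n` component as a linear map over the degree zero part. -/
noncomputable def compL (n : N) : A →ₗ[C.A0] A where
  toFun := C.comp n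
  map_add' a b := by simp [comp]
  map_smul' c a := C.comp_mul_of_mem_A0 n a c.2

@[simp] lemma compL_apply (n : N) (a : A) : C.compL n a = C.comp n a := rfl

/-- the projection onto the degree zero part -/
noncomputable def proj0 : A →ₗ[C.A0] C.A0 where
  toFun a := ⟨C.comp 0 a, C.isHom_comp 0 a⟩
  map_add' a b := Subtype.ext (map_add (C.compL 0) a b)
  map_smul' c a := Subtype.ext (C.comp_mul_of_mem_A0 0 a c.2)

lemma proj0_of_mem (a : C.A0) : C.proj0 (a : A) = a := Subtype.ext (C.comp_of_isHom a.2)

/-- the set of degrees -/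
noncomputable def degs (a : A) : Finset N := by
  classical exact (C.ρ a).coeff.support.image Multiplicative.toAdd

lemma comp_eq_zero_of_notMem {a : A} {n : N} (h : n ∉ C.degs a) : C.comp n a = 0 := by
  classical
  by_contra hne
  exact h (Finset.mem_image.2 ⟨Multiplicative.ofAdd n, Finsupp.mem_support_iff.2 hne, rfl⟩)

lemma sum_comp (a : A) (s : Finset N) (hs : C.degs a ⊆ s) : ∑ n ∈ s, C.comp n a = a := by
  classical
  have h1 : ∑ n ∈ s, C.comp n a = ∑ n ∈ C.degs a, C.comp n a :=
    (Finset.sum_subset hs fun n _ hn => C.comp_eq_zero_of_notMem hn).symm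
  rw [h1, degs, Finset.sum_image (fun x _ y _ h => Multiplicative.toAdd.injective h)]
  exact C.counit a

lemma comp_mul_of_isHom {n : N} (m : N) (a : A) {b : A} (hb : C.IsHom n b) :
    C.comp m (a * b) = C.comp (m - n) a * b := by
  rw [comp, comp, map_mul, hb, MonoidAlgebra.coeff_mul_single_eq_coeff_mul]
  intro x _
  constructor
  · intro hx
    have := congrArg Multiplicative.toAdd hx
    simp only [toAdd_mul, toAdd_ofAdd] at this
    apply Multiplicative.toAdd.injective
    simp only [toAdd_ofAdd]
    exact eq_sub_of_add_eq this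
  · rintro rfl
    rw [← ofAdd_add, sub_add_cancel]

/-- the action of `D(N)` is free: the grading is strong. -/
def Free : Prop := ∀ n : N, ∃ (k : ℕ) (u v : Fin k → A), (∀ i, C.IsHom (-n) (u i)) ∧
  (∀ i, C.IsHom n (v i)) ∧ ∑ i, u i * v i = 1

/-- criterion for freeness: the map `A ⊗ A → A[N]`, `a ⊗ b ↦ a ρ(b)` is surjective. -/
lemma free_of_span (h : ∀ n : N, single (Multiplicative.ofAdd n) (1 : A) ∈
    Submodule.span A (Set.range C.ρ)) : C.Free := by
  classical
  intro n
  obtain ⟨c, hc⟩ := (Finsupp.mem_span_range_iff_exists_finsupp).1 (h n)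
  have h1 : ∑ b ∈ c.support, c b * C.comp n b = 1 := by
    have := congrArg (fun x => MonoidAlgebra.coeff x (Multiplicative.ofAdd n)) hc
    simp only [Finsupp.sum, MonoidAlgebra.coeff_single, Finsupp.single_eq_same] at this
    rw [← this, MonoidAlgebra.coeff_sum, Finsupp.finsetSum_apply]
    rfl
  have h2 : ∑ b ∈ c.support, C.comp (-n) (c b) * C.comp n b = 1 := by
    have h3 := congrArg (C.comp 0) h1
    have h4 : C.comp 0 (1 : A) = 1 := by
      have := C.isHom_algebraMap 1
      rw [map_one] at this
      exact C.comp_of_isHom this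
    rw [h4] at h3
    rw [← h3]
    have h5 : C.comp 0 (∑ b ∈ c.support, c b * C.comp n b) =
        ∑ b ∈ c.support, C.comp 0 (c b * C.comp n b) := map_sum (C.compL 0) _ _
    rw [h5]
    refine Finset.sum_congr rfl fun b _ => ?_
    rw [C.comp_mul_of_isHom 0 (c b) (C.isHom_comp n b), zero_sub]
  refine ⟨c.support.card, fun i => C.comp (-n) (c (c.support.equivFin.symm i)),
    fun i => C.comp n (c.support.equivFin.symm i), fun i => C.isHom_comp _ _,
    fun i => C.isHom_comp _ _, ?_⟩
  rw [← h2, ← Finset.sum_coe_sort c.support fun b => C.comp (-n) (c b) * C.comp n b]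
  exact Fintype.sum_equiv c.support.equivFin.symm _ _ fun i => rfl

variable {C}

theorem Free.projective (h : C.Free) : Module.Projective C.A0 A := by
  classical
  choose k u v hu hv huv using h
  let s : A →ₗ[C.A0] ((Σ n, Fin (k n)) →₀ C.A0) :=
    { toFun := fun a => Finsupp.onFinset ((C.degs a).sigma fun n => Finset.univ)
        (fun p => ⟨C.comp p.1 a * u p.1 p.2, by
          have := (C.isHom_comp p.1 a).mul (hu p.1 p.2)
          rwa [add_neg_cancel] at this⟩)
        (fun p hp => by
          rw [Finset.mem_sigma]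
          refine ⟨?_, Finset.mem_univ _⟩
          by_contra hne
          apply hp
          apply Subtype.ext
          simp [C.comp_eq_zero_of_notMem hne])
      map_add' := fun a b => by
        ext p
        change C.comp p.1 (a + b) * u p.1 p.2 = C.comp p.1 a * u p.1 p.2 + C.comp p.1 b * u p.1 p.2
        rw [← add_mul]
        congr 1
        exact map_add (C.compL p.1) a b
      map_smul' := fun c a => by
        ext p
        change C.comp p.1 (c * a) * u p.1 p.2 = c * (C.comp p.1 a * u p.1 p.2)
        rw [C.comp_mul_of_mem_A0 p.1 a c.2, mul_assoc] }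
  refine Module.Projective.of_split s
    (Finsupp.linearCombination C.A0 fun p : (Σ n, Fin (k n)) => v p.1 p.2) ?_
  ext a
  rw [LinearMap.comp_apply, LinearMap.id_apply, Finsupp.linearCombination_apply]
  have hs : ∀ p, ((s a p : C.A0) : A) = C.comp p.1 a * u p.1 p.2 := fun p => rfl
  have hsup : (s a).support ⊆ (C.degs a).sigma fun n => (Finset.univ : Finset (Fin (k n))) := by
    intro p hp
    rw [Finset.mem_sigma]
    refine ⟨?_, Finset.mem_univ _⟩
    by_contra hne
    apply Finsupp.mem_support_iff.1 hp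
    apply Subtype.ext
    rw [hs, C.comp_eq_zero_of_notMem hne, zero_mul]
    rfl
  have h0 : (s a).sum (fun i a => a • v i.fst i.snd) =
      ∑ p ∈ (C.degs a).sigma fun n => (Finset.univ : Finset (Fin (k n))), (s a p) • v p.1 p.2 :=
    Finsupp.sum_of_support_subset _ hsup _ (fun p _ => zero_smul _ _)
  rw [h0]
  rw [Finset.sum_sigma]
  conv_rhs => rw [← C.sum_comp a _ subset_rfl]
  refine Finset.sum_congr rfl fun n _ => ?_
  change ∑ i, C.comp n a * u n i * v n i = C.comp n a
  calc ∑ i, C.comp n a * u n i * v n i = C.comp n a * ∑ i, u n i * v n i := by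
        rw [Finset.mul_sum]
        exact Finset.sum_congr rfl fun i _ => mul_assoc _ _ _
    _ = C.comp n a := by rw [huv n, mul_one]

theorem Free.faithfullyFlat (h : C.Free) : Module.FaithfullyFlat C.A0 A := by
  have := h.projective
  refine (Module.FaithfullyFlat.iff_flat_and_ideal_smul_eq_top (R := C.A0) (M := A)).2 ?_
  refine ⟨inferInstance, fun I hI => ?_⟩
  rw [Ideal.eq_top_iff_one]
  have h1 : (1 : A) ∈ I • (⊤ : Submodule C.A0 A) := by rw [hI]; exact Submodule.mem_top
  have h2 : C.proj0 (1 : A) ∈ I := by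
    have h3 : C.proj0 (1 : A) ∈ (I • (⊤ : Submodule C.A0 A)).map C.proj0 := ⟨1, h1, rfl⟩
    rw [Submodule.map_smul''] at h3
    exact (Submodule.smul_le.2 fun r hr m _ => I.mul_mem_right m hr) h3
  have h4 : C.proj0 (1 : A) = 1 := C.proj0_of_mem 1
  rwa [h4] at h2

section Points

variable {B : Type u} [CommRing B] [Algebra R B]

/-- two points which agree on the degree zero part differ by a unique point of `D(N)`. -/
theorem Free.exists_char (h : C.Free) (g g' : A →ₐ[R] B) (hg : ∀ a ∈ C.A0, g a = g' a) :
    ∃ z : Multiplicative N →* Bˣ, ∀ (n : N) (a : A), C.IsHom n a →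
      g' a = g a * (z (Multiplicative.ofAdd n) : Bˣ) := by
  classical
  choose k u v hu hv huv using h
  let z : N → B := fun n => ∑ i, g (u n i) * g' (v n i)
  have hz : ∀ (n : N) (a : A), C.IsHom n a → g' a = g a * z n := by
    intro n a ha
    have : g a * z n = ∑ i, g' (a * u n i) * g' (v n i) := by
      rw [Finset.mul_sum]
      refine Finset.sum_congr rfl fun i _ => ?_
      rw [← mul_assoc, ← map_mul, hg]
      have := ha.mul (hu n i)
      rwa [add_neg_cancel] at this
    rw [this]
    simp only [← map_mul, ← map_sum, mul_assoc, ← Finset.mul_sum, huv, mul_one]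
  have hz0 : z 0 = 1 := by
    have h1 : C.IsHom 0 (1 : A) := by
      have := C.isHom_algebraMap 1
      rwa [map_one] at this
    have := hz 0 1 h1
    rwa [map_one, map_one, one_mul, eq_comm] at this
  have hzadd : ∀ m n, z (m + n) = z m * z n := by
    intro m n
    have h1 : ∀ i j, C.IsHom (m + n) (v m i * v n j) := fun i j => (hv m i).mul (hv n j)
    have h2 : ∀ i j, g (u m i * u n j) * g' (v m i * v n j) =
        g (u m i * u n j) * g (v m i * v n j) * z (m + n) := fun i j => by
      rw [hz _ _ (h1 i j), mul_assoc]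
    have h3 : ∑ i, ∑ j, g (u m i * u n j) * g' (v m i * v n j) = z m * z n := by
      rw [Finset.sum_mul_sum]
      refine Finset.sum_congr rfl fun i _ => Finset.sum_congr rfl fun j _ => ?_
      rw [map_mul, map_mul]; ring
    have h4 : ∑ i, ∑ j, g (u m i * u n j) * g (v m i * v n j) = 1 := by
      have : ∑ i, ∑ j, g (u m i * u n j) * g (v m i * v n j) =
          g ((∑ i, u m i * v m i) * ∑ j, u n j * v n j) := by
        rw [Finset.sum_mul_sum, map_sum]
        refine Finset.sum_congr rfl fun i _ => ?_
        rw [map_sum]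
        refine Finset.sum_congr rfl fun j _ => ?_
        simp only [map_mul]; ring
      rw [this, huv, huv, mul_one, map_one]
    rw [← h3]
    simp_rw [h2]
    simp_rw [← Finset.sum_mul]
    rw [h4, one_mul]
  let w : Multiplicative N →* B :=
    { toFun := fun n => z n.toAdd
      map_one' := hz0
      map_mul' := fun a b => hzadd _ _ }
  refine ⟨w.toHomUnits, fun n a ha => ?_⟩
  rw [MonoidHom.coe_toHomUnits]
  exact hz n a ha

/-- the translate of a point by a point of `D(N)`. -/
noncomputable def act (g : A →ₐ[R] B) (z : Multiplicative N →* Bˣ) : A →ₐ[R] B :=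
  (MonoidAlgebra.liftNCAlgHom g ((Units.coeHom B).comp z) (fun _ _ => Commute.all _ _)).comp C.ρ

lemma act_of_isHom (g : A →ₐ[R] B) (z : Multiplicative N →* Bˣ) {n : N} {a : A} (ha : C.IsHom n a) :
    act (C := C) g z a = g a * (z (Multiplicative.ofAdd n) : Bˣ) := by
  rw [act, AlgHom.comp_apply, (ha : C.ρ a = _)]
  simp

lemma act_of_mem (g : A →ₐ[R] B) (z : Multiplicative N →* Bˣ) {a : A} (ha : a ∈ C.A0) :
    act (C := C) g z a = g a := by
  rw [act_of_isHom g z (C.mem_A0.1 ha), ofAdd_zero, map_one, Units.val_one, mul_one]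

lemma algHom_ext_isHom {g g' : A →ₐ[R] B} (h : ∀ (n : N) (a : A), C.IsHom n a → g a = g' a) :
    g = g' := by
  ext a
  rw [← C.sum_comp a _ subset_rfl, map_sum, map_sum]
  exact Finset.sum_congr rfl fun n _ => h n _ (C.isHom_comp n a)

/-- two points agree on the degree zero part iff they differ by a point of `D(N)`. -/
theorem Free.eqOn_A0_iff (h : C.Free) (g g' : A →ₐ[R] B) :
    (∀ a ∈ C.A0, g a = g' a) ↔ ∃ z : Multiplicative N →* Bˣ, g' = act (C := C) g z := by
  constructor
  · intro hg
    obtain ⟨z, hz⟩ := h.exists_char g g' hg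
    exact ⟨z, algHom_ext_isHom fun n a ha => by rw [hz n a ha, act_of_isHom g z ha]⟩
  · rintro ⟨z, rfl⟩ a ha
    rw [act_of_mem g z ha]

/-- the point of `D(N)` is unique. -/
theorem Free.act_injective (h : C.Free) (g : A →ₐ[R] B) {z z' : Multiplicative N →* Bˣ}
    (hz : act (C := C) g z = act (C := C) g z') : z = z' := by
  refine MonoidHom.ext fun n => Units.ext ?_
  obtain ⟨k, u, v, hu, hv, huv⟩ := h n.toAdd
  have h1 : ∀ w : Multiplicative N →* Bˣ, ∑ i, g (u i) * act (C := C) g w (v i) = (w n : Bˣ) := by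
    intro w
    simp_rw [fun i => act_of_isHom g w (hv i), ← mul_assoc, ← Finset.sum_mul, ← map_mul, ← map_sum]
    rw [huv, map_one, one_mul]
    rfl
  rw [← h1 z, ← h1 z', hz]

end Points

section FiniteType

variable (C)

lemma isHom_prod {ι : Type*} [Fintype ι] (a : ι → A) (d : ι → N) (h : ∀ i, C.IsHom (d i) (a i))
    (e : ι →₀ ℕ) : C.IsHom (e.sum fun i n => n • d i) (e.prod fun i n => a i ^ n) := by
  classical
  have h1 : C.IsHom 0 (1 : A) := by
    have := C.isHom_algebraMap 1
    rwa [map_one] at this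
  have hpow : ∀ (n : ℕ) (i : ι), C.IsHom (n • d i) (a i ^ n) := by
    intro n i
    induction n with
    | zero => simpa using h1
    | succ n ih => rw [succ_nsmul, pow_succ]; exact ih.mul (h i)
  rw [Finsupp.sum, Finsupp.prod]
  induction e.support using Finset.induction_on with
  | empty => simpa using h1
  | insert i s hi ih =>
    rw [Finset.sum_insert hi, Finset.prod_insert hi]
    exact (hpow _ _).mul ih

/-- Gordan: the degree zero part of a graded algebra of finite type is of finite type. -/
theorem finiteType_A0 [Algebra.FiniteType R A] : Algebra.FiniteType R C.A0 := by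
  classical
  obtain ⟨t, ht⟩ := Algebra.FiniteType.out (R := R) (A := A)
  let ι := Σ x : t, C.degs (x : A)
  let a : ι → A := fun i => C.comp i.2 i.1
  let d : ι → N := fun i => i.2
  have ha : ∀ i, C.IsHom (d i) (a i) := fun i => C.isHom_comp _ _
  have hadj : Algebra.adjoin R (Set.range a) = ⊤ := by
    rw [eq_top_iff, ← ht, Algebra.adjoin_le_iff]
    intro x hx
    rw [← C.sum_comp x _ subset_rfl]
    exact sum_mem fun n hn => Algebra.subset_adjoin ⟨⟨⟨x, hx⟩, ⟨n, hn⟩⟩, rfl⟩
  let f : (ι →₀ ℕ) →+ N := Finsupp.liftAddHom fun i =>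
    { toFun := fun n : ℕ => n • d i, map_zero' := zero_smul _ _, map_add' := fun m n => add_smul _ _ _ }
  have hf : ∀ e : ι →₀ ℕ, f e = e.sum fun i n => n • d i := fun e => rfl
  obtain ⟨P, hP⟩ := AddSubmonoid.fg_eqLocusM f 0
  let mon : Multiplicative (ι →₀ ℕ) →* A :=
    { toFun := fun e => e.toAdd.prod fun i n => a i ^ n
      map_one' := by simp
      map_mul' := fun e e' => Finsupp.prod_add_index' (fun _ => pow_zero _) (fun _ _ _ => pow_add _ _ _) }
  have hmon : ∀ e : ι →₀ ℕ, C.IsHom (f e) (mon (Multiplicative.ofAdd e)) := fun e =>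
    C.isHom_prod a d ha e
  have hmemP : ∀ e ∈ P, mon (Multiplicative.ofAdd e) ∈ C.A0 := by
    intro e he
    have h1 : e ∈ f.eqLocusM 0 := hP ▸ AddSubmonoid.subset_closure he
    have h2 : f e = 0 := h1
    have h3 := hmon e
    rwa [h2] at h3
  refine ⟨⟨P.attach.image fun e => ⟨mon (Multiplicative.ofAdd e.1), hmemP e.1 e.2⟩, ?_⟩⟩
  set Q : Subalgebra R C.A0 := Algebra.adjoin R _ with hQ
  have key : ∀ e ∈ f.eqLocusM 0, ∃ hx : mon (Multiplicative.ofAdd e) ∈ C.A0,
      (⟨_, hx⟩ : C.A0) ∈ Q := by
    intro e he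
    rw [← hP] at he
    induction he using AddSubmonoid.closure_induction with
    | mem x hx =>
      refine ⟨hmemP x hx, Algebra.subset_adjoin ?_⟩
      simp only [Finset.coe_image, Set.mem_image, Finset.mem_coe]
      exact ⟨⟨x, hx⟩, Finset.mem_attach _ _, rfl⟩
    | zero =>
      have h1 : mon (Multiplicative.ofAdd 0) = 1 := mon.map_one
      exact ⟨h1 ▸ one_mem _, by
        have : (⟨mon (Multiplicative.ofAdd 0), h1 ▸ one_mem _⟩ : C.A0) = 1 := Subtype.ext h1
        rw [this]; exact one_mem _⟩
    | add x y _ _ hx hy =>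
      obtain ⟨h1, h2⟩ := hx
      obtain ⟨h3, h4⟩ := hy
      have h5 : mon (Multiplicative.ofAdd (x + y)) =
          mon (Multiplicative.ofAdd x) * mon (Multiplicative.ofAdd y) := mon.map_mul _ _
      refine ⟨h5 ▸ mul_mem h1 h3, ?_⟩
      have : (⟨mon (Multiplicative.ofAdd (x + y)), h5 ▸ mul_mem h1 h3⟩ : C.A0) = ⟨_, h1⟩ * ⟨_, h3⟩ :=
        Subtype.ext h5
      rw [this]
      exact mul_mem h2 h4
  rw [eq_top_iff]
  rintro ⟨x, hx⟩ -
  obtain ⟨p, hp⟩ : ∃ p : MvPolynomial ι R, MvPolynomial.aeval a p = x := by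
    have : x ∈ Algebra.adjoin R (Set.range a) := hadj ▸ Algebra.mem_top
    rwa [Algebra.adjoin_range_eq_range_aeval, AlgHom.mem_range] at this
  have hx0 : C.proj0 x = ⟨x, hx⟩ := C.proj0_of_mem ⟨x, hx⟩
  rw [← hx0, ← hp, MvPolynomial.aeval_def, MvPolynomial.eval₂_eq', map_sum]
  refine sum_mem fun e _ => ?_
  have h1 : (∏ i, a i ^ e i) = mon (Multiplicative.ofAdd e) :=
    (Finsupp.prod_fintype _ _ fun _ => pow_zero _).symm
  have h2 : C.proj0 (algebraMap R A (MvPolynomial.coeff e p) * ∏ i, a i ^ e i) =
      MvPolynomial.coeff e p • C.proj0 (mon (Multiplicative.ofAdd e)) := by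
    rw [h1]
    apply Subtype.ext
    change C.comp 0 _ = _
    rw [C.comp_mul_of_mem_A0 0 _ (C.isHom_algebraMap _), ← Algebra.smul_def]
    rfl
  rw [h2]
  refine Q.smul_mem ?_ _
  by_cases he : f e = 0
  · obtain ⟨h3, h4⟩ := key e he
    have : C.proj0 (mon (Multiplicative.ofAdd e)) = ⟨_, h3⟩ := C.proj0_of_mem ⟨_, h3⟩
    rw [this]
    exact h4
  · have : C.proj0 (mon (Multiplicative.ofAdd e)) = 0 :=
      Subtype.ext (C.comp_of_isHom_of_ne (hmon e) he)
    rw [this]
    exact zero_mem _

/-- `A` is of finite presentation over its degree zero part if it is of finite presentation. -/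
theorem finitePresentation_over_A0 [Algebra.FinitePresentation R A] :
    Algebra.FinitePresentation C.A0 A := by
  have := C.finiteType_A0
  exact Algebra.FinitePresentation.of_restrict_scalars_finitePresentation R C.A0 A

end FiniteType

end Coact

end Groth.Agent.Sga3B.AdGrad
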