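import Groth.Agent.Sga3B.AdPts
import Groth.Agent.Sga3B.DSAff

/-!
# A monomorphism from a diagonalizable group to an affine group is a closed immersion
-/

set_option autoImplicit false
universe u
open CategoryTheory MonoidalCategory CartesianMonoidalCategory MonObj GrpObj AlgebraicGeometry Limits

namespace Groth.Agent.Sga3B.AdMono

open FreeBC DSPts AdGrad AdPts

variable {R A : Type u} [CommRing R] [CommRing A] [Algebra R A] {N : Type} [AddCommGroup N]

/-- the structure map on functions -/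
noncomputable def str (X : Over (Spec (CommRingCat.of R))) : R →+* Γ(X.left, ⊤) :=
  ((Scheme.ΓSpecIso (CommRingCat.of R)).inv ≫ X.hom.appTop).hom

lemma fn_id_apply {E : Type u} [CommRing E] [Algebra R E] (x : E) :
    fn (𝟙 (DE R E)) x = (Scheme.ΓSpecIso (CommRingCat.of E)).inv x := by
  simp [fn]

lemma exists_toTerm (X : Over (Spec (CommRingCat.of R))) : ∃ p : X ⟶ DE R R, ∀ r, fn p r = str X r :=
  exists_of_ringHom (E := R) (str X) fun _ => rfl

section

variable [GrpObj (DE R A)] (z : Red.DS (Spec (CommRingCat.of R)) N ⟶ DE R A) [IsMonHom z]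

variable (R A) in
/-- the counit -/
noncomputable def eps : A →+* R :=
  ((RingEquiv.ofBijective _ (fn_id_bijective (R := R) R)).symm : _ →+* R).comp (fn (1 : DE R R ⟶ DE R A))

lemma fn_eps (a : A) : fn (𝟙 (DE R R)) (eps R A a) = fn (1 : DE R R ⟶ DE R A) a :=
  (RingEquiv.ofBijective _ (fn_id_bijective (R := R) R)).apply_symm_apply _

lemma fn_one (X : Over (Spec (CommRingCat.of R))) (a : A) : fn (1 : X ⟶ DE R A) a = str X (eps R A a) := by
  obtain ⟨p, hp⟩ := exists_toTerm X
  rw [← hp, fn_eq p, fn_eps, ← fn_comp, comp_one]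

omit [IsMonHom z] in
/-- functions on `D(N)` -/
lemma fn_ds {X : Over (Spec (CommRingCat.of R))} (t : X ⟶ Red.DS (Spec (CommRingCat.of R)) N) (a : A) :
    fn (t ≫ z) a = (rho z a).coeff.sum fun n b => str X (eps R A b) * dsChar t n := by
  have h := fn_mul z (1 : X ⟶ DE R A) t a
  rw [_root_.one_mul, lft_apply] at h
  rw [h, Finsupp.sum, Finsupp.sum]
  exact Finset.sum_congr rfl fun n _ => by rw [fn_one]

/-- the weight ideals -/
noncomputable def wt (n : N) : Ideal R where
  carrier := {r | ∃ a, (coact z).IsHom n a ∧ eps R A a = r}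
  add_mem' := by
    rintro _ _ ⟨a, ha, rfl⟩ ⟨b, hb, rfl⟩
    exact ⟨a + b, ha.add hb, map_add _ _ _⟩
  zero_mem' := ⟨0, (coact z).isHom_zero n, map_zero _⟩
  smul_mem' := by
    rintro r _ ⟨a, ha, rfl⟩
    refine ⟨algebraMap R A r * a, ?_, ?_⟩
    · have := ((coact z).isHom_algebraMap r).mul ha
      rwa [zero_add] at this
    · rw [_root_.map_mul, smul_eq_mul]
      congr 1
      apply (fn_id_bijective (R := R) R).1
      rw [fn_eps, fn_algebraMap]
      exact (fn_algebraMap (𝟙 (DE R R)) r).symm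

variable {z} in
lemma wt_mul {n m : N} {r s : R} (hr : r ∈ wt z n) (hs : s ∈ wt z m) : r * s ∈ wt z (n + m) := by
  obtain ⟨a, ha, rfl⟩ := hr
  obtain ⟨b, hb, rfl⟩ := hs
  exact ⟨a * b, ha.mul hb, map_mul _ _ _⟩

lemma one_mem_wt_zero : (1 : R) ∈ wt z 0 := by
  have := (coact z).isHom_algebraMap 1
  rw [map_one] at this
  exact ⟨1, this, map_one _⟩

variable (R N) in
/-- the object `Spec R[N]` -/
noncomputable abbrev UN : Over (Spec (CommRingCat.of R)) := DE R (MonoidAlgebra R (Multiplicative N))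

variable (R N) in
/-- the universal point -/
noncomputable def tUN : UN R N ⟶ Red.DS (Spec (CommRingCat.of R)) N :=
  dsEquiv _ _ (((fn (𝟙 (UN R N))) : _ →* _).comp (MonoidAlgebra.of R (Multiplicative N)))

lemma dsChar_tUN (n : Multiplicative N) : dsChar (tUN R N) n = fn (𝟙 (UN R N)) (MonoidAlgebra.single n 1) := by
  rw [tUN, dsChar_dsEquiv]
  rfl

variable (R N) in
/-- the inverse of the universal point -/
noncomputable def tUN' : UN R N ⟶ Red.DS (Spec (CommRingCat.of R)) N :=
  dsEquiv _ _ ((((fn (𝟙 (UN R N))) : _ →* _).comp (MonoidAlgebra.of R (Multiplicative N))).comp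
    (AddMonoidHom.toMultiplicative (-(AddMonoidHom.id N))))

lemma dsChar_tUN' (n : Multiplicative N) :
    dsChar (tUN' R N) n = fn (𝟙 (UN R N)) (MonoidAlgebra.single n⁻¹ 1) := by
  rw [tUN', dsChar_dsEquiv]
  rfl

lemma tUN'_eq : tUN' R N = (tUN R N)⁻¹ := by
  apply eq_inv_of_mul_eq_one_left
  apply (dsEquiv _ N).symm.injective
  change dsChar _ = dsChar _
  rw [dsChar_mul]
  refine MonoidHom.ext fun n => ?_
  have : dsChar (1 : UN R N ⟶ Red.DS (Spec (CommRingCat.of R)) N) = 1 := by simp [dsChar]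
  rw [this, MonoidHom.mul_apply, dsChar_tUN, dsChar_tUN', ← _root_.map_mul, MonoidAlgebra.single_mul_single,
    inv_mul_cancel, _root_.mul_one, MonoidHom.one_apply]
  exact map_one _

lemma str_mul_fn (r : R) (n : Multiplicative N) (x : R) :
    str (UN R N) r * fn (𝟙 (UN R N)) (MonoidAlgebra.single n x) = fn (𝟙 (UN R N)) (MonoidAlgebra.single n (r * x)) := by
  have h1 : str (UN R N) r = fn (𝟙 (UN R N)) (algebraMap R _ r) := (fn_algebraMap (𝟙 (UN R N)) r).symm
  have h2 : algebraMap R (MonoidAlgebra R (Multiplicative N)) r = MonoidAlgebra.single 1 r := rfl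
  rw [h1, h2, ← _root_.map_mul, MonoidAlgebra.single_mul_single, _root_.one_mul]

omit [IsMonHom z] in
/-- the image of `A` in `R[N]`. -/
lemma fn_tUN (a : A) : fn (tUN R N ≫ z) a =
    fn (𝟙 (UN R N)) ((rho z a).coeff.sum fun n b => MonoidAlgebra.single n (eps R A b)) := by
  rw [fn_ds, Finsupp.sum, Finsupp.sum, map_sum]
  refine Finset.sum_congr rfl fun n _ => ?_
  rw [dsChar_tUN, str_mul_fn, _root_.mul_one]

variable {z} in
lemma wt_neg {n : N} {r : R} (hr : r ∈ wt z n) : r ∈ wt z (-n) := by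
  obtain ⟨a, ha, rfl⟩ := hr
  obtain ⟨b, hb⟩ := (fn_id_bijective (R := R) A).2 (fn (𝟙 (DE R A))⁻¹ a)
  have h1 : ∀ {X : Over (Spec (CommRingCat.of R))} (g : X ⟶ DE R A), fn g⁻¹ a = fn g b := by
    intro X g
    have : g⁻¹ = g ≫ (𝟙 (DE R A))⁻¹ := by rw [GrpObj.comp_inv, Category.comp_id]
    rw [this, fn_comp, ← hb, ← fn_eq]
  have h2 : fn (tUN' R N ≫ z) a = fn (tUN R N ≫ z) b := by
    have : tUN' R N ≫ z = (tUN R N ≫ z)⁻¹ := by
      rw [tUN'_eq]
      exact inv_comp _ _
    rw [this, h1]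
  have h3 : fn (tUN' R N ≫ z) a = fn (𝟙 (UN R N)) (MonoidAlgebra.single (Multiplicative.ofAdd (-n)) (eps R A a)) := by
    have ha' : rho z a = MonoidAlgebra.single (Multiplicative.ofAdd n) a := ha
    rw [fn_ds, ha', MonoidAlgebra.coeff_single, Finsupp.sum_single_index (by simp), dsChar_tUN', str_mul_fn,
      _root_.mul_one]
    rfl
  rw [h3, fn_tUN] at h2
  have h4 := (fn_id_bijective (R := R) _).1 h2
  have h5 := congrArg (fun y : MonoidAlgebra R (Multiplicative N) => y.coeff (Multiplicative.ofAdd (-n))) h4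
  rw [coeff_sum_single (rho z b) (fun n b => eps R A b) (by simp), MonoidAlgebra.coeff_single,
    Finsupp.single_eq_same] at h5
  exact ⟨(coact z).comp (-n) b, (coact z).isHom_comp _ _, h5.symm⟩

/-- If `z` is a monomorphism all weight ideals are the unit ideal. -/
theorem one_mem_wt [Mono z] (n : N) : (1 : R) ∈ wt z n := by
  by_contra hn
  have hne : wt z n ≠ ⊤ := fun h => hn (h ▸ trivial)
  obtain ⟨𝔪, hm, hle⟩ := Ideal.exists_le_maximal _ hne
  let N' : AddSubgroup N :=
    { carrier := {k | ¬ wt z k ≤ 𝔪}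
      add_mem' := by
        intro k l hk hl
        obtain ⟨x, hx, hx'⟩ := SetLike.not_le_iff_exists.1 hk
        obtain ⟨y, hy, hy'⟩ := SetLike.not_le_iff_exists.1 hl
        refine SetLike.not_le_iff_exists.2 ⟨x * y, wt_mul hx hy, fun h => ?_⟩
        exact (hm.isPrime.mem_or_mem h).elim hx' hy'
      zero_mem' := SetLike.not_le_iff_exists.2 ⟨1, one_mem_wt_zero z, fun h =>
        hm.ne_top ((Ideal.eq_top_iff_one _).2 h)⟩
      neg_mem' := by
        intro k hk
        obtain ⟨x, hx, hx'⟩ := SetLike.not_le_iff_exists.1 hk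
        exact SetLike.not_le_iff_exists.2 ⟨x, wt_neg hx, hx'⟩ }
  let B : Type u := MonoidAlgebra (R ⧸ 𝔪) (Multiplicative (N ⧸ N'))
  let χ : Multiplicative N →* B := (MonoidAlgebra.of (R ⧸ 𝔪) (Multiplicative (N ⧸ N'))).comp
    (AddMonoidHom.toMultiplicative (QuotientAddGroup.mk' N'))
  let t₁ : DE R B ⟶ Red.DS (Spec (CommRingCat.of R)) N := dsEquiv _ _ ((fn (𝟙 (DE R B)) : _ →* _).comp χ)
  have ht₁ : ∀ k, dsChar t₁ k = fn (𝟙 (DE R B)) (χ k) := fun k => by
    simp only [t₁]
    rw [dsChar_dsEquiv]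
    rfl
  have hstr : ∀ r ∈ 𝔪, str (DE R B) r = 0 := by
    intro r hr
    have h1 : str (DE R B) r = fn (𝟙 (DE R B)) (algebraMap R _ r) := (fn_algebraMap (𝟙 (DE R B)) r).symm
    have h2 : algebraMap R B r = 0 := by
      have : algebraMap R B r = algebraMap (R ⧸ 𝔪) B (algebraMap R (R ⧸ 𝔪) r) := rfl
      have h3 : algebraMap R (R ⧸ 𝔪) r = 0 := Ideal.Quotient.eq_zero_iff_mem.2 hr
      rw [this, h3, map_zero]
    rw [h1, h2, map_zero]
  have key : t₁ ≫ z = (1 : DE R B ⟶ Red.DS (Spec (CommRingCat.of R)) N) ≫ z := by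
    apply fn_injective
    intro a
    rw [fn_ds, fn_ds, Finsupp.sum, Finsupp.sum]
    refine Finset.sum_congr rfl fun k _ => ?_
    have h1 : dsChar (1 : DE R B ⟶ Red.DS (Spec (CommRingCat.of R)) N) = 1 := by simp [dsChar]
    rw [h1, MonoidHom.one_apply]
    by_cases hk : k.toAdd ∈ N'
    · have : χ k = 1 := by
        simp only [χ, MonoidHom.comp_apply]
        have : (AddMonoidHom.toMultiplicative (QuotientAddGroup.mk' N')) k = 1 :=
          (QuotientAddGroup.eq_zero_iff k.toAdd).2 hk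
        rw [this, map_one]
      rw [ht₁, this, map_one]
    · have h2 : wt z k.toAdd ≤ 𝔪 := by
        by_contra h
        exact hk h
      have h3 : eps R A ((rho z a).coeff k) ∈ 𝔪 :=
        h2 ⟨(coact z).comp k.toAdd a, (coact z).isHom_comp _ _, rfl⟩
      rw [hstr _ h3, zero_mul, zero_mul]
  rw [cancel_mono] at key
  have h4 := ht₁ (Multiplicative.ofAdd n)
  have h5 : dsChar (1 : DE R B ⟶ Red.DS (Spec (CommRingCat.of R)) N) = 1 := by simp [dsChar]
  rw [key, h5, MonoidHom.one_apply, ← map_one (fn (𝟙 (DE R B)))] at h4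
  have h6 := (fn_id_bijective (R := R) _).1 h4
  have h7 : n ∈ N' := by
    have : Nontrivial (R ⧸ 𝔪) := Ideal.Quotient.nontrivial_iff.2 hm.ne_top
    have h8 : (1 : B) = MonoidAlgebra.of (R ⧸ 𝔪) (Multiplicative (N ⧸ N')) 1 := (map_one _).symm
    rw [h8] at h6
    have h9 := MonoidAlgebra.of_injective h6
    exact (QuotientAddGroup.eq_zero_iff n).1 h9.symm
  exact h7 hle

lemma tUN_eq : tUN R N = DSAff.dsFrom R N := by
  apply (dsEquiv _ N).symm.injective
  refine MonoidHom.ext fun n => ?_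
  refine (dsChar_tUN n).trans ?_
  refine Eq.trans ?_ (DFunLike.congr_fun (DSAff.fnChar_dsFrom (R := R) (M := N)) n).symm
  simp [fn]
  rfl

instance : IsIso (tUN R N) := by
  rw [tUN_eq]
  exact (inferInstance : IsIso (DSAff.dsFrom R N))

theorem isClosedImmersion_of_mono [Mono z] : IsClosedImmersion z.left := by
  have h1 : IsClosedImmersion (tUN R N ≫ z).left := by
    let φ : A →+* MonoidAlgebra R (Multiplicative N) :=
      ((RingEquiv.ofBijective _ (fn_id_bijective (R := R) (MonoidAlgebra R (Multiplicative N)))).symm :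
        _ →+* MonoidAlgebra R (Multiplicative N)).comp (fn (tUN R N ≫ z))
    have hφ : ∀ a, fn (𝟙 (UN R N)) (φ a) = fn (tUN R N ≫ z) a := fun a =>
      (RingEquiv.ofBijective _ (fn_id_bijective (R := R) (MonoidAlgebra R (Multiplicative N)))).apply_symm_apply _
    have hsurj : Function.Surjective φ := by
      intro x
      induction x using MonoidAlgebra.induction_linear with
      | zero => exact ⟨0, map_zero _⟩
      | add x y hx hy =>
        obtain ⟨a, rfl⟩ := hx
        obtain ⟨b, rfl⟩ := hy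
        exact ⟨a + b, map_add _ _ _⟩
      | single n r =>
        have h := (wt z n.toAdd).smul_mem r (one_mem_wt z n.toAdd)
        obtain ⟨a, ha, ha'⟩ := h
        refine ⟨a, (fn_id_bijective (R := R) _).1 ?_⟩
        have ha2 : rho z a = MonoidAlgebra.single n a := ha
        rw [hφ, fn_tUN, ha2, MonoidAlgebra.coeff_single, Finsupp.sum_single_index (by simp), ha']
        simp
    have h2 : (tUN R N ≫ z).left = Spec.map (CommRingCat.ofHom φ) := by
      apply ext_of_isAffine
      rw [← cancel_epi (Scheme.ΓSpecIso (CommRingCat.of A)).inv]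
      ext a
      have h3 := hφ a
      have e1 : (Scheme.ΓSpecIso (CommRingCat.of A)).inv ≫ (Spec.map (CommRingCat.ofHom φ)).appTop =
          CommRingCat.ofHom φ ≫ (Scheme.ΓSpecIso (CommRingCat.of (MonoidAlgebra R (Multiplicative N)))).inv :=
        (Scheme.ΓSpecIso_inv_naturality _).symm
      refine h3.symm.trans ?_
      refine Eq.trans ?_ (congr($(e1).hom a)).symm
      exact fn_id_apply _
    rw [h2]
    exact IsClosedImmersion.spec_of_surjective _ hsurj
  have h2 : z.left = (inv (tUN R N)).left ≫ (tUN R N ≫ z).left := by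
    rw [← Over.comp_left, IsIso.inv_hom_id_assoc]
  have h3 : IsIso (inv (tUN R N)).left := ((Over.forget _).mapIso (asIso (tUN R N)).symm).isIso_hom
  rw [h2]
  exact MorphismProperty.comp_mem _ _ _ (inferInstance : IsClosedImmersion (inv (tUN R N)).left) h1

end

end Groth.Agent.Sga3B.AdMono
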