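import Mathlib.AlgebraicGeometry.Morphisms.Flat
import Mathlib.AlgebraicGeometry.Morphisms.Affine
import Mathlib.AlgebraicGeometry.Group.Affine
import Mathlib.CategoryTheory.Monoidal.Cartesian.Over
import Mathlib.RingTheory.TensorProduct.IsBaseChangeFree
import Mathlib.Algebra.Category.Ring.Constructions

/-!
# Functions on `T ×_R Spec E` for `E` finite free over `R`
-/

set_option autoImplicit false

universe u

open CategoryTheory MonoidalCategory CartesianMonoidalCategory AlgebraicGeometry Limits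

namespace Groth.Agent.Sga3B.FreeBC

section Algebra

variable {R E : Type u} [CommRing R] [CommRing E] [Algebra R E]

/-- In a pushout of rings `C ← R → E` with `E` free, basis elements of `E` give a basis over `C`. -/
lemma basis_of_isPushout {C P : CommRingCat.{u}} {f : CommRingCat.of R ⟶ C} {inl : C ⟶ P}
    {inr : CommRingCat.of E ⟶ P}
    (h : IsPushout f (CommRingCat.ofHom (algebraMap R E)) inl inr)
    {m : Type u} [Fintype m] (b : Module.Basis m R E) :
    (∀ z : P, ∃ c : m → C, z = ∑ j, inl (c j) * inr (b j)) ∧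
      ∀ c : m → C, ∑ j, inl (c j) * inr (b j) = 0 → c = 0 := by
  let _ : Algebra R C := f.hom.toAlgebra
  let _ : Algebra C P := inl.hom.toAlgebra
  let _ : Algebra E P := inr.hom.toAlgebra
  let _ : Algebra R P := (f ≫ inl).hom.toAlgebra
  have : IsScalarTower R C P := IsScalarTower.of_algebraMap_eq' rfl
  have : IsScalarTower R E P := IsScalarTower.of_algebraMap_eq' (by
    have := h.w
    exact congrArg CommRingCat.Hom.hom this)
  have hP : Algebra.IsPushout R C E P := CommRingCat.isPushout_iff_isPushout.mp h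
  let B := hP.out.basis b
  have hB : ∀ j, B j = inr (b j) := fun j => hP.out.basis_apply b j
  have hs : ∀ (c : C) (z : P), c • z = inl c * z := fun c z => rfl
  refine ⟨fun z => ⟨fun j => B.repr z j, ?_⟩, fun c hc => ?_⟩
  · conv_lhs => rw [← B.sum_repr z]
    exact Finset.sum_congr rfl fun j _ => by rw [hs, hB]
  · have : ∑ j, c j • B j = 0 := by
      rw [← hc]
      exact Finset.sum_congr rfl fun j _ => by rw [hs, hB]
    funext j
    exact Fintype.linearIndependent_iff.mp B.linearIndependent c this j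

end Algebra

variable (R E : Type u) [CommRing R] [CommRing E] [Algebra R E]

/-- `Spec E` over `Spec R`. -/
noncomputable abbrev DE : Over (Spec (CommRingCat.of R)) :=
  Over.mk (Spec.map (CommRingCat.ofHom (algebraMap R E)))

variable {R E}

instance : IsAffine (DE R E).left := inferInstanceAs (IsAffine (Spec _))

/-- the ring map attached to a morphism to `Spec E` -/
noncomputable def fn {X : Over (Spec (CommRingCat.of R))} (y : X ⟶ DE R E) : E →+* Γ(X.left, ⊤) :=
  ((Scheme.ΓSpecIso (CommRingCat.of E)).inv ≫ y.left.appTop).hom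

lemma fn_comp {X Y : Over (Spec (CommRingCat.of R))} (f : X ⟶ Y) (y : Y ⟶ DE R E) (x : E) :
    fn (f ≫ y) x = f.left.appTop (fn y x) := by
  simp only [fn, Over.comp_left]
  rw [Scheme.Hom.comp_appTop]
  rfl

lemma fn_injective {X : Over (Spec (CommRingCat.of R))} {y y' : X ⟶ DE R E}
    (h : ∀ x, fn y x = fn y' x) : y = y' := by
  ext1
  apply ext_of_isAffine
  have h' : (Scheme.ΓSpecIso (CommRingCat.of E)).inv ≫ y.left.appTop =
      (Scheme.ΓSpecIso (CommRingCat.of E)).inv ≫ y'.left.appTop := by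
    ext x
    exact h x
  exact (cancel_epi (Scheme.ΓSpecIso (CommRingCat.of E)).inv).mp h'

lemma fn_algebraMap {X : Over (Spec (CommRingCat.of R))} (y : X ⟶ DE R E) (r : R) :
    fn y (algebraMap R E r) = X.hom.appTop ((Scheme.ΓSpecIso (CommRingCat.of R)).inv r) := by
  have h1 : X.hom = y.left ≫ Spec.map (CommRingCat.ofHom (algebraMap R E)) := (Over.w y).symm
  have h2 : (Scheme.ΓSpecIso (CommRingCat.of R)).inv ≫ X.hom.appTop =
      CommRingCat.ofHom (algebraMap R E) ≫ (Scheme.ΓSpecIso (CommRingCat.of E)).inv ≫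
        y.left.appTop := by
    rw [h1, Scheme.Hom.comp_appTop, ← Scheme.ΓSpecIso_inv_naturality_assoc]
  exact (congr($(h2).hom r)).symm

lemma exists_of_ringHom {X : Over (Spec (CommRingCat.of R))} (φ : E →+* Γ(X.left, ⊤))
    (h : ∀ r, φ (algebraMap R E r) = X.hom.appTop ((Scheme.ΓSpecIso (CommRingCat.of R)).inv r)) :
    ∃ y : X ⟶ DE R E, ∀ x, fn y x = φ x := by
  let y0 : X.left ⟶ Spec (CommRingCat.of E) := X.left.toSpecΓ ≫ Spec.map (CommRingCat.ofHom φ)
  have hy0 : (Scheme.ΓSpecIso (CommRingCat.of E)).inv ≫ y0.appTop = CommRingCat.ofHom φ := by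
    simp [y0]
  have hw : y0 ≫ Spec.map (CommRingCat.ofHom (algebraMap R E)) = X.hom := by
    apply ext_of_isAffine
    rw [← cancel_epi (Scheme.ΓSpecIso (CommRingCat.of R)).inv, Scheme.Hom.comp_appTop,
      ← Scheme.ΓSpecIso_inv_naturality_assoc, hy0]
    ext r
    exact h r
  refine ⟨Over.homMk y0 hw, fun x => ?_⟩
  exact congr($(hy0).hom x)

lemma isPullback (T : Over (Spec (CommRingCat.of R))) :
    IsPullback (fst T (DE R E)).left (snd T (DE R E)).left T.hom
      (Spec.map (CommRingCat.ofHom (algebraMap R E))) :=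
  IsPullback.of_hasPullback _ _

lemma isPushout_of_qcqs (T : Over (Spec (CommRingCat.of R))) [CompactSpace T.left]
    [QuasiSeparatedSpace T.left] [Module.Flat R E] :
    IsPushout ((Scheme.ΓSpecIso (CommRingCat.of R)).inv ≫ T.hom.appTop)
      (CommRingCat.ofHom (algebraMap R E)) (fst T (DE R E)).left.appTop
      ((Scheme.ΓSpecIso (CommRingCat.of E)).inv ≫ (snd T (DE R E)).left.appTop) := by
  have hfl : Flat (Spec.map (CommRingCat.ofHom (algebraMap R E))) := by
    rw [HasRingHomProperty.Spec_iff (P := @Flat)]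
    exact (RingHom.flat_algebraMap_iff).mpr ‹_›
  have h := isIso_pushoutSection_of_isQuasiSeparated_of_flat_right (isPullback (E := E) T)
    (US := ⊤) (UT := ⊤) (UX := ⊤) (UY := ⊤) le_top le_top (by simp)
    (isAffineOpen_top _) (isAffineOpen_top _) isCompact_univ
    (isQuasiSeparated_univ_iff.mpr ‹_›)
  have h := (isIso_pushoutSection_iff (isPullback (E := E) T)
    (US := ⊤) (UT := ⊤) (UX := ⊤) (UY := ⊤) le_top le_top (by simp)).mp h
  have e1 : T.hom.appLE ⊤ ⊤ le_top = T.hom.appTop := Scheme.Hom.appLE_eq_app ..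
  have e2 : (Spec.map (CommRingCat.ofHom (algebraMap R E))).appLE ⊤ ⊤ le_top =
    (Spec.map (CommRingCat.ofHom (algebraMap R E))).appTop := Scheme.Hom.appLE_eq_app ..
  have e3 : (fst T (DE R E)).left.appLE ⊤ ⊤ le_top = (fst T (DE R E)).left.appTop :=
    Scheme.Hom.appLE_eq_app ..
  have e4 : (snd T (DE R E)).left.appLE ⊤ ⊤ le_top = (snd T (DE R E)).left.appTop :=
    Scheme.Hom.appLE_eq_app ..
  rw [e1, e2, e3, e4] at h
  refine h.of_iso (Scheme.ΓSpecIso (CommRingCat.of R)) (Iso.refl _)
    (Scheme.ΓSpecIso (CommRingCat.of E)) (Iso.refl _) ?_ ?_ ?_ ?_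
  · simp
  · exact (Scheme.ΓSpecIso_naturality _)
  · simp
  · simp

/-- Functions on `T × Spec E` expand in a basis of `E` (for `T` qcqs). -/
theorem exists_expansion (T : Over (Spec (CommRingCat.of R))) [CompactSpace T.left]
    [QuasiSeparatedSpace T.left] {m : Type u} [Fintype m] (b : Module.Basis m R E)
    (z : Γ((T ⊗ DE R E).left, ⊤)) :
    ∃ c : m → Γ(T.left, ⊤),
      z = ∑ j, (fst T (DE R E)).left.appTop (c j) * fn (snd T (DE R E)) (b j) := by
  have : Module.Free R E := Module.Free.of_basis b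
  exact (basis_of_isPushout (isPushout_of_qcqs (E := E) T) b).1 z

lemma expansion_unique_aux (T : Over (Spec (CommRingCat.of R))) [CompactSpace T.left]
    [QuasiSeparatedSpace T.left] {m : Type u} [Fintype m] (b : Module.Basis m R E)
    (c : m → Γ(T.left, ⊤))
    (h : ∑ j, (fst T (DE R E)).left.appTop (c j) * fn (snd T (DE R E)) (b j) = 0) : c = 0 := by
  have : Module.Free R E := Module.Free.of_basis b
  exact (basis_of_isPushout (isPushout_of_qcqs (E := E) T) b).2 c h

/-- The coefficients of the expansion are unique (any `T`). -/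
theorem expansion_unique (T : Over (Spec (CommRingCat.of R))) {m : Type u} [Fintype m]
    (b : Module.Basis m R E) (c : m → Γ(T.left, ⊤))
    (h : ∑ j, (fst T (DE R E)).left.appTop (c j) * fn (snd T (DE R E)) (b j) = 0) : c = 0 := by
  funext j
  rw [Pi.zero_apply]
  refine T.left.IsSheaf.section_ext (s := c j) (t := 0) fun x _ => ?_
  obtain ⟨U, hU, hxU, -⟩ : ∃ U : T.left.Opens, IsAffineOpen U ∧ x ∈ U ∧ U ≤ ⊤ := by
    obtain ⟨_, ⟨U, hU, rfl⟩, hxU, -⟩ :=
      T.left.isBasis_affineOpens.exists_subset_of_mem_open (Set.mem_univ x) isOpen_univ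
    exact ⟨U, hU, hxU, le_top⟩
  refine ⟨U, le_top, hxU, ?_⟩
  rw [map_zero]
  -- restrict to the affine open U
  let T' : Over (Spec (CommRingCat.of R)) := Over.mk (U.ι ≫ T.hom)
  let u : T' ⟶ T := Over.homMk U.ι rfl
  have : IsAffine T'.left := hU
  have key := congrArg (fun z => (u ▷ DE R E).left.appTop z) h
  simp only [map_sum, map_mul, map_zero] at key
  have h1 : ∀ a : Γ(T.left, ⊤), (u ▷ DE R E).left.appTop ((fst T (DE R E)).left.appTop a) =
      (fst T' (DE R E)).left.appTop (u.left.appTop a) := by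
    intro a
    have : (u ▷ DE R E).left ≫ (fst T (DE R E)).left = (fst T' (DE R E)).left ≫ u.left := by
      rw [← Over.comp_left, whiskerRight_fst, Over.comp_left]
    have h2 := congr(($this).appTop)
    rw [Scheme.Hom.comp_appTop, Scheme.Hom.comp_appTop] at h2
    exact congr($(h2).hom a)
  have h2 : ∀ a : E, (u ▷ DE R E).left.appTop (fn (snd T (DE R E)) a) = fn (snd T' (DE R E)) a := by
    intro a
    rw [← fn_comp, whiskerRight_snd]
  simp only [h1, h2] at key
  have hc := expansion_unique_aux T' b (fun j => u.left.appTop (c j)) key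
  have h3 : u.left.appTop (c j) = 0 := congrFun hc j
  have h4 : T.left.presheaf.map (homOfLE (le_top : U ≤ ⊤)).op (c j) = 0 := by
    have h5 : (U.ι.appTop (c j)) = 0 := h3
    have h6 : T.left.presheaf.map (homOfLE (le_top : U ≤ ⊤)).op = U.ι.appTop ≫ U.topIso.hom :=
      T.left.presheaf.map_comp (homOfLE (le_top : U.ι ''ᵁ ⊤ ≤ ⊤)).op
        (eqToHom U.ι_image_top.symm).op
    rw [h6]
    exact (congrArg U.topIso.hom h5).trans (map_zero _)
  exact h4

end Groth.Agent.Sga3B.FreeBC
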