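import Groth.Agent.Sga3B.AdGrad
import Groth.Agent.Sga3B.FreeBC
import Groth.Agent.Sga3B.DSPts

/-!
# From a diagonalizable subgroup of an affine group scheme to a coaction

`DE R A = Spec A` is a group over `Spec R`, `z : D(N) ⟶ Spec A` a homomorphism.  Right translation gives a coaction of
`D(N)` on `A`, which is free when `z` is a closed immersion.
-/

set_option autoImplicit false
universe u
open CategoryTheory MonoidalCategory CartesianMonoidalCategory MonObj GrpObj AlgebraicGeometry Limits

namespace Groth.Agent.Sga3B.AdPts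

open FreeBC DSPts AdGrad

variable {R A : Type u} [CommRing R] [CommRing A] [Algebra R A] {N : Type} [AddCommGroup N]

/-- the ring map `A[N] → Γ(X)` attached to a pair of points. -/
noncomputable def lft {B : Type u} [CommRing B] (φ : A →+* B) (χ : Multiplicative N →* B) :
    MonoidAlgebra A (Multiplicative N) →+* B :=
  MonoidAlgebra.liftNCRingHom φ χ (fun _ _ => Commute.all _ _)

lemma lft_single {B : Type u} [CommRing B] (φ : A →+* B) (χ : Multiplicative N →* B) (n : Multiplicative N) (a : A) :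
    lft φ χ (MonoidAlgebra.single n a) = φ a * χ n := by
  simp [lft]

lemma lft_apply {B : Type u} [CommRing B] (φ : A →+* B) (χ : Multiplicative N →* B)
    (x : MonoidAlgebra A (Multiplicative N)) :
    lft φ χ x = x.coeff.sum fun n a => φ a * χ n := by
  simp [lft, MonoidAlgebra.liftNCRingHom, MonoidAlgebra.liftNC]
  rfl

variable (R A N) in
/-- the universal pair -/
noncomputable abbrev U : Over (Spec (CommRingCat.of R)) := DE R (MonoidAlgebra A (Multiplicative N))

lemma fn_id_bijective (E : Type u) [CommRing E] [Algebra R E] : Function.Bijective (fn (𝟙 (DE R E))) := by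
  have : fn (𝟙 (DE R E)) = (Scheme.ΓSpecIso (CommRingCat.of E)).inv.hom := by
    simp [fn]
  rw [this]
  exact (Scheme.ΓSpecIso (CommRingCat.of E)).symm.commRingCatIsoToRingEquiv.bijective

lemma fn_eq {X : Over (Spec (CommRingCat.of R))} {E : Type u} [CommRing E] [Algebra R E] (u : X ⟶ DE R E) (x : E) :
    fn u x = u.left.appTop (fn (𝟙 (DE R E)) x) := by
  rw [← fn_comp, Category.comp_id]

variable (R A N) in
/-- first component of the universal pair -/
noncomputable def gU : U R A N ⟶ DE R A :=
  (exists_of_ringHom ((fn (𝟙 (U R A N))).comp (algebraMap A (MonoidAlgebra A (Multiplicative N)))) (by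
    intro r
    rw [RingHom.comp_apply, ← IsScalarTower.algebraMap_apply R A (MonoidAlgebra A (Multiplicative N))]
    exact fn_algebraMap _ _)).choose

lemma fn_gU (a : A) : fn (gU R A N) a = fn (𝟙 (U R A N)) (MonoidAlgebra.single 1 a) :=
  (exists_of_ringHom ((fn (𝟙 (U R A N))).comp (algebraMap A (MonoidAlgebra A (Multiplicative N)))) (by
    intro r
    rw [RingHom.comp_apply, ← IsScalarTower.algebraMap_apply R A (MonoidAlgebra A (Multiplicative N))]
    exact fn_algebraMap _ _)).choose_spec a

variable (R A N) in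
/-- second component of the universal pair -/
noncomputable def tU : U R A N ⟶ Red.DS (Spec (CommRingCat.of R)) N :=
  dsEquiv _ _ (((fn (𝟙 (U R A N))) : _ →* _).comp (MonoidAlgebra.of A (Multiplicative N)))

lemma dsChar_tU (n : Multiplicative N) : dsChar (tU R A N) n = fn (𝟙 (U R A N)) (MonoidAlgebra.single n 1) := by
  rw [tU, dsChar_dsEquiv]
  rfl

/-- every pair comes from the universal pair. -/
lemma exists_pair {X : Over (Spec (CommRingCat.of R))} (g : X ⟶ DE R A) (t : X ⟶ Red.DS (Spec (CommRingCat.of R)) N) :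
    ∃ v : X ⟶ U R A N, v ≫ gU R A N = g ∧ v ≫ tU R A N = t ∧ fn v = lft (fn g) (dsChar t) := by
  obtain ⟨v, hv⟩ := exists_of_ringHom (R := R) (E := MonoidAlgebra A (Multiplicative N)) (X := X)
    (lft (fn g) (dsChar t)) (by
      intro r
      rw [IsScalarTower.algebraMap_apply R A (MonoidAlgebra A (Multiplicative N))]
      have : algebraMap A (MonoidAlgebra A (Multiplicative N)) (algebraMap R A r) =
        MonoidAlgebra.single 1 (algebraMap R A r) := rfl
      rw [this, lft_single, _root_.map_one, _root_.mul_one, fn_algebraMap])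
  refine ⟨v, ?_, ?_, RingHom.ext hv⟩
  · apply fn_injective
    intro a
    rw [fn_comp, fn_gU, ← fn_eq, hv, lft_single, _root_.map_one, _root_.mul_one]
  · apply (dsEquiv X N).symm.injective
    change dsChar (v ≫ tU R A N) = dsChar t
    refine MonoidHom.ext fun n => ?_
    rw [dsChar_comp, MonoidHom.comp_apply, dsChar_tU]
    refine (fn_eq v _).symm.trans ?_
    rw [hv, lft_single, _root_.map_one, _root_.one_mul]

section coact

variable [GrpObj (DE R A)] (z : Red.DS (Spec (CommRingCat.of R)) N ⟶ DE R A)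

/-- the coaction as a ring map -/
noncomputable def rhoHom : A →+* MonoidAlgebra A (Multiplicative N) :=
  ((RingEquiv.ofBijective _ (fn_id_bijective (R := R) (MonoidAlgebra A (Multiplicative N)))).symm :
    _ →+* MonoidAlgebra A (Multiplicative N)).comp (fn (gU R A N * (tU R A N ≫ z)))

lemma fn_rhoHom (a : A) : fn (𝟙 (U R A N)) (rhoHom z a) = fn (gU R A N * (tU R A N ≫ z)) a :=
  (RingEquiv.ofBijective _ (fn_id_bijective (R := R) (MonoidAlgebra A (Multiplicative N)))).apply_symm_apply _

/-- the coaction attached to right translation -/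
noncomputable def rho : A →ₐ[R] MonoidAlgebra A (Multiplicative N) where
  __ := rhoHom z
  commutes' r := (fn_id_bijective (R := R) _).1 (by
    refine (fn_rhoHom z _).trans ?_
    rw [fn_algebraMap, fn_algebraMap])

lemma fn_rho (a : A) : fn (𝟙 (U R A N)) (rho z a) = fn (gU R A N * (tU R A N ≫ z)) a := fn_rhoHom z a

/-- translation on functions -/
lemma fn_mul {X : Over (Spec (CommRingCat.of R))} (g : X ⟶ DE R A) (t : X ⟶ Red.DS (Spec (CommRingCat.of R)) N)
    (a : A) : fn (g * (t ≫ z)) a = lft (fn g) (dsChar t) (rho z a) := by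
  obtain ⟨v, h1, h2, h3⟩ := exists_pair g t
  rw [← h3, fn_eq v, fn_rho, ← fn_comp, comp_mul, ← Category.assoc, h1, h2]

omit [AddCommGroup N] [Algebra R A] [GrpObj (DE R A)] in
lemma coeff_sum_single {B : Type u} [CommRing B] (x : MonoidAlgebra A (Multiplicative N))
    (f : Multiplicative N → A → B) (hf : ∀ n, f n 0 = 0) (m : Multiplicative N) :
    (x.coeff.sum fun n a => MonoidAlgebra.single n (f n a)).coeff m = f m (x.coeff m) := by
  classical
  rw [Finsupp.sum, MonoidAlgebra.coeff_sum, Finsupp.finsetSum_apply]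
  simp only [MonoidAlgebra.coeff_single, Finsupp.single_apply]
  rw [Finset.sum_ite_eq']
  split_ifs with h
  · rfl
  · rw [Finsupp.notMem_support_iff.1 h, hf]

lemma rho_counit [IsMonHom z] (a : A) : ((rho z a).coeff.sum fun _ b => b) = a := by
  have h := fn_mul z (𝟙 (DE R A)) 1 a
  have h1 : (1 : DE R A ⟶ Red.DS (Spec (CommRingCat.of R)) N) ≫ z = 1 := one_comp _
  rw [h1, _root_.mul_one, lft_apply] at h
  apply (fn_id_bijective (R := R) A).1
  rw [h, Finsupp.sum, Finsupp.sum, map_sum]
  refine Finset.sum_congr rfl fun n _ => ?_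
  have : dsChar (1 : DE R A ⟶ Red.DS (Spec (CommRingCat.of R)) N) = 1 := by
    simp [dsChar]
  rw [this, MonoidHom.one_apply, _root_.mul_one]

lemma rho_coassoc [IsMonHom z] (a : A) (m : Multiplicative N) :
    rho z ((rho z a).coeff m) = MonoidAlgebra.single m ((rho z a).coeff m) := by
  let T := MonoidAlgebra (MonoidAlgebra A (Multiplicative N)) (Multiplicative N)
  -- the map to the universal pair
  obtain ⟨w, hw⟩ := exists_of_ringHom (R := R) (E := MonoidAlgebra A (Multiplicative N)) (X := DE R T)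
    ((fn (𝟙 (DE R T))).comp (algebraMap (MonoidAlgebra A (Multiplicative N)) T)) (by
      intro r
      rw [RingHom.comp_apply, ← IsScalarTower.algebraMap_apply R (MonoidAlgebra A (Multiplicative N)) T]
      exact fn_algebraMap _ _)
  let t₂ : DE R T ⟶ Red.DS (Spec (CommRingCat.of R)) N :=
    dsEquiv _ _ (((fn (𝟙 (DE R T))) : _ →* _).comp (MonoidAlgebra.of (MonoidAlgebra A (Multiplicative N)) (Multiplicative N)))
  have ht₂ : ∀ n, dsChar t₂ n = fn (𝟙 (DE R T)) (MonoidAlgebra.single n 1) := fun n => by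
    simp only [t₂]
    rw [dsChar_dsEquiv]
    rfl
  have hz : ∀ (X : Over (Spec (CommRingCat.of R))) (x y : X ⟶ Red.DS (Spec (CommRingCat.of R)) N),
      (x * y) ≫ z = (x ≫ z) * (y ≫ z) := fun X x y => mul_comp _ _ _
  have key : (w ≫ gU R A N * ((w ≫ tU R A N) ≫ z)) * (t₂ ≫ z) =
      w ≫ gU R A N * (((w ≫ tU R A N) * t₂) ≫ z) := by
    rw [hz, _root_.mul_assoc]
  have h1 : ∀ b, fn (w ≫ gU R A N * ((w ≫ tU R A N) ≫ z)) b = fn (𝟙 _) (MonoidAlgebra.single 1 (rho z b) : T) := by
    intro b
    rw [Category.assoc, ← comp_mul, fn_comp, ← fn_rho, ← fn_comp, Category.comp_id, hw]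
    rfl
  have h2 : fn ((w ≫ gU R A N * ((w ≫ tU R A N) ≫ z)) * (t₂ ≫ z)) a =
      fn (𝟙 _) ((rho z a).coeff.sum fun n b => (MonoidAlgebra.single n (rho z b) : T)) := by
    rw [fn_mul, lft_apply, Finsupp.sum, Finsupp.sum, map_sum]
    refine Finset.sum_congr rfl fun n _ => ?_
    rw [h1, ht₂, ← _root_.map_mul, MonoidAlgebra.single_mul_single, _root_.one_mul, _root_.mul_one]
  have h3 : ∀ b, fn (w ≫ gU R A N) b = fn (𝟙 _) (MonoidAlgebra.single 1 (MonoidAlgebra.single 1 b) : T) := by
    intro b
    rw [fn_comp, fn_gU, ← fn_eq, hw]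
    rfl
  have h4 : ∀ n, dsChar (w ≫ tU R A N) n =
      fn (𝟙 (DE R T)) (MonoidAlgebra.single 1 (MonoidAlgebra.single n 1) : T) := by
    intro n
    rw [dsChar_comp]
    refine (congrArg w.left.appTop (dsChar_tU n)).trans ?_
    rw [← fn_eq, hw]
    rfl
  have h5 : fn (w ≫ gU R A N * (((w ≫ tU R A N) * t₂) ≫ z)) a =
      fn (𝟙 _) ((rho z a).coeff.sum fun n b => (MonoidAlgebra.single n (MonoidAlgebra.single n b) : T)) := by
    rw [fn_mul, lft_apply, Finsupp.sum, Finsupp.sum, map_sum]
    refine Finset.sum_congr rfl fun n _ => ?_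
    rw [h3, dsChar_mul, MonoidHom.mul_apply, h4, ht₂, ← _root_.map_mul, ← _root_.map_mul,
      MonoidAlgebra.single_mul_single, MonoidAlgebra.single_mul_single]
    simp only [_root_.one_mul, _root_.mul_one]
    rw [MonoidAlgebra.single_mul_single, _root_.one_mul, _root_.mul_one]
  rw [key, h5] at h2
  have h6 := (fn_id_bijective (R := R) T).1 h2
  have h7 := congrArg (fun y : T => y.coeff m) h6
  rw [coeff_sum_single (B := MonoidAlgebra A (Multiplicative N)) (rho z a)
      (fun n b => MonoidAlgebra.single n b) (by simp) m,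
    coeff_sum_single (B := MonoidAlgebra A (Multiplicative N)) (rho z a)
      (fun n b => rho z b) (by simp) m] at h7
  exact h7.symm

/-- the coaction attached to `z : D(N) ⟶ Spec A`. -/
noncomputable def coact [IsMonHom z] : Coact R A N where
  ρ := rho z
  counit := rho_counit z
  coassoc := rho_coassoc z

omit [GrpObj (DE R A)] in
lemma fn_surjective {X : Over (Spec (CommRingCat.of R))} (y : X ⟶ DE R A) [IsClosedImmersion y.left] :
    Function.Surjective (fn y) := by
  have h := (IsClosedImmersion.isAffine_surjective_of_isAffine y.left).2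
  have h2 := (Scheme.ΓSpecIso (CommRingCat.of A)).symm.commRingCatIsoToRingEquiv.surjective
  intro x
  obtain ⟨w, rfl⟩ := h x
  obtain ⟨v, rfl⟩ := h2 w
  exact ⟨v, rfl⟩

omit [GrpObj (DE R A)] in
lemma span_eq (ρ : A →ₐ[R] MonoidAlgebra A (Multiplicative N)) :
    Submodule.span A (Set.range ρ) =
      Subalgebra.toSubmodule (Algebra.adjoin A (Set.range ρ)) := by
  rw [Algebra.adjoin_eq_span]
  congr 1
  have : Set.range ρ = (MonoidHom.mrange (ρ : A →* MonoidAlgebra A (Multiplicative N)) : Set _) := rfl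
  rw [this, Submonoid.closure_eq]

/-- the closed immersion property gives freeness. -/
theorem coact_free [IsMonHom z] [IsClosedImmersion z.left] : (coact z).Free := by
  apply Coact.free_of_span
  intro n
  -- a function on `Spec A` restricting to the character `n`
  obtain ⟨a, ha⟩ := fn_surjective z (dsChar (𝟙 (Red.DS (Spec (CommRingCat.of R)) N)) (Multiplicative.ofAdd n))
  change MonoidAlgebra.single (Multiplicative.ofAdd n) 1 ∈ Submodule.span A (Set.range (rho z))
  rw [span_eq, Subalgebra.mem_toSubmodule]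
  let B' := Algebra.adjoin A (Set.range (rho z))
  obtain ⟨p, hp⟩ := exists_of_ringHom (R := R) (E := B') (X := U R A N)
    ((fn (𝟙 (U R A N))).comp (B'.val : B' →+* MonoidAlgebra A (Multiplicative N))) (by
      intro r
      exact fn_algebraMap (𝟙 (U R A N)) r)
  obtain ⟨g', hg'⟩ := exists_of_ringHom (R := R) (E := A) (X := DE R B')
    ((fn (𝟙 (DE R B'))).comp (algebraMap A B')) (by
      intro r
      exact fn_algebraMap (𝟙 (DE R B')) r)
  obtain ⟨h', hh'⟩ := exists_of_ringHom (R := R) (E := A) (X := DE R B')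
    ((fn (𝟙 (DE R B'))).comp ((rho z).toRingHom.codRestrict B' fun a => Algebra.subset_adjoin ⟨a, rfl⟩)) (by
      intro r
      refine Eq.trans ?_ (fn_algebraMap (𝟙 (DE R B')) r)
      rw [RingHom.comp_apply]
      congr 1
      exact Subtype.ext ((rho z).commutes r))
  have h1 : p ≫ g' = gU R A N := fn_injective fun x => by
    rw [fn_comp, hg', RingHom.comp_apply, ← fn_eq, hp, fn_gU]
    rfl
  have h2 : p ≫ h' = gU R A N * (tU R A N ≫ z) := fn_injective fun x => by
    rw [fn_comp, hh', RingHom.comp_apply, ← fn_eq, hp, ← fn_rho]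
    rfl
  have h3 : tU R A N ≫ z = p ≫ (g'⁻¹ * h') := by
    rw [comp_mul, GrpObj.comp_inv, h1, h2, inv_mul_cancel_left]
  have h4 := congrArg (fun y => fn y a) h3
  obtain ⟨b, hb⟩ := (fn_id_bijective (R := R) B').2 (fn (g'⁻¹ * h') a)
  rw [fn_comp, ha, fn_comp, ← hb, ← fn_eq, hp] at h4
  have h5 : (tU R A N).left.appTop (dsChar (𝟙 (Red.DS (Spec (CommRingCat.of R)) N)) (Multiplicative.ofAdd n)) =
      dsChar (tU R A N) (Multiplicative.ofAdd n) := by
    have := dsChar_comp (tU R A N) (𝟙 (Red.DS (Spec (CommRingCat.of R)) N))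
    rw [Category.comp_id] at this
    rw [this]
    rfl
  rw [h5, dsChar_tU] at h4
  have h6 := (fn_id_bijective (R := R) _).1 h4
  rw [h6]
  exact b.2

/-- The quotient morphism `Spec A ⟶ Spec A₀`. -/
noncomputable def quotHom [IsMonHom z] : DE R A ⟶ DE R (coact z).A0 :=
  Over.homMk (Spec.map (CommRingCat.ofHom (algebraMap (coact z).A0 A))) (by
    simp only [Over.mk_hom, ← Spec.map_comp, ← CommRingCat.ofHom_comp]
    rfl)

lemma fn_quotHom [IsMonHom z] {X : Over (Spec (CommRingCat.of R))} (x : X ⟶ DE R A) (a : (coact z).A0) :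
    fn (x ≫ quotHom z) a = fn x (a : A) := by
  have h1 : (Scheme.ΓSpecIso (CommRingCat.of (coact z).A0)).inv ≫ (quotHom z).left.appTop =
      CommRingCat.ofHom (algebraMap (coact z).A0 A) ≫ (Scheme.ΓSpecIso (CommRingCat.of A)).inv := by
    simp only [quotHom, Over.homMk_left]
    exact (Scheme.ΓSpecIso_inv_naturality _).symm
  simp only [fn, Over.comp_left]
  rw [Scheme.Hom.comp_appTop, ← Category.assoc, h1]
  rfl

theorem agree [IsMonHom z] [IsClosedImmersion z.left] {X : Over (Spec (CommRingCat.of R))} (x y : X ⟶ DE R A) :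
    x ≫ quotHom z = y ≫ quotHom z ↔ ∃ t : X ⟶ Red.DS (Spec (CommRingCat.of R)) N, y = x * (t ≫ z) := by
  let B : Type u := Γ(X.left, ⊤)
  let _ : Algebra R B := ((Scheme.ΓSpecIso (CommRingCat.of R)).inv ≫ X.hom.appTop).hom.toAlgebra
  let P : (X ⟶ DE R A) → (A →ₐ[R] B) := fun x => { fn x with commutes' := fn_algebraMap x }
  have h1 : x ≫ quotHom z = y ≫ quotHom z ↔ ∀ a ∈ (coact z).A0, P x a = P y a := by
    constructor
    · intro h a ha
      have h2 : fn (x ≫ quotHom z) ⟨a, ha⟩ = fn (y ≫ quotHom z) ⟨a, ha⟩ :=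
        congrArg (fun u => fn u (⟨a, ha⟩ : (coact z).A0)) h
      rw [fn_quotHom, fn_quotHom] at h2
      exact h2
    · intro h
      apply fn_injective
      intro a
      rw [fn_quotHom, fn_quotHom]
      exact h a a.2
  rw [h1, (coact_free z).eqOn_A0_iff]
  constructor
  · rintro ⟨w, hw⟩
    refine ⟨dsEquiv X N ((Units.coeHom B).comp w), fn_injective fun a => ?_⟩
    rw [fn_mul, dsChar_dsEquiv]
    exact congrArg (fun k : A →ₐ[R] B => k a) hw
  · rintro ⟨t, rfl⟩
    refine ⟨(dsChar t).toHomUnits, AlgHom.ext fun a => ?_⟩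
    have : (Units.coeHom B).comp (dsChar t).toHomUnits = dsChar t := rfl
    refine (fn_mul z x t a).trans ?_
    rfl

end coact

end Groth.Agent.Sga3B.AdPts
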