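import Groth.Agent.Sga3B.BcPts
import Groth.Agent.Sga3C.SubGrp
import Groth.Agent.Sga3C.KerSquare
import Groth.Agent.Sga3C.ActBase
import Mathlib.AlgebraicGeometry.ZariskisMainTheorem

/-!
# The kernel of a homomorphism of group schemes and its base change
-/

set_option autoImplicit false

universe u

open CategoryTheory MonoidalCategory CartesianMonoidalCategory MonObj GrpObj AlgebraicGeometry Limits

namespace Groth.Agent.Sga3B.KerGrp

open BcPts

variable {S : Scheme.{u}} {G H : Over S} [GrpObj G] [GrpObj H] (u : G ⟶ H)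

/-- the kernel -/
noncomputable def kerObj : Over S := Over.mk (pullback.snd u.left (η[H] : 𝟙_ (Over S) ⟶ H).left)

lemma unit_w : (η[H] : 𝟙_ (Over S) ⟶ H).left ≫ H.hom = 𝟙 S := Over.w (η[H] : 𝟙_ (Over S) ⟶ H)

/-- the inclusion of the kernel -/
noncomputable def kerι : kerObj u ⟶ G := Over.homMk (pullback.fst u.left _) (by
  have h := pullback.condition (f := u.left) (g := (η[H] : 𝟙_ (Over S) ⟶ H).left) =≫ H.hom
  simp only [Category.assoc, Over.w] at h
  exact h.trans (Category.comp_id _))

lemma isPullback_ker : IsPullback (kerι u) (toUnit (kerObj u)) u η[H] := by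
  refine IsPullback.of_map (Over.forget S) ?_ ?_
  · ext1
    exact pullback.condition (f := u.left) (g := (η[H] : 𝟙_ (Over S) ⟶ H).left)
  · exact IsPullback.of_hasPullback u.left (η[H] : 𝟙_ (Over S) ⟶ H).left

instance : Mono (kerι u) := ⟨fun _ _ h => (isPullback_ker u).hom_ext h (toUnit_unique _ _)⟩

lemma kerι_comp : kerι u ≫ u = 1 := (isPullback_ker u).w

lemma exists_lift {T : Over S} (g : T ⟶ G) (h : g ≫ u = 1) : ∃ t : T ⟶ kerObj u, t ≫ kerι u = g :=
  ⟨(isPullback_ker u).lift g (toUnit T) h, (isPullback_ker u).lift_fst _ _ _⟩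

lemma exists_grpObj [IsMonHom u] : ∃ _ : GrpObj (kerObj u), IsMonHom (kerι u) := by
  apply Sga3C.SubGrp.exists_grpObj_of_mono
  · obtain ⟨m, hm⟩ := exists_lift u ((kerι u ⊗ₘ kerι u) ≫ μ[G]) (by
      have : (kerι u ⊗ₘ kerι u) ≫ μ[G] = (fst _ _ ≫ kerι u) * (snd _ _ ≫ kerι u) := by
        rw [Hom.mul_def]
        congr 1
      rw [this, MonObj.mul_comp, Category.assoc, Category.assoc, kerι_comp, MonObj.comp_one,
        MonObj.comp_one, _root_.mul_one])
    exact ⟨m, hm⟩
  · exact exists_lift u η (by rw [IsMonHom.one_hom]; exact one_eq_one _)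
  · exact exists_lift u (kerι u ≫ ι[G]) (by
      have : kerι u ≫ ι[G] = (kerι u)⁻¹ := (Hom.inv_def _).symm
      rw [this, GrpObj.inv_comp, kerι_comp, inv_one])

instance [IsSeparated H.hom] : IsClosedImmersion (kerι u).left := by
  have h0 : IsClosedImmersion (𝟙 S) := IsClosedImmersion.instOfIsIsoScheme _
  have h1 : IsClosedImmersion ((η[H] : 𝟙_ (Over S) ⟶ H).left ≫ H.hom) := by
    rw [unit_w]; exact h0
  have h2 : IsClosedImmersion (η[H] : 𝟙_ (Over S) ⟶ H).left := IsClosedImmersion.of_comp _ H.hom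
  exact inferInstanceAs (IsClosedImmersion (pullback.fst u.left _))

/-- Quasi-finiteness can be tested on the kernel. -/
theorem locallyQuasiFinite_of_ker [IsMonHom u] [LocallyOfFiniteType G.hom] [QuasiCompact u.left]
    (hK : LocallyQuasiFinite (kerObj u).hom) : LocallyQuasiFinite u.left := by
  obtain ⟨d, hd⟩ := Sga3C.KerSquare.isPullback_fst_ker u
  have h1 : LocallyQuasiFinite (pullback.fst u.left u.left) :=
    MorphismProperty.of_isPullback (P := @LocallyQuasiFinite) hd.flip hK
  have h3 : LocallyOfFiniteType u.left := by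
    have : LocallyOfFiniteType (u.left ≫ H.hom) := by rw [Over.w]; infer_instance
    exact locallyOfFiniteType_of_comp u.left H.hom
  rw [locallyQuasiFinite_iff_finite_preimage_singleton]
  intro h
  by_cases hr : ∃ g, u.left g = h
  · obtain ⟨g, rfl⟩ := hr
    refine (((pullback.fst u.left u.left).finite_preimage_singleton g).image (pullback.snd u.left u.left)).subset ?_
    intro g' hg'
    obtain ⟨e, he1, he2⟩ := Scheme.Pullback.exists_preimage_pullback (f := u.left) (g := u.left) g g' hg'.symm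
    exact ⟨e, he1, he2⟩
  · convert Set.finite_empty
    ext g
    simp only [Set.mem_preimage, Set.mem_singleton_iff, Set.mem_empty_iff_false, iff_false]
    exact fun hg => hr ⟨g, hg⟩

/-- The base change of the kernel is a normal subgroup. -/
theorem isNormalHom_bc [IsMonHom u] {S' : Scheme.{u}} (t : S' ⟶ S) [GrpObj (kerObj u)] [IsMonHom (kerι u)] :
    AlgGrp.IsNormalHom (N := Red.bc t (kerObj u)) (G := Red.bc t G) ((Over.pullback t).map (kerι u)) := by
  intro X g x
  obtain ⟨g, rfl⟩ := (bcMulEquiv t X G).surjective g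
  obtain ⟨x, rfl⟩ := (bcMulEquiv t X (kerObj u)).surjective x
  have h1 : bcMulEquiv t X (kerObj u) x ≫ (Over.pullback t).map (kerι u) =
      bcMulEquiv t X G (x ≫ kerι u) := (bcEquiv_comp t x (kerι u)).symm
  rw [h1, ← map_inv, ← map_mul, ← map_mul]
  obtain ⟨y, hy⟩ := exists_lift u (g * (x ≫ kerι u) * g⁻¹) (by
    rw [MonObj.mul_comp, MonObj.mul_comp, Category.assoc, kerι_comp, MonObj.comp_one,
      _root_.mul_one, GrpObj.inv_comp, mul_inv_cancel])
  refine ⟨bcMulEquiv t X (kerObj u) y, ?_⟩
  rw [← hy]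
  exact bcEquiv_comp t y (kerι u)

instance isClosedImmersion_bc [IsSeparated H.hom] {S' : Scheme.{u}} (t : S' ⟶ S) :
    IsClosedImmersion ((Over.pullback t).map (kerι u)).left :=
  MorphismProperty.of_isPullback (P := @IsClosedImmersion)
    (Sga3C.ActBase.isPullback_map_left t (kerι u)).flip inferInstance

end Groth.Agent.Sga3B.KerGrp
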