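import Groth.Agent.Sga3B.SsKer
import Groth.Agent.Sga3B.KerGrp

/-!
# The adjoint-type representation of a group with semisimple geometric fibres is quasi-finite
-/

set_option autoImplicit false

universe u

open CategoryTheory MonoidalCategory CartesianMonoidalCategory MonObj GrpObj AlgebraicGeometry Limits

namespace Groth.Agent.Sga3B.AdQF

open BcPts FreeBC DSAffPts AdRep KerGrp

lemma appTop_fn {K E : Type u} [CommRing K] [CommRing E] [Algebra K E]
    (eD : 𝟙_ (Over (Spec (CommRingCat.of K))) ⟶ DE K E)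
    (hsq : ∀ x y, fn eD x = 0 → fn eD y = 0 → x * y = 0)
    (x y : Γ(Spec (CommRingCat.of E), ⊤)) (hx : eD.left.appTop x = 0) (hy : eD.left.appTop y = 0) :
    x * y = 0 := by
  have hinj : Function.Injective (Scheme.ΓSpecIso (CommRingCat.of E)).hom :=
    (ConcreteCategory.bijective_of_isIso _).1
  have h1 : ∀ z : Γ(Spec (CommRingCat.of E), ⊤),
      fn eD ((Scheme.ΓSpecIso (CommRingCat.of E)).hom z) = eD.left.appTop z := by
    intro z
    change eD.left.appTop ((Scheme.ΓSpecIso (CommRingCat.of E)).inv ((Scheme.ΓSpecIso (CommRingCat.of E)).hom z)) = _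
    congr 1
    exact congr($((Scheme.ΓSpecIso (CommRingCat.of E)).hom_inv_id) z)
  apply hinj
  rw [map_mul, map_zero]
  exact hsq _ _ ((h1 x).trans hx) ((h1 y).trans hy)

/-- Centralizing the first infinitesimal neighbourhood of the unit is stable under base change. -/
theorem centralizes_bc {R B : Type u} [CommRing R] [CommRing B] [Algebra R B]
    {G N : Over (Spec (CommRingCat.of R))} [GrpObj G] [GrpObj N]
    (w : DE R B ⟶ G) [IsOpenImmersion w.left] (eW : 𝟙_ (Over (Spec (CommRingCat.of R))) ⟶ DE R B)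
    (heW : eW ≫ w = η) (n : N ⟶ G) [IsMonHom n]
    (hn : ∀ (X : Over (Spec (CommRingCat.of R))) (p : X ⟶ N) (d : X ⟶ DE R (B ⧸ augIdeal eW ^ 2)),
      (p ≫ n) * (d ≫ quotMap _ ≫ w) * (p ≫ n)⁻¹ = d ≫ quotMap _ ≫ w)
    {K A : Type u} [CommRing K] [CommRing A] [Algebra K A]
    (t : Spec (CommRingCat.of K) ⟶ Spec (CommRingCat.of R))
    (wK : DE K A ⟶ Red.bc t G) (eK : 𝟙_ (Over (Spec (CommRingCat.of K))) ⟶ DE K A)
    (heK : eK ≫ wK = η) (X : Over (Spec (CommRingCat.of K))) (x : X ⟶ Red.bc t N)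
    (d : X ⟶ DE K (A ⧸ augIdeal eK ^ 2)) :
    (x ≫ (Over.pullback t).map n) * (d ≫ quotMap _ ≫ wK) * (x ≫ (Over.pullback t).map n)⁻¹ =
      d ≫ quotMap _ ≫ wK := by
  obtain ⟨eD, heD, hsurj, hsq⟩ := exists_eD eK
  let D := DE K (A ⧸ augIdeal eK ^ 2)
  let x₁ : (Over.map t).obj D ⟶ G := (bcMulEquiv t D G).symm (quotMap _ ≫ wK)
  have hx₁ : bcMulEquiv t D G x₁ = quotMap _ ≫ wK := MulEquiv.apply_symm_apply _ _
  have hsurj' : Surjective ((Over.map t).map eD).left := hsurj
  obtain ⟨y, hy⟩ := factor w eW heW ((Over.map t).map eD) (appTop_fn eD hsq) x₁ (by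
    apply (bcMulEquiv t (𝟙_ _) G).injective
    have h1 : bcMulEquiv t (𝟙_ _) G ((Over.map t).map eD ≫ x₁) = eD ≫ bcMulEquiv t D G x₁ :=
      comp_bcEquiv t eD x₁
    rw [h1, hx₁, map_one, ← Category.assoc, heD, heK]
    exact one_eq_one _)
  obtain ⟨x, rfl⟩ := (bcMulEquiv t X N).surjective x
  have h2 : bcMulEquiv t X N x ≫ (Over.pullback t).map n = bcMulEquiv t X G (x ≫ n) :=
    (bcEquiv_comp t x n).symm
  have h3 : d ≫ quotMap (augIdeal eK ^ 2) ≫ wK =
      bcMulEquiv t X G (((Over.map t).map d ≫ y) ≫ quotMap _ ≫ w) := by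
    rw [Category.assoc, hy, ← hx₁]
    exact (comp_bcEquiv t d x₁).symm
  rw [h2, h3, ← map_inv, ← map_mul, ← map_mul, hn]

/-- The kernel of a homomorphism whose kernel centralizes the first infinitesimal neighbourhood of the unit is
quasi-finite when the geometric fibres are semisimple. -/
theorem locallyQuasiFinite {R B : Type u} [CommRing R] [CommRing B] [Algebra R B]
    {G H : Over (Spec (CommRingCat.of R))} [GrpObj G] [GrpObj H] [LocallyOfFiniteType G.hom]
    [QuasiCompact G.hom] [IsSeparated H.hom]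
    (w : DE R B ⟶ G) [IsOpenImmersion w.left] (eW : 𝟙_ (Over (Spec (CommRingCat.of R))) ⟶ DE R B)
    (heW : eW ≫ w = η) (f : G ⟶ H) [IsMonHom f] [QuasiCompact f.left]
    (hf : ∀ {T : Over (Spec (CommRingCat.of R))} (g : T ⟶ G), g ≫ f = 1 →
      ∀ (X : Over (Spec (CommRingCat.of R))) (p : X ⟶ T) (d : X ⟶ DE R (B ⧸ augIdeal eW ^ 2)),
      (p ≫ g) * (d ≫ quotMap _ ≫ w) * (p ≫ g)⁻¹ = d ≫ quotMap _ ≫ w)
    (hss : ∀ s : Spec (CommRingCat.of R), ∃ (K : Type u) (_ : Field K) (_ : IsAlgClosed K)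
      (t : Spec (CommRingCat.of K) ⟶ Spec (CommRingCat.of R)), t (IsLocalRing.closedPoint K) = s ∧
        Red.IsSemisimpleOver K (Red.bc t G)) :
    LocallyQuasiFinite f.left := by
  apply locallyQuasiFinite_of_ker
  obtain ⟨_, _⟩ := exists_grpObj f
  have hlft : LocallyOfFiniteType (kerObj f).hom := by
    rw [← Over.w (kerι f)]; infer_instance
  have hqc : QuasiCompact (kerObj f).hom := by
    rw [← Over.w (kerι f)]; infer_instance
  refine LocallyQuasiFinite.of_finite_preimage_singleton _ fun s => ?_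
  obtain ⟨K, _, _, t, hts, hs⟩ := hss s
  have hGaff : IsAffine (Red.bc t G).left := hs.1.1
  obtain ⟨A, _, _, ⟨e⟩⟩ := exists_iso_DE (Red.bc t G)
  have hcl : IsClosedImmersion ((Over.pullback t).map (kerι f)).left := isClosedImmersion_bc f t
  have hdisc : DiscreteTopology (Red.bc t (kerObj f)).left :=
    SsKer.discreteTopology_of_isSemisimpleOver hs e.hom (η ≫ e.inv) (by simp)
      ((Over.pullback t).map (kerι f)) (isNormalHom_bc f t)
      (centralizes_bc w eW heW (kerι f) (fun X p d => hf (kerι f) (kerι_comp f) X p d) t e.hom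
        (η ≫ e.inv) (by simp))
  have hcomp : CompactSpace (Red.bc t (kerObj f)).left := by
    have : QuasiCompact (Red.bc t (kerObj f)).hom :=
      inferInstanceAs (QuasiCompact (pullback.snd _ _))
    exact (quasiCompact_iff_compactSpace _).mp this
  have hfin : Finite ↥(pullback (kerObj f).hom t) :=
    @finite_of_compact_of_discrete (Red.bc t (kerObj f)).left _ hcomp hdisc
  refine (Set.finite_range (pullback.fst (kerObj f).hom t)).subset ?_
  intro x hx
  have hx' : (kerObj f).hom x = t (IsLocalRing.closedPoint K) := by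
    rw [hx, hts]
  obtain ⟨z, hz, -⟩ := Scheme.Pullback.exists_preimage_pullback (f := (kerObj f).hom) (g := t) x _ hx'
  exact ⟨z, hz⟩

end Groth.Agent.Sga3B.AdQF
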