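import Groth.Agent.Sga3B.AdPts
import Groth.Agent.S0115

/-!
# The quotient of an affine smooth group scheme by a central diagonalizable subgroup
-/

set_option autoImplicit false
open CategoryTheory MonoidalCategory CartesianMonoidalCategory MonObj GrpObj AlgebraicGeometry
universe u

namespace Groth.Agent.Sga3B.AdQuot

open FreeBC DSPts AdGrad AdPts

/-- `q : G ⟶ Q` is an fppf quotient of `G` by its subgroup `z : Z ⟶ G`. -/
structure IsQuot {S : Scheme.{u}} {Z G Q : Over S} [GrpObj G] (z : Z ⟶ G) (q : G ⟶ Q) : Prop where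
  flat : Flat q.left
  surj : Surjective q.left
  lfp : LocallyOfFinitePresentation q.left
  qc : QuasiCompact q.left
  agree : ∀ (X : Over S) (x y : X ⟶ G), x ≫ q = y ≫ q ↔ ∃ t : X ⟶ Z, y = x * (t ≫ z)

section spec

variable {R A : Type u} [CommRing R] [CommRing A] [Algebra R A] {N : Type} [AddCommGroup N]
  [GrpObj (DE R A)] (z : Red.DS (Spec (CommRingCat.of R)) N ⟶ DE R A) [IsMonHom z] [IsClosedImmersion z.left]

theorem isQuot_quotHom [Algebra.FinitePresentation R A] : IsQuot z (quotHom z) := by
  have hff := (coact_free z).faithfullyFlat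
  have hfp := (coact z).finitePresentation_over_A0
  refine ⟨?_, ?_, ?_, ?_, fun X x y => agree z x y⟩
  · change Flat (Spec.map _)
    rw [HasRingHomProperty.Spec_iff (P := @Flat)]
    exact (RingHom.flat_algebraMap_iff).mpr inferInstance
  · refine ⟨?_⟩
    exact PrimeSpectrum.comap_surjective_of_faithfullyFlat
  · change LocallyOfFinitePresentation (Spec.map _)
    rw [HasRingHomProperty.Spec_iff (P := @LocallyOfFinitePresentation)]
    exact RingHom.finitePresentation_algebraMap.mpr hfp
  · change QuasiCompact (Spec.map _)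
    infer_instance

end spec

/-- being a quotient is invariant under isomorphisms of the source data. -/
theorem IsQuot.of_iso {S : Scheme.{u}} {Z G Q Z' G' : Over S} [GrpObj G] [GrpObj G'] {z' : Z' ⟶ G'} {q' : G' ⟶ Q}
    (h : IsQuot z' q') (z : Z ⟶ G) (eZ : Z' ≅ Z) (eG : G ≅ G') [IsMonHom eG.hom]
    (hc : eZ.hom ≫ z ≫ eG.hom = z') : IsQuot z (eG.hom ≫ q') where
  flat := by
    have := h.flat
    rw [Over.comp_left]
    infer_instance
  surj := by
    have := h.surj
    rw [Over.comp_left]
    infer_instance
  lfp := by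
    have := h.lfp
    rw [Over.comp_left]
    infer_instance
  qc := by
    have := h.qc
    rw [Over.comp_left]
    infer_instance
  agree X x y := by
    rw [← Category.assoc, ← Category.assoc, h.agree]
    constructor
    · rintro ⟨t, ht⟩
      refine ⟨t ≫ eZ.hom, ?_⟩
      rw [← cancel_mono eG.hom, ht, mul_comp, Category.assoc, Category.assoc, hc]
    · rintro ⟨t, rfl⟩
      refine ⟨t ≫ eZ.inv, ?_⟩
      rw [mul_comp, ← hc]
      simp

/-- (Ad1) quotient by a diagonalizable closed subgroup. -/
theorem exists_quot (R : Type u) [CommRing R] (G Z : Over (Spec (CommRingCat.of R))) [GrpObj G] [GrpObj Z]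
    (hG : IsAffineHom G.hom) (hsm : Smooth G.hom) (z : Z ⟶ G) [IsMonHom z] (hz : IsClosedImmersion z.left)
    (N : Type) [AddCommGroup N] (hN : Nonempty (Grp.mk Z ≅ Grp.mk (Red.DS _ N))) :
    ∃ (Q : Over (Spec (CommRingCat.of R))) (q : G ⟶ Q), IsQuot z q ∧ IsAffineHom Q.hom ∧ Smooth Q.hom := by
  have : IsAffine G.left := isAffine_of_isAffineHom G.hom
  let A : Type u := Γ(G.left, ⊤)
  let _ : Algebra R A := ((Scheme.ΓSpecIso (CommRingCat.of R)).inv ≫ G.hom.appTop).hom.toAlgebra
  let e : G ≅ DE R A := Over.isoMk G.left.isoSpec (by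
    apply ext_of_isAffine
    have h0 : (DE R A).hom = Spec.map (CommRingCat.ofHom (algebraMap R A)) := rfl
    rw [← cancel_epi (Scheme.ΓSpecIso (CommRingCat.of R)).inv, h0, Scheme.Hom.comp_appTop,
      ← Scheme.ΓSpecIso_inv_naturality_assoc, Scheme.isoSpec_hom, Scheme.toSpecΓ_appTop]
    refine (congrArg (fun k => CommRingCat.ofHom (algebraMap R A) ≫ k)
      ((Scheme.ΓSpecIso (CommRingCat.of A)).inv_hom_id)).trans ?_
    exact Category.comp_id _)
  let _ : GrpObj (DE R A) := GrpObj.ofIso e
  have : IsMonHom e.hom := by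
    constructor
    · rfl
    · simp +instances
  obtain ⟨eN⟩ := hN
  let z' : Red.DS _ N ⟶ DE R A := eN.inv.hom.hom ≫ z ≫ e.hom
  have : IsMonHom z' := inferInstance
  have : IsClosedImmersion z'.left := by
    have h1 : IsIso ((Grp.forget _).mapIso eN.symm).hom.left := inferInstance
    have h1 : IsIso (eN.inv.hom.hom).left := h1
    have h2 : IsIso e.hom.left := inferInstance
    simp only [z', Over.comp_left]
    infer_instance
  have : Algebra.FinitePresentation R A := by
    have h1 : Smooth (DE R A).hom := by
      have : (DE R A).hom = e.inv.left ≫ G.hom := (Over.w e.inv).symm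
      rw [this]
      infer_instance
    have h2 : LocallyOfFinitePresentation (Spec.map (CommRingCat.ofHom (algebraMap R A))) := by
      change LocallyOfFinitePresentation (DE R A).hom
      infer_instance
    rw [HasRingHomProperty.Spec_iff (P := @LocallyOfFinitePresentation)] at h2
    exact RingHom.finitePresentation_algebraMap.mp h2
  have hq := isQuot_quotHom z'
  have hq' := hq.of_iso z ((Grp.forget _).mapIso eN.symm) e rfl
  refine ⟨_, _, hq', ?_, ?_⟩
  · change IsAffineHom (Spec.map _)
    infer_instance
  · have := hq'.flat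
    have := hq'.surj
    have := hq'.lfp
    have h3 := Over.w (e.hom ≫ quotHom z')
    have : Smooth ((e.hom ≫ quotHom z').left ≫ (DE R (coact z').A0).hom) := by
      rw [h3]
      exact hsm
    exact Groth.Agent.S0115.result (e.hom ≫ quotHom z').left _

end Groth.Agent.Sga3B.AdQuot
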