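import Groth.Agent.Sga3B.LinRep
import Mathlib.RingTheory.Nilpotent.Lemmas

/-!
# The adjoint-type representation of a group scheme on the first infinitesimal neighbourhood of the unit

`G` is a group scheme over `Spec R`, `Spec B ⟶ G` an open immersion through which the unit section factors, `I` the
augmentation ideal of `B`, and `E = B / I ^ 2`.  Conjugation induces an action of `G` on `D = Spec E`, and when `E` is
finite free over `R` a homomorphism `G ⟶ GLS m (Spec R)` whose kernel consists of the points commuting with `D`.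
-/

set_option autoImplicit false

universe u

open CategoryTheory MonoidalCategory CartesianMonoidalCategory AlgebraicGeometry Limits MonObj

namespace Groth.Agent.Sga3B.AdRep

open GLn FreeBC LinRep

section SqZero

variable {R E : Type u} [CommRing R] [CommRing E] [Algebra R E]

/-- the augmentation as a map to `R` -/
noncomputable def aug (eD : 𝟙_ (Over (Spec (CommRingCat.of R))) ⟶ DE R E) (x : E) : R :=
  (Scheme.ΓSpecIso (CommRingCat.of R)).hom (fn eD x)

lemma fn_toUnit (eD : 𝟙_ (Over (Spec (CommRingCat.of R))) ⟶ DE R E)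
    {Y : Over (Spec (CommRingCat.of R))} (y : Y ⟶ DE R E) (x : E) :
    fn (toUnit Y ≫ eD) x = fn y (algebraMap R E (aug eD x)) := by
  rw [fn_comp, fn_algebraMap, aug]
  have : (Scheme.ΓSpecIso (CommRingCat.of R)).inv ((Scheme.ΓSpecIso (CommRingCat.of R)).hom (fn eD x)) =
      fn eD x := by
    have := congr($((Scheme.ΓSpecIso (CommRingCat.of R)).hom_inv_id) (fn eD x))
    exact this
  rw [this]
  rfl

lemma fn_sub_aug (eD : 𝟙_ (Over (Spec (CommRingCat.of R))) ⟶ DE R E) (x : E) :
    fn eD (x - algebraMap R E (aug eD x)) = 0 := by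
  rw [map_sub, ← fn_toUnit eD eD x]
  have : toUnit (𝟙_ (Over (Spec (CommRingCat.of R)))) = 𝟙 _ := toUnit_unique _ _
  rw [this, Category.id_comp, sub_self]

/-- the section `T ⟶ T × D` given by the unit -/
noncomputable def sec (eD : 𝟙_ (Over (Spec (CommRingCat.of R))) ⟶ DE R E)
    (T : Over (Spec (CommRingCat.of R))) : T ⟶ T ⊗ DE R E := lift (𝟙 T) (toUnit T ≫ eD)

lemma sub_eq (eD : 𝟙_ (Over (Spec (CommRingCat.of R))) ⟶ DE R E)
    (T : Over (Spec (CommRingCat.of R))) {m : Type u} [Fintype m] (b : m → E) (c : m → Γ(T.left, ⊤))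
    (z : Γ((T ⊗ DE R E).left, ⊤))
    (hz : z = ∑ j, (fst T (DE R E)).left.appTop (c j) * fn (snd T (DE R E)) (b j)) :
    z = (fst T (DE R E)).left.appTop ((sec eD T).left.appTop z) +
      ∑ j, (fst T (DE R E)).left.appTop (c j) *
        fn (snd T (DE R E)) (b j - algebraMap R E (aug eD (b j))) := by
  have h1 : (fst T (DE R E)).left.appTop ((sec eD T).left.appTop z) =
      ∑ j, (fst T (DE R E)).left.appTop (c j) *
        fn (snd T (DE R E)) (algebraMap R E (aug eD (b j))) := by
    rw [appTop_comp_apply, hz, map_sum]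
    refine Finset.sum_congr rfl fun j _ => ?_
    rw [map_mul, appTop_comp_apply, ← fn_comp, ← fn_toUnit eD (snd T (DE R E))]
    have e1 : (fst T (DE R E) ≫ sec eD T) ≫ fst T (DE R E) = fst T (DE R E) := by
      rw [Category.assoc, sec, lift_fst, Category.comp_id]
    have e2 : (fst T (DE R E) ≫ sec eD T) ≫ snd T (DE R E) = toUnit _ ≫ eD := by
      rw [Category.assoc, sec, lift_snd, ← Category.assoc]
      congr 1
    rw [e1, e2]
  rw [h1, ← Finset.sum_add_distrib]
  conv_lhs => rw [hz]
  refine Finset.sum_congr rfl fun j _ => ?_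
  rw [← mul_add, ← map_add]
  congr 2
  ring

/-- The kernel of `Γ(T × D) → Γ(T)` has square zero. -/
lemma mul_eq_zero_of_sec (eD : 𝟙_ (Over (Spec (CommRingCat.of R))) ⟶ DE R E)
    (hsq : ∀ x y : E, fn eD x = 0 → fn eD y = 0 → x * y = 0)
    (T : Over (Spec (CommRingCat.of R))) [CompactSpace T.left] [QuasiSeparatedSpace T.left]
    {m : Type u} [Fintype m] (b : Module.Basis m R E)
    (x y : Γ((T ⊗ DE R E).left, ⊤)) (hx : (sec eD T).left.appTop x = 0)
    (hy : (sec eD T).left.appTop y = 0) : x * y = 0 := by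
  obtain ⟨c, hc⟩ := exists_expansion (E := E) T b x
  obtain ⟨d, hd⟩ := exists_expansion (E := E) T b y
  have h1 := sub_eq eD T b c x hc
  have h2 := sub_eq eD T b d y hd
  rw [hx, map_zero, zero_add] at h1
  rw [hy, map_zero, zero_add] at h2
  rw [h1, h2, Finset.sum_mul_sum]
  refine Finset.sum_eq_zero fun i _ => Finset.sum_eq_zero fun j _ => ?_
  have := hsq _ _ (fn_sub_aug eD (b i)) (fn_sub_aug eD (b j))
  rw [_root_.mul_mul_mul_comm, ← map_mul (fn (snd T (DE R E))), this, map_zero, mul_zero]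

lemma isPullback_sec (eD : 𝟙_ (Over (Spec (CommRingCat.of R))) ⟶ DE R E)
    (T : Over (Spec (CommRingCat.of R))) :
    IsPullback (sec eD T) (toUnit T) (snd T (DE R E)) eD := by
  refine ⟨⟨by rw [sec, lift_snd]⟩, ⟨PullbackCone.IsLimit.mk _ (fun s => s.fst ≫ fst _ _) ?_ ?_ ?_⟩⟩
  · intro s
    apply CartesianMonoidalCategory.hom_ext
    · rw [Category.assoc, sec, lift_fst, Category.comp_id]
    · rw [Category.assoc, sec, lift_snd, s.condition, ← Category.assoc]
      congr 1
      exact toUnit_unique _ _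
  · intro s
    exact toUnit_unique _ _
  · intro s m h1 _
    rw [← h1, Category.assoc, sec, lift_fst, Category.comp_id]

lemma surjective_sec (eD : 𝟙_ (Over (Spec (CommRingCat.of R))) ⟶ DE R E) [Surjective eD.left]
    (T : Over (Spec (CommRingCat.of R))) : Surjective (sec eD T).left := by
  have h := (isPullback_sec eD T).map (Over.forget _)
  exact MorphismProperty.of_isPullback (P := @Surjective) h.flip ‹_›

end SqZero

section Nbhd

variable {R B : Type u} [CommRing R] [CommRing B] [Algebra R B]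

/-- The augmentation ideal. -/
noncomputable def augIdeal (eW : 𝟙_ (Over (Spec (CommRingCat.of R))) ⟶ DE R B) : Ideal B :=
  RingHom.ker (fn eW)

/-- `Spec` of a quotient -/
noncomputable def quotMap (J : Ideal B) : DE R (B ⧸ J) ⟶ DE R B :=
  Over.homMk (Spec.map (CommRingCat.ofHom (Ideal.Quotient.mk J))) (by
    simp only [Over.mk_hom, ← Spec.map_comp, ← CommRingCat.ofHom_comp])

lemma fn_quotMap {J : Ideal B} {X : Over (Spec (CommRingCat.of R))} (y : X ⟶ DE R (B ⧸ J)) (x : B) :
    fn (y ≫ quotMap J) x = fn y (Ideal.Quotient.mk J x) := by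
  have h1 : (Scheme.ΓSpecIso (CommRingCat.of B)).inv ≫ (quotMap (R := R) J).left.appTop =
      CommRingCat.ofHom (Ideal.Quotient.mk J) ≫ (Scheme.ΓSpecIso (CommRingCat.of (B ⧸ J))).inv := by
    simp only [quotMap, Over.homMk_left]
    exact (Scheme.ΓSpecIso_inv_naturality _).symm
  simp only [fn, Over.comp_left]
  rw [Scheme.Hom.comp_appTop, ← Category.assoc, h1]
  rfl

instance (J : Ideal B) : IsClosedImmersion (quotMap (R := R) J).left :=
  IsClosedImmersion.spec_of_surjective _ Ideal.Quotient.mk_surjective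

lemma factor_quot {J : Ideal B} {X : Over (Spec (CommRingCat.of R))} (y : X ⟶ DE R B)
    (h : ∀ x ∈ J, fn y x = 0) : ∃ z : X ⟶ DE R (B ⧸ J), z ≫ quotMap J = y := by
  obtain ⟨z, hz⟩ := exists_of_ringHom (R := R) (X := X) (Ideal.Quotient.lift J (fn y) h) (by
    intro r
    rw [← fn_algebraMap y r]
    rfl)
  refine ⟨z, fn_injective fun x => ?_⟩
  rw [fn_quotMap, hz, Ideal.Quotient.lift_mk]

variable {G : Over (Spec (CommRingCat.of R))} [GrpObj G]

/-- Factorization of infinitesimal points through the first-order neighbourhood. -/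
lemma factor (w : DE R B ⟶ G) [IsOpenImmersion w.left]
    (eW : 𝟙_ (Over (Spec (CommRingCat.of R))) ⟶ DE R B) (heW : eW ≫ w = η)
    {X X₀ : Over (Spec (CommRingCat.of R))} (i : X₀ ⟶ X) [Surjective i.left]
    (hJ : ∀ x y : Γ(X.left, ⊤), i.left.appTop x = 0 → i.left.appTop y = 0 → x * y = 0)
    (x : X ⟶ G) (hx : i ≫ x = 1) :
    ∃ y : X ⟶ DE R (B ⧸ (augIdeal eW) ^ 2), y ≫ quotMap _ ≫ w = x := by
  have hx' : i ≫ x = (toUnit X₀ ≫ eW) ≫ w := by
    rw [hx, Category.assoc, heW]
    rfl
  -- lift to W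
  have hrange : Set.range x.left ⊆ Set.range w.left := by
    rintro _ ⟨p, rfl⟩
    obtain ⟨q, rfl⟩ := i.left.surjective p
    refine ⟨(toUnit X₀ ≫ eW).left q, ?_⟩
    have := congr(($hx').left q)
    simpa using this.symm
  let xW : X ⟶ DE R B := Over.homMk (IsOpenImmersion.lift w.left x.left hrange) (by
    rw [← Over.w w, IsOpenImmersion.lift_fac_assoc, Over.w])
  have hxW : xW ≫ w = x := by
    ext1
    simp [xW, IsOpenImmersion.lift_fac]
  have : Mono w := by
    have : Mono w.left := inferInstance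
    exact Over.mono_of_mono_left w
  have hi : i ≫ xW = toUnit X₀ ≫ eW := by
    rw [← cancel_mono w, Category.assoc, hxW, hx']
  -- the ring map kills the square of the augmentation ideal
  have h0 : ∀ z ∈ augIdeal eW, i.left.appTop (fn xW z) = 0 := by
    intro z hz
    rw [← fn_comp, hi, fn_comp, show fn eW z = 0 from hz, map_zero]
  have h1 : ∀ z ∈ (augIdeal eW) ^ 2, fn xW z = 0 := by
    intro z hz
    rw [pow_two] at hz
    refine Submodule.mul_induction_on hz ?_ ?_
    · intro a ha b hb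
      rw [map_mul]
      exact hJ _ _ (h0 a ha) (h0 b hb)
    · intro a b ha hb
      rw [map_add, ha, hb, add_zero]
  obtain ⟨y, hy⟩ := factor_quot xW h1
  exact ⟨y, by rw [← Category.assoc, hy, hxW]⟩

/-- The unit section of the first order neighbourhood. -/
lemma exists_eD (eW : 𝟙_ (Over (Spec (CommRingCat.of R))) ⟶ DE R B) :
    ∃ eD : 𝟙_ (Over (Spec (CommRingCat.of R))) ⟶ DE R (B ⧸ (augIdeal eW) ^ 2),
      eD ≫ quotMap _ = eW ∧ Surjective eD.left ∧
      ∀ x y, fn eD x = 0 → fn eD y = 0 → x * y = 0 := by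
  obtain ⟨eD, heD⟩ := factor_quot (J := (augIdeal eW) ^ 2) eW (by
    intro x hx
    exact Ideal.pow_le_self two_ne_zero hx)
  have hfn : ∀ x, fn eD (Ideal.Quotient.mk _ x) = fn eW x := by
    intro x
    rw [← fn_quotMap, heD]
  refine ⟨eD, heD, ?_, ?_⟩
  · let φ : CommRingCat.of (B ⧸ (augIdeal eW) ^ 2) ⟶ CommRingCat.of R := Spec.preimage eD.left
    have hφ : Spec.map φ = eD.left := Spec.map_preimage _
    have h1 : ∀ x, fn eD x = (Scheme.ΓSpecIso (CommRingCat.of R)).inv (φ x) := by
      intro x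
      have : (Scheme.ΓSpecIso (CommRingCat.of (B ⧸ (augIdeal eW) ^ 2))).inv ≫ eD.left.appTop =
          φ ≫ (Scheme.ΓSpecIso (CommRingCat.of R)).inv := by
        rw [← hφ]
        exact (Scheme.ΓSpecIso_inv_naturality _).symm
      exact congr($(this).hom x)
    have hinj : Function.Injective (Scheme.ΓSpecIso (CommRingCat.of R)).inv.hom :=
      (Scheme.ΓSpecIso (CommRingCat.of R)).symm.commRingCatIsoToRingEquiv.injective
    have hsurj : Function.Surjective φ.hom := by
      intro r
      refine ⟨algebraMap R _ r, hinj ?_⟩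
      have h2 := h1 (algebraMap R _ r)
      rw [fn_algebraMap] at h2
      refine h2.symm.trans ?_
      simp
    rw [← hφ]
    refine ⟨fun p => ?_⟩
    have hr := range_comap_of_surjective _ φ.hom hsurj
    have hk : PrimeSpectrum.zeroLocus
        ((RingHom.ker φ.hom : Ideal (B ⧸ (augIdeal eW) ^ 2)) : Set (B ⧸ (augIdeal eW) ^ 2)) =
          Set.univ := by
      rw [PrimeSpectrum.zeroLocus_eq_univ_iff]
      intro x hx
      obtain ⟨x, rfl⟩ := Ideal.Quotient.mk_surjective x
      have hx0 : fn eD (Ideal.Quotient.mk _ x) = 0 := by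
        rw [h1]
        have : φ (Ideal.Quotient.mk _ x) = 0 := hx
        rw [this, map_zero]
      rw [hfn] at hx0
      refine ⟨2, ?_⟩
      rw [← map_pow]
      exact Ideal.Quotient.eq_zero_iff_mem.mpr (Ideal.pow_mem_pow hx0 2)
    rw [hk] at hr
    have : p ∈ Set.range (PrimeSpectrum.comap φ.hom) := by
      rw [hr]; trivial
    exact this
  · intro x y hx hy
    obtain ⟨x, rfl⟩ := Ideal.Quotient.mk_surjective x
    obtain ⟨y, rfl⟩ := Ideal.Quotient.mk_surjective y
    rw [hfn] at hx hy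
    rw [← map_mul, Ideal.Quotient.eq_zero_iff_mem, pow_two]
    exact Ideal.mul_mem_mul hx hy

/-- **The adjoint representation on the first-order neighbourhood of the unit.** -/
theorem exists_adRep [CompactSpace G.left] [QuasiSeparatedSpace G.left]
    (w : DE R B ⟶ G) [IsOpenImmersion w.left]
    (eW : 𝟙_ (Over (Spec (CommRingCat.of R))) ⟶ DE R B) (heW : eW ≫ w = η)
    {m : Type u} [Fintype m] [DecidableEq m] (b : Module.Basis m R (B ⧸ (augIdeal eW) ^ 2)) :
    ∃ f : G ⟶ GLS m (Spec (CommRingCat.of R)), IsMonHom f ∧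
      ∀ {T : Over (Spec (CommRingCat.of R))} (g : T ⟶ G),
        g ≫ f = 1 ↔ ∀ (X : Over (Spec (CommRingCat.of R))) (p : X ⟶ T)
          (d : X ⟶ DE R (B ⧸ (augIdeal eW) ^ 2)),
          (p ≫ g) * (d ≫ quotMap _ ≫ w) * (p ≫ g)⁻¹ = d ≫ quotMap _ ≫ w := by
  obtain ⟨eD, heD, hsurj, hsq⟩ := exists_eD eW
  set j : DE R (B ⧸ (augIdeal eW) ^ 2) ⟶ G := quotMap _ ≫ w with hj
  have hmono : Mono j := by
    have : Mono j.left := by
      rw [hj, Over.comp_left]
      infer_instance
    exact Over.mono_of_mono_left j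
  have hej : eD ≫ j = η := by rw [hj, ← Category.assoc, heD, heW]
  -- the conjugation morphism
  let c : G ⊗ DE R (B ⧸ (augIdeal eW) ^ 2) ⟶ G := fst _ _ * (snd _ _ ≫ j) * (fst _ _)⁻¹
  have hc : ∀ {T : Over (Spec (CommRingCat.of R))} (g : T ⟶ G)
      (d : T ⟶ DE R (B ⧸ (augIdeal eW) ^ 2)), lift g d ≫ c = g * (d ≫ j) * g⁻¹ := by
    intro T g d
    simp only [c]
    rw [MonObj.comp_mul, MonObj.comp_mul, GrpObj.comp_inv, lift_fst, ← Category.assoc, lift_snd]
  have := surjective_sec eD G
  obtain ⟨a, ha⟩ := factor w eW heW (sec eD G)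
    (mul_eq_zero_of_sec eD hsq G b) c (by
      rw [sec, hc, Category.assoc, hej]
      have : toUnit G ≫ η = (1 : G ⟶ G) := rfl
      rw [this, _root_.mul_one, mul_inv_cancel])
  rw [← hj] at ha
  have hact : ∀ {T : Over (Spec (CommRingCat.of R))} (g : T ⟶ G)
      (d : T ⟶ DE R (B ⧸ (augIdeal eW) ^ 2)), (lift g d ≫ a) ≫ j = g * (d ≫ j) * g⁻¹ := by
    intro T g d
    rw [Category.assoc, ha, hc]
  obtain ⟨f, hf, hker⟩ := exists_rep (G := G) a (by
    intro T d
    rw [← cancel_mono j, hact]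
    simp) (by
    intro T g h d
    rw [← cancel_mono j, hact, hact, hact]
    group) b
  refine ⟨f, hf, fun {T} g => ?_⟩
  rw [hker]
  constructor
  · intro h X p d
    have h2 := congr(lift p d ≫ $h)
    rw [lift_snd, ← Category.assoc] at h2
    have h3 : lift p d ≫ g ▷ DE R (B ⧸ (augIdeal eW) ^ 2) = lift (p ≫ g) d := by
      apply CartesianMonoidalCategory.hom_ext
      · simp
      · simp
    rw [h3] at h2
    rw [← hact, h2]
  · intro h
    have h3 : g ▷ DE R (B ⧸ (augIdeal eW) ^ 2) = lift (fst _ _ ≫ g) (snd _ _) := by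
      apply CartesianMonoidalCategory.hom_ext
      · simp
      · simp
    rw [h3, ← cancel_mono j, hact]
    exact h _ (fst _ _) (snd _ _)

end Nbhd

end Groth.Agent.Sga3B.AdRep
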