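import Groth.Agent.Sga3B.AffDvrSurj789
import Groth.Agent.Desc.LqfQAff

/-!
# Affineness from the fibres over a discrete valuation ring
-/

set_option autoImplicit false
open CategoryTheory CategoryTheory.Limits AlgebraicGeometry Opposite TopologicalSpace
universe u

namespace Groth.Agent.Sga3B.AffDvrAff789

open Groth.Agent.Sga3B.AffDvrHopf789 Groth.Agent.Sga3B.AffDvrFrac789 Groth.Agent.Books.AffBridge

/-- A scheme of finite type and separated over an affine scheme whose affinization morphism is
bijective is affine. -/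
theorem isAffine_of_bijective {X S : Scheme.{u}} [IsAffine S] (f : X ⟶ S)
    [LocallyOfFiniteType f] [IsSeparated f] [CompactSpace X]
    (h : Function.Bijective X.toSpecΓ) : IsAffine X := by
  have h1 : X.toSpecΓ ≫ Spec.map f.appTop = f ≫ S.toSpecΓ := (Scheme.toSpecΓ_naturality f).symm
  have h2 : LocallyOfFiniteType (X.toSpecΓ ≫ Spec.map f.appTop) := by rw [h1]; infer_instance
  have h3 : LocallyOfFiniteType X.toSpecΓ := locallyOfFiniteType_of_comp _ (Spec.map f.appTop)
  have h4 : IsSeparated (X.toSpecΓ ≫ Spec.map f.appTop) := by rw [h1]; infer_instance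
  have h5 : IsSeparated X.toSpecΓ := IsSeparated.of_comp _ (Spec.map f.appTop)
  have h6 := LocallyQuasiFinite.of_injective h.1
  have h7 : QuasiCompact X.toSpecΓ := inferInstance
  have h8 := Groth.Agent.Desc.LqfQAff.isQuasiAffine_of_locallyQuasiFinite X.toSpecΓ
  have h9 := h8.2 ⊤ (isAffineOpen_top _)
  have h10 : X.IsQuasiAffine := by
    have h' : Scheme.IsQuasiAffine ((⊤ : X.Opens) : Scheme.{u}) := h9
    exact Scheme.IsQuasiAffine.of_isImmersion (Scheme.topIso X).inv
  have h11 : IsOpenImmersion X.toSpecΓ := inferInstance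
  have h12 : Surjective X.toSpecΓ := ⟨h.2⟩
  have h13 : IsIso X.toSpecΓ := isIso_of_isOpenImmersion_of_opensRange_eq_top _
    (by ext x; simp [h.2.range_eq])
  exact ⟨h13⟩

section

variable {R k : Type u} [CommRing R] [Field k] [Algebra R k] {B : Type u} [CommRing B]
  [Algebra k B] {X : Scheme.{u}} {f : X ⟶ Spec (CommRingCat.of R)}
  {p : Spec (CommRingCat.of B) ⟶ X}

lemma basicOpen_sec (f : X ⟶ Spec (CommRingCat.of R)) (π : R) :
    X.basicOpen (sec f π) = f ⁻¹ᵁ (PrimeSpectrum.basicOpen π) := by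
  rw [sec, ← basicOpen_eq_of_affine (R := CommRingCat.of R) π]
  exact (Scheme.preimage_basicOpen_top f _).symm

lemma range_eq (hp : IsPullback p (Spec.map (CommRingCat.ofHom (algebraMap k B))) f (spt R k)) :
    Set.range p = f ⁻¹' Set.range (spt R k) := by
  rw [← Scheme.Pullback.range_fst, ← hp.isoPullback_hom_fst]
  ext x
  simp only [Set.mem_range]
  constructor
  · rintro ⟨y, rfl⟩
    exact ⟨hp.isoPullback.hom y, rfl⟩
  · rintro ⟨y, rfl⟩
    refine ⟨hp.isoPullback.inv y, ?_⟩
    rw [← Scheme.Hom.comp_apply, Iso.inv_hom_id_assoc]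

lemma mem_range_iff (hp : IsPullback p (Spec.map (CommRingCat.ofHom (algebraMap k B))) f
    (spt R k)) (hk : Function.Surjective (algebraMap R k)) (π : R)
    (hker : RingHom.ker (algebraMap R k) = Ideal.span {π}) (x : X) :
    x ∈ Set.range p ↔ x ∉ X.basicOpen (sec f π) := by
  rw [range_eq hp, basicOpen_sec]
  have h1 : Set.range (spt R k) = PrimeSpectrum.zeroLocus (RingHom.ker (algebraMap R k)) :=
    range_comap_of_surjective _ _ hk
  have h2 : ∀ P : PrimeSpectrum R, P ∈ PrimeSpectrum.zeroLocus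
      (RingHom.ker (algebraMap R k) : Set R) ↔ P ∉ PrimeSpectrum.basicOpen π := by
    intro P
    rw [hker, PrimeSpectrum.mem_basicOpen, not_not, PrimeSpectrum.zeroLocus_span,
      PrimeSpectrum.mem_zeroLocus, Set.singleton_subset_iff]
    rfl
  rw [Set.mem_preimage, h1]
  exact h2 _

lemma comp_toSpecΓ (p : Spec (CommRingCat.of B) ⟶ X) :
    p ≫ X.toSpecΓ = Spec.map (CommRingCat.ofHom (ev p)) := by
  rw [Scheme.toSpecΓ_naturality, ← SpecMap_ΓSpecIso_hom, ← Spec.map_comp]
  rfl

/-- `X` is affine if its generic fibre and special fibre are affine and functions on the special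
fibre lift. -/
theorem isAffine_of_surjective_ev [IsIntegral X] [CompactSpace X] [LocallyOfFiniteType f]
    [IsSeparated f] (hp : IsPullback p (Spec.map (CommRingCat.ofHom (algebraMap k B))) f
    (spt R k)) (hk : Function.Surjective (algebraMap R k)) (π : R)
    (hker : RingHom.ker (algebraMap R k) = Ideal.span {π}) (hπ : sec f π ≠ 0)
    (haff : IsAffineOpen (X.basicOpen (sec f π))) (hsurj : Function.Surjective (ev p)) :
    IsAffine X := by
  have hqs : QuasiSeparatedSpace X := quasiSeparatedSpace_of_quasiSeparated f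
  have hloc : IsLocalization.Away (sec f π) Γ(X, X.basicOpen (sec f π)) :=
    isLocalization_basicOpen_of_qcqs (U := ⊤) CompactSpace.isCompact_univ isQuasiSeparated_univ _
  -- the affine open
  have hU := haff.fromSpec_toSpecΓ
  have hUinj : Function.Injective (haff.fromSpec ≫ X.toSpecΓ) := by
    rw [hU]
    exact PrimeSpectrum.localization_comap_injective _ (Submonoid.powers (sec f π))
  have hUrange : Set.range (haff.fromSpec ≫ X.toSpecΓ) =
      (PrimeSpectrum.basicOpen (sec f π) : Set (PrimeSpectrum Γ(X, ⊤))) := by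
    rw [hU]
    exact PrimeSpectrum.localization_away_comap_range _ (sec f π)
  have hpΓ := comp_toSpecΓ p
  have hpinj : Function.Injective (p ≫ X.toSpecΓ) := by
    rw [hpΓ]
    exact PrimeSpectrum.comap_injective_of_surjective _ hsurj
  have hkerev : ∀ P : PrimeSpectrum Γ(X, ⊤), P ∉ PrimeSpectrum.basicOpen (sec f π) →
      P ∈ Set.range (p ≫ X.toSpecΓ) := by
    intro P hP
    rw [hpΓ]
    have h1 : Set.range (Spec.map (CommRingCat.ofHom (ev p))) =
      PrimeSpectrum.zeroLocus (RingHom.ker (ev p)) :=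
      range_comap_of_surjective _ _ hsurj
    rw [h1]
    refine (PrimeSpectrum.mem_zeroLocus P _).2 ?_
    intro a ha
    obtain ⟨b, rfl⟩ := dvd_of_ev_eq_zero hp hk π hker hπ a (RingHom.mem_ker.1 ha)
    rw [PrimeSpectrum.mem_basicOpen, not_not] at hP
    exact Ideal.mul_mem_right _ _ hP
  have hmem : ∀ x : X, X.toSpecΓ x ∈ PrimeSpectrum.basicOpen (sec f π) ↔
      x ∈ X.basicOpen (sec f π) := by
    intro x
    rw [← Scheme.toSpecΓ_preimage_basicOpen]
    rfl
  refine isAffine_of_bijective f ⟨?_, ?_⟩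
  · intro x y hxy
    by_cases hx : x ∈ X.basicOpen (sec f π)
    · have hy : y ∈ X.basicOpen (sec f π) := by
        rw [← hmem, ← hxy, hmem]; exact hx
      have hx' : x ∈ Set.range haff.fromSpec := by rw [haff.range_fromSpec]; exact hx
      have hy' : y ∈ Set.range haff.fromSpec := by rw [haff.range_fromSpec]; exact hy
      obtain ⟨x', rfl⟩ := hx'
      obtain ⟨y', rfl⟩ := hy'
      exact congrArg _ (hUinj hxy)
    · have hy : y ∉ X.basicOpen (sec f π) := by
        rw [← hmem, ← hxy, hmem]; exact hx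
      obtain ⟨x', rfl⟩ := (mem_range_iff hp hk π hker x).2 hx
      obtain ⟨y', rfl⟩ := (mem_range_iff hp hk π hker y).2 hy
      exact congrArg _ (hpinj hxy)
  · intro P
    by_cases hP : P ∈ PrimeSpectrum.basicOpen (sec f π)
    · have h1 : P ∈ Set.range (haff.fromSpec ≫ X.toSpecΓ) := by rw [hUrange]; exact hP
      obtain ⟨x, rfl⟩ := h1
      exact ⟨haff.fromSpec x, rfl⟩
    · obtain ⟨x, rfl⟩ := hkerev P hP
      exact ⟨p x, rfl⟩

end

end Groth.Agent.Sga3B.AffDvrAff789
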