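import Groth.Agent.Books.CoidealFlat
import Groth.Agent.Books.SubHopf
import Mathlib.RingTheory.Flat.FaithfullyFlat.Algebra

/-!
# Birational sub-Hopf algebras

A sub-Hopf algebra `C` of a commutative Hopf domain `B` over a field with `Frac C = Frac B` is all
of `B`.  Also the linear algebra used to check that a subalgebra is a sub-Hopf algebra.
-/

set_option autoImplicit false

universe u v w w'

open TensorProduct HopfRep

namespace Groth.Agent.Sga3B.AffDvrAlg789

open Groth.Agent.Books.SubHopf Groth.Agent.Books.CoidealFlat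

/-- A sub-Hopf algebra with the same fraction field is everything. -/
theorem eq_top_of_frac {k : Type u} {B : Type v} [Field k] [CommRing B] [IsDomain B]
    [HopfAlgebra k B] (C : Subalgebra k B) (hC : IsSubHopf (k := k) C)
    (hfrac : ∀ b : B, ∃ d ∈ C, d ≠ 0 ∧ b * d ∈ C) : C = ⊤ := by
  let _ := hC.hopf
  have hff := faithfullyFlat_of_injective hC.val hC.val_injective
  rw [eq_top_iff]
  rintro b -
  obtain ⟨d, hd, hd0, hbd⟩ := hfrac b
  have h1 : ((hC.val : C →ₐ[k] B).toRingHom) = algebraMap C B := rfl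
  rw [h1, RingHom.faithfullyFlat_algebraMap_iff] at hff
  have h2 : (⟨b * d, hbd⟩ : C) ∈ (Ideal.span {(⟨d, hd⟩ : C)}) := by
    rw [← Ideal.comap_map_eq_self_of_faithfullyFlat (B := B) (Ideal.span {(⟨d, hd⟩ : C)}),
      Ideal.mem_comap, Ideal.map_span, Set.image_singleton, Ideal.mem_span_singleton]
    exact ⟨b, mul_comm _ _⟩
  obtain ⟨c, hc⟩ := Ideal.mem_span_singleton.1 h2
  have h3 : b * d = d * (c : B) := congrArg Subtype.val hc
  have h4 : b = c := by
    apply mul_right_cancel₀ hd0
    rw [h3, mul_comm]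
  rw [h4]
  exact c.2

section Linear

variable {k : Type u} [Field k] {V : Type v} {V' : Type w} {E : Type w'}
  [AddCommGroup V] [Module k V] [AddCommGroup V'] [Module k V'] [AddCommGroup E] [Module k E]

/-- `(V ⊗ V') ∩ (E ⊗ C) = V ⊗ C` for `V ⊆ E` and `C ⊆ V'`. -/
theorem mem_range_lTensor (i : V →ₗ[k] E) (hi : Function.Injective i) (C : Submodule k V')
    (z : V ⊗[k] V') (hz : i.rTensor V' z ∈ LinearMap.range (C.subtype.lTensor E)) :
    z ∈ LinearMap.range (C.subtype.lTensor V) := by
  have hex : Function.Exact C.subtype C.mkQ := by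
    rw [LinearMap.exact_iff]
    simp
  have h1 := lTensor_exact V hex C.mkQ_surjective
  have h2 := lTensor_exact E hex C.mkQ_surjective
  rw [LinearMap.exact_iff] at h1 h2
  rw [← h2, LinearMap.mem_ker] at hz
  rw [← h1, LinearMap.mem_ker]
  have h3 : Function.Injective (i.rTensor (V' ⧸ C)) :=
    Module.Flat.rTensor_preserves_injective_linearMap _ hi
  apply h3
  rw [map_zero, ← hz]
  rw [← LinearMap.comp_apply, ← LinearMap.comp_apply, LinearMap.rTensor_comp_lTensor,
    LinearMap.lTensor_comp_rTensor]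

/-- `(V ⊗ V') ∩ (C ⊗ E) = C ⊗ V'` for `V' ⊆ E` and `C ⊆ V`. -/
theorem mem_range_rTensor (i : V' →ₗ[k] E) (hi : Function.Injective i) (C : Submodule k V)
    (z : V ⊗[k] V') (hz : i.lTensor V z ∈ LinearMap.range (C.subtype.rTensor E)) :
    z ∈ LinearMap.range (C.subtype.rTensor V') := by
  have hex : Function.Exact C.subtype C.mkQ := by
    rw [LinearMap.exact_iff]
    simp
  have h1 := rTensor_exact V' hex C.mkQ_surjective
  have h2 := rTensor_exact E hex C.mkQ_surjective
  rw [LinearMap.exact_iff] at h1 h2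
  rw [← h2, LinearMap.mem_ker] at hz
  rw [← h1, LinearMap.mem_ker]
  have h3 : Function.Injective (i.lTensor (V ⧸ C)) :=
    Module.Flat.lTensor_preserves_injective_linearMap _ hi
  apply h3
  rw [map_zero, ← hz]
  rw [← LinearMap.comp_apply, ← LinearMap.comp_apply, LinearMap.rTensor_comp_lTensor,
    LinearMap.lTensor_comp_rTensor]

/-- The criterion for an element of `V ⊗ V` to lie in `C ⊗ C`. -/
theorem mem_range_map (i : V →ₗ[k] E) (hi : Function.Injective i) (C : Submodule k V)
    (z : V ⊗[k] V) (hz : i.rTensor V z ∈ LinearMap.range (C.subtype.lTensor E))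
    (hz' : i.lTensor V z ∈ LinearMap.range (C.subtype.rTensor E)) :
    z ∈ LinearMap.range (TensorProduct.map C.subtype C.subtype) := by
  have h1 := mem_range_lTensor i hi C z hz
  obtain ⟨w, rfl⟩ := mem_range_rTensor i hi C z hz'
  obtain ⟨v, rfl⟩ := mem_range_lTensor C.subtype Subtype.val_injective C w h1
  refine ⟨v, ?_⟩
  rw [← LinearMap.comp_apply, LinearMap.rTensor_comp_lTensor]

end Linear

end Groth.Agent.Sga3B.AffDvrAlg789
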