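import Groth.Agent.Ega43.LimAffine
import Mathlib.Algebra.Category.Ring.FilteredColimits
import Mathlib.Algebra.Category.Ring.Colimits
import Mathlib.CategoryTheory.Limits.Types.Filtered
import Mathlib.RingTheory.Localization.Away.Basic

/-!
# Localizations as filtered colimits and affineness near a localization

The localization of `R` at a submonoid `M` is the filtered colimit of the rings `R_g`, `g ∈ M`.
As a consequence, a quasi-compact quasi-separated scheme over `Spec R` whose base change to
`Spec R_M` is affine is affine over some `D(g)`, `g ∈ M`.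
-/

set_option autoImplicit false

open CategoryTheory CategoryTheory.Limits AlgebraicGeometry Opposite

namespace Groth.Agent.Sga3B.LocLim789

universe u

variable {R : Type u} [CommRing R] (M : Submonoid R)

/-- The index set. -/
structure Idx : Type u where
  /-- elements to be inverted -/
  fst : Finset M

instance : Preorder (Idx M) where
  le i j := i.fst ⊆ j.fst
  le_refl i := Finset.Subset.refl _
  le_trans i j k h h' := h.trans h'

instance : Nonempty (Idx M) := ⟨⟨∅⟩⟩

instance : IsDirectedOrder (Idx M) where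
  directed i j := by
    classical
    exact ⟨⟨i.fst ∪ j.fst⟩, Finset.subset_union_left, Finset.subset_union_right⟩

variable {M}

/-- The element that is inverted. -/
noncomputable def den (j : Idx M) : R := ∏ x ∈ j.fst, (x : R)

theorem den_mem (j : Idx M) : den j ∈ M := Submonoid.prod_mem _ fun x _ ↦ x.2

theorem den_dvd {j k : Idx M} (h : j ≤ k) : den j ∣ den k :=
  Finset.prod_dvd_prod_of_subset _ _ _ h

/-- The ring `R_g`. -/
abbrev Stage (j : Idx M) : Type u := Localization.Away (den j)

variable {B : Type u} [CommRing B]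

theorem ringHom_ext (j : Idx M) {φ ψ : Stage j →+* B}
    (h : φ.comp (algebraMap R (Stage j)) = ψ.comp (algebraMap R (Stage j))) : φ = ψ :=
  IsLocalization.ringHom_ext (Submonoid.powers (den j)) h

/-- Transition maps. -/
noncomputable def trans {j k : Idx M} (h : j ≤ k) : Stage j →+* Stage k :=
  IsLocalization.Away.lift (S := Stage j) (den j) (g := algebraMap R (Stage k))
    (isUnit_of_dvd_unit (map_dvd _ (den_dvd h)) (IsLocalization.Away.algebraMap_isUnit (den k)))

@[simp]
theorem trans_algebraMap {j k : Idx M} (h : j ≤ k) (r : R) :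
    trans h (algebraMap R (Stage j) r) = algebraMap R (Stage k) r := by
  simp [trans]

variable (M) in
/-- The diagram of the `Stage j`. -/
noncomputable def ringDiagram : Idx M ⥤ CommRingCat.{u} where
  obj j := .of (Stage j)
  map h := CommRingCat.ofHom (trans h.le)
  map_id j := by
    ext1
    apply ringHom_ext
    ext r
    simp
  map_comp {i j k} f g := by
    ext1
    apply ringHom_ext
    ext r
    simp

variable (K : Type u) [CommRing K] [Algebra R K] [IsLocalization M K]

/-- The map from the stage to the localization. -/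
noncomputable def toRes (j : Idx M) : Stage j →+* K :=
  IsLocalization.Away.lift (S := Stage j) (den j) (g := algebraMap R K)
    (IsLocalization.map_units (M := M) K ⟨den j, den_mem j⟩)

@[simp]
theorem toRes_algebraMap (j : Idx M) (r : R) :
    toRes K j (algebraMap R (Stage j) r) = algebraMap R K r := by
  simp [toRes]

/-- The cocone. -/
noncomputable def ringCocone : Cocone (ringDiagram M) where
  pt := .of K
  ι :=
    { app j := CommRingCat.ofHom (toRes K j)
      naturality {j k} f := by
        ext1
        apply ringHom_ext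
        ext r
        simp [ringDiagram] }

theorem exists_num_den (j : Idx M) (x : Stage j) :
    ∃ (a : R) (n : ℕ), x * algebraMap R (Stage j) (den j) ^ n = algebraMap R (Stage j) a := by
  obtain ⟨n, a, ha⟩ := IsLocalization.Away.surj (den j) x
  exact ⟨a, n, ha⟩

theorem exists_toRes_eq (x : K) : ∃ (j : Idx M) (y : Stage j), toRes K j y = x := by
  obtain ⟨⟨a, s, hs⟩, h⟩ := IsLocalization.surj M x
  let j : Idx M := ⟨{⟨s, hs⟩}⟩
  have hj : den j = s := by simp [den, j]
  obtain ⟨u, hu⟩ := IsLocalization.Away.algebraMap_isUnit (S := Stage j) (den j)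
  refine ⟨j, algebraMap R (Stage j) a * ↑u⁻¹, ?_⟩
  have hu' : IsUnit (algebraMap R K s) := IsLocalization.map_units (M := M) K ⟨s, hs⟩
  refine hu'.mul_left_injective ?_
  have h1 : toRes K j (↑u⁻¹ : Stage j) * algebraMap R K s = 1 := by
    rw [← hj, ← toRes_algebraMap K j, ← hu, ← map_mul, Units.inv_mul, map_one]
  simp only [map_mul, mul_assoc, h1, mul_one, toRes_algebraMap]
  exact h.symm

theorem exists_trans_eq (j : Idx M) (x y : Stage j) (h : toRes K j x = toRes K j y) :
    ∃ (k : Idx M) (hjk : j ≤ k), trans hjk x = trans hjk y := by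
  classical
  obtain ⟨a, n, ha⟩ := exists_num_den j x
  obtain ⟨b, m, hb⟩ := exists_num_den j y
  have h2 : algebraMap R K (a * den j ^ m) = algebraMap R K (b * den j ^ n) := by
    rw [map_mul, map_mul, map_pow, map_pow, ← toRes_algebraMap K j,
      ← toRes_algebraMap K j, ← toRes_algebraMap K j b, ← ha, ← hb]
    simp only [map_mul, map_pow, h]
    ring
  obtain ⟨c, hc⟩ := (IsLocalization.eq_iff_exists M K).1 h2
  let k : Idx M := ⟨insert c j.fst⟩
  have hjk : j ≤ k := Finset.subset_insert _ _
  refine ⟨k, hjk, ?_⟩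
  have hcu : IsUnit (algebraMap R (Stage k) c) := by
    refine isUnit_of_dvd_unit (map_dvd _ ?_) (IsLocalization.Away.algebraMap_isUnit (den k))
    exact Finset.dvd_prod_of_mem _ (Finset.mem_insert_self c j.fst)
  have hz : algebraMap R (Stage k) (a * den j ^ m) = algebraMap R (Stage k) (b * den j ^ n) := by
    apply hcu.mul_right_injective
    simp only
    rw [← map_mul, ← map_mul, hc]
  have hu : IsUnit (algebraMap R (Stage k) (den j)) :=
    isUnit_of_dvd_unit (map_dvd _ (den_dvd hjk)) (IsLocalization.Away.algebraMap_isUnit (den k))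
  refine ((hu.pow n).mul (hu.pow m)).mul_left_injective ?_
  have ha' := congrArg (trans hjk) ha
  have hb' := congrArg (trans hjk) hb
  simp only [map_mul, map_pow, trans_algebraMap] at ha' hb' hz
  calc trans hjk x * (algebraMap R (Stage k) (den j) ^ n * algebraMap R (Stage k) (den j) ^ m)
      = (trans hjk x * algebraMap R (Stage k) (den j) ^ n) *
          algebraMap R (Stage k) (den j) ^ m := by ring
    _ = (trans hjk y * algebraMap R (Stage k) (den j) ^ m) *
          algebraMap R (Stage k) (den j) ^ n := by rw [ha', hb', hz]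
    _ = _ := by ring

/-- The localization is the filtered colimit of the `Stage j`. -/
noncomputable def isColimit : IsColimit (ringCocone (M := M) K) := by
  haveI : ReflectsColimit (ringDiagram M) (forget CommRingCat) :=
    reflectsColimit_of_reflectsIsomorphisms _ _
  refine isColimitOfReflects (forget CommRingCat) ?_
  refine Types.FilteredColimit.isColimitOf' _ _ ?_ ?_
  · intro x
    obtain ⟨j, y, hy⟩ := exists_toRes_eq (M := M) K x
    exact ⟨j, y, hy.symm⟩
  · intro i x y h
    obtain ⟨k, hk, h'⟩ := exists_trans_eq (M := M) K i x y h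
    exact ⟨k, homOfLE hk, h'⟩

section scheme

variable (M) in
/-- The diagram of schemes. -/
noncomputable def schDiagram : (Idx M)ᵒᵖ ⥤ Scheme.{u} := (ringDiagram M).op ⋙ Scheme.Spec

/-- The limit cone. -/
noncomputable def schCone : Cone (schDiagram M) := Scheme.Spec.mapCone (ringCocone (M := M) K).op

/-- `Spec R_M` is the limit of the `Spec R_g`. -/
noncomputable def isLimitSchCone : IsLimit (schCone (M := M) K) :=
  isLimitOfPreserves Scheme.Spec (isColimit (M := M) K).op

theorem isIso_stage_empty :
    IsIso (Spec.map (CommRingCat.ofHom (algebraMap R (Stage (⟨∅⟩ : Idx M))))) := by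
  have h1 : IsUnit (den (⟨∅⟩ : Idx M)) := by simp [den]
  have h2 : Function.Bijective (algebraMap R (Stage (⟨∅⟩ : Idx M))) :=
    (IsLocalization.atUnit R (Stage (⟨∅⟩ : Idx M)) (den (⟨∅⟩ : Idx M)) h1).bijective
  have h3 : IsIso (CommRingCat.ofHom (algebraMap R (Stage (⟨∅⟩ : Idx M)))) := by
    rw [ConcreteCategory.isIso_iff_bijective]
    exact h2
  infer_instance

/-- A quasi-compact quasi-separated scheme over `Spec R` which becomes affine over `Spec R_M` is
affine over `D(g)` for some `g ∈ M`. -/
theorem exists_isAffineOpen {X : Scheme.{u}} (f : X ⟶ Spec (CommRingCat.of R)) [QuasiCompact f]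
    [QuasiSeparated f]
    (h : IsAffine (pullback f (Spec.map (CommRingCat.ofHom (algebraMap R K))))) :
    ∃ g ∈ M, IsAffineOpen (f ⁻¹ᵁ (PrimeSpectrum.basicOpen g)) := by
  let i₀ : (Idx M)ᵒᵖ := op ⟨∅⟩
  let D := schDiagram M
  let c := schCone (M := M) K
  have hc : IsLimit c := isLimitSchCone (M := M) K
  have hD1 : ∀ i, IsAffine (D.obj i) := fun i =>
    inferInstanceAs (IsAffine (Spec (CommRingCat.of (Stage i.unop))))
  have hD : ∀ (i j : (Idx M)ᵒᵖ) (φ : i ⟶ j), IsAffineHom (D.map φ) := fun i j φ => inferInstance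
  let u : D.obj i₀ ⟶ Spec (CommRingCat.of R) :=
    Spec.map (CommRingCat.ofHom (algebraMap R (Stage (⟨∅⟩ : Idx M))))
  have hu : IsIso u := isIso_stage_empty
  let f₀ : X ⟶ D.obj i₀ := f ≫ inv u
  have hf₀ : f₀ ≫ u = f := by simp [f₀]
  let t : Spec (CommRingCat.of K) ⟶ Spec (CommRingCat.of R) :=
    Spec.map (CommRingCat.ofHom (algebraMap R K))
  have hπ : c.π.app i₀ ≫ u = t := by
    have h1 : CommRingCat.ofHom (algebraMap R (Stage (⟨∅⟩ : Idx M))) ≫
        CommRingCat.ofHom (toRes K (⟨∅⟩ : Idx M)) = CommRingCat.ofHom (algebraMap R K) := by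
      ext r
      simp
    have h2 := congrArg Spec.map h1
    rw [Spec.map_comp] at h2
    exact h2
  have key : ∀ {Z : Scheme.{u}} (q : Z ⟶ D.obj i₀) (q' : Z ⟶ Spec (CommRingCat.of R))
      (_ : q ≫ u = q'), IsPullback (pullback.fst f₀ q) (pullback.snd f₀ q) f q' := by
    intro Z q q' hq
    exact IsPullback.of_iso (IsPullback.of_hasPullback f₀ q) (Iso.refl _) (Iso.refl _)
      (Iso.refl _) (asIso u) (by simp) (by simp) (by simp [hf₀]) (by simp [hq])
  have haff : IsAffineHom (pullback.snd f₀ (c.π.app i₀)) := by
    have h1 := key (c.π.app i₀) t hπ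
    have h3 : IsAffine (pullback f₀ (c.π.app i₀)) :=
      @IsAffine.of_isIso _ _ h1.isoPullback.hom _ h
    have h4 : IsAffine (((Functor.const (Idx M)ᵒᵖ).obj c.pt).obj i₀) :=
      inferInstanceAs (IsAffine (Spec (CommRingCat.of K)))
    infer_instance
  obtain ⟨i, φ, hφ⟩ := Groth.Agent.Ega43.LimAffine.descendsOne_isAffineHom D c hc i₀ f₀ trivial haff
  refine ⟨den i.unop, den_mem i.unop, ?_⟩
  let j : D.obj i ⟶ Spec (CommRingCat.of R) :=
    Spec.map (CommRingCat.ofHom (algebraMap R (Stage i.unop)))
  have hj : D.map φ ≫ u = j := by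
    have h1 : CommRingCat.ofHom (algebraMap R (Stage (⟨∅⟩ : Idx M))) ≫
        CommRingCat.ofHom (trans φ.unop.le) =
          CommRingCat.ofHom (algebraMap R (Stage i.unop)) := by
      ext r
      exact trans_algebraMap (j := (⟨∅⟩ : Idx M)) (k := i.unop) φ.unop.le r
    have h2 := congrArg Spec.map h1
    rw [Spec.map_comp] at h2
    exact h2
  have hjo : IsOpenImmersion j := IsOpenImmersion.of_isLocalization (den i.unop)
  have h5 : IsAffine (pullback f₀ (D.map φ)) := isAffine_of_isAffineHom (pullback.snd f₀ (D.map φ))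
  have h6 : IsAffine (pullback f j) := .of_isIso (key (D.map φ) j hj).isoPullback.inv
  have h7 := isAffineOpen_opensRange (pullback.fst f j)
  have h8 : (pullback.fst f j).opensRange = f ⁻¹ᵁ (PrimeSpectrum.basicOpen (den i.unop)) := by
    ext x
    have h3 : Set.range j = (PrimeSpectrum.basicOpen (den i.unop) : Set (PrimeSpectrum R)) :=
      PrimeSpectrum.localization_away_comap_range (Stage i.unop) (den i.unop)
    change x ∈ Set.range (pullback.fst f j) ↔ _
    rw [Scheme.Pullback.range_fst, Set.mem_preimage, h3]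
    rfl
  rwa [h8] at h7

/-- A quasi-compact quasi-separated scheme over `Spec R` which becomes affine over every local
ring of `R` is affine. -/
theorem isAffine_of_localRings {X : Scheme.{u}} (f : X ⟶ Spec (CommRingCat.of R)) [QuasiCompact f]
    [QuasiSeparated f]
    (h : ∀ (P : Ideal R) [P.IsPrime], IsAffine (pullback f (Spec.map (CommRingCat.ofHom
      (algebraMap R (Localization.AtPrime P)))))) : IsAffine X := by
  have h1 : ∀ P : PrimeSpectrum R, ∃ g ∉ P.asIdeal,
      IsAffineOpen (f ⁻¹ᵁ (PrimeSpectrum.basicOpen g)) := fun P => by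
    obtain ⟨g, hg, h2⟩ := exists_isAffineOpen (M := P.asIdeal.primeCompl)
      (Localization.AtPrime P.asIdeal) f (h P.asIdeal)
    exact ⟨g, hg, h2⟩
  have h2 : IsAffineHom f := by
    refine isAffineHom_of_forall_exists_isAffineOpen _ fun P => ?_
    obtain ⟨g, hg, hgU⟩ := h1 P
    exact ⟨PrimeSpectrum.basicOpen g, hg, IsAffineOpen.Spec_basicOpen (R := CommRingCat.of R) g,
      hgU⟩
  exact isAffine_of_isAffineHom f

end scheme

end Groth.Agent.Sga3B.LocLim789
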