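import Groth.Agent.Sga3B.AffDvrGrp789
import Groth.Agent.Sga3B.LocLim789
import Groth.Agent.VarietyB.KrullAkizuki
import Groth.Agent.S0593
import Mathlib.RingTheory.DedekindDomain.Dvr
import Mathlib.RingTheory.DedekindDomain.IntegralClosure

/-!
# Smooth group schemes with affine geometrically irreducible fibres over a one-dimensional base
-/

set_option autoImplicit false
open CategoryTheory CategoryTheory.Limits AlgebraicGeometry Opposite TopologicalSpace
universe u

namespace Groth.Agent.Sga3B.AffDvrBase789

open Groth.Agent.Sga3B.AffDvrHopf789 Groth.Agent.Sga3B.AffDvrGrp789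

theorem isAffineOpen_preimage_opensRange {X S U : Scheme.{u}} (f : X ⟶ S) (j : U ⟶ S)
    [IsOpenImmersion j] (h : IsAffine (pullback f j)) : IsAffineOpen (f ⁻¹ᵁ j.opensRange) := by
  have h1 := isAffineOpen_opensRange (pullback.fst f j)
  have h2 : (pullback.fst f j).opensRange = f ⁻¹ᵁ j.opensRange := by
    ext x
    change x ∈ Set.range (pullback.fst f j) ↔ _
    rw [Scheme.Pullback.range_fst]
    rfl
  rwa [h2] at h1

section

variable {S S' : Scheme.{u}} (t : S' ⟶ S) (G : Over S) [GrpObj G] [Smooth G.hom]
  [QuasiCompact G.hom] [GeometricallyIrreducible G.hom]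

omit [GrpObj G] [QuasiCompact G.hom] [GeometricallyIrreducible G.hom] in
lemma smooth_bc : Smooth (Red.bc t G).hom := inferInstanceAs (Smooth (pullback.snd G.hom t))

omit [GrpObj G] [Smooth G.hom] [GeometricallyIrreducible G.hom] in
lemma quasiCompact_bc : QuasiCompact (Red.bc t G).hom :=
  inferInstanceAs (QuasiCompact (pullback.snd G.hom t))

omit [GrpObj G] [Smooth G.hom] [QuasiCompact G.hom] in
lemma geometricallyIrreducible_bc : GeometricallyIrreducible (Red.bc t G).hom :=
  inferInstanceAs (GeometricallyIrreducible (pullback.snd G.hom t))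

omit [GrpObj G] [Smooth G.hom] [QuasiCompact G.hom] [GeometricallyIrreducible G.hom] in
lemma affFib_bc (hG : AffFib G.hom) : AffFib (Red.bc t G).hom :=
  hG.of_isPullback (IsPullback.of_hasPullback G.hom t)

end

/-- The case of a Dedekind base. -/
theorem isAffine_dedekind {R : Type u} [CommRing R] [IsDedekindDomain R]
    (G : Over (Spec (CommRingCat.of R))) [GrpObj G] [Smooth G.hom] [QuasiCompact G.hom]
    [GeometricallyIrreducible G.hom] (hG : AffFib G.hom) : IsAffine G.left := by
  have hsep : IsSeparated G.hom := Groth.Agent.Sga3C.GrpSep.isSeparated G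
  refine Groth.Agent.Sga3B.LocLim789.isAffine_of_localRings G.hom fun P _ => ?_
  by_cases hP : P = ⊥
  · have h1 : IsFractionRing R (Localization.AtPrime P) := by
      subst hP
      have h2 : (⊥ : Ideal R).primeCompl = nonZeroDivisors R := by
        ext x
        rw [mem_nonZeroDivisors_iff_ne_zero]
        rfl
      unfold IsFractionRing
      rw [← h2]
      infer_instance
    let F : Field (Localization.AtPrime P) := IsFractionRing.toField R
    exact hG (Localization.AtPrime P) (Spec.map (CommRingCat.ofHom
      (algebraMap R (Localization.AtPrime P))))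
  · have h1 : IsDomain (Localization.AtPrime P) := inferInstance
    have h2 : IsDiscreteValuationRing (Localization.AtPrime P) :=
      IsLocalization.AtPrime.isDiscreteValuationRing_of_dedekind_domain R hP _
    let t := Spec.map (CommRingCat.ofHom (algebraMap R (Localization.AtPrime P)))
    have := smooth_bc t G
    have := quasiCompact_bc t G
    have := geometricallyIrreducible_bc t G
    exact isAffine_dvr (Red.bc t G) (affFib_bc t G hG)

end Groth.Agent.Sga3B.AffDvrBase789
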