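import Groth.Agent.Sga3B.AffDvrHopf789
import Mathlib.AlgebraicGeometry.FunctionField
import Mathlib.AlgebraicGeometry.Noetherian

/-!
# Fractions of global sections and the special fibre
-/

set_option autoImplicit false
open CategoryTheory CategoryTheory.Limits AlgebraicGeometry Opposite TopologicalSpace
universe u

namespace Groth.Agent.Sga3B.AffDvrFrac789

open Groth.Agent.Sga3B.AffDvrHopf789

/-- On an integral scheme, local divisibility by a non-zero global section implies global
divisibility. -/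
theorem dvd_of_locally {X : Scheme.{u}} [IsIntegral X] (s a : Γ(X, ⊤)) (hs : s ≠ 0)
    (h : ∀ x : X, ∃ U : X.Opens, x ∈ U ∧
      X.presheaf.map (homOfLE (le_top : U ≤ ⊤)).op s ∣ X.presheaf.map (homOfLE (le_top : U ≤ ⊤)).op a) :
    s ∣ a := by
  choose U hxU g hg using h
  have hcov : (⊤ : X.Opens) ≤ ⨆ x, U x := fun x _ => by
    rw [Opens.mem_iSup]
    exact ⟨x, hxU x⟩
  have hcompat : TopCat.Presheaf.IsCompatible X.sheaf.1 U g := by
    intro x y
    by_cases hne : Nonempty (U x ⊓ U y : X.Opens)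
    · have hd : IsDomain Γ(X, U x ⊓ U y) := inferInstance
      have hinj := map_injective_of_isIntegral X (homOfLE (le_top : U x ⊓ U y ≤ ⊤))
      have hs0 : X.presheaf.map (homOfLE (le_top : U x ⊓ U y ≤ ⊤)).op s ≠ 0 := by
        intro h0
        exact hs (hinj (h0.trans (map_zero _).symm))
      apply mul_left_cancel₀ hs0
      have h1 := congrArg (X.presheaf.map (homOfLE (inf_le_left : U x ⊓ U y ≤ U x)).op) (hg x)
      have h2 := congrArg (X.presheaf.map (homOfLE (inf_le_right : U x ⊓ U y ≤ U y)).op) (hg y)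
      rw [map_mul, ← CommRingCat.comp_apply, ← CommRingCat.comp_apply, ← Functor.map_comp,
        ← op_comp] at h1 h2
      exact h1.symm.trans h2
    · have : IsEmpty (U x ⊓ U y : X.Opens) := not_nonempty_iff.1 hne
      have h0 : U x ⊓ U y = ⊥ := by
        ext z
        refine ⟨fun hz => (this.false ⟨z, hz⟩).elim, fun hz => hz.elim⟩
      have : Subsingleton Γ(X, U x ⊓ U y) := by
        rw [h0]
        infer_instance
      exact Subsingleton.elim (α := Γ(X, U x ⊓ U y)) _ _
  obtain ⟨t, ht, -⟩ := X.sheaf.existsUnique_gluing' U ⊤ (fun x => homOfLE le_top) hcov g hcompat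
  refine ⟨t, ?_⟩
  refine X.sheaf.eq_of_locally_eq' U ⊤ (fun x => homOfLE le_top) hcov _ _ fun x => ?_
  have h3 := ht x
  change X.presheaf.map _ _ = X.presheaf.map _ _
  change X.presheaf.map _ _ = _ at h3
  rw [map_mul, h3]
  exact hg x

/-- In a pushout of rings along a surjection, the kernel is the extension of the kernel. -/
theorem ker_le_of_isPushout {A B C D : CommRingCat.{u}} {f : A ⟶ B} {g : A ⟶ C} {inl : B ⟶ D}
    {inr : C ⟶ D} (h : IsPushout f g inl inr) (hg : Function.Surjective g.hom) :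
    RingHom.ker inl.hom ≤ (RingHom.ker g.hom).map f.hom := by
  let Q := B ⧸ (RingHom.ker g.hom).map f.hom
  let qB : B ⟶ CommRingCat.of Q := CommRingCat.ofHom (Ideal.Quotient.mk _)
  let c : C →+* Q := (Ideal.quotientMap ((RingHom.ker g.hom).map f.hom) f.hom
    (Ideal.le_comap_map (f := f.hom) (I := RingHom.ker g.hom))).comp
      (RingHom.quotientKerEquivOfSurjective hg).symm.toRingHom
  let qC : C ⟶ CommRingCat.of Q := CommRingCat.ofHom c
  have w : f ≫ qB = g ≫ qC := by
    ext x
    have h1 : (RingHom.quotientKerEquivOfSurjective hg).symm (g.hom x) =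
        Ideal.Quotient.mk _ x := by
      rw [RingEquiv.symm_apply_eq]
      rfl
    have h2 : c (g.hom x) = Ideal.Quotient.mk _ (f.hom x) := by
      simp only [c, RingHom.comp_apply, RingEquiv.toRingHom_eq_coe, RingHom.coe_coe]
      rw [h1, Ideal.quotientMap_mk]
    exact h2.symm
  intro x hx
  have h2 := congrArg (fun φ => φ.hom x) (h.inl_desc qB qC w)
  change (h.desc qB qC w).hom (inl.hom x) = Ideal.Quotient.mk _ x at h2
  rw [RingHom.mem_ker.1 hx, map_zero] at h2
  exact Ideal.Quotient.eq_zero_iff_mem.1 h2.symm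

section

variable {R k : Type u} [CommRing R] [Field k] [Algebra R k] {B : Type u} [CommRing B]
  [Algebra k B] {X : Scheme.{u}} (f : X ⟶ Spec (CommRingCat.of R))
  (p : Spec (CommRingCat.of B) ⟶ X)

/-- The section given by an element of the base ring. -/
noncomputable def sec (π : R) : Γ(X, ⊤) :=
  f.appTop.hom ((Scheme.ΓSpecIso (CommRingCat.of R)).inv.hom π)

theorem ker_appTop_spt (π : R) (hker : RingHom.ker (algebraMap R k) = Ideal.span {π}) :
    RingHom.ker (spt R k).appTop.hom =
      Ideal.span {(Scheme.ΓSpecIso (CommRingCat.of R)).inv.hom π} := by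
  have hn := Scheme.ΓSpecIso_naturality (CommRingCat.ofHom (algebraMap R k))
  have h1 : ∀ x, (spt R k).appTop.hom x = 0 ↔
      algebraMap R k ((Scheme.ΓSpecIso (CommRingCat.of R)).hom.hom x) = 0 := by
    intro x
    have h2 : (Scheme.ΓSpecIso (CommRingCat.of k)).hom.hom ((spt R k).appTop.hom x) =
        algebraMap R k ((Scheme.ΓSpecIso (CommRingCat.of R)).hom.hom x) :=
      congrArg (fun φ => φ.hom x) hn
    rw [← h2]
    constructor
    · intro h; rw [h, map_zero]
    · intro h
      apply (ConcreteCategory.bijective_of_isIso (Scheme.ΓSpecIso (CommRingCat.of k)).hom).1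
      exact h.trans (map_zero _).symm
  ext x
  rw [RingHom.mem_ker, h1, ← RingHom.mem_ker, hker, Ideal.mem_span_singleton,
    Ideal.mem_span_singleton]
  have e1 : ∀ z, (Scheme.ΓSpecIso (CommRingCat.of R)).inv.hom
      ((Scheme.ΓSpecIso (CommRingCat.of R)).hom.hom z) = z := fun z =>
    congrArg (fun φ => φ.hom z) (Scheme.ΓSpecIso (CommRingCat.of R)).hom_inv_id
  have e2 : ∀ z, (Scheme.ΓSpecIso (CommRingCat.of R)).hom.hom
      ((Scheme.ΓSpecIso (CommRingCat.of R)).inv.hom z) = z := fun z =>
    congrArg (fun φ => φ.hom z) (Scheme.ΓSpecIso (CommRingCat.of R)).inv_hom_id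
  constructor
  · rintro ⟨c, hc⟩
    refine ⟨(Scheme.ΓSpecIso (CommRingCat.of R)).inv.hom c, ?_⟩
    rw [← map_mul, ← hc, e1]
  · rintro ⟨c, hc⟩
    refine ⟨(Scheme.ΓSpecIso (CommRingCat.of R)).hom.hom c, ?_⟩
    rw [hc, map_mul, e2]

variable {f p}

theorem surjective_appTop_spt (hk : Function.Surjective (algebraMap R k)) :
    Function.Surjective (spt R k).appTop.hom := by
  have hn := Scheme.ΓSpecIso_naturality (CommRingCat.ofHom (algebraMap R k))
  intro y
  obtain ⟨r, hr⟩ := hk ((Scheme.ΓSpecIso (CommRingCat.of k)).hom.hom y)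
  refine ⟨(Scheme.ΓSpecIso (CommRingCat.of R)).inv.hom r, ?_⟩
  apply (ConcreteCategory.bijective_of_isIso (Scheme.ΓSpecIso (CommRingCat.of k)).hom).1
  have h2 : (Scheme.ΓSpecIso (CommRingCat.of k)).hom.hom ((spt R k).appTop.hom
      ((Scheme.ΓSpecIso (CommRingCat.of R)).inv.hom r)) =
        algebraMap R k ((Scheme.ΓSpecIso (CommRingCat.of R)).hom.hom
          ((Scheme.ΓSpecIso (CommRingCat.of R)).inv.hom r)) :=
    congrArg (fun φ => φ.hom ((Scheme.ΓSpecIso (CommRingCat.of R)).inv.hom r)) hn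
  have e2 : ∀ z, (Scheme.ΓSpecIso (CommRingCat.of R)).hom.hom
      ((Scheme.ΓSpecIso (CommRingCat.of R)).inv.hom z) = z := fun z =>
    congrArg (fun φ => φ.hom z) (Scheme.ΓSpecIso (CommRingCat.of R)).inv_hom_id
  rw [e2, hr] at h2
  exact h2

/-- On an affine open, a function vanishing on the special fibre is divisible by the
uniformizer. -/
theorem dvd_of_app_eq_zero (hp : IsPullback p (Spec.map (CommRingCat.ofHom (algebraMap k B))) f
    (spt R k)) (hk : Function.Surjective (algebraMap R k)) (π : R)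
    (hker : RingHom.ker (algebraMap R k) = Ideal.span {π}) (U : X.Opens) (hU : IsAffineOpen U)
    (a : Γ(X, U)) (ha : (p.app U).hom a = 0) :
    X.presheaf.map (homOfLE (le_top : U ≤ ⊤)).op (sec f π) ∣ a := by
  have hUST : (⊤ : (Spec (CommRingCat.of k)).Opens) ≤ spt R k ⁻¹ᵁ ⊤ := le_top
  have hUSX : U ≤ f ⁻¹ᵁ ⊤ := le_top
  have h1 := isIso_pushoutSection_of_isAffineOpen hp hUST hUSX rfl (isAffineOpen_top _)
    (isAffineOpen_top _) hU
  rw [isIso_pushoutSection_iff] at h1
  have e : ∀ {A B : Scheme.{u}} (k : A ⟶ B), k.appLE ⊤ ⊤ le_top = k.appTop := fun k ↦ by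
    simp [Scheme.Hom.appLE, Scheme.Hom.appTop]
  rw [e] at h1
  have h2 := ker_le_of_isPushout h1 (surjective_appTop_spt hk)
  have h3 : a ∈ RingHom.ker (p.appLE U (p ⁻¹ᵁ U ⊓
      Spec.map (CommRingCat.ofHom (algebraMap k B)) ⁻¹ᵁ ⊤) (by simp)).hom := by
    rw [RingHom.mem_ker, Scheme.Hom.appLE, CommRingCat.hom_comp, RingHom.comp_apply, ha, map_zero]
  have h4 := h2 h3
  rw [ker_appTop_spt π hker, Ideal.map_span, Set.image_singleton, Ideal.mem_span_singleton] at h4
  exact h4

/-- A global function vanishing on the special fibre is divisible by the uniformizer. -/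
theorem dvd_of_ev_eq_zero [IsIntegral X] (hp : IsPullback p
    (Spec.map (CommRingCat.ofHom (algebraMap k B))) f (spt R k))
    (hk : Function.Surjective (algebraMap R k)) (π : R)
    (hker : RingHom.ker (algebraMap R k) = Ideal.span {π}) (hπ : sec f π ≠ 0) (a : Γ(X, ⊤))
    (ha : ev p a = 0) : sec f π ∣ a := by
  refine dvd_of_locally _ _ hπ fun x => ?_
  obtain ⟨_, ⟨U, hU, rfl⟩, hxU, -⟩ := X.isBasis_affineOpens.exists_subset_of_mem_open
    (Set.mem_univ x) isOpen_univ
  refine ⟨U, hxU, dvd_of_app_eq_zero hp hk π hker U hU _ ?_⟩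
  have h1 : p.appTop.hom a = 0 := by
    apply (ConcreteCategory.bijective_of_isIso (Scheme.ΓSpecIso (CommRingCat.of B)).hom).1
    exact ha.trans (map_zero _).symm
  have h2 := congrArg (fun φ => φ.hom a) (p.naturality (homOfLE (le_top : U ≤ ⊤)).op)
  change (p.app U).hom _ = (Spec (CommRingCat.of B)).presheaf.map _ (p.appTop.hom a) at h2
  rw [h1, map_zero] at h2
  exact h2

end

section

variable {X : Scheme.{u}}

/-- Elements of the stalks of an integral qcqs scheme with an affine open `X_s` are fractions of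
global sections. -/
theorem exists_frac_stalk [IsIntegral X] [CompactSpace X] [QuasiSeparatedSpace X] (s : Γ(X, ⊤))
    (hs : IsAffineOpen (X.basicOpen s)) (hs0 : s ≠ 0) (x : X) (d : X.presheaf.stalk x) :
    ∃ g f : Γ(X, ⊤), g ≠ 0 ∧ X.presheaf.germ ⊤ x trivial g * d = X.presheaf.germ ⊤ x trivial f := by
  have hne : Nonempty (X.basicOpen s) := by
    by_contra h
    rw [not_nonempty_iff] at h
    apply hs0
    rw [← basicOpen_eq_bot_iff]
    ext z
    exact ⟨fun hz => (h.false ⟨z, hz⟩).elim, fun hz => hz.elim⟩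
  have hfr := functionField_isFractionRing_of_isAffineOpen X (X.basicOpen s) hs
  have hloc : IsLocalization.Away s Γ(X, X.basicOpen s) :=
    isLocalization_basicOpen_of_qcqs (U := ⊤) CompactSpace.isCompact_univ isQuasiSeparated_univ s
  have hT : Nonempty (⊤ : X.Opens) := ⟨⟨genericPoint X, trivial⟩⟩
  have hres : ∀ a : Γ(X, ⊤), algebraMap Γ(X, X.basicOpen s) X.functionField
      (algebraMap Γ(X, ⊤) Γ(X, X.basicOpen s) a) = X.germToFunctionField ⊤ a := fun a =>
    X.presheaf.germ_res_apply (homOfLE (X.basicOpen_le s)) _ _ _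
  obtain ⟨⟨u, v, hv⟩, huv⟩ := IsLocalization.surj (nonZeroDivisors Γ(X, X.basicOpen s))
    (algebraMap (X.presheaf.stalk x) X.functionField d)
  obtain ⟨⟨v', ⟨_, m, rfl⟩⟩, hv'⟩ := IsLocalization.surj (Submonoid.powers s) v
  obtain ⟨⟨u', ⟨_, l, rfl⟩⟩, hu'⟩ := IsLocalization.surj (Submonoid.powers s) u
  have hinjT := Scheme.germToFunctionField_injective X ⊤
  simp only at huv hv' hu'
  have hv1 : X.germToFunctionField ⊤ v' = algebraMap Γ(X, X.basicOpen s) X.functionField v *
      (X.germToFunctionField ⊤ s) ^ m := by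
    rw [← hres, ← hv', map_mul, hres, map_pow]
  have hu1 : X.germToFunctionField ⊤ u' = algebraMap Γ(X, X.basicOpen s) X.functionField u *
      (X.germToFunctionField ⊤ s) ^ l := by
    rw [← hres, ← hu', map_mul, hres, map_pow]
  have hs1 : X.germToFunctionField ⊤ s ≠ 0 := fun h => hs0 (hinjT (h.trans (map_zero _).symm))
  have hv2 : algebraMap Γ(X, X.basicOpen s) X.functionField v ≠ 0 := by
    intro h
    exact nonZeroDivisors.ne_zero hv ((IsFractionRing.injective Γ(X, X.basicOpen s)
      X.functionField) (h.trans (map_zero _).symm))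
  refine ⟨v' * s ^ l, u' * s ^ m, ?_, ?_⟩
  · intro h
    have := congrArg (X.germToFunctionField ⊤) h
    rw [map_mul, map_pow, hv1, map_zero] at this
    exact mul_ne_zero (mul_ne_zero hv2 (pow_ne_zero _ hs1)) (pow_ne_zero _ hs1) this
  · apply IsFractionRing.injective (X.presheaf.stalk x) X.functionField
    rw [map_mul, Scheme.algebraMap_germ_eq_germToFunctionField,
      Scheme.algebraMap_germ_eq_germToFunctionField, map_mul, map_mul, map_pow, map_pow, hv1, hu1,
      ← huv]
    ring

theorem exists_not_dvd_frac {A D : Type*} [CommRing A] [CommRing D] [IsDomain D] (γ : A →+* D)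
    (s : A) (hs : γ s ≠ 0) (d : D) (h0 : ∀ g f : A, γ (s * g) * d = γ f → s ∣ f) :
    ∀ (n : ℕ) (g f : A), ¬ (γ s) ^ n ∣ γ g → γ g * d = γ f →
      ∃ g' f' : A, ¬ s ∣ g' ∧ γ g' * d = γ f' := by
  intro n
  induction n with
  | zero => intro g f h; exact absurd (one_dvd _) (by rwa [pow_zero] at h)
  | succ n ih =>
    intro g f hn h
    by_cases hd : s ∣ g
    · obtain ⟨g1, rfl⟩ := hd
      obtain ⟨f1, rfl⟩ := h0 g1 f h
      refine ih g1 f1 (fun hdv => hn ?_) ?_
      · rw [map_mul, pow_succ, mul_comm]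
        exact mul_dvd_mul_left _ hdv
      · apply mul_left_cancel₀ hs
        rw [← map_mul, ← h, map_mul, mul_assoc]
    · exact ⟨g, f, hd, h⟩

end

section

variable {R k : Type u} [CommRing R] [Field k] [Algebra R k] {B : Type u} [CommRing B]
  [Algebra k B] {X : Scheme.{u}} {f : X ⟶ Spec (CommRingCat.of R)}
  {p : Spec (CommRingCat.of B) ⟶ X}

/-- The map from `B` to the stalk of `Spec B`. -/
noncomputable def toE (B : Type u) [CommRing B] (η : Spec (CommRingCat.of B)) :
    B →+* (Spec (CommRingCat.of B)).presheaf.stalk η :=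
  ((Scheme.ΓSpecIso (CommRingCat.of B)).inv ≫
    (Spec (CommRingCat.of B)).presheaf.germ ⊤ η trivial).hom

lemma toE_ev (p : Spec (CommRingCat.of B) ⟶ X) (η : Spec (CommRingCat.of B)) (a : Γ(X, ⊤)) :
    toE B η (ev p a) = (p.stalkMap η).hom (X.presheaf.germ ⊤ (p η) trivial a) := by
  have h1 := congrArg (fun φ => φ.hom a) (Scheme.Hom.germ_stalkMap p ⊤ η trivial)
  refine Eq.trans ?_ h1.symm
  change ((Spec (CommRingCat.of B)).presheaf.germ ⊤ η trivial).hom
    ((Scheme.ΓSpecIso (CommRingCat.of B)).inv.hom ((Scheme.ΓSpecIso (CommRingCat.of B)).hom.hom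
      (p.appTop.hom a))) = ((Spec (CommRingCat.of B)).presheaf.germ ⊤ η trivial).hom _
  congr 1
  exact congrArg (fun φ => φ.hom (p.appTop.hom a))
    (Scheme.ΓSpecIso (CommRingCat.of B)).hom_inv_id

theorem isClosedImmersion_of_isPullback (hp : IsPullback p
    (Spec.map (CommRingCat.ofHom (algebraMap k B))) f (spt R k))
    (hk : Function.Surjective (algebraMap R k)) : IsClosedImmersion p := by
  have : IsClosedImmersion (spt R k) := IsClosedImmersion.spec_of_surjective _ hk
  exact MorphismProperty.of_isPullback hp.flip this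

/-- Every function on the special fibre is a fraction of restrictions of global functions. -/
theorem exists_frac [IsIntegral X] [IsLocallyNoetherian X] [CompactSpace X]
    [QuasiSeparatedSpace X] [IsDomain B] (hp : IsPullback p
    (Spec.map (CommRingCat.ofHom (algebraMap k B))) f (spt R k))
    (hk : Function.Surjective (algebraMap R k)) (π : R)
    (hker : RingHom.ker (algebraMap R k) = Ideal.span {π}) (hπ : sec f π ≠ 0)
    (haff : IsAffineOpen (X.basicOpen (sec f π))) (b : B) :
    ∃ c d : Γ(X, ⊤), ev p d ≠ 0 ∧ b * ev p d = ev p c := by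
  let η : Spec (CommRingCat.of B) := genericPoint (Spec (CommRingCat.of B))
  let γ : Γ(X, ⊤) →+* X.presheaf.stalk (p η) := (X.presheaf.germ ⊤ (p η) trivial).hom
  have hγ : Function.Injective γ := germ_injective_of_isIntegral X (U := ⊤) (p η) trivial
  let q : X.presheaf.stalk (p η) →+* (Spec (CommRingCat.of B)).presheaf.stalk η :=
    (p.stalkMap η).hom
  have hcl := isClosedImmersion_of_isPullback hp hk
  have hq : Function.Surjective q := p.stalkMap_surjective η
  have hi : Function.Injective (toE B η) := by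
    have h1 : Function.Injective ((Spec (CommRingCat.of B)).presheaf.germ ⊤ η trivial) :=
      germ_injective_of_isIntegral (Spec (CommRingCat.of B)) (U := ⊤) η trivial
    have h2 := (ConcreteCategory.bijective_of_isIso (Scheme.ΓSpecIso (CommRingCat.of B)).inv).1
    exact h1.comp h2
  have hqγ : ∀ a, q (γ a) = toE B η (ev p a) := fun a => (toE_ev p η a).symm
  have hs0 : γ (sec f π) ≠ 0 := fun h => hπ (hγ (h.trans (map_zero _).symm))
  -- the uniformizer vanishes on the special fibre
  have hevs : ev p (sec f π) = 0 := by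
    have h1 : ev p (sec f π) = ev (p ≫ f) ((Scheme.ΓSpecIso (CommRingCat.of R)).inv.hom π) :=
      (ev_comp _ _ _).symm
    rw [h1, hp.w, ev_specMap_comp, ev_specMap]
    have h2 : (Scheme.ΓSpecIso (CommRingCat.of R)).hom.hom
      ((Scheme.ΓSpecIso (CommRingCat.of R)).inv.hom π) = π :=
      congrArg (fun φ => φ.hom π) (Scheme.ΓSpecIso (CommRingCat.of R)).inv_hom_id
    rw [h2]
    have h3 : algebraMap R k π = 0 := by
      rw [← RingHom.mem_ker, hker]
      exact Ideal.mem_span_singleton_self π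
    rw [h3, map_zero]
  have hnu : ¬ IsUnit (γ (sec f π)) := by
    intro hu
    have h1 := hu.map q
    rw [hqγ, hevs, map_zero] at h1
    exact not_isUnit_zero h1
  obtain ⟨d, hd⟩ := hq (toE B η b)
  obtain ⟨g, f1, hg, hgf⟩ := exists_frac_stalk (sec f π) haff hπ (p η) d
  have hdvd : ∀ a : Γ(X, ⊤), q (γ a) = 0 → sec f π ∣ a := by
    intro a ha
    rw [hqγ] at ha
    exact dvd_of_ev_eq_zero hp hk π hker hπ a (hi (ha.trans (map_zero _).symm))
  have hfm : FiniteMultiplicity (γ (sec f π)) (γ g) :=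
    FiniteMultiplicity.of_not_isUnit hnu (fun h => hg (hγ (h.trans (map_zero _).symm)))
  obtain ⟨n, hn⟩ := hfm
  obtain ⟨g', f', hg', hgf'⟩ := exists_not_dvd_frac γ (sec f π) hs0 d (fun g f h => by
    apply hdvd
    rw [← h, map_mul, map_mul, map_mul, hqγ (sec _ _), hevs, map_zero, zero_mul, zero_mul])
    (n + 1) g f1 hn hgf
  refine ⟨f', g', fun h => hg' (hdvd g' (by rw [hqγ, h, map_zero])), ?_⟩
  apply hi
  rw [map_mul, ← hqγ, ← hd, ← hqγ, ← hgf', map_mul, mul_comm]

end

end Groth.Agent.Sga3B.AffDvrFrac789
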