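import Groth.Agent.Desc.QAffDesc

/-!
# Generation of sections on products by flat base change
-/

set_option autoImplicit false
set_option backward.isDefEq.respectTransparency false
set_option backward.isDefEq.respectTransparency.types false
open CategoryTheory CategoryTheory.Limits AlgebraicGeometry Opposite
universe u

namespace Groth.Agent.Sga3B.AffDvrGen789

/-- A pushout of commutative rings is generated by the images of the two maps. -/
theorem closure_of_isPushout {A B C D : CommRingCat.{u}} {f : A ⟶ B} {g : A ⟶ C} {inl : B ⟶ D}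
    {inr : C ⟶ D} (h : IsPushout f g inl inr) :
    Subring.closure (Set.range inl.hom ∪ Set.range inr.hom) = ⊤ := by
  set P : Subring D := Subring.closure (Set.range inl.hom ∪ Set.range inr.hom) with hP
  have h1 : ∀ b, inl.hom b ∈ P := fun b => Subring.subset_closure (Or.inl ⟨b, rfl⟩)
  have h2 : ∀ c, inr.hom c ∈ P := fun c => Subring.subset_closure (Or.inr ⟨c, rfl⟩)
  let inl' : B ⟶ CommRingCat.of P := CommRingCat.ofHom (inl.hom.codRestrict P h1)
  let inr' : C ⟶ CommRingCat.of P := CommRingCat.ofHom (inr.hom.codRestrict P h2)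
  let ι : CommRingCat.of P ⟶ D := CommRingCat.ofHom P.subtype
  have e1 : inl' ≫ ι = inl := by ext; rfl
  have e2 : inr' ≫ ι = inr := by ext; rfl
  have w : f ≫ inl' = g ≫ inr' := by
    ext x
    exact congrArg (fun φ => φ.hom x) h.w
  have e3 : h.desc inl' inr' w ≫ ι = 𝟙 D := by
    apply h.hom_ext
    · rw [IsPushout.inl_desc_assoc, e1, Category.comp_id]
    · rw [IsPushout.inr_desc_assoc, e2, Category.comp_id]
  rw [eq_top_iff]
  rintro x -
  have h4 : ι.hom ((h.desc inl' inr' w).hom x) = x := congrArg (fun φ => φ.hom x) e3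
  rw [← h4]
  exact ((h.desc inl' inr' w).hom x).2

/-- A section of `X ×_S Y` pulled back along `(a ≫ y, b) : T ⟶ X ×_S Y` with `a : T ⟶ D` and
`D ⟶ X` affine flat over `S` is a polynomial in sections coming from `D` and sections coming
from `Y`. -/
theorem mem_closure_of_flat {X Y S D T : Scheme.{u}} [IsAffine S] [IsAffine D] (f : X ⟶ S)
    (g : Y ⟶ S) [CompactSpace Y] [QuasiSeparatedSpace Y] (y : D ⟶ X) (hy : Flat (y ≫ f))
    (a : T ⟶ D) (b : T ⟶ Y) (w : (a ≫ y) ≫ f = b ≫ g) (s : Γ(pullback f g, ⊤)) :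
    (pullback.lift (a ≫ y) b w).appTop.hom s ∈
      Subring.closure (Set.range a.appTop.hom ∪ Set.range b.appTop.hom) := by
  have H : IsPullback (pullback.snd (y ≫ f) g) (pullback.fst (y ≫ f) g) g (y ≫ f) :=
    (IsPullback.of_hasPullback (y ≫ f) g).flip
  have h1 := closure_of_isPushout (Groth.Agent.Desc.QAffDesc.isPushout_appTop_of_flat H)
  have w' : a ≫ y ≫ f = b ≫ g := by rw [← w, Category.assoc]
  let m : pullback (y ≫ f) g ⟶ pullback f g :=
    pullback.lift (pullback.fst _ _ ≫ y) (pullback.snd _ _) (by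
      rw [Category.assoc]; exact pullback.condition)
  have h2 : pullback.lift (a ≫ y) b w = pullback.lift a b w' ≫ m := by
    apply pullback.hom_ext
    · rw [pullback.lift_fst, Category.assoc, pullback.lift_fst, pullback.lift_fst_assoc]
    · rw [pullback.lift_snd, Category.assoc, pullback.lift_snd, pullback.lift_snd]
  have h3 : (pullback.lift (a ≫ y) b w).appTop.hom s =
      (pullback.lift a b w').appTop.hom (m.appTop.hom s) := by
    rw [h2, Scheme.Hom.comp_appTop]; rfl
  rw [h3]
  have h4 : m.appTop.hom s ∈ Subring.closure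
      (Set.range (pullback.snd (y ≫ f) g).appTop.hom ∪
        Set.range (pullback.fst (y ≫ f) g).appTop.hom) := by rw [h1]; trivial
  have h5 : (Subring.closure (Set.range (pullback.snd (y ≫ f) g).appTop.hom ∪
        Set.range (pullback.fst (y ≫ f) g).appTop.hom)).map
          (pullback.lift a b w').appTop.hom ≤
      Subring.closure (Set.range a.appTop.hom ∪ Set.range b.appTop.hom) := by
    rw [RingHom.map_closure, Subring.closure_le]
    rintro _ ⟨x, (⟨c, rfl⟩ | ⟨c, rfl⟩), rfl⟩
    · refine Subring.subset_closure (Or.inr ⟨c, ?_⟩)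
      have : b = pullback.lift a b w' ≫ pullback.snd (y ≫ f) g := (pullback.lift_snd _ _ _).symm
      conv_lhs => rw [this, Scheme.Hom.comp_appTop]
      rfl
    · refine Subring.subset_closure (Or.inl ⟨c, ?_⟩)
      have : a = pullback.lift a b w' ≫ pullback.fst (y ≫ f) g := (pullback.lift_fst _ _ _).symm
      conv_lhs => rw [this, Scheme.Hom.comp_appTop]
      rfl
  exact h5 ⟨_, h4, rfl⟩

/-- The symmetric form of `mem_closure_of_flat`. -/
theorem mem_closure_of_flat' {X Y S D T : Scheme.{u}} [IsAffine S] [IsAffine D] (f : X ⟶ S)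
    (g : Y ⟶ S) [CompactSpace X] [QuasiSeparatedSpace X] (y : D ⟶ Y) (hy : Flat (y ≫ g))
    (a : T ⟶ X) (b : T ⟶ D) (w : a ≫ f = (b ≫ y) ≫ g) (s : Γ(pullback f g, ⊤)) :
    (pullback.lift a (b ≫ y) w).appTop.hom s ∈
      Subring.closure (Set.range b.appTop.hom ∪ Set.range a.appTop.hom) := by
  have h := mem_closure_of_flat g f y hy b a w.symm ((pullbackSymmetry g f).hom.appTop.hom s)
  have h2 : pullback.lift a (b ≫ y) w =
      pullback.lift (b ≫ y) a w.symm ≫ (pullbackSymmetry g f).hom := by
    apply pullback.hom_ext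
    · rw [pullback.lift_fst, Category.assoc, pullbackSymmetry_hom_comp_fst, pullback.lift_snd]
    · rw [pullback.lift_snd, Category.assoc, pullbackSymmetry_hom_comp_snd, pullback.lift_fst]
  have h3 : (pullback.lift a (b ≫ y) w).appTop.hom s =
      (pullback.lift (b ≫ y) a w.symm).appTop.hom ((pullbackSymmetry g f).hom.appTop.hom s) := by
    rw [h2, Scheme.Hom.comp_appTop]; rfl
  rw [h3]
  exact h

end Groth.Agent.Sga3B.AffDvrGen789
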