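import Groth.Agent.Sga3B.AffDvrAff789
import Groth.Agent.Sga3C.GrpSep
import Groth.Agent.Etcore.SmoothRed
import Groth.Agent.Models.DVRGeneric

/-!
# Smooth group schemes with affine geometrically irreducible fibres over a DVR are affine
-/

set_option autoImplicit false
open CategoryTheory CategoryTheory.Limits AlgebraicGeometry Opposite TopologicalSpace
universe u

namespace Groth.Agent.Sga3B.AffDvrGrp789

open Groth.Agent.Sga3B.AffDvrHopf789 Groth.Agent.Sga3B.AffDvrFrac789 Groth.Agent.Books.AffBridge

/-- All base changes to fields are affine. -/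
def AffFib {X S : Scheme.{u}} (f : X ⟶ S) : Prop :=
  ∀ (F : Type u) [Field F] (t : Spec (CommRingCat.of F) ⟶ S), IsAffine (pullback f t)

lemma AffFib.of_isPullback {X S X' S' : Scheme.{u}} {f : X ⟶ S} {g : X' ⟶ X} {f' : X' ⟶ S'}
    {h : S' ⟶ S} (hf : AffFib f) (H : IsPullback g f' f h) : AffFib f' := by
  intro F _ t
  have h1 := hf F (t ≫ h)
  have h2 : IsPullback (pullback.fst f' t ≫ g) (pullback.snd f' t) f (t ≫ h) :=
    (IsPullback.of_hasPullback f' t).paste_horiz H |>.flip.flip
  exact .of_isIso h2.isoPullback.hom

theorem isAffineOpen_generic {R : Type u} [CommRing R] [IsDomain R] [IsDiscreteValuationRing R]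
    {X : Scheme.{u}} (f : X ⟶ Spec (CommRingCat.of R)) (hf : AffFib f) (π : R)
    (hπ : Irreducible π) : IsAffineOpen (X.basicOpen (sec f π)) := by
  let K := FractionRing R
  let j : Spec (CommRingCat.of K) ⟶ Spec (CommRingCat.of R) :=
    Spec.map (CommRingCat.ofHom (algebraMap R K))
  have hloc := Groth.Agent.Models.DVRGeneric.isLocalization_away R π hπ K
  have hj : IsOpenImmersion j := Groth.Agent.Models.DVRGeneric.isOpenImmersion_generic R K
  have haff : IsAffine (pullback f j) := hf K j
  have h1 := isAffineOpen_opensRange (pullback.fst f j)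
  have h2 : (pullback.fst f j).opensRange = X.basicOpen (sec f π) := by
    rw [Groth.Agent.Sga3B.AffDvrAff789.basicOpen_sec]
    ext x
    have h3 : Set.range j = (PrimeSpectrum.basicOpen π : Set (PrimeSpectrum R)) :=
      PrimeSpectrum.localization_away_comap_range K π
    change x ∈ Set.range (pullback.fst f j) ↔ _
    rw [Scheme.Pullback.range_fst, Set.mem_preimage, h3]
    rfl
  rwa [h2] at h1

/-- Smooth quasi-compact group schemes with affine geometrically irreducible fibres over a
discrete valuation ring are affine. -/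
theorem isAffine_dvr {R : Type u} [CommRing R] [IsDomain R] [IsDiscreteValuationRing R]
    (G : Over (Spec (CommRingCat.of R))) [GrpObj G] [Smooth G.hom] [QuasiCompact G.hom]
    [GeometricallyIrreducible G.hom] (hG : AffFib G.hom) : IsAffine G.left := by
  let k := IsLocalRing.ResidueField R
  have hk : Function.Surjective (algebraMap R k) := IsLocalRing.residue_surjective
  obtain ⟨π, hπ⟩ := IsDiscreteValuationRing.exists_irreducible R
  have hker : RingHom.ker (algebraMap R k) = Ideal.span {π} := by
    rw [← hπ.maximalIdeal_eq]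
    exact IsLocalRing.ker_residue
  have hsep : IsSeparated G.hom := Groth.Agent.Sga3C.GrpSep.isSeparated G
  have hcomp : CompactSpace G.left := QuasiCompact.compactSpace_of_compactSpace G.hom
  have hqs : QuasiSeparatedSpace G.left := quasiSeparatedSpace_of_quasiSeparated G.hom
  have hLN : IsLocallyNoetherian G.left := LocallyOfFiniteType.isLocallyNoetherian G.hom
  have hirr : IrreducibleSpace G.left :=
    GeometricallyIrreducible.irreducibleSpace G.hom G.hom.isOpenMap
  have hred : IsReduced G.left := Groth.Agent.Etcore.SmoothRed.isReduced_of_smooth G.hom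
  have hint : IsIntegral G.left := isIntegral_of_irreducibleSpace_of_isReduced _
  -- the special fibre
  have haffk : IsAffine (Red.bc (spt R k) G).left := hG k (spt R k)
  obtain ⟨B, _, _, e, he⟩ := exists_hopf k (Red.bc (spt R k) G)
  have hk1 : IrreducibleSpace (Red.bc (spt R k) G).left :=
    inferInstanceAs (IrreducibleSpace ↥(pullback G.hom (spt R k)))
  have hk2 : IsReduced (Red.bc (spt R k) G).left := by
    have : Smooth (Red.bc (spt R k) G).hom :=
      inferInstanceAs (Smooth (pullback.snd G.hom (spt R k)))
    exact Groth.Agent.Etcore.SmoothRed.isReduced_of_smooth (Red.bc (spt R k) G).hom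
  have hk3 : IsIntegral (Red.bc (spt R k) G).left :=
    isIntegral_of_irreducibleSpace_of_isReduced _
  have hB1 : IsIntegral (Spec (CommRingCat.of B)) := by
    have e' : (Red.bc (spt R k) G).left ≅ Spec (CommRingCat.of B) := (Over.forget _).mapIso e
    have : Nonempty (Spec (CommRingCat.of B)) := ⟨e'.hom (genericPoint _)⟩
    exact isIntegral_of_isOpenImmersion e'.inv
  have hB : IsDomain B := (affine_isIntegral_iff (CommRingCat.of B)).1 hB1
  have hsecaff := isAffineOpen_generic G.hom hG π hπ
  have hsec : sec G.hom π ≠ 0 := by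
    intro h0
    have h1 : G.left.basicOpen (sec G.hom π) = ⊥ := by rw [h0]; exact Scheme.basicOpen_zero _ _
    rw [Groth.Agent.Sga3B.AffDvrAff789.basicOpen_sec] at h1
    have hne : (⊥ : PrimeSpectrum R) ∈ PrimeSpectrum.basicOpen π := by
      rw [PrimeSpectrum.mem_basicOpen]
      exact hπ.ne_zero
    obtain ⟨x, hx⟩ := G.hom.surjective (⊥ : PrimeSpectrum R)
    have h2 : x ∈ G.hom ⁻¹ᵁ (PrimeSpectrum.basicOpen π) := by
      change G.hom x ∈ PrimeSpectrum.basicOpen π
      rw [hx]
      exact hne
    rw [h1] at h2
    exact h2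
  have hsurj := Groth.Agent.Sga3B.AffDvrSurj789.surjective_ev G e hk π hker hsec hsecaff
  exact Groth.Agent.Sga3B.AffDvrAff789.isAffine_of_surjective_ev (isPullback_incl G e) hk π hker
    hsec hsecaff hsurj

end Groth.Agent.Sga3B.AffDvrGrp789
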