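import Groth.Agent.Sga3B.AffDvrGen789
import Groth.Agent.Sga3B.AffDvrAlg789
import Groth.Agent.Sga3B.BcPts
import Groth.Agent.Books.AffBridge2

/-!
# The image of the global sections of a flat group scheme in the Hopf algebra of an affine fibre
-/

set_option autoImplicit false
open CategoryTheory CategoryTheory.Limits AlgebraicGeometry Opposite MonoidalCategory
  CartesianMonoidalCategory MonObj GrpObj TensorProduct
universe u

namespace Groth.Agent.Sga3B.AffDvrHopf789

open Groth.Agent.Books.AffBridge Groth.Agent.Books.AffBridge2 Groth.Agent.Books.SubHopf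
open Groth.Agent.Sga3B.BcPts

/-- Evaluation of global functions at a `T`-valued point. -/
noncomputable def ev {X : Scheme.{u}} {T : Type u} [CommRing T] (g : Spec (CommRingCat.of T) ⟶ X) :
    Γ(X, ⊤) →+* T :=
  (g.appTop ≫ (Scheme.ΓSpecIso (CommRingCat.of T)).hom).hom

lemma ev_specMap_comp {X : Scheme.{u}} {T T' : Type u} [CommRing T] [CommRing T'] (φ : T →+* T')
    (g : Spec (CommRingCat.of T) ⟶ X) (a : Γ(X, ⊤)) :
    ev (Spec.map (CommRingCat.ofHom φ) ≫ g) a = φ (ev g a) := by
  have h : (Spec.map (CommRingCat.ofHom φ) ≫ g).appTop ≫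
      (Scheme.ΓSpecIso (CommRingCat.of T')).hom =
      (g.appTop ≫ (Scheme.ΓSpecIso (CommRingCat.of T)).hom) ≫ CommRingCat.ofHom φ := by
    rw [Scheme.Hom.comp_appTop, Category.assoc, Category.assoc]
    congr 1
    exact Scheme.ΓSpecIso_naturality (CommRingCat.ofHom φ)
  exact congrArg (fun ψ => ψ.hom a) h

lemma ev_comp {X Y : Scheme.{u}} {T : Type u} [CommRing T] (g : Spec (CommRingCat.of T) ⟶ X)
    (h : X ⟶ Y) (a : Γ(Y, ⊤)) : ev (g ≫ h) a = ev g (h.appTop.hom a) := by
  rw [ev, ev, Scheme.Hom.comp_appTop, Category.assoc]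
  rfl

lemma ev_specMap {T D : Type u} [CommRing T] [CommRing D] (φ : D →+* T)
    (a : Γ(Spec (CommRingCat.of D), ⊤)) :
    ev (Spec.map (CommRingCat.ofHom φ)) a =
      φ ((Scheme.ΓSpecIso (CommRingCat.of D)).hom.hom a) := by
  have h := Scheme.ΓSpecIso_naturality (CommRingCat.ofHom φ)
  exact congrArg (fun ψ => ψ.hom a) h

/-- `mem_closure_of_flat` in terms of evaluations. -/
theorem ev_mem_closure {X Y S : Scheme.{u}} {D T : Type u} [CommRing D] [CommRing T] [IsAffine S]
    (f : X ⟶ S) (g : Y ⟶ S) [CompactSpace Y] [QuasiSeparatedSpace Y]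
    (y : Spec (CommRingCat.of D) ⟶ X) (hy : Flat (y ≫ f))
    (q : D →+* T) (b : Spec (CommRingCat.of T) ⟶ Y)
    (w : (Spec.map (CommRingCat.ofHom q) ≫ y) ≫ f = b ≫ g) (s : Γ(pullback f g, ⊤)) :
    ev (pullback.lift (Spec.map (CommRingCat.ofHom q) ≫ y) b w) s ∈
      Subring.closure (Set.range q ∪ Set.range (ev b)) := by
  have h := Groth.Agent.Sga3B.AffDvrGen789.mem_closure_of_flat f g y hy
    (Spec.map (CommRingCat.ofHom q)) b w s
  have h2 : (Subring.closure (Set.range (Spec.map (CommRingCat.ofHom q)).appTop.hom ∪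
      Set.range b.appTop.hom)).map (Scheme.ΓSpecIso (CommRingCat.of T)).hom.hom ≤
      Subring.closure (Set.range q ∪ Set.range (ev b)) := by
    rw [RingHom.map_closure, Subring.closure_le]
    rintro _ ⟨x, (⟨c, rfl⟩ | ⟨c, rfl⟩), rfl⟩
    · exact Subring.subset_closure (Or.inl ⟨_, (ev_specMap q c).symm⟩)
    · exact Subring.subset_closure (Or.inr ⟨c, rfl⟩)
  exact h2 ⟨_, h, rfl⟩

/-- `mem_closure_of_flat'` in terms of evaluations. -/
theorem ev_mem_closure' {X Y S : Scheme.{u}} {D T : Type u} [CommRing D] [CommRing T] [IsAffine S]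
    (f : X ⟶ S) (g : Y ⟶ S) [CompactSpace X] [QuasiSeparatedSpace X]
    (y : Spec (CommRingCat.of D) ⟶ Y) (hy : Flat (y ≫ g))
    (q : D →+* T) (a : Spec (CommRingCat.of T) ⟶ X)
    (w : a ≫ f = (Spec.map (CommRingCat.ofHom q) ≫ y) ≫ g) (s : Γ(pullback f g, ⊤)) :
    ev (pullback.lift a (Spec.map (CommRingCat.ofHom q) ≫ y) w) s ∈
      Subring.closure (Set.range q ∪ Set.range (ev a)) := by
  have h := Groth.Agent.Sga3B.AffDvrGen789.mem_closure_of_flat' f g y hy
    a (Spec.map (CommRingCat.ofHom q)) w s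
  have h2 : (Subring.closure (Set.range (Spec.map (CommRingCat.ofHom q)).appTop.hom ∪
      Set.range a.appTop.hom)).map (Scheme.ΓSpecIso (CommRingCat.of T)).hom.hom ≤
      Subring.closure (Set.range q ∪ Set.range (ev a)) := by
    rw [RingHom.map_closure, Subring.closure_le]
    rintro _ ⟨x, (⟨c, rfl⟩ | ⟨c, rfl⟩), rfl⟩
    · exact Subring.subset_closure (Or.inl ⟨_, (ev_specMap q c).symm⟩)
    · exact Subring.subset_closure (Or.inr ⟨c, rfl⟩)
  exact h2 ⟨_, h, rfl⟩

section

variable {R k : Type u} [CommRing R] [Field k] [Algebra R k]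

/-- The closed point of the base. -/
noncomputable abbrev spt (R k : Type u) [CommRing R] [Field k] [Algebra R k] :
    Spec (CommRingCat.of k) ⟶ Spec (CommRingCat.of R) :=
  Spec.map (CommRingCat.ofHom (algebraMap R k))

variable {B : Type u} [CommRing B] [HopfAlgebra k B] (G : Over (Spec (CommRingCat.of R)))
  [GrpObj G] (e : Red.bc (spt R k) G ≅ SpecOver k B)

/-- The map `Spec B ⟶ G`. -/
noncomputable def incl : Spec (CommRingCat.of B) ⟶ G.left := e.inv.left ≫ pullback.fst _ _

omit [GrpObj G] in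
lemma isPullback_incl : IsPullback (incl G e) (Spec.map (CommRingCat.ofHom (algebraMap k B)))
    G.hom (spt R k) := by
  refine IsPullback.of_iso (IsPullback.of_hasPullback G.hom (spt R k))
    ((Over.forget _).mapIso e) (Iso.refl _) (Iso.refl _) (Iso.refl _) ?_ ?_ (by simp) (by simp)
  · have h := congrArg Over.Hom.left e.hom_inv_id
    have h' : e.hom.left ≫ e.inv.left = 𝟙 _ := h
    change _ ≫ 𝟙 _ = e.hom.left ≫ e.inv.left ≫ _
    rw [reassoc_of% h', Category.comp_id]
  · have h := Over.w e.hom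
    change pullback.snd G.hom (spt R k) ≫ 𝟙 _ = _
    rw [Category.comp_id]
    exact h.symm

omit [GrpObj G] in
lemma incl_comp_hom : incl G e ≫ G.hom =
    Spec.map (CommRingCat.ofHom (algebraMap k B)) ≫ spt R k := (isPullback_incl G e).w

/-- Points of `G` from algebra maps out of `B`. -/
noncomputable def pt {T : Type u} [CommRing T] [Algebra k T] (φ : B →ₐ[k] T) :
    (Over.map (spt R k)).obj (SpecOver k T) ⟶ G :=
  (bcMulEquiv (spt R k) _ G).symm (specMap k φ ≫ e.inv)

lemma pt_left {T : Type u} [CommRing T] [Algebra k T] (φ : B →ₐ[k] T) :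
    (pt G e φ).left = Spec.map (CommRingCat.ofHom φ.toRingHom) ≫ incl G e := by
  change ((((Over.mapPullbackAdj (spt R k)).homEquiv _ _).symm (specMap k φ ≫ e.inv))).left = _
  rw [Adjunction.homEquiv_counit]
  simp [incl]
  rfl

lemma pt_mul [IsMonHom e.hom] {T : Type u} [CommRing T] [Algebra k T]
    (φ ψ : WithConv (B →ₐ[k] T)) :
    pt G e (φ * ψ).ofConv = pt G e φ.ofConv * pt G e ψ.ofConv := by
  rw [pt, pt, pt, specMap_mul, MonObj.mul_comp, map_mul]

lemma pt_antipode [IsMonHom e.hom] {T : Type u} [CommRing T] [Algebra k T] (φ : B →ₐ[k] T) :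
    pt G e (φ.comp (HopfAlgebra.antipodeAlgHom k B)) = (pt G e φ)⁻¹ := by
  rw [pt, pt, specMap_comp_antipode, ← map_inv]
  congr 1
  rw [GrpObj.inv_comp]

/-- The image of the global sections of `G` in `B`. -/
noncomputable def imgSub (hk : Function.Surjective (algebraMap R k)) : Subalgebra k B :=
  { (ev (incl G e)).range with
    algebraMap_mem' := by
      intro c
      obtain ⟨r, rfl⟩ := hk c
      refine ⟨G.hom.appTop.hom ((Scheme.ΓSpecIso (CommRingCat.of R)).inv.hom r), ?_⟩
      rw [← ev_comp, incl_comp_hom, ev_specMap_comp, ev_specMap]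
      congr 2
      exact congrArg (fun φ => φ.hom r) (Scheme.ΓSpecIso (CommRingCat.of R)).inv_hom_id }

omit [GrpObj G] in
lemma mem_imgSub (hk : Function.Surjective (algebraMap R k)) (b : B) :
    b ∈ imgSub G e hk ↔ ∃ a, ev (incl G e) a = b := Iff.rfl

lemma comul_ev [IsMonHom e.hom] (a : Γ(G.left, ⊤)) :
    ∃ (s : Γ(pullback G.hom G.hom, ⊤)), CoalgebraStruct.comul (R := k) (ev (incl G e) a) =
      ev (pullback.lift (f := G.hom) (g := G.hom)
        (Spec.map (CommRingCat.ofHom
          (Algebra.TensorProduct.includeLeft : B →ₐ[k] B ⊗[k] B).toRingHom) ≫ incl G e)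
        (Spec.map (CommRingCat.ofHom
          (Algebra.TensorProduct.includeRight : B →ₐ[k] B ⊗[k] B).toRingHom) ≫ incl G e)
        (by
          have h1 := Over.w (pt G e (Algebra.TensorProduct.includeLeft : B →ₐ[k] B ⊗[k] B))
          have h2 := Over.w (pt G e (Algebra.TensorProduct.includeRight : B →ₐ[k] B ⊗[k] B))
          rw [pt_left] at h1 h2
          exact h1.trans h2.symm)) s := by
  refine ⟨(μ[G] : G ⊗ G ⟶ G).left.appTop.hom a, ?_⟩
  have h1 : (WithConv.toConv (Algebra.TensorProduct.includeLeft : B →ₐ[k] B ⊗[k] B) *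
      WithConv.toConv (Algebra.TensorProduct.includeRight : B →ₐ[k] B ⊗[k] B)).ofConv =
      Bialgebra.comulAlgHom k B := by
    have h2 : (Algebra.TensorProduct.lmul' k).comp (Algebra.TensorProduct.map
        (Algebra.TensorProduct.includeLeft : B →ₐ[k] B ⊗[k] B)
        (Algebra.TensorProduct.includeRight : B →ₐ[k] B ⊗[k] B)) = AlgHom.id k _ := by
      ext <;> simp
    have h3 : (WithConv.toConv (Algebra.TensorProduct.includeLeft : B →ₐ[k] B ⊗[k] B) *
      WithConv.toConv (Algebra.TensorProduct.includeRight : B →ₐ[k] B ⊗[k] B)).ofConv =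
      ((Algebra.TensorProduct.lmul' k).comp (Algebra.TensorProduct.map
        (Algebra.TensorProduct.includeLeft : B →ₐ[k] B ⊗[k] B)
        (Algebra.TensorProduct.includeRight : B →ₐ[k] B ⊗[k] B))).comp
        (Bialgebra.comulAlgHom k B) := rfl
    rw [h3, h2]
    rfl
  have h4 := pt_mul G e (WithConv.toConv (Algebra.TensorProduct.includeLeft : B →ₐ[k] B ⊗[k] B))
    (WithConv.toConv (Algebra.TensorProduct.includeRight : B →ₐ[k] B ⊗[k] B))
  rw [h1] at h4
  have h5 := congrArg Over.Hom.left h4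
  rw [pt_left] at h5
  have h6 : CoalgebraStruct.comul (R := k) (ev (incl G e) a) =
      ev (Spec.map (CommRingCat.ofHom (Bialgebra.comulAlgHom k B).toRingHom) ≫ incl G e) a :=
    (ev_specMap_comp (Bialgebra.comulAlgHom k B).toRingHom (incl G e) a).symm
  rw [h6, h5, ← ev_comp]
  congr 1

lemma antipode_mem [IsMonHom e.hom] (hk : Function.Surjective (algebraMap R k)) (b : B)
    (hb : b ∈ imgSub G e hk) :
    HopfAlgebraStruct.antipode (R := k) (A := B) b ∈ imgSub G e hk := by
  obtain ⟨a, rfl⟩ := hb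
  refine ⟨(ι[G] : G ⟶ G).left.appTop.hom a, ?_⟩
  have h1 : pt G e ((AlgHom.id k B).comp (HopfAlgebra.antipodeAlgHom k B)) =
      pt G e (AlgHom.id k B) ≫ (ι[G] : G ⟶ G) := pt_antipode G e (AlgHom.id k B)
  have h5 := congrArg Over.Hom.left h1
  rw [pt_left, Over.comp_left, pt_left] at h5
  have h7 : Spec.map (CommRingCat.ofHom (AlgHom.id k B).toRingHom) = 𝟙 _ := Spec.map_id _
  rw [h7, Category.id_comp] at h5
  have h6 : HopfAlgebraStruct.antipode (R := k) (ev (incl G e) a) =
      ev (Spec.map (CommRingCat.ofHom ((AlgHom.id k B).comp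
        (HopfAlgebra.antipodeAlgHom k B)).toRingHom) ≫ incl G e) a :=
    (ev_specMap_comp ((AlgHom.id k B).comp
        (HopfAlgebra.antipodeAlgHom k B)).toRingHom (incl G e) a).symm
  rw [h6, h5, ← ev_comp]
  rfl

/-- The image of the global sections of `G` in the Hopf algebra of the special fibre is a
sub-Hopf algebra. -/
theorem isSubHopf_imgSub [IsMonHom e.hom] (hk : Function.Surjective (algebraMap R k))
    [CompactSpace G.left] [QuasiSeparatedSpace G.left] {D E : Type u} [CommRing D] [CommRing E]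
    [Algebra k E] (i : B →ₐ[k] E) (hi : Function.Injective i) (q : D →+* E)
    (y : Spec (CommRingCat.of D) ⟶ G.left) (hy : Flat (y ≫ G.hom))
    (hq : Spec.map (CommRingCat.ofHom q) ≫ y =
      Spec.map (CommRingCat.ofHom i.toRingHom) ≫ incl G e) :
    IsSubHopf (k := k) (imgSub G e hk) := by
  refine ⟨fun b hb => ?_, fun b hb => antipode_mem G e hk b hb⟩
  obtain ⟨a, rfl⟩ := hb
  obtain ⟨s, hs⟩ := comul_ev G e a
  refine Groth.Agent.Sga3B.AffDvrAlg789.mem_range_map i.toLinearMap hi
    (Subalgebra.toSubmodule (imgSub G e hk)) _ ?_ ?_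
  · let j : B ⊗[k] B →ₐ[k] E ⊗[k] B := Algebra.TensorProduct.map i (AlgHom.id k B)
    let inlE : E →ₐ[k] E ⊗[k] B := Algebra.TensorProduct.includeLeft
    let inrE : B →ₐ[k] E ⊗[k] B := Algebra.TensorProduct.includeRight
    have hj1 : (j.toRingHom).comp (Algebra.TensorProduct.includeLeft :
        B →ₐ[k] B ⊗[k] B).toRingHom = inlE.toRingHom.comp i.toRingHom := by
      ext b; simp [j, inlE]
    have hj2 : (j.toRingHom).comp (Algebra.TensorProduct.includeRight :
        B →ₐ[k] B ⊗[k] B).toRingHom = inrE.toRingHom := by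
      ext b; simp [j, inrE]
    have e1 : Spec.map (CommRingCat.ofHom j.toRingHom) ≫
        (Spec.map (CommRingCat.ofHom
          (Algebra.TensorProduct.includeLeft : B →ₐ[k] B ⊗[k] B).toRingHom) ≫ incl G e) =
        Spec.map (CommRingCat.ofHom (inlE.toRingHom.comp q)) ≫ y := by
      rw [CommRingCat.ofHom_comp, Spec.map_comp, Category.assoc, hq, ← Category.assoc,
        ← Category.assoc, ← Spec.map_comp, ← Spec.map_comp, ← CommRingCat.ofHom_comp,
        ← CommRingCat.ofHom_comp, hj1]
    have e2 : Spec.map (CommRingCat.ofHom j.toRingHom) ≫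
        (Spec.map (CommRingCat.ofHom
          (Algebra.TensorProduct.includeRight : B →ₐ[k] B ⊗[k] B).toRingHom) ≫ incl G e) =
        Spec.map (CommRingCat.ofHom inrE.toRingHom) ≫ incl G e := by
      rw [← Category.assoc, ← Spec.map_comp, ← CommRingCat.ofHom_comp, hj2]
    have w : (Spec.map (CommRingCat.ofHom (inlE.toRingHom.comp q)) ≫ y) ≫ G.hom =
        (Spec.map (CommRingCat.ofHom inrE.toRingHom) ≫ incl G e) ≫ G.hom := by
      rw [← e1, ← e2]
      have h1 := Over.w (pt G e (Algebra.TensorProduct.includeLeft : B →ₐ[k] B ⊗[k] B))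
      have h2 := Over.w (pt G e (Algebra.TensorProduct.includeRight : B →ₐ[k] B ⊗[k] B))
      rw [pt_left] at h1 h2
      rw [Category.assoc, Category.assoc _ _ G.hom]
      exact congrArg _ (h1.trans h2.symm)
    have h3 := ev_mem_closure G.hom G.hom y hy (inlE.toRingHom.comp q)
      (Spec.map (CommRingCat.ofHom inrE.toRingHom) ≫ incl G e) w s
    have h4 : j (CoalgebraStruct.comul (R := k) (ev (incl G e) a)) =
        ev (pullback.lift (Spec.map (CommRingCat.ofHom (inlE.toRingHom.comp q)) ≫ y)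
          (Spec.map (CommRingCat.ofHom inrE.toRingHom) ≫ incl G e) w) s := by
      rw [hs]
      refine (ev_specMap_comp j.toRingHom _ s).symm.trans ?_
      congr 2
      apply pullback.hom_ext
      · rw [pullback.lift_fst, Category.assoc, pullback.lift_fst, e1]
      · rw [pullback.lift_snd, Category.assoc, pullback.lift_snd, e2]
    rw [← h4] at h3
    have h5 : Subring.closure (Set.range (inlE.toRingHom.comp q) ∪
        Set.range (ev (Spec.map (CommRingCat.ofHom inrE.toRingHom) ≫ incl G e))) ≤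
        (Algebra.TensorProduct.map (AlgHom.id k E) (imgSub G e hk).val).toRingHom.range := by
      rw [Subring.closure_le]
      rintro _ (⟨d, rfl⟩ | ⟨c, rfl⟩)
      · exact ⟨q d ⊗ₜ 1, by simp [inlE]⟩
      · exact ⟨1 ⊗ₜ ⟨ev (incl G e) c, c, rfl⟩, by
          rw [ev_specMap_comp]; simp [inrE]⟩
    obtain ⟨z, hz⟩ := h5 h3
    exact ⟨z, hz⟩
  · let j : B ⊗[k] B →ₐ[k] B ⊗[k] E := Algebra.TensorProduct.map (AlgHom.id k B) i
    let inlB : B →ₐ[k] B ⊗[k] E := Algebra.TensorProduct.includeLeft
    let inrE : E →ₐ[k] B ⊗[k] E := Algebra.TensorProduct.includeRight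
    have hj1 : (j.toRingHom).comp (Algebra.TensorProduct.includeLeft :
        B →ₐ[k] B ⊗[k] B).toRingHom = inlB.toRingHom := by
      ext b; simp [j, inlB]
    have hj2 : (j.toRingHom).comp (Algebra.TensorProduct.includeRight :
        B →ₐ[k] B ⊗[k] B).toRingHom = inrE.toRingHom.comp i.toRingHom := by
      ext b; simp [j, inrE]
    have e1 : Spec.map (CommRingCat.ofHom j.toRingHom) ≫
        (Spec.map (CommRingCat.ofHom
          (Algebra.TensorProduct.includeLeft : B →ₐ[k] B ⊗[k] B).toRingHom) ≫ incl G e) =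
        Spec.map (CommRingCat.ofHom inlB.toRingHom) ≫ incl G e := by
      rw [← Category.assoc, ← Spec.map_comp, ← CommRingCat.ofHom_comp, hj1]
    have e2 : Spec.map (CommRingCat.ofHom j.toRingHom) ≫
        (Spec.map (CommRingCat.ofHom
          (Algebra.TensorProduct.includeRight : B →ₐ[k] B ⊗[k] B).toRingHom) ≫ incl G e) =
        Spec.map (CommRingCat.ofHom (inrE.toRingHom.comp q)) ≫ y := by
      rw [CommRingCat.ofHom_comp, Spec.map_comp, Category.assoc, hq, ← Category.assoc,
        ← Category.assoc, ← Spec.map_comp, ← Spec.map_comp, ← CommRingCat.ofHom_comp,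
        ← CommRingCat.ofHom_comp, hj2]
    have w : (Spec.map (CommRingCat.ofHom inlB.toRingHom) ≫ incl G e) ≫ G.hom =
        (Spec.map (CommRingCat.ofHom (inrE.toRingHom.comp q)) ≫ y) ≫ G.hom := by
      rw [← e1, ← e2]
      have h1 := Over.w (pt G e (Algebra.TensorProduct.includeLeft : B →ₐ[k] B ⊗[k] B))
      have h2 := Over.w (pt G e (Algebra.TensorProduct.includeRight : B →ₐ[k] B ⊗[k] B))
      rw [pt_left] at h1 h2
      rw [Category.assoc, Category.assoc _ _ G.hom]
      exact congrArg _ (h1.trans h2.symm)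
    have h3 := ev_mem_closure' G.hom G.hom y hy (inrE.toRingHom.comp q)
      (Spec.map (CommRingCat.ofHom inlB.toRingHom) ≫ incl G e) w s
    have h4 : j (CoalgebraStruct.comul (R := k) (ev (incl G e) a)) =
        ev (pullback.lift (Spec.map (CommRingCat.ofHom inlB.toRingHom) ≫ incl G e)
          (Spec.map (CommRingCat.ofHom (inrE.toRingHom.comp q)) ≫ y) w) s := by
      rw [hs]
      refine (ev_specMap_comp j.toRingHom _ s).symm.trans ?_
      congr 2
      apply pullback.hom_ext
      · rw [pullback.lift_fst, Category.assoc, pullback.lift_fst, e1]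
      · rw [pullback.lift_snd, Category.assoc, pullback.lift_snd, e2]
    rw [← h4] at h3
    have h5 : Subring.closure (Set.range (inrE.toRingHom.comp q) ∪
        Set.range (ev (Spec.map (CommRingCat.ofHom inlB.toRingHom) ≫ incl G e))) ≤
        (Algebra.TensorProduct.map (imgSub G e hk).val (AlgHom.id k E)).toRingHom.range := by
      rw [Subring.closure_le]
      rintro _ (⟨d, rfl⟩ | ⟨c, rfl⟩)
      · exact ⟨1 ⊗ₜ q d, by simp [inrE]⟩
      · exact ⟨⟨ev (incl G e) c, c, rfl⟩ ⊗ₜ 1, by
          rw [ev_specMap_comp]; simp [inlB]⟩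
    obtain ⟨z, hz⟩ := h5 h3
    exact ⟨z, hz⟩

end

end Groth.Agent.Sga3B.AffDvrHopf789
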