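import Groth.Agent.Sga3B.AffDvrFrac789
import Groth.Agent.Fdesc.FlatStalk

/-!
# Surjectivity of the restriction of global functions to the special fibre
-/

set_option autoImplicit false
open CategoryTheory CategoryTheory.Limits AlgebraicGeometry Opposite TopologicalSpace
universe u

namespace Groth.Agent.Sga3B.AffDvrSurj789

open Groth.Agent.Sga3B.AffDvrHopf789 Groth.Agent.Sga3B.AffDvrFrac789 Groth.Agent.Books.AffBridge

variable {R k : Type u} [CommRing R] [Field k] [Algebra R k] {B : Type u} [CommRing B]
  [HopfAlgebra k B] (G : Over (Spec (CommRingCat.of R))) [GrpObj G]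
  (e : Red.bc (spt R k) G ≅ SpecOver k B)

/-- Global functions restrict surjectively to the affine special fibre. -/
theorem surjective_ev [IsMonHom e.hom] [IsDomain B] [IsIntegral G.left]
    [IsLocallyNoetherian G.left] [CompactSpace G.left] [QuasiSeparatedSpace G.left] [Flat G.hom]
    (hk : Function.Surjective (algebraMap R k)) (π : R)
    (hker : RingHom.ker (algebraMap R k) = Ideal.span {π}) (hπ : sec G.hom π ≠ 0)
    (haff : IsAffineOpen (G.left.basicOpen (sec G.hom π))) :
    Function.Surjective (ev (incl G e)) := by
  have hp := isPullback_incl G e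
  let p := incl G e
  let η : Spec (CommRingCat.of B) := genericPoint (Spec (CommRingCat.of B))
  let E : Type u := (Spec (CommRingCat.of B)).presheaf.stalk η
  let algE : Algebra k E := ((toE B η).comp (algebraMap k B)).toAlgebra
  let i : B →ₐ[k] E := { toE B η with commutes' := fun _ => rfl }
  have hi : Function.Injective i := by
    have h1 : Function.Injective ((Spec (CommRingCat.of B)).presheaf.germ ⊤ η trivial) :=
      germ_injective_of_isIntegral (Spec (CommRingCat.of B)) (U := ⊤) η trivial
    have h2 := (ConcreteCategory.bijective_of_isIso (Scheme.ΓSpecIso (CommRingCat.of B)).inv).1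
    exact h1.comp h2
  let D : Type u := G.left.presheaf.stalk (p η)
  let q : D →+* E := (p.stalkMap η).hom
  let y : Spec (CommRingCat.of D) ⟶ G.left := G.left.fromSpecStalk (p η)
  have hy1 : Flat y := Groth.Agent.Fdesc.FlatStalk.flat_fromSpecStalk G.left (p η)
  have hy : Flat (y ≫ G.hom) := inferInstance
  have hq : Spec.map (CommRingCat.ofHom q) ≫ y =
      Spec.map (CommRingCat.ofHom i.toRingHom) ≫ incl G e := by
    have h1 := Scheme.SpecMap_stalkMap_fromSpecStalk (f := p) (x := η)
    rw [Spec.fromSpecStalk_eq] at h1
    exact h1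
  have hsub := isSubHopf_imgSub G e hk i hi q y hy hq
  have htop := Groth.Agent.Sga3B.AffDvrAlg789.eq_top_of_frac (imgSub G e hk) hsub (fun b => by
    obtain ⟨c, d, hd, hbd⟩ := exists_frac hp hk π hker hπ haff b
    refine ⟨ev p d, ⟨d, rfl⟩, hd, ?_⟩
    rw [hbd]
    exact ⟨c, rfl⟩)
  intro b
  have hb : b ∈ imgSub G e hk := by rw [htop]; trivial
  exact hb

end Groth.Agent.Sga3B.AffDvrSurj789
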