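import Groth.Prelude.Def_Red
import Groth.Agent.Sga3B.Pts
import Mathlib.AlgebraicGeometry.Group.Affine

/-!
# Affine test objects over an affine base

`sp L A` is `Spec A` over `Spec L`. Morphisms of affine `L`-schemes are determined by what they do on `sp L A`-points;
isomorphisms, monomorphisms and group homomorphisms can be detected on them.
-/

set_option autoImplicit false

open CategoryTheory MonoidalCategory CartesianMonoidalCategory MonObj GrpObj AlgebraicGeometry Limits Opposite

namespace Groth.Agent.Sga3B.AffTest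

noncomputable section

universe u

variable {L : Type u} [CommRing L]

variable (L) in
/-- `Spec A` over `Spec L` -/
abbrev sp (A : Type u) [CommRing A] [Algebra L A] : Over (Spec (CommRingCat.of L)) :=
  (Spec (CommRingCat.of A)).asOver (Spec (CommRingCat.of L))

/-- the morphism over `Spec L` of an algebra map -/
def spMap {A B : Type u} [CommRing A] [CommRing B] [Algebra L A] [Algebra L B] (f : A →ₐ[L] B) :
    sp L B ⟶ sp L A :=
  (Spec.map (CommRingCat.ofHom f.toRingHom)).asOver (Spec (CommRingCat.of L))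

variable {A B D : Type u} [CommRing A] [CommRing B] [CommRing D] [Algebra L A] [Algebra L B] [Algebra L D]

@[simp] lemma spMap_left (f : A →ₐ[L] B) : (spMap f).left = Spec.map (CommRingCat.ofHom f.toRingHom) := rfl

lemma sp_hom : (sp L A).hom = Spec.map (CommRingCat.ofHom (algebraMap L A)) := rfl

lemma spMap_comp (f : A →ₐ[L] B) (g : B →ₐ[L] D) : spMap (g.comp f) = spMap g ≫ spMap f := by
  ext1
  exact Spec.map_comp (CommRingCat.ofHom f.toRingHom) (CommRingCat.ofHom g.toRingHom)

lemma spMap_id : spMap (AlgHom.id L A) = 𝟙 (sp L A) := by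
  ext1
  rw [spMap_left]
  exact Spec.map_id _

lemma spMap_injective {f g : A →ₐ[L] B} (h : spMap f = spMap g) : f = g := by
  have h1 := congrArg (fun q => q.left) h
  simp only [spMap_left] at h1
  have h2 := Spec.map_injective h1
  apply AlgHom.coe_ringHom_injective
  exact congrArg CommRingCat.Hom.hom h2

lemma spMap_surjective (g : sp L B ⟶ sp L A) : ∃ f : A →ₐ[L] B, spMap f = g := by
  refine ⟨⟨(Spec.preimage g.left).hom, ?_⟩, ?_⟩
  · have h : CommRingCat.ofHom (algebraMap L A) ≫ Spec.preimage g.left = CommRingCat.ofHom (algebraMap L B) := by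
      apply Spec.map_injective
      rw [Spec.map_comp, Spec.map_preimage]
      exact Over.w g
    intro r
    exact congrArg (fun q => q.hom r) h
  · ext1
    rw [spMap_left]
    exact Spec.map_preimage _

/-- `sp` is the functor `algSpec` of Mathlib on objects -/
lemma sp_eq : sp L A = (algSpec (CommRingCat.of L)).obj (op (CommAlgCat.of L A)) := rfl

lemma exists_iso_sp (X : Over (Spec (CommRingCat.of L))) [IsAffine X.left] :
    ∃ (A : Type u) (_ : CommRing A) (_ : Algebra L A), Nonempty (sp L A ≅ X) := by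
  obtain ⟨A, ⟨e⟩⟩ := essImage_algSpec.mpr (inferInstance : IsAffine X.left)
  exact ⟨A.unop, inferInstance, inferInstance, ⟨e⟩⟩

lemma hom_ext_pts {X Y : Over (Spec (CommRingCat.of L))} [IsAffine X.left] {f g : X ⟶ Y}
    (h : ∀ (A : Type u) [CommRing A] [Algebra L A] (x : sp L A ⟶ X), x ≫ f = x ≫ g) : f = g := by
  obtain ⟨A, _, _, ⟨e⟩⟩ := exists_iso_sp X
  have := h A e.hom
  rwa [cancel_epi] at this

lemma isIso_of_pts {X Y : Over (Spec (CommRingCat.of L))} [IsAffine X.left] [IsAffine Y.left] (f : X ⟶ Y)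
    (h : ∀ (A : Type u) [CommRing A] [Algebra L A], Function.Bijective (fun x : sp L A ⟶ X => x ≫ f)) : IsIso f := by
  obtain ⟨A, _, _, ⟨e⟩⟩ := exists_iso_sp Y
  obtain ⟨A', _, _, ⟨e'⟩⟩ := exists_iso_sp X
  obtain ⟨x, hx⟩ := (h A).2 e.hom
  have h1 : (e.inv ≫ x) ≫ f = 𝟙 Y := by
    rw [Category.assoc]
    have : x ≫ f = e.hom := hx
    rw [this, Iso.inv_hom_id]
  refine ⟨e.inv ≫ x, ?_, h1⟩
  rw [← cancel_epi e'.hom]
  apply (h A').1
  show (e'.hom ≫ f ≫ e.inv ≫ x) ≫ f = (e'.hom ≫ 𝟙 X) ≫ f
  simp only [Category.assoc] at h1 ⊢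
  rw [h1, Category.comp_id, Category.id_comp]

lemma mono_of_pts {X Y : Over (Spec (CommRingCat.of L))} [IsAffine X.left] [IsAffine Y.left] (f : X ⟶ Y)
    (h : ∀ (A : Type u) [CommRing A] [Algebra L A], Function.Injective (fun x : sp L A ⟶ X => x ≫ f)) : Mono f := by
  obtain ⟨A, _, _, ⟨e⟩⟩ := exists_iso_sp X
  obtain ⟨B, _, _, ⟨e'⟩⟩ := exists_iso_sp Y
  obtain ⟨φ, hφ⟩ := spMap_surjective (e.hom ≫ f ≫ e'.inv)
  let Φ : op (CommAlgCat.of L A) ⟶ op (CommAlgCat.of L B) := (CommAlgCat.ofHom φ).op
  have hΦ : Mono Φ := by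
    constructor
    intro Z a b hab
    have := algSpec.instFaithful (R := CommRingCat.of L)
    apply (algSpec (CommRingCat.of L)).map_injective
    have h1 : (algSpec (CommRingCat.of L)).map a ≫ (spMap φ) =
        (algSpec (CommRingCat.of L)).map b ≫ (spMap φ) := by
      have := congrArg (algSpec (CommRingCat.of L)).map hab
      rw [Functor.map_comp, Functor.map_comp] at this
      exact this
    rw [hφ] at h1
    have h2 := h Z.unop
    have h3 : (algSpec (CommRingCat.of L)).map a ≫ e.hom = (algSpec (CommRingCat.of L)).map b ≫ e.hom := by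
      apply h2
      show ((algSpec (CommRingCat.of L)).map a ≫ e.hom) ≫ f = ((algSpec (CommRingCat.of L)).map b ≫ e.hom) ≫ f
      rw [← cancel_mono e'.inv]
      simp only [Category.assoc]
      exact h1
    rwa [cancel_mono] at h3
  have h4 : Mono ((algSpec (CommRingCat.of L)).map Φ) := by
    have := preservesLimitsOfSize_algSpec.{u, u, u} (R := CommRingCat.of L)
    have h5 : (algSpec (CommRingCat.of L)).PreservesMonomorphisms := inferInstance
    exact h5.preserves Φ
  have h5 : Mono (spMap φ) := h4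
  rw [hφ] at h5
  have h6 : f = e.inv ≫ (e.hom ≫ f ≫ e'.inv) ≫ e'.hom := by simp
  rw [h6]
  infer_instance

lemma isMonHom_of_pts {G H : Over (Spec (CommRingCat.of L))} [GrpObj G] [GrpObj H] [IsAffine G.left] (f : G ⟶ H)
    (h : ∀ (A : Type u) [CommRing A] [Algebra L A] (x y : sp L A ⟶ G), (x * y) ≫ f = (x ≫ f) * (y ≫ f)) :
    IsMonHom f := by
  apply Pts.isMonHom_of_universal
  have : IsAffine (G ⊗ G).left := by
    show IsAffine (pullback G.hom G.hom)
    infer_instance
  apply hom_ext_pts
  intro A _ _ x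
  rw [← Category.assoc, MonObj.comp_mul, h, MonObj.comp_mul]
  simp only [Category.assoc]

end

end Groth.Agent.Sga3B.AffTest
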