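import Groth.Agent.Sga3B.Spread144C
import Groth.Agent.Sga3B.DSAff
import Groth.Agent.Sga3B.DsBc

/-!
# Base change of `Spec A` along `Spec K ⟶ Spec R`

`bsIso : Red.bc (Spec K ⟶ Spec R) (Spec A) ≅ Spec (K ⊗ A)`, an isomorphism of groups, and its effect on points.
-/

set_option autoImplicit false
universe u
open CategoryTheory MonoidalCategory CartesianMonoidalCategory MonObj GrpObj AlgebraicGeometry Limits
open scoped TensorProduct Polynomial

namespace Groth.Agent.Sga3B.BcSpec144

open Groth.Agent.Books.AffBridge Groth.Agent.Books.DynBasic DSPts AffPts Spread144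

section Base

variable (R : Type u) [CommRing R] (K : Type u) [CommRing K] [Algebra R K]

/-- `Spec K ⟶ Spec R` -/
noncomputable abbrev fK : Spec (CommRingCat.of K) ⟶ Spec (CommRingCat.of R) :=
  Spec.map (CommRingCat.ofHom (algebraMap R K))

variable {R K}

noncomputable instance algK (T : Over (Spec (CommRingCat.of K))) :
    Algebra K (Fn ((Over.map (fK R K)).obj T)) := inferInstanceAs (Algebra K (Fn T))

instance tower (T : Over (Spec (CommRingCat.of K))) :
    IsScalarTower R K (Fn ((Over.map (fK R K)).obj T)) := by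
  refine IsScalarTower.of_algebraMap_eq fun r => ?_
  have h : (Scheme.ΓSpecIso (CommRingCat.of R)).inv ≫ (T.hom ≫ fK R K).appTop =
      CommRingCat.ofHom (algebraMap R K) ≫ (Scheme.ΓSpecIso (CommRingCat.of K)).inv ≫ T.hom.appTop := by
    rw [Scheme.Hom.comp_appTop, ← Category.assoc, ← Scheme.ΓSpecIso_inv_naturality, Category.assoc]
  exact congr(CommRingCat.Hom.hom $h r)

/-- the identification of the functions on `T` over `Spec K` and over `Spec R` -/
noncomputable def idK (T : Over (Spec (CommRingCat.of K))) :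
    Fn T →ₐ[K] Fn ((Over.map (fK R K)).obj T) where
  toFun x := x
  map_one' := rfl
  map_mul' _ _ := rfl
  map_zero' := rfl
  map_add' _ _ := rfl
  commutes' _ := rfl

lemma idK_bijective (T : Over (Spec (CommRingCat.of K))) :
    Function.Bijective (idK (R := R) T) := ⟨fun _ _ h => h, fun x => ⟨x, rfl⟩⟩

lemma fnMap_idK {T T' : Over (Spec (CommRingCat.of K))} (h : T' ⟶ T) (x : Fn T) :
    fnMap ((Over.map (fK R K)).map h) (idK (R := R) T x) = idK (R := R) T' (fnMap h x) := rfl

end Base

section Points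

variable {R : Type u} [CommRing R] {K : Type u} [CommRing K] [Algebra R K]
variable {A : Type u} [CommRing A] [HopfAlgebra R A]

lemma resPt_surjective {C : Type u} [CommRing C] [Algebra R C] [Algebra K C] [IsScalarTower R K C] :
    Function.Surjective (resPt R A K C) := by
  intro g
  refine ⟨WithConv.toConv (Algebra.TensorProduct.lift (Algebra.ofId K C) g.ofConv
    (fun _ _ => .all _ _)), ?_⟩
  apply WithConv.ofConv_injective
  apply AlgHom.ext
  intro a
  change Algebra.TensorProduct.lift (Algebra.ofId K C) g.ofConv (fun _ _ => .all _ _) (1 ⊗ₜ a) = _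
  rw [Algebra.TensorProduct.lift_tmul, map_one, _root_.one_mul]

/-- points of the base change -/
noncomputable def bsPt (T : Over (Spec (CommRingCat.of K))) (g : WithConv (K ⊗[R] A →ₐ[K] Fn T)) :
    T ⟶ Red.bc (fK R K) (SpecOver R A) :=
  bcEquiv (fK R K) T (SpecOver R A)
    (affPt ((Over.map (fK R K)).obj T)
      (resPt R A K (Fn ((Over.map (fK R K)).obj T)) (mapPt (idK T) g)).ofConv)

lemma bsPt_mul (T : Over (Spec (CommRingCat.of K))) (g h : WithConv (K ⊗[R] A →ₐ[K] Fn T)) :
    bsPt T (g * h) = bsPt T g * bsPt T h := by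
  rw [bsPt, map_mul, map_mul, affPt_mul, map_mul]
  rfl

lemma mapPt_bijective {C D : Type u} [CommRing C] [Algebra K C] [CommRing D] [Algebra K D]
    (φ : C →ₐ[K] D) (h : Function.Bijective φ) :
    Function.Bijective (mapPt (A := K ⊗[R] A) φ) := by
  refine ⟨mapPt_injective φ h.1, fun g => ?_⟩
  let e := AlgEquiv.ofBijective φ h
  refine ⟨WithConv.toConv (e.symm.toAlgHom.comp g.ofConv), ?_⟩
  apply WithConv.ofConv_injective
  apply AlgHom.ext
  intro a
  exact e.apply_symm_apply _

lemma bsPt_bijective (T : Over (Spec (CommRingCat.of K))) :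
    Function.Bijective (bsPt (R := R) (A := A) T) := by
  have h1 : Function.Bijective (resPt R A K (Fn ((Over.map (fK R K)).obj T))) :=
    ⟨resPt_injective, resPt_surjective⟩
  exact (bcEquiv (fK R K) T (SpecOver R A)).bijective.comp
    ((affEquiv ((Over.map (fK R K)).obj T)).bijective.comp
      (h1.comp (mapPt_bijective (idK T) (idK_bijective T))))

lemma comp_bsPt {T T' : Over (Spec (CommRingCat.of K))} (h : T' ⟶ T)
    (g : WithConv (K ⊗[R] A →ₐ[K] Fn T)) : h ≫ bsPt T g = bsPt T' (mapPt (fnMap h) g) := by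
  rw [bsPt, bcEquiv_naturality, comp_affPt]
  rfl

variable (R K A) in
/-- the comparison `Spec (K ⊗ A) ⟶ bc (Spec A)` -/
noncomputable def bsHom : SpecOver K (K ⊗[R] A) ⟶ Red.bc (fK R K) (SpecOver R A) :=
  bsPt _ (WithConv.toConv ((fnSpec (R := K) (K ⊗[R] A)).symm.toAlgHom))

lemma fnMap_affPt {B : Type u} [CommRing B] [Algebra K B] (T : Over (Spec (CommRingCat.of K)))
    (g : B →ₐ[K] Fn T) : (fnMap (affPt T g)).comp (fnSpec (R := K) B).symm.toAlgHom = g := by
  apply (affPt_bijective T).1
  rw [← comp_affPt, affPt_spec]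
  have : (fnSpec (R := K) B).toAlgHom.comp (fnSpec (R := K) B).symm.toAlgHom = AlgHom.id K B := by
    ext; simp
  rw [this, specMap_id, Category.comp_id]

lemma affPt_bsHom (T : Over (Spec (CommRingCat.of K))) (g : K ⊗[R] A →ₐ[K] Fn T) :
    affPt T g ≫ bsHom R K A = bsPt T (WithConv.toConv g) := by
  rw [bsHom, comp_bsPt]
  congr 1
  exact congrArg WithConv.toConv (fnMap_affPt T g)

instance : IsIso (bsHom R K A) := by
  rw [isIso_iff_yoneda_map_bijective]
  intro T
  have h := (bsPt_bijective (R := R) (A := A) T)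
  have h2 : (fun x : T ⟶ SpecOver K (K ⊗[R] A) => x ≫ bsHom R K A) =
      bsPt T ∘ (affEquiv T).symm := by
    funext x
    obtain ⟨g, rfl⟩ := (affEquiv T).surjective x
    rw [Function.comp_apply, MulEquiv.symm_apply_apply, affEquiv_apply, affPt_bsHom]
  rw [h2]
  exact h.comp (affEquiv T).symm.bijective

instance : IsMonHom (bsHom R K A) := by
  refine Pts.isMonHom_of_points (H := Red.bc (fK R K) (SpecOver R A))
    (G := SpecOver K (K ⊗[R] A)) (bsHom R K A) ?_
  intro X x y
  obtain ⟨g, rfl⟩ := (affEquiv X).surjective x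
  obtain ⟨h, rfl⟩ := (affEquiv X).surjective y
  rw [← map_mul, affEquiv_apply, affEquiv_apply, affEquiv_apply, affPt_bsHom, affPt_bsHom,
    affPt_bsHom]
  exact bsPt_mul X g h

variable (R K A) in
/-- **`bc (Spec A) ≅ Spec (K ⊗ A)`** -/
noncomputable def bsIso : Red.bc (fK R K) (SpecOver R A) ≅ SpecOver K (K ⊗[R] A) :=
  (asIso (bsHom R K A)).symm

instance : IsMonHom (bsIso R K A).hom := by
  change IsMonHom (asIso (bsHom R K A)).inv
  have : IsMonHom (asIso (bsHom R K A)).hom := inferInstanceAs (IsMonHom (bsHom R K A))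
  infer_instance

/-- effect of `bsIso` on points -/
lemma bsPt_bsIso (T : Over (Spec (CommRingCat.of K))) (g : WithConv (K ⊗[R] A →ₐ[K] Fn T)) :
    bsPt T g ≫ (bsIso R K A).hom = affPt T g.ofConv := by
  rw [← cancel_mono (bsHom R K A), Category.assoc]
  change bsPt T g ≫ CategoryTheory.inv (bsHom R K A) ≫ bsHom R K A = _
  rw [IsIso.inv_hom_id, Category.comp_id, affPt_bsHom]

lemma bcEquiv_bsIso (T : Over (Spec (CommRingCat.of K))) (g : WithConv (K ⊗[R] A →ₐ[K] Fn T))
    (x : (Over.map (fK R K)).obj T ⟶ SpecOver R A)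
    (hx : x = affPt ((Over.map (fK R K)).obj T)
      (resPt R A K (Fn ((Over.map (fK R K)).obj T)) (mapPt (idK T) g)).ofConv) :
    bcEquiv (fK R K) T (SpecOver R A) x ≫ (bsIso R K A).hom = affPt T g.ofConv := by
  rw [hx]
  exact bsPt_bsIso T g

end Points

end Groth.Agent.Sga3B.BcSpec144
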