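import Groth.Agent.Sga3B.BorDescEt613

/-!
# Étale localisation of the extension problem (for S2988)

`Ext1 iB iB' f` : the isomorphism `f : B ≅ B'` extends to exactly one isomorphism `G ≅ G'`;
`Good iB iB' f` : the same after every étale base change.  `Good` is local on the base for the étale topology.
-/

set_option autoImplicit false
open CategoryTheory MonoidalCategory CartesianMonoidalCategory MonObj GrpObj AlgebraicGeometry
universe u

namespace Groth.Agent.Sga3B.BorAsm613
open Groth.Agent.Sga3B.BcIso Groth.Agent.Sga3B.BorDesc613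

variable {S : Scheme.{u}}

/-- `f : B ≅ B'` extends to exactly one isomorphism `G ≅ G'`. -/
def Ext1 {G G' B B' : Over S} [GrpObj G] [GrpObj G'] [GrpObj B] [GrpObj B'] (iB : B ⟶ G) (iB' : B' ⟶ G')
    (f : Grp.mk B ≅ Grp.mk B') : Prop :=
  ∃! φ : Grp.mk G ≅ Grp.mk G', iB ≫ φ.hom.hom.hom = f.hom.hom.hom ≫ iB'

/-- `f : B ≅ B'` extends to exactly one isomorphism `G ≅ G'` after every étale base change. -/
def Good {G G' B B' : Over S} [GrpObj G] [GrpObj G'] [GrpObj B] [GrpObj B'] (iB : B ⟶ G) (iB' : B' ⟶ G')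
    (f : Grp.mk B ≅ Grp.mk B') : Prop :=
  ∀ (T : Scheme.{u}) (q : T ⟶ S), Etale q →
    Ext1 ((Over.pullback q).map iB) ((Over.pullback q).map iB') (bcMapIso q f)

section transport

variable {G G' B B' : Over S} [GrpObj G] [GrpObj G'] [GrpObj B] [GrpObj B']
  {H H' C C' : Over S} [GrpObj H] [GrpObj H'] [GrpObj C] [GrpObj C']

lemma hom_inv_und (f : Grp.mk B ≅ Grp.mk B') : f.hom.hom.hom ≫ f.inv.hom.hom = 𝟙 _ :=
  congrArg (fun f => f.hom.hom) f.hom_inv_id

lemma inv_hom_und (f : Grp.mk B ≅ Grp.mk B') : f.inv.hom.hom ≫ f.hom.hom.hom = 𝟙 _ :=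
  congrArg (fun f => f.hom.hom) f.inv_hom_id

/-- The extension property is invariant under isomorphism. -/
theorem Ext1.of_iso {iB : B ⟶ G} {iB' : B' ⟶ G'} {f : Grp.mk B ≅ Grp.mk B'}
    {jC : C ⟶ H} {jC' : C' ⟶ H'} {g : Grp.mk C ≅ Grp.mk C'} (a : Grp.mk G ≅ Grp.mk H)
    (a' : Grp.mk G' ≅ Grp.mk H') (b : Grp.mk B ≅ Grp.mk C) (b' : Grp.mk B' ≅ Grp.mk C')
    (h1 : iB ≫ a.hom.hom.hom = b.hom.hom.hom ≫ jC)
    (h2 : iB' ≫ a'.hom.hom.hom = b'.hom.hom.hom ≫ jC')
    (h3 : f.hom.hom.hom ≫ b'.hom.hom.hom = b.hom.hom.hom ≫ g.hom.hom.hom)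
    (h : Ext1 iB iB' f) : Ext1 jC jC' g := by
  obtain ⟨φ, hφ, huniq⟩ := h
  have h1' : b.inv.hom.hom ≫ iB = jC ≫ a.inv.hom.hom := by
    have h4 : b.inv.hom.hom ≫ (iB ≫ a.hom.hom.hom) ≫ a.inv.hom.hom =
        b.inv.hom.hom ≫ (b.hom.hom.hom ≫ jC) ≫ a.inv.hom.hom := by rw [h1]
    rw [Category.assoc, hom_inv_und, Category.assoc] at h4
    rw [← Category.assoc b.inv.hom.hom b.hom.hom.hom, inv_hom_und, Category.id_comp] at h4
    exact (congrArg (fun k => b.inv.hom.hom ≫ k) (Category.comp_id iB)).symm.trans h4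
  refine ⟨a.symm ≪≫ φ ≪≫ a', ?_, fun ψ hψ => ?_⟩
  · change jC ≫ a.inv.hom.hom ≫ φ.hom.hom.hom ≫ a'.hom.hom.hom = _
    rw [← Category.assoc, ← h1', Category.assoc, ← Category.assoc iB, hφ, Category.assoc, h2,
      ← Category.assoc f.hom.hom.hom, h3, Category.assoc, ← Category.assoc, inv_hom_und,
      Category.id_comp]
  · have h5 := huniq (a ≪≫ ψ ≪≫ a'.symm) (by
      change iB ≫ a.hom.hom.hom ≫ ψ.hom.hom.hom ≫ a'.inv.hom.hom = _
      rw [← Category.assoc, h1, Category.assoc, ← Category.assoc jC, hψ, Category.assoc]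
      have h6 : jC' ≫ a'.inv.hom.hom = b'.inv.hom.hom ≫ iB' := by
        have h4 : b'.inv.hom.hom ≫ (iB' ≫ a'.hom.hom.hom) ≫ a'.inv.hom.hom =
            b'.inv.hom.hom ≫ (b'.hom.hom.hom ≫ jC') ≫ a'.inv.hom.hom := by rw [h2]
        rw [Category.assoc, hom_inv_und, Category.assoc] at h4
        rw [← Category.assoc b'.inv.hom.hom b'.hom.hom.hom, inv_hom_und, Category.id_comp] at h4
        exact ((congrArg (fun k => b'.inv.hom.hom ≫ k) (Category.comp_id iB')).symm.trans h4).symm
      rw [h6, ← Category.assoc, ← h3, Category.assoc, ← Category.assoc b'.hom.hom.hom, hom_inv_und,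
        Category.id_comp])
    rw [← h5]
    simp

end transport

section comp

variable {S₁ S₂ : Scheme.{u}} {G G' B B' : Over S} [GrpObj G] [GrpObj G'] [GrpObj B] [GrpObj B']
  {iB : B ⟶ G} {iB' : B' ⟶ G'} {f : Grp.mk B ≅ Grp.mk B'}

/-- Transitivity of base change for the extension property. -/
theorem ext1_comp (q : S₂ ⟶ S₁) (v : S₁ ⟶ S) :
    Ext1 ((Over.pullback (q ≫ v)).map iB) ((Over.pullback (q ≫ v)).map iB') (bcMapIso (q ≫ v) f) ↔
      Ext1 ((Over.pullback q).map ((Over.pullback v).map iB))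
        ((Over.pullback q).map ((Over.pullback v).map iB')) (bcMapIso q (bcMapIso v f)) := by
  have h1 := bcCompIso_naturality q v iB
  have h2 := bcCompIso_naturality q v iB'
  have h3 := bcCompIso_naturality q v f.hom.hom.hom
  have hinv : ∀ {X Y : Over S} [GrpObj X] [GrpObj Y] (a : X ⟶ Y),
      (Over.pullback (q ≫ v)).map a ≫ (bcCompIso q v Y).hom.hom.hom =
        (bcCompIso q v X).hom.hom.hom ≫ (Over.pullback q).map ((Over.pullback v).map a) →
      (Over.pullback q).map ((Over.pullback v).map a) ≫ (bcCompIso q v Y).symm.hom.hom.hom =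
        (bcCompIso q v X).symm.hom.hom.hom ≫ (Over.pullback (q ≫ v)).map a := by
    intro X Y _ _ a ha
    change (Over.pullback q).map ((Over.pullback v).map a) ≫ (bcCompIso q v Y).inv.hom.hom =
        (bcCompIso q v X).inv.hom.hom ≫ (Over.pullback (q ≫ v)).map a
    have h4 : (bcCompIso q v X).inv.hom.hom ≫ ((Over.pullback (q ≫ v)).map a ≫
        (bcCompIso q v Y).hom.hom.hom) ≫ (bcCompIso q v Y).inv.hom.hom =
        (bcCompIso q v X).inv.hom.hom ≫ ((bcCompIso q v X).hom.hom.hom ≫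
          (Over.pullback q).map ((Over.pullback v).map a)) ≫ (bcCompIso q v Y).inv.hom.hom := by
      rw [ha]
    rw [Category.assoc, hom_inv_und, Category.assoc] at h4
    rw [← Category.assoc (bcCompIso q v X).inv.hom.hom (bcCompIso q v X).hom.hom.hom, inv_hom_und,
      Category.id_comp] at h4
    exact h4.symm.trans (congrArg (fun k => (bcCompIso q v X).inv.hom.hom ≫ k) (Category.comp_id _))
  constructor
  · exact Ext1.of_iso (bcCompIso q v G) (bcCompIso q v G') (bcCompIso q v B) (bcCompIso q v B') h1 h2 h3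
  · exact Ext1.of_iso (bcCompIso q v G).symm (bcCompIso q v G').symm (bcCompIso q v B).symm
      (bcCompIso q v B').symm (hinv _ h1) (hinv _ h2) (hinv _ h3)

/-- Base change along equal morphisms. -/
theorem ext1_congr {p p' : S₁ ⟶ S} (hp : p = p')
    (h : Ext1 ((Over.pullback p).map iB) ((Over.pullback p).map iB') (bcMapIso p f)) :
    Ext1 ((Over.pullback p').map iB) ((Over.pullback p').map iB') (bcMapIso p' f) := by
  subst hp
  exact h

/-- `Good` is stable under étale base change. -/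
theorem Good.bc (h : Good iB iB' f) (v : S₁ ⟶ S) [Etale v] :
    Good ((Over.pullback v).map iB) ((Over.pullback v).map iB') (bcMapIso v f) := by
  intro T q hq
  exact (ext1_comp q v).mp (h T (q ≫ v) inferInstance)

/-- Étale descent for the extension property. -/
theorem ext1_of_local (h : ∀ s : S, ∃ (S₁ : Scheme.{u}) (v : S₁ ⟶ S), Etale v ∧ s ∈ Set.range v ∧
      Good ((Over.pullback v).map iB) ((Over.pullback v).map iB') (bcMapIso v f)) :
    Ext1 iB iB' f := by
  choose S₁ v hv hs hg using h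
  let J : Type u := S
  refine BorDescEt613.existsUnique_of_etale' (J := J) (S' := fun s => S₁ s) (fun s => v s)
    (fun s => ⟨s, hs s⟩) iB iB' f (fun s => ?_) (fun s T q hq φ ψ h1 h2 => ?_)
  · obtain ⟨φ, hφ, -⟩ := ext1_congr (Category.id_comp (v s))
      ((ext1_comp (𝟙 (S₁ s)) (v s)).mpr (hg s (S₁ s) (𝟙 _) inferInstance))
    exact ⟨φ, hφ⟩
  · exact (hg s T q hq).unique h1 h2

/-- **`Good` is local for the étale topology.** -/
theorem good_of_local (h : ∀ s : S, ∃ (S₁ : Scheme.{u}) (v : S₁ ⟶ S), Etale v ∧ s ∈ Set.range v ∧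
      Good ((Over.pullback v).map iB) ((Over.pullback v).map iB') (bcMapIso v f)) :
    Good iB iB' f := by
  intro T q hq
  refine ext1_of_local fun t => ?_
  obtain ⟨S₁, v, hv, ⟨y, hy⟩, hg⟩ := h (q t)
  let W := Limits.pullback q v
  refine ⟨W, Limits.pullback.fst q v, inferInstance, ?_, ?_⟩
  · obtain ⟨z, hz, -⟩ := Scheme.Pullback.exists_preimage_pullback t y hy.symm
    exact ⟨z, hz⟩
  · intro T' p hp
    have h1 : p ≫ Limits.pullback.fst q v ≫ q = (p ≫ Limits.pullback.snd q v) ≫ v := by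
      rw [Category.assoc, Limits.pullback.condition]
    have h2 := (ext1_comp (p ≫ Limits.pullback.snd q v) v).mpr (hg T' (p ≫ Limits.pullback.snd q v)
      inferInstance)
    have h3 := ext1_congr h1.symm h2
    have h4 := ext1_congr (Category.assoc _ _ _).symm h3
    have h5 := (ext1_comp (p ≫ Limits.pullback.fst q v) q).mp h4
    exact (ext1_comp p (Limits.pullback.fst q v)).mp h5

end comp

end Groth.Agent.Sga3B.BorAsm613
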