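import Groth.Agent.Sga3B.BaseZ

/-!
# An isomorphism of weight lattices matching the roots is an isomorphism of root data

If the roots span a subgroup of finite index (semisimple case), the coroots are determined by the
roots, so that an isomorphism `e : M' ≃+ M` which carries the roots of `P'` onto the roots of `P`
is (the weight map of) an isomorphism of root data.
-/

namespace Groth.Agent.Sga3B.BorComb613

open Set Function

variable {ι ι' M M' : Type*} [AddCommGroup M] [AddCommGroup M']
  {P : RootPairing ι ℤ M (Module.Dual ℤ M)} {P' : RootPairing ι' ℤ M' (Module.Dual ℤ M')}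

theorem coroot_root_self (hP : P.toLinearMap = Module.Dual.eval ℤ M) (a : ι) :
    P.coroot a (P.root a) = 2 := by
  have h := P.root_coroot_two a
  rw [hP] at h
  exact h

theorem mapsTo_preReflection (hP : P.toLinearMap = Module.Dual.eval ℤ M) (a : ι) :
    MapsTo (Module.preReflection (P.root a) (P.coroot a)) (range P.root) (range P.root) := by
  rintro _ ⟨b, rfl⟩
  refine ⟨P.reflectionPerm a b, ?_⟩
  have h : P.coroot' a (P.root b) = P.coroot a (P.root b) := by
    change P.toLinearMap (P.root b) (P.coroot a) = _
    rw [hP]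
    rfl
  rw [P.root_reflectionPerm, P.reflection_apply, Module.preReflection_apply, h]

/-- the coroots are determined by the roots on the span of the roots, hence everywhere when the
span has finite index -/
theorem coroot_eq [Finite ι] [Module.IsTorsionFree ℤ M]
    (hP : P.toLinearMap = Module.Dual.eval ℤ M) (hP' : P'.toLinearMap = Module.Dual.eval ℤ M')
    (e : M' ≃+ M) (he : e '' range P'.root = range P.root)
    (hs : ∀ m : M, ∃ n : ℤ, n ≠ 0 ∧ n • m ∈ Submodule.span ℤ (range P.root))
    {a : ι} {a' : ι'} (ha : e (P'.root a') = P.root a) (m : M') :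
    P'.coroot a' m = P.coroot a (e m) := by
  have hfin : (range P.root).Finite := finite_range _
  set g : Module.Dual ℤ M := (P'.coroot a').comp e.symm.toIntLinearEquiv.toLinearMap with hg
  have hga : ∀ y, g (e y) = P'.coroot a' y := fun y => by
    rw [hg]
    change P'.coroot a' (e.symm (e y)) = _
    rw [e.symm_apply_apply]
  have hg1 : g (P.root a) = 2 := by
    rw [← ha, hga]
    exact coroot_root_self hP' a'
  have hg2 : MapsTo (Module.preReflection (P.root a) g) (range P.root) (range P.root) := by
    rw [← he]
    rintro _ ⟨y, hy, rfl⟩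
    refine ⟨Module.preReflection (P'.root a') (P'.coroot a') y, mapsTo_preReflection hP' a' hy, ?_⟩
    rw [Module.preReflection_apply, Module.preReflection_apply, hga, ← ha, map_sub, map_zsmul]
  have key := Module.Dual.eq_of_preReflection_mapsTo' (R := ℤ) hfin
    (Submodule.subset_span ⟨a, rfl⟩ : P.root a ∈ Submodule.span ℤ (range P.root))
    hg1 hg2 (coroot_root_self hP a) (mapsTo_preReflection hP a)
  obtain ⟨n, hn, hnm⟩ := hs (e m)
  have h1 := LinearMap.congr_fun key ⟨n • e m, hnm⟩
  change g (n • e m) = P.coroot a (n • e m) at h1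
  rw [map_zsmul, map_zsmul, hga] at h1
  exact smul_right_injective ℤ hn h1

/-- an isomorphism of weight lattices which carries the roots onto the roots is an isomorphism of
root data, if the roots span a subgroup of finite index -/
theorem exists_equiv [Finite ι] [Module.IsTorsionFree ℤ M]
    (hP : P.toLinearMap = Module.Dual.eval ℤ M) (hP' : P'.toLinearMap = Module.Dual.eval ℤ M')
    (e : M' ≃+ M) (he : e '' range P'.root = range P.root)
    (hs : ∀ m : M, ∃ n : ℤ, n ≠ 0 ∧ n • m ∈ Submodule.span ℤ (range P.root)) :
    ∃ h : RootPairing.Equiv P' P, h.weightMap = e.toIntLinearEquiv.toLinearMap ∧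
      ∀ (y : Module.Dual ℤ M) (m : M'), h.coweightMap y m = y (e m) := by
  have h1 : ∀ a' : ι', ∃ a : ι, e (P'.root a') = P.root a := fun a' => by
    have h2 : e (P'.root a') ∈ range P.root := he ▸ ⟨_, ⟨a', rfl⟩, rfl⟩
    obtain ⟨a, ha⟩ := h2
    exact ⟨a, ha.symm⟩
  have h1' : ∀ a : ι, ∃ a' : ι', e (P'.root a') = P.root a := fun a => by
    have h2 : P.root a ∈ e '' range P'.root := he ▸ ⟨a, rfl⟩
    obtain ⟨_, ⟨a', rfl⟩, ha⟩ := h2
    exact ⟨a', ha⟩
  choose σ hσ using h1
  choose τ hτ using h1'
  let E : ι' ≃ ι :=
    { toFun := σ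
      invFun := τ
      left_inv := fun a' => P'.root.injective (e.injective (by rw [hτ, hσ]))
      right_inv := fun a => P.root.injective (by rw [← hσ, hτ]) }
  have hE : ∀ a', e (P'.root a') = P.root (E a') := hσ
  let w : M' →ₗ[ℤ] M := e.toIntLinearEquiv.toLinearMap
  let cw : Module.Dual ℤ M →ₗ[ℤ] Module.Dual ℤ M' := w.dualMap
  have hw : Bijective w := e.bijective
  have hcw : Bijective cw := by
    have h3 : cw = (e.toIntLinearEquiv.dualMap : Module.Dual ℤ M →ₗ[ℤ] Module.Dual ℤ M') := rfl
    rw [h3]
    exact LinearEquiv.bijective _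
  refine ⟨{ weightMap := w
            coweightMap := cw
            indexEquiv := E
            weight_coweight_transpose := ?_
            root_weightMap := ?_
            coroot_coweightMap := ?_
            bijective_weightMap := hw
            bijective_coweightMap := hcw }, rfl, fun _ _ => rfl⟩
  · refine LinearMap.ext fun y => LinearMap.ext fun m => ?_
    change (P.flip.toPerfPair y) (e m) = P'.flip.toPerfPair (cw y) m
    change P.toLinearMap (e m) y = P'.toLinearMap m (cw y)
    rw [hP, hP']
    rfl
  · funext a'
    exact hE a'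
  · funext a
    obtain ⟨a', rfl⟩ := E.surjective a
    refine LinearMap.ext fun m => ?_
    change P.coroot (E a') (e m) = P'.coroot (E.symm (E a')) m
    rw [E.symm_apply_apply]
    exact (coroot_eq hP hP' e he hs (hE a') m).symm

/-- the same with the transport of a base -/
theorem exists_equiv_base [Finite ι] [Module.IsTorsionFree ℤ M]
    (hP : P.toLinearMap = Module.Dual.eval ℤ M) (hP' : P'.toLinearMap = Module.Dual.eval ℤ M')
    (e : M' ≃+ M) (he : e '' range P'.root = range P.root)
    (hs : ∀ m : M, ∃ n : ℤ, n ≠ 0 ∧ n • m ∈ Submodule.span ℤ (range P.root)) (b : P.Base) :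
    ∃ (h : RootPairing.Equiv P' P) (b' : P'.Base),
      h.weightMap = e.toIntLinearEquiv.toLinearMap ∧
      (∀ (y : Module.Dual ℤ M) (m : M'), h.coweightMap y m = y (e m)) ∧
      (∀ a' : ι', P.root (h.indexEquiv a') = e (P'.root a')) ∧
      ∀ a' : ι', a' ∈ b'.support ↔ h.indexEquiv a' ∈ b.support := by
  obtain ⟨h, h1, h2⟩ := exists_equiv hP hP' e he hs
  refine ⟨h, BaseZ.comapBase h b, h1, h2, fun a' => ?_, fun a' => BaseZ.mem_comapBase_support h b a'⟩
  rw [← BaseZ.weightMap_root, h1]
  rfl

end Groth.Agent.Sga3B.BorComb613
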