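import Groth.Agent.Sga3B.BorStd991
import Groth.Agent.Sga3B.BorComb613
import Groth.Agent.Sga3B.PinTransport
import Groth.Agent.Sga3B.PinComb829

/-!
# Transport of root homomorphisms and of pinnings through an isomorphism of Borel subgroups
-/

set_option autoImplicit false
universe u

open CategoryTheory MonoidalCategory CartesianMonoidalCategory MonObj GrpObj AlgebraicGeometry

namespace Groth.Agent.Sga3B.BorTransp991

open BorStd991 PinTransport

set_option linter.unusedSectionVars false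

variable {S : Scheme.{u}}

section rootHom

variable {G H B T T' : Over S} [GrpObj G] [GrpObj H] [GrpObj B] [GrpObj T] [GrpObj T']

/-- Root homomorphisms with values in a closed subgroup `B` of `G` transported along a closed
immersion `g : B ⟶ H`. -/
theorem isRootHom_of {i : T ⟶ G} {α : T ⟶ Red.Gm S} {u : Red.Ga S ⟶ G} (h : Red.IsRootHom i α u)
    {iB : B ⟶ G} [IsMonHom iB] [IsClosedImmersion iB.left] {j : T ⟶ B} (hj : j ≫ iB = i)
    {v : Red.Ga S ⟶ B} (hv : v ≫ iB = u) {g : B ⟶ H} [IsMonHom g] [IsClosedImmersion g.left]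
    {i' : T' ⟶ H} {τ : T' ⟶ T} (hτ : τ ≫ j ≫ g = i') : Red.IsRootHom i' (τ ≫ α) (v ≫ g) := by
  obtain ⟨h1, h2, h3⟩ := h
  have hmono : Mono iB := by
    have : Mono iB.left := inferInstance
    exact Over.mono_of_mono_left iB
  have hvc : IsClosedImmersion v.left := by
    have h4 : IsClosedImmersion (v.left ≫ iB.left) := by
      rw [← Over.comp_left, hv]; exact h2
    exact IsClosedImmersion.of_comp v.left iB.left
  have hvm : IsMonHom v := by
    apply Pts.isMonHom_of_points
    intro X x y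
    rw [← cancel_mono iB, Category.assoc, hv, MonObj.mul_comp, MonObj.mul_comp, Category.assoc,
      Category.assoc, hv]
  refine ⟨inferInstance, ?_, ?_⟩
  · rw [Over.comp_left]
    infer_instance
  · intro X t x
    obtain ⟨y, hy, hy'⟩ := h3 X (t ≫ τ) x
    refine ⟨y, ?_, ?_⟩
    · have h5 : y ≫ v = (t ≫ τ ≫ j) * (x ≫ v) * (t ≫ τ ≫ j)⁻¹ := by
        rw [← cancel_mono iB, Category.assoc, hv, hy, MonObj.mul_comp, MonObj.mul_comp,
          GrpObj.inv_comp]
        simp only [Category.assoc, hj, hv]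
      rw [← Category.assoc, h5, MonObj.mul_comp, MonObj.mul_comp, GrpObj.inv_comp]
      simp only [Category.assoc, hτ]
    · rw [hy', Category.assoc]

end rootHom

variable {G G' B B' : Over S} [GrpObj G] [GrpObj G'] [GrpObj B] [GrpObj B']

/-- The tori of `D` and `D'` correspond through `f`, with `e : D'.M ≃+ D.M` on character groups. -/
def TorCompat (iB : B ⟶ G) (iB' : B' ⟶ G') (f : Grp.mk B ≅ Grp.mk B') (D : Red.SplitRed G)
    (D' : Red.SplitRed G') (e : D'.M ≃+ D.M) : Prop :=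
  ∃ j : D.T ⟶ B, j ≫ iB = D.i ∧ j ≫ f.hom.hom.hom ≫ iB' =
    D.split.hom.hom.hom ≫ Red.DSmap S e.toAddMonoidHom ≫ D'.split.inv.hom.hom ≫ D'.i

section

variable {iB : B ⟶ G} {iB' : B' ⟶ G'} {f : Grp.mk B ≅ Grp.mk B'} {D : Red.SplitRed G}
    {D' : Red.SplitRed G'} {e : D'.M ≃+ D.M}

lemma split_hom_inv (D : Red.SplitRed G) : D.split.hom.hom.hom ≫ D.split.inv.hom.hom = 𝟙 _ :=
  congrArg (fun f => f.hom.hom) D.split.hom_inv_id

lemma split_inv_hom (D : Red.SplitRed G) : D.split.inv.hom.hom ≫ D.split.hom.hom.hom = 𝟙 _ :=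
  congrArg (fun f => f.hom.hom) D.split.inv_hom_id

lemma iso_hom_inv (f : Grp.mk B ≅ Grp.mk B') : f.hom.hom.hom ≫ f.inv.hom.hom = 𝟙 _ :=
  congrArg (fun f => f.hom.hom) f.hom_inv_id

lemma iso_inv_hom (f : Grp.mk B ≅ Grp.mk B') : f.inv.hom.hom ≫ f.hom.hom.hom = 𝟙 _ :=
  congrArg (fun f => f.hom.hom) f.inv_hom_id

lemma DSmap_symm (e : D'.M ≃+ D.M) :
    Red.DSmap S e.symm.toAddMonoidHom ≫ Red.DSmap S e.toAddMonoidHom = 𝟙 _ := by
  rw [DSmap_comp, ← DSmap_id]
  congr 1
  ext; simp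

lemma DSmap_symm' (e : D'.M ≃+ D.M) :
    Red.DSmap S e.toAddMonoidHom ≫ Red.DSmap S e.symm.toAddMonoidHom = 𝟙 _ := by
  rw [DSmap_comp, ← DSmap_id]
  congr 1
  ext; simp

/-- the torus `D'.T` mapped to `D.T` -/
noncomputable def tau (D : Red.SplitRed G) (D' : Red.SplitRed G') (e : D'.M ≃+ D.M) : D'.T ⟶ D.T :=
  D'.split.hom.hom.hom ≫ Red.DSmap S e.symm.toAddMonoidHom ≫ D.split.inv.hom.hom

lemma tau_comp (D : Red.SplitRed G) (D' : Red.SplitRed G') (e : D'.M ≃+ D.M) :
    tau D D' e ≫ D.split.hom.hom.hom ≫ Red.DSmap S e.toAddMonoidHom ≫ D'.split.inv.hom.hom = 𝟙 _ := by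
  unfold tau
  simp only [Category.assoc]
  rw [← Category.assoc D.split.inv.hom.hom, split_inv_hom, Category.id_comp,
    ← Category.assoc (Red.DSmap S e.symm.toAddMonoidHom), DSmap_symm, Category.id_comp,
    split_hom_inv]

theorem TorCompat.symm (h : TorCompat iB iB' f D D' e) : TorCompat iB' iB f.symm D' D e.symm := by
  obtain ⟨j, hj, hj'⟩ := h
  refine ⟨tau D D' e ≫ j ≫ f.hom.hom.hom, ?_, ?_⟩
  · rw [Category.assoc, Category.assoc, hj', ← Category.assoc, ← Category.assoc, ← Category.assoc]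
    have := tau_comp D D' e
    simp only [← Category.assoc] at this
    rw [this, Category.id_comp]
  · change (tau D D' e ≫ j ≫ f.hom.hom.hom) ≫ f.inv.hom.hom ≫ iB = _
    simp only [Category.assoc]
    rw [← Category.assoc f.hom.hom.hom, iso_hom_inv, Category.id_comp, hj]
    simp [tau]

/-- **(T3-1)** root homomorphisms of `D` with values in `B` give root homomorphisms of `G'`. -/
theorem isRootHom_transfer [IsMonHom iB] [IsClosedImmersion iB.left] [IsMonHom iB']
    [IsClosedImmersion iB'.left] (h : TorCompat iB iB' f D D' e) {a : D.idx} {v : Red.Ga S ⟶ B}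
    (hv : v ≫ iB = D.u a) :
    Red.IsRootHom D'.i (D'.split.hom.hom.hom ≫ Red.chi S (e.symm (D.P.root a)))
      (v ≫ f.hom.hom.hom ≫ iB') := by
  obtain ⟨j, hj, hj'⟩ := h
  have hf : IsMonHom f.hom.hom.hom := f.hom.hom.isMonHom_hom
  have hiso : IsIso f.hom.hom.hom := ⟨f.inv.hom.hom, iso_hom_inv f, iso_inv_hom f⟩
  have hc : IsClosedImmersion (f.hom.hom.hom ≫ iB').left := by
    rw [Over.comp_left]
    infer_instance
  have h1 := isRootHom_of (D.rootHom a) hj hv (g := f.hom.hom.hom ≫ iB') (i' := D'.i)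
    (τ := tau D D' e) (by
      rw [hj']
      have := tau_comp D D' e
      simp only [← Category.assoc] at this ⊢
      rw [this, Category.id_comp])
  have h2 : tau D D' e ≫ D.split.hom.hom.hom ≫ Red.chi S (D.P.root a) =
      D'.split.hom.hom.hom ≫ Red.chi S (e.symm (D.P.root a)) := by
    unfold tau
    simp only [Category.assoc]
    rw [← Category.assoc D.split.inv.hom.hom, split_inv_hom, Category.id_comp, DSmap_chi]
    rfl
  rwa [h2] at h1

/-- the roots correspond -/
theorem image_range_root [IsMonHom iB] [IsClosedImmersion iB.left] [IsMonHom iB']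
    [IsClosedImmersion iB'.left] {D : Red.Pinning G} {e : D'.M ≃+ D.M}
    (h : TorCompat iB iB' f D.toSplitRed D' e) (hstd : IsStd iB D)
    (hroot : ∀ (m : D'.M) (v : Red.Ga S ⟶ G'), m ≠ 0 →
      Red.IsRootHom D'.i (D'.split.hom.hom.hom ≫ Red.chi S m) v → ∃ a' : D'.idx, D'.P.root a' = m)
    (hsub : ∀ a' : D'.idx, ∃ a : D.idx, e (D'.P.root a') = D.P.root a) :
    e '' Set.range D'.P.root = Set.range D.P.root := by
  apply subset_antisymm
  · rintro _ ⟨_, ⟨a', rfl⟩, rfl⟩
    obtain ⟨a, ha⟩ := hsub a'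
    exact ⟨a, ha.symm⟩
  · have key : ∀ a : D.idx, D.base.IsPos a → ∃ a' : D'.idx, e (D'.P.root a') = D.P.root a := by
      intro a ha
      obtain ⟨v, hv⟩ := hstd.root a ha
      obtain ⟨a', ha'⟩ := hroot _ _ (by
        intro h0
        rw [AddEquiv.map_eq_zero_iff] at h0
        exact D.P.ne_zero a h0) (isRootHom_transfer h hv)
      exact ⟨a', by rw [ha', AddEquiv.apply_symm_apply]⟩
    rintro _ ⟨a, rfl⟩
    rcases RootPairing.Base.IsPos.or_neg D.base a with ha | ha
    · obtain ⟨a', ha'⟩ := key a ha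
      exact ⟨_, ⟨a', rfl⟩, ha'⟩
    · obtain ⟨a', ha'⟩ := key _ ha
      refine ⟨_, ⟨D'.P.reflectionPerm a' a', rfl⟩, ?_⟩
      rw [RootPairing.root_reflectionPerm, RootPairing.reflection_apply_self, map_neg, ha']
      change - D.P.root (D.P.reflectionPerm a a) = _
      rw [RootPairing.root_reflectionPerm, RootPairing.reflection_apply_self, neg_neg]

/-- **Transport of the pinning.** -/
theorem exists_pinning [IsMonHom iB] [IsClosedImmersion iB.left] [IsMonHom iB']
    [IsClosedImmersion iB'.left] {D : Red.Pinning G} {e : D'.M ≃+ D.M}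
    (h : TorCompat iB iB' f D.toSplitRed D' e) (hstd : IsStd iB D)
    (hroot : ∀ (m : D'.M) (v : Red.Ga S ⟶ G'), m ≠ 0 →
      Red.IsRootHom D'.i (D'.split.hom.hom.hom ≫ Red.chi S m) v → ∃ a' : D'.idx, D'.P.root a' = m)
    (hsub : ∀ a' : D'.idx, ∃ a : D.idx, e (D'.P.root a') = D.P.root a)
    (hspan : ∀ m : D.M, ∃ n : ℤ, n ≠ 0 ∧ n • m ∈ Submodule.span ℤ (Set.range D.P.root)) :
    ∃ (D'' : Red.Pinning G') (h : RootPairing.Equiv D''.P D.P), Compat iB iB' f D D'' h ∧
      ∀ a' : D''.idx, D.base.IsPos (h.indexEquiv a') → ∃ v : Red.Ga S ⟶ B,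
        v ≫ iB = D.u (h.indexEquiv a') ∧ v ≫ f.hom.hom.hom ≫ iB' = D''.u a' := by
  classical
  have : Module.IsTorsionFree ℤ D.M := inferInstance
  obtain ⟨hh, b', h1, -, h3, h4⟩ := BorComb613.exists_equiv_base D.pairing_eq D'.pairing_eq e
    (image_range_root h hstd hroot hsub) hspan D.base
  have hv : ∀ a : D.idx, ∃ v : Red.Ga S ⟶ B, D.base.IsPos a → v ≫ iB = D.u a := by
    intro a
    by_cases ha : D.base.IsPos a
    · obtain ⟨v, hv⟩ := hstd.root a ha
      exact ⟨v, fun _ => hv⟩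
    · exact ⟨toUnit _ ≫ η[B], fun h => absurd h ha⟩
  choose v hv using hv
  let D'' : Red.Pinning G' :=
    { D' with
      u := fun a' => if D.base.IsPos (hh.indexEquiv a') then v (hh.indexEquiv a') ≫ f.hom.hom.hom ≫ iB'
        else D'.u a'
      rootHom := fun a' => by
        by_cases ha : D.base.IsPos (hh.indexEquiv a')
        · rw [if_pos ha]
          have h5 := isRootHom_transfer h (hv _ ha)
          rw [h3, AddEquiv.symm_apply_apply] at h5
          exact h5
        · rw [if_neg ha]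
          exact D'.rootHom a'
      base := b' }
  refine ⟨D'', hh, ⟨h4, ?_, ?_⟩, ?_⟩
  · obtain ⟨j, hj, hj'⟩ := h
    refine ⟨j, hj, ?_⟩
    rw [hj']
    have : hh.weightMap.toAddMonoidHom = e.toAddMonoidHom := by rw [h1]; rfl
    rw [this]
  · intro a' ha'
    have hp : D.base.IsPos (hh.indexEquiv a') := D.base.isPos_of_mem_support ((h4 a').mp ha')
    exact ⟨v (hh.indexEquiv a'), hv _ hp, (if_pos hp).symm⟩
  · intro a' hp
    exact ⟨v (hh.indexEquiv a'), hv _ hp, (if_pos hp).symm⟩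

end

end Groth.Agent.Sga3B.BorTransp991
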