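import Groth.Agent.Sga3B.BorCompat988
import Groth.Agent.Sga3B.SplitBc

/-!
# Base change of compatible pinnings and of standard Borel subgroups (for S2988)
-/

set_option autoImplicit false
universe u

open CategoryTheory MonoidalCategory CartesianMonoidalCategory MonObj GrpObj AlgebraicGeometry

namespace Groth.Agent.Sga3B.BorCompatBc988

open Groth.Agent.Sga3B.Cell (posList)
open Groth.Agent.Sga3B.BorStd991 Groth.Agent.Sga3B.BorCompat988
open Groth.Agent.Sga3B Groth.Agent.Sga3B.RedIso Groth.Agent.Sga3B.BcNat Groth.Agent.Sga3B.DSPts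
  Groth.Agent.Sga3B.DsBc Groth.Agent.Sga3B.AlgBc Groth.Agent.Sga3B.ResAlg Groth.Agent.Sga3B.SplitBc

variable {S S₁ : Scheme.{u}} {G G' B B' : Over S} [GrpObj G] [GrpObj G'] [GrpObj B] [GrpObj B']

lemma map_torus_aux (q : S₁ ⟶ S) {T T' : Over S} [GrpObj T] [GrpObj T'] {M M' : Type}
    [AddCommGroup M] [AddCommGroup M'] (σ : Grp.mk T ≅ Grp.mk (Red.DS S M))
    (σ' : Grp.mk T' ≅ Grp.mk (Red.DS S M')) (φ : M' →+ M) (i : T' ⟶ G') :
    (Over.pullback q).map (σ.hom.hom.hom ≫ Red.DSmap S φ ≫ σ'.inv.hom.hom ≫ i) =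
      (BcIso.bcMapIso q σ ≪≫ constIso q (Red.diag (ULift.{u} ℤ) M)).hom.hom.hom ≫ Red.DSmap S₁ φ ≫
        (BcIso.bcMapIso q σ' ≪≫ constIso q (Red.diag (ULift.{u} ℤ) M')).inv.hom.hom ≫
          (Over.pullback q).map i := by
  have e1 : (BcIso.bcMapIso q σ ≪≫ constIso q (Red.diag (ULift.{u} ℤ) M)).hom.hom.hom =
    (Over.pullback q).map σ.hom.hom.hom ≫ (und (constIso q (Red.diag (ULift.{u} ℤ) M))).hom := rfl
  have e2 : (BcIso.bcMapIso q σ' ≪≫ constIso q (Red.diag (ULift.{u} ℤ) M')).inv.hom.hom =
    (und (constIso q (Red.diag (ULift.{u} ℤ) M'))).inv ≫ (Over.pullback q).map σ'.inv.hom.hom := rfl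
  rw [e1, e2, Category.assoc, ← Category.assoc _ (Red.DSmap S₁ φ), ← constIso_DSmap, Category.assoc,
    Category.assoc, Iso.hom_inv_id_assoc, Functor.map_comp, Functor.map_comp, Functor.map_comp]

/-- (3b) Compatible pinnings are stable under base change. -/
theorem compat_bc (q : S₁ ⟶ S) [AlgRes q] {iB : B ⟶ G} {iB' : B' ⟶ G'}
    {f : Grp.mk B ≅ Grp.mk B'} {D : Red.Pinning G} {D' : Red.Pinning G'}
    {h : RootPairing.Equiv D'.P D.P} (hc : Compat iB iB' f D D' h) :
    Compat ((Over.pullback q).map iB) ((Over.pullback q).map iB') (BcIso.bcMapIso q f)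
      (bcPinning q D) (bcPinning q D') h where
  base := hc.base
  torus := by
    obtain ⟨j, h1, h2⟩ := hc.torus
    refine ⟨(Over.pullback q).map j, ?_, ?_⟩
    · exact ((Over.pullback q).map_comp j iB).symm.trans (congrArg _ h1)
    · change (Over.pullback q).map j ≫ (Over.pullback q).map f.hom.hom.hom ≫
        (Over.pullback q).map iB' = _
      rw [← Functor.map_comp, ← Functor.map_comp, h2]
      exact map_torus_aux q D.split D'.split _ D'.i
  root a' ha' := by
    obtain ⟨v, h1, h2⟩ := hc.root a' ha'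
    refine ⟨(und (constIso q Red.GaZ.{u})).inv ≫ (Over.pullback q).map v, ?_, ?_⟩
    · rw [Category.assoc, ← Functor.map_comp, h1]
      rfl
    · change ((und (constIso q Red.GaZ.{u})).inv ≫ (Over.pullback q).map v) ≫
        (Over.pullback q).map f.hom.hom.hom ≫ (Over.pullback q).map iB' = _
      rw [Category.assoc, ← Functor.map_comp, ← Functor.map_comp, h2]
      rfl

lemma map_list_prod' (q : S₁ ⟶ S) {X : Over S} {J : Type*} (l : List J) (x : J → (X ⟶ G)) :
    (Over.pullback q).map (l.map x).prod = (l.map (fun a => (Over.pullback q).map (x a))).prod := by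
  have h := map_list_prod (Functor.homMonoidHom (Over.pullback q) (X := X) (M := G)) (l.map x)
  rw [List.map_map] at h
  exact h

/-- Standard Borel subgroups are stable under base change. -/
theorem isStd_bc (q : S₁ ⟶ S) [AlgRes q] {iB : B ⟶ G} {D : Red.Pinning G} (hs : IsStd iB D) :
    IsStd ((Over.pullback q).map iB) (bcPinning q D) where
  isMonHom := by
    have := hs.isMonHom
    infer_instance
  mono := by
    have := hs.mono
    infer_instance
  torus := by
    obtain ⟨j, h1⟩ := hs.torus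
    exact ⟨(Over.pullback q).map j, ((Over.pullback q).map_comp j iB).symm.trans (congrArg _ h1)⟩
  root a ha := by
    obtain ⟨v, h1⟩ := hs.root a ha
    refine ⟨(und (constIso q Red.GaZ.{u})).inv ≫ (Over.pullback q).map v, ?_⟩
    rw [Category.assoc, ← Functor.map_comp, h1]
    rfl
  univ := by
    obtain ⟨t, x, hu⟩ := hs.univ
    refine ⟨(Over.pullback q).map t,
      fun a => (Over.pullback q).map (x a) ≫ (und (constIso q Red.GaZ.{u})).hom, ?_⟩
    have h1 := congrArg (fun z => (Over.pullback q).map z) hu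
    refine h1.trans ?_
    refine (Functor.map_mul (Over.pullback q) _ _).trans ?_
    rw [map_list_prod', Functor.map_comp]
    congr 2
    apply List.map_congr_left
    intro a ha
    change _ = ((Over.pullback q).map (x a) ≫ (und (constIso q Red.GaZ.{u})).hom) ≫
      (und (constIso q Red.GaZ.{u})).inv ≫ (Over.pullback q).map (D.u a)
    rw [Category.assoc, Iso.hom_inv_id_assoc, ← Functor.map_comp]

end Groth.Agent.Sga3B.BorCompatBc988
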