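import Groth.Agent.Sga3B.BorCompat988
import Groth.Agent.Sga3B.SplitBc264

/-!
# Base change of compatible pinnings along an arbitrary morphism (for S2988)
-/

set_option autoImplicit false
universe u

open CategoryTheory MonoidalCategory CartesianMonoidalCategory MonObj GrpObj AlgebraicGeometry

namespace Groth.Agent.Sga3B.BorCompatPin988

open Groth.Agent.Sga3B.BorStd991 Groth.Agent.Sga3B.BorCompat988
open Groth.Agent.Sga3B Groth.Agent.Sga3B.RedIso Groth.Agent.Sga3B.BcNat Groth.Agent.Sga3B.DSPts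
  Groth.Agent.Sga3B.SplitBc264

variable {S S₁ : Scheme.{u}} {G G' B B' : Over S} [GrpObj G] [GrpObj G'] [GrpObj B] [GrpObj B']

lemma map_torus_aux (q : S₁ ⟶ S) {T T' : Over S} [GrpObj T] [GrpObj T'] {M M' : Type}
    [AddCommGroup M] [AddCommGroup M'] (σ : Grp.mk T ≅ Grp.mk (Red.DS S M))
    (σ' : Grp.mk T' ≅ Grp.mk (Red.DS S M')) (φ : M' →+ M) (i : T' ⟶ G') :
    (Over.pullback q).map (σ.hom.hom.hom ≫ Red.DSmap S φ ≫ σ'.inv.hom.hom ≫ i) =
      (BcIso.bcMapIso q σ ≪≫ TorusAlgClosed.dsBcIso q M).hom.hom.hom ≫ Red.DSmap S₁ φ ≫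
        (BcIso.bcMapIso q σ' ≪≫ TorusAlgClosed.dsBcIso q M').inv.hom.hom ≫
          (Over.pullback q).map i := by
  have e1 : (BcIso.bcMapIso q σ ≪≫ TorusAlgClosed.dsBcIso q M).hom.hom.hom =
    (Over.pullback q).map σ.hom.hom.hom ≫ (TorusAlgClosed.dsBcIso q M).hom.hom.hom := rfl
  have e2 : (BcIso.bcMapIso q σ' ≪≫ TorusAlgClosed.dsBcIso q M').inv.hom.hom =
    (TorusAlgClosed.dsBcIso q M').inv.hom.hom ≫ (Over.pullback q).map σ'.inv.hom.hom := rfl
  have e3 := map_hom_inv (TorusAlgClosed.dsBcIso q M')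
  rw [e1, e2, Category.assoc, ← Category.assoc _ (Red.DSmap S₁ φ), ← DSmap_bc, Category.assoc,
    Category.assoc, ← Category.assoc (TorusAlgClosed.dsBcIso q M').hom.hom.hom, e3,
    Category.id_comp, Functor.map_comp, Functor.map_comp, Functor.map_comp]

/-- (3b) Compatible pinnings are stable under base change. -/
theorem compat_pinningBc (q : S₁ ⟶ S) {iB : B ⟶ G} {iB' : B' ⟶ G'}
    {f : Grp.mk B ≅ Grp.mk B'} {D : Red.Pinning G} {D' : Red.Pinning G'}
    {h : RootPairing.Equiv D'.P D.P} (hc : Compat iB iB' f D D' h)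
    (hred : Red.IsReductive (Red.bc q G)) (hmax : Red.IsMaximalTorus ((Over.pullback q).map D.i))
    (hred' : Red.IsReductive (Red.bc q G'))
    (hmax' : Red.IsMaximalTorus ((Over.pullback q).map D'.i)) :
    Compat ((Over.pullback q).map iB) ((Over.pullback q).map iB') (BcIso.bcMapIso q f)
      (pinningBc q D hred hmax) (pinningBc q D' hred' hmax') h where
  base := hc.base
  torus := by
    obtain ⟨j, h1, h2⟩ := hc.torus
    refine ⟨(Over.pullback q).map j, ?_, ?_⟩
    · exact ((Over.pullback q).map_comp j iB).symm.trans (congrArg _ h1)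
    · change (Over.pullback q).map j ≫ (Over.pullback q).map f.hom.hom.hom ≫
        (Over.pullback q).map iB' = _
      rw [← Functor.map_comp, ← Functor.map_comp, h2]
      exact map_torus_aux q D.split D'.split _ D'.i
  root a' ha' := by
    obtain ⟨v, h1, h2⟩ := hc.root a' ha'
    refine ⟨(gaBcIso q).inv.hom.hom ≫ (Over.pullback q).map v, ?_, ?_⟩
    · rw [Category.assoc, ← Functor.map_comp, h1]
      rfl
    · change ((gaBcIso q).inv.hom.hom ≫ (Over.pullback q).map v) ≫
        (Over.pullback q).map f.hom.hom.hom ≫ (Over.pullback q).map iB' = _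
      rw [Category.assoc, ← Functor.map_comp, ← Functor.map_comp, h2]
      rfl

end Groth.Agent.Sga3B.BorCompatPin988
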