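import Groth.Agent.Sga3B.BorDesc613

/-!
# Étale descent of isomorphisms of group schemes characterised by their restriction

The variant of `BorDesc613.existsUnique_of_cover` for étale coverings, in which the uniqueness is only asked for
base changes `T ⟶ S` which are étale.
-/

set_option autoImplicit false
open CategoryTheory MonoidalCategory CartesianMonoidalCategory MonObj GrpObj AlgebraicGeometry
universe u

namespace Groth.Agent.Sga3B.BorDescEt613
open Groth.Agent.Sga3B.BcPts Groth.Agent.Sga3B.BcIso Groth.Agent.Sga3B.IsoFam Groth.Agent.Sga3B.BorDesc613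

variable {S : Scheme.{u}}

/-- The isomorphism of base changes along `T ⟶ S` attached to an isomorphism of base changes along `v : S' ⟶ S` and an
`S`-morphism `t : T ⟶ S'`, characterised by its values on points. -/
theorem exists_pull {S' : Scheme.{u}} {v : S' ⟶ S} {G G' : Over S} [GrpObj G] [GrpObj G']
    (φ : Grp.mk (Red.bc v G) ≅ Grp.mk (Red.bc v G')) {T : Over S} (t : T ⟶ Over.mk v) :
    ∃ e : Grp.mk (Red.bc T.hom G) ≅ Grp.mk (Red.bc T.hom G'),
      ∀ (X : Over S) (x : X ⟶ G) (s : X ⟶ T),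
        ev (f := T.hom) e.hom.hom.hom x s = ev φ.hom.hom.hom x (s ≫ t) := by
  obtain ⟨e, he⟩ := exists_iso_of_isIsoFamily (isIsoFamily_pull (isIsoFamily_fam φ) t)
  refine ⟨e, fun X x s => ?_⟩
  rw [he]
  refine (ev_unfam (f := T.hom) (G ◁ t ≫ fam φ.hom.hom.hom) x s).trans ?_
  rw [← Category.assoc, lift_whiskerLeft, lift_fam]

/-- An isomorphism of base changes extends `f` if it does so on points. -/
theorem pull_extends {S' : Scheme.{u}} {v : S' ⟶ S} {G G' B B' : Over S} [GrpObj G] [GrpObj G']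
    [GrpObj B] [GrpObj B'] {iB : B ⟶ G} {iB' : B' ⟶ G'} {f : Grp.mk B ≅ Grp.mk B'}
    {φ : Grp.mk (Red.bc v G) ≅ Grp.mk (Red.bc v G')}
    (hφ : (Over.pullback v).map iB ≫ φ.hom.hom.hom =
      (bcMapIso v f).hom.hom.hom ≫ (Over.pullback v).map iB') {T : Over S} (t : T ⟶ Over.mk v)
    {e : Grp.mk (Red.bc T.hom G) ≅ Grp.mk (Red.bc T.hom G')}
    (he : ∀ (X : Over S) (x : X ⟶ G) (s : X ⟶ T),
        ev (f := T.hom) e.hom.hom.hom x s = ev φ.hom.hom.hom x (s ≫ t)) :
    (Over.pullback T.hom).map iB ≫ e.hom.hom.hom =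
      (bcMapIso T.hom f).hom.hom.hom ≫ (Over.pullback T.hom).map iB' := by
  refine eq_of_ev fun X b s => ?_
  rw [← ev_comp, ← ev_comp, ev_map, ev_map, ev_bcMapIso]
  refine (he X _ s).trans ?_
  rw [← ev_map (f := v) iB b (s ≫ t), ev_comp, hφ, ← ev_comp, ev_map, ev_bcMapIso]

/-- **Étale descent.**  An isomorphism `f : B ≅ B'` extends to exactly one isomorphism `G ≅ G'` if it does so locally
on `S` for the étale topology and extensions are unique after étale base change. -/
theorem existsUnique_of_etale {J : Type u} {S' : J → Scheme.{u}} (v : ∀ i, S' i ⟶ S)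
    [∀ i, Etale (v i)] (hv : ∀ s : S, ∃ i, s ∈ Set.range (v i))
    {G G' B B' : Over S} [GrpObj G] [GrpObj G'] [GrpObj B] [GrpObj B']
    (iB : B ⟶ G) (iB' : B' ⟶ G') (f : Grp.mk B ≅ Grp.mk B')
    (hex : ∀ i, ∃ φ : Grp.mk (Red.bc (v i) G) ≅ Grp.mk (Red.bc (v i) G'),
      (Over.pullback (v i)).map iB ≫ φ.hom.hom.hom =
        (bcMapIso (v i) f).hom.hom.hom ≫ (Over.pullback (v i)).map iB')
    (huniq : ∀ (i : J) (T : Scheme.{u}) (q : T ⟶ S' i) (p : T ⟶ S), Etale q → Etale p → q ≫ v i = p →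
      ∀ φ ψ : Grp.mk (Red.bc p G) ≅ Grp.mk (Red.bc p G'),
        (Over.pullback p).map iB ≫ φ.hom.hom.hom =
          (bcMapIso p f).hom.hom.hom ≫ (Over.pullback p).map iB' →
        (Over.pullback p).map iB ≫ ψ.hom.hom.hom =
          (bcMapIso p f).hom.hom.hom ≫ (Over.pullback p).map iB' → φ = ψ) :
    ∃! φ : Grp.mk G ≅ Grp.mk G', iB ≫ φ.hom.hom.hom = f.hom.hom.hom ≫ iB' := by
  choose φ hφ using hex
  have hφB : ∀ i (T : Over S) (b : T ⟶ B) (t : T ⟶ Over.mk (v i)),
      ev (φ i).hom.hom.hom (b ≫ iB) t = (b ≫ f.hom.hom.hom) ≫ iB' := by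
    intro i T b t
    rw [← ev_map (f := v i) iB b t, ev_comp, hφ i, ← ev_comp, ev_map]
    rw [ev_bcMapIso]
  obtain ⟨e, he⟩ := exists_iso v hv φ (by
    intro i j T x t t'
    let W : Over S := Over.mk (v i) ⊗ Over.mk (v j)
    have hfst : Etale (fst (Over.mk (v i)) (Over.mk (v j))).left :=
      inferInstanceAs (Etale (Limits.pullback.fst (v i) (v j)))
    have hW : Etale W.hom := by
      rw [← Over.w (fst (Over.mk (v i)) (Over.mk (v j)))]
      change Etale (_ ≫ v i)
      infer_instance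
    obtain ⟨e₁, he₁⟩ := exists_pull (φ i) (fst (Over.mk (v i)) (Over.mk (v j)))
    obtain ⟨e₂, he₂⟩ := exists_pull (φ j) (snd (Over.mk (v i)) (Over.mk (v j)))
    have h12 : e₁ = e₂ := huniq i W.left (fst (Over.mk (v i)) (Over.mk (v j))).left W.hom hfst hW
      (Over.w _) e₁ e₂ (pull_extends (hφ i) _ he₁) (pull_extends (hφ j) _ he₂)
    have h3 := he₁ T x (lift t t')
    have h4 := he₂ T x (lift t t')
    rw [lift_fst] at h3
    rw [lift_snd] at h4
    rw [← h3, ← h4, h12])
  refine ⟨e, ?_, fun ψ hψ => ?_⟩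
  · refine hom_ext v hv fun i T b t => ?_
    rw [← Category.assoc, he i T _ t, hφB i T b t, Category.assoc]
  · have h5 : ∀ i, bcMapIso (v i) ψ = φ i := fun i => by
      refine huniq i (S' i) (𝟙 _) (v i) inferInstance inferInstance (Category.id_comp _) _ _ ?_ (hφ i)
      change (Over.pullback (v i)).map iB ≫ (Over.pullback (v i)).map ψ.hom.hom.hom =
        (Over.pullback (v i)).map f.hom.hom.hom ≫ (Over.pullback (v i)).map iB'
      rw [← Functor.map_comp, ← Functor.map_comp, hψ]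
    have h6 : ψ.hom.hom.hom = e.hom.hom.hom := hom_ext v hv fun i T x t => by
      rw [he i T x t, ← h5 i, ev_bcMapIso]
    ext1
    exact Grp.hom_ext _ _ h6

/-- The étale descent with the uniqueness asked for iterated base changes. -/
theorem existsUnique_of_etale' {J : Type u} {S' : J → Scheme.{u}} (v : ∀ i, S' i ⟶ S)
    [∀ i, Etale (v i)] (hv : ∀ s : S, ∃ i, s ∈ Set.range (v i))
    {G G' B B' : Over S} [GrpObj G] [GrpObj G'] [GrpObj B] [GrpObj B']
    (iB : B ⟶ G) (iB' : B' ⟶ G') (f : Grp.mk B ≅ Grp.mk B')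
    (hex : ∀ i, ∃ φ : Grp.mk (Red.bc (v i) G) ≅ Grp.mk (Red.bc (v i) G'),
      (Over.pullback (v i)).map iB ≫ φ.hom.hom.hom =
        (bcMapIso (v i) f).hom.hom.hom ≫ (Over.pullback (v i)).map iB')
    (huniq : ∀ (i : J) (T : Scheme.{u}) (q : T ⟶ S' i), Etale q → ∀
      (φ ψ : Grp.mk (Red.bc q (Red.bc (v i) G)) ≅ Grp.mk (Red.bc q (Red.bc (v i) G'))),
        (Over.pullback q).map ((Over.pullback (v i)).map iB) ≫ φ.hom.hom.hom =
          (bcMapIso q (bcMapIso (v i) f)).hom.hom.hom ≫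
            (Over.pullback q).map ((Over.pullback (v i)).map iB') →
        (Over.pullback q).map ((Over.pullback (v i)).map iB) ≫ ψ.hom.hom.hom =
          (bcMapIso q (bcMapIso (v i) f)).hom.hom.hom ≫
            (Over.pullback q).map ((Over.pullback (v i)).map iB') → φ = ψ) :
    ∃! φ : Grp.mk G ≅ Grp.mk G', iB ≫ φ.hom.hom.hom = f.hom.hom.hom ≫ iB' := by
  refine existsUnique_of_etale v hv iB iB' f hex ?_
  rintro i T q _ hq - rfl φ ψ hφ hψ
  have key : ∀ φ : Grp.mk (Red.bc (q ≫ v i) G) ≅ Grp.mk (Red.bc (q ≫ v i) G'),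
      (Over.pullback (q ≫ v i)).map iB ≫ φ.hom.hom.hom =
          (bcMapIso (q ≫ v i) f).hom.hom.hom ≫ (Over.pullback (q ≫ v i)).map iB' →
      (Over.pullback q).map ((Over.pullback (v i)).map iB) ≫
        ((bcCompIso q (v i) G).symm ≪≫ φ ≪≫ bcCompIso q (v i) G').hom.hom.hom =
          (bcMapIso q (bcMapIso (v i) f)).hom.hom.hom ≫
            (Over.pullback q).map ((Over.pullback (v i)).map iB') := by
    intro φ hφ
    have hc : ∀ (X : Over S) [GrpObj X], (bcCompIso q (v i) X).hom.hom.hom ≫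
        (bcCompIso q (v i) X).inv.hom.hom = 𝟙 _ := fun X _ =>
      congrArg (fun k => k.hom.hom) (bcCompIso q (v i) X).hom_inv_id
    have hc' : ∀ (X : Over S) [GrpObj X], (bcCompIso q (v i) X).inv.hom.hom ≫
        (bcCompIso q (v i) X).hom.hom.hom = 𝟙 _ := fun X _ =>
      congrArg (fun k => k.hom.hom) (bcCompIso q (v i) X).inv_hom_id
    have hB : IsIso (bcCompIso q (v i) B).hom.hom.hom := ⟨_, hc B, hc' B⟩
    rw [← cancel_epi (bcCompIso q (v i) B).hom.hom.hom]
    change (bcCompIso q (v i) B).hom.hom.hom ≫ (Over.pullback q).map ((Over.pullback (v i)).map iB) ≫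
      (bcCompIso q (v i) G).inv.hom.hom ≫ φ.hom.hom.hom ≫ (bcCompIso q (v i) G').hom.hom.hom =
      (bcCompIso q (v i) B).hom.hom.hom ≫
        (Over.pullback q).map ((Over.pullback (v i)).map f.hom.hom.hom) ≫
            (Over.pullback q).map ((Over.pullback (v i)).map iB')
    rw [← Category.assoc, ← bcCompIso_naturality, Category.assoc, ← Category.assoc (bcCompIso q (v i) G).hom.hom.hom, hc,
      Category.id_comp, ← Category.assoc, hφ, ← Functor.map_comp, ← Functor.map_comp,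
      ← bcCompIso_naturality, Functor.map_comp, Category.assoc]
    rfl
  have h1 := huniq i T q hq _ _ (key φ hφ) (key ψ hψ)
  have h2 : ∀ φ : Grp.mk (Red.bc (q ≫ v i) G) ≅ Grp.mk (Red.bc (q ≫ v i) G'),
      φ = (bcCompIso q (v i) G) ≪≫ ((bcCompIso q (v i) G).symm ≪≫ φ ≪≫ bcCompIso q (v i) G') ≪≫
        (bcCompIso q (v i) G').symm := by
    intro φ
    simp
  rw [h2 φ, h2 ψ, h1]

end Groth.Agent.Sga3B.BorDescEt613
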