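import Groth.Agent.Sga3B.PinEt876

/-!
# Characterisation of root homomorphisms, injective version ((L4) of S2988)
-/

set_option autoImplicit false
universe u

open Polynomial

namespace Groth.Agent.Sga3B.RootInj876

open Groth.Agent.Sga3B.Cell

section datum

variable {R A : Type u} [CommRing R] [CommRing A] [Algebra R A] [PtGrp R A] {D : Datum R A}
variable {L : List D.idx} {δ : D.CR}

/-- A homogeneous family of weight `m ≠ 0` in one variable is trivial or `u_a(c x ^ j)` with
`root a = j m`. -/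
theorem exists_eq_pow (hδ : D.EtOn L δ) (hδ0 : D.ev0 δ = 1)
    (hL : L.Nodup) (hL' : ∀ a, a ∈ L)
    (hred : ∀ (a a' : D.idx) (p q : ℕ), p ≠ 0 → q ≠ 0 →
      (p : ℤ) • D.root a = (q : ℤ) • D.root a' → a = a')
    {m : D.M} (hm : m ≠ 0)
    (V : ∀ (B : Type u) [CommRing B] [Algebra R B], B → Pt R A B)
    (V_nat : ∀ {B C : Type u} [CommRing B] [Algebra R B] [CommRing C] [Algebra R C]
      (φ : B →ₐ[R] C) (x : B), Pt.map φ (V B x) = V C (φ x))
    (V_zero : ∀ (B : Type u) [CommRing B] [Algebra R B], V B 0 = 1)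
    (V_rel : ∀ {B : Type u} [CommRing B] [Algebra R B] (t : TPt D.M B) (x : B),
      D.i B t * V B x * (D.i B t)⁻¹ = V B (TPt.ch m t * x)) :
    (∀ (B : Type u) [CommRing B] [Algebra R B] (x : B), V B x = 1) ∨
    ∃ (a : D.idx) (c : R) (j : ℕ), j ≠ 0 ∧ (j : ℤ) • m = D.root a ∧
      ∀ (B : Type u) [CommRing B] [Algebra R B] (x : B),
        V B x = D.uu a B (algebraMap R B c * x ^ j) := by
  classical
  have : IsAddTorsionFree D.M := .of_isTorsionFree ℤ D.M
  let F : D.Fam Unit (fun _ => m) :=
    { v := fun B _ _ x => V B (x ())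
      nat := fun φ x => V_nat φ _
      zero := fun B _ _ => V_zero B
      rel := fun t x => V_rel t _ }
  obtain ⟨lam, n, hn, hlam⟩ := PinComb.exists_functional_of_linearIndependent
    (fun _ : Unit => m) (by
      rw [linearIndependent_unique_iff]
      exact hm) (fun _ => 1)
  obtain ⟨y, hy0, hy, hv⟩ := F.exists_eq hδ hδ0 lam (fun s => by rw [hlam ()]; simpa using hn)
  -- the weights of the monomials
  have key : ∀ (b : D.idx) (k : Unit →₀ ℕ), MvPolynomial.coeff k (y b) ≠ 0 →
      k () ≠ 0 ∧ ((k () : ℕ) : ℤ) • m = D.root b := by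
    intro b k hk
    have h1 := hy b k hk
    have h2 : (k.sum fun _ e => e • m) = ((k () : ℕ) : ℤ) • m := by
      rw [Finsupp.sum_fintype _ _ (by simp)]
      simp
    rw [h2] at h1
    refine ⟨?_, h1⟩
    intro h0
    rw [h0] at h1
    exact D.root_ne b (by rw [← h1]; simp)
  by_cases hall : ∀ b, y b = 0
  · left
    intro B _ _ x
    have h2 := hv B (fun _ => x)
    change V B x = _ at h2
    rw [h2]
    simp only [hall, map_zero]
    rw [D.cell_zero, map_one]
  · right
    push Not at hall
    obtain ⟨a, ha⟩ := hall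
    obtain ⟨k₀, hk₀⟩ := MvPolynomial.ne_zero_iff.mp ha
    obtain ⟨hk₁, hk₂⟩ := key a k₀ hk₀
    set j : ℕ := k₀ () with hj
    -- all other coordinates vanish
    have hb : ∀ b, b ≠ a → y b = 0 := by
      intro b hba
      ext k
      rw [MvPolynomial.coeff_zero]
      by_contra hk
      obtain ⟨h1, h2⟩ := key b k hk
      apply hba
      refine hred b a j (k ()) hk₁ h1 ?_
      rw [← h2, ← hk₂, smul_comm]
    -- the coordinate at `a` is a monomial
    have hya : y a = MvPolynomial.monomial k₀ (MvPolynomial.coeff k₀ (y a)) := by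
      ext k
      rw [MvPolynomial.coeff_monomial]
      by_cases hk : k₀ = k
      · rw [if_pos hk, hk]
      · rw [if_neg hk]
        by_contra h
        obtain ⟨h1, h2⟩ := key a k h
        apply hk
        ext
        rw [← hk₂, ← sub_eq_zero, ← sub_smul, smul_eq_zero] at h2
        rcases h2 with h2 | h2
        · have : ((k () : ℕ) : ℤ) = (j : ℤ) := by linarith
          exact_mod_cast this.symm
        · exact absurd h2 hm
    refine ⟨a, MvPolynomial.coeff k₀ (y a), j, hk₁, hk₂, ?_⟩
    intro B _ _ x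
    have h1 := hv B (fun _ => x)
    rw [Datum.cell_single hL (hL' a) (fun b hba => by rw [hb b hba, map_zero])] at h1
    change V B x = _ at h1
    rw [h1, hya, MvPolynomial.aeval_monomial, Finsupp.prod_fintype _ _ (by simp)]
    simp [hj]

/-- **Characterisation of root homomorphisms**: an injective homogeneous family of weight `m ≠ 0`
is a root homomorphism up to a unit. -/
theorem exists_eq_uu_of_injective [Nontrivial R] (hδ : D.EtOn L δ) (hδ0 : D.ev0 δ = 1)
    (hL : L.Nodup) (hL' : ∀ a, a ∈ L)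
    (hred : ∀ (a a' : D.idx) (p q : ℕ), p ≠ 0 → q ≠ 0 →
      (p : ℤ) • D.root a = (q : ℤ) • D.root a' → a = a')
    {m : D.M} (hm : m ≠ 0)
    (V : ∀ (B : Type u) [CommRing B] [Algebra R B], B → Pt R A B)
    (V_nat : ∀ {B C : Type u} [CommRing B] [Algebra R B] [CommRing C] [Algebra R C]
      (φ : B →ₐ[R] C) (x : B), Pt.map φ (V B x) = V C (φ x))
    (V_zero : ∀ (B : Type u) [CommRing B] [Algebra R B], V B 0 = 1)
    (V_rel : ∀ {B : Type u} [CommRing B] [Algebra R B] (t : TPt D.M B) (x : B),
      D.i B t * V B x * (D.i B t)⁻¹ = V B (TPt.ch m t * x))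
    (V_inj : ∀ (B : Type u) [CommRing B] [Algebra R B], Function.Injective (V B)) :
    ∃ (a : D.idx) (r : Rˣ), D.root a = m ∧ ∀ (B : Type u) [CommRing B] [Algebra R B] (x : B),
      V B x = D.uu a B (algebraMap R B r * x) := by
  rcases exists_eq_pow hδ hδ0 hL hL' hred hm V V_nat V_zero V_rel with h | ⟨a, c, j, hj, hjm, hV⟩
  · exfalso
    exact one_ne_zero (V_inj R ((h R 1).trans (h R 0).symm))
  · -- `j = 1` by looking at the dual numbers
    have hj1 : j = 1 := by
      by_contra hj1
      have h1 : (2 : ℕ) ≤ j := by omega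
      let B : Type u := AdjoinRoot (X ^ 2 : R[X])
      have h2 : (AdjoinRoot.root (X ^ 2 : R[X])) ^ 2 = 0 := by
        rw [AdjoinRoot.root, ← map_pow, AdjoinRoot.mk_self]
      have h3 : V B (AdjoinRoot.root (X ^ 2 : R[X])) = V B 0 := by
        rw [hV B (AdjoinRoot.root (X ^ 2 : R[X])), hV B 0]
        congr 1
        obtain ⟨k, rfl⟩ := Nat.exists_eq_add_of_le h1
        rw [pow_add, h2, zero_mul, mul_zero, zero_pow (by omega), mul_zero]
      have h4 := V_inj B h3
      rw [AdjoinRoot.root, AdjoinRoot.mk_eq_zero] at h4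
      have h5 := Polynomial.X_pow_dvd_iff.mp h4 1 (by norm_num)
      rw [Polynomial.coeff_X_one] at h5
      exact one_ne_zero h5
    -- `c` is a unit
    have hc : IsUnit c := by
      by_contra hc
      obtain ⟨I, hI, hcI⟩ := exists_max_ideal_of_mem_nonunits hc
      have h1 : algebraMap R (R ⧸ I) c = 0 := Ideal.Quotient.eq_zero_iff_mem.mpr hcI
      have h2 : V (R ⧸ I) 1 = V (R ⧸ I) 0 := by
        rw [hV (R ⧸ I) 1, hV (R ⧸ I) 0, h1, zero_mul, zero_mul]
      exact one_ne_zero (V_inj (R ⧸ I) h2)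
    obtain ⟨r, hr⟩ := hc
    refine ⟨a, r, by rw [← hjm, hj1]; simp, fun B _ _ x => ?_⟩
    rw [hV B x, hj1, pow_one, hr]

end datum

variable {idx M : Type} [Fintype idx] [AddCommGroup M] [Module.Free ℤ M]
    [Module.Finite ℤ M] {P : RootPairing idx ℤ M (Module.Dual ℤ M)} {b : P.Base}
    {R A : Type u} [CommRing R] [CommRing A] [Algebra R A] [PtGrp R A] (E : PinCell P b R A)

/-- **Characterisation of root homomorphisms** for a `PinCell` ((L4) of S2988). -/
theorem exists_eq_uu [Nontrivial R] {m : M} (hm : m ≠ 0)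
    (V : ∀ (B : Type u) [CommRing B] [Algebra R B], B → Pt R A B)
    (V_nat : ∀ {B C : Type u} [CommRing B] [Algebra R B] [CommRing C] [Algebra R C]
      (φ : B →ₐ[R] C) (x : B), Pt.map φ (V B x) = V C (φ x))
    (V_add : ∀ {B : Type u} [CommRing B] [Algebra R B] (x y : B), V B (x + y) = V B x * V B y)
    (V_rel : ∀ {B : Type u} [CommRing B] [Algebra R B] (t : TPt M B) (x : B),
      E.i B t * V B x * (E.i B t)⁻¹ = V B (TPt.ch m t * x))
    (V_inj : ∀ (B : Type u) [CommRing B] [Algebra R B], Function.Injective (V B)) :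
    ∃ (a : idx) (r : Rˣ), P.root a = m ∧ ∀ (B : Type u) [CommRing B] [Algebra R B] (x : B),
      V B x = E.uu a B (algebraMap R B r * x) := by
  have := PinComb.isReduced b
  refine exists_eq_uu_of_injective (D := E.toDatum) (PinEt876.etOn_one E) (map_one _)
    (allList_nodup b) (mem_allList b)
    (fun a a' p q hp hq h => RootChar876.eq_of_smul_root_eq P a a' p q hp hq h) hm V V_nat
    (fun B _ _ => ?_) V_rel V_inj
  have h := V_add (0 : B) 0
  rw [add_zero] at h
  exact mul_eq_left.mp h.symm

/-- the same for families with only `V 0 = 1` -/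
theorem exists_eq_uu' [Nontrivial R] {m : M} (hm : m ≠ 0)
    (V : ∀ (B : Type u) [CommRing B] [Algebra R B], B → Pt R A B)
    (V_nat : ∀ {B C : Type u} [CommRing B] [Algebra R B] [CommRing C] [Algebra R C]
      (φ : B →ₐ[R] C) (x : B), Pt.map φ (V B x) = V C (φ x))
    (V_zero : ∀ (B : Type u) [CommRing B] [Algebra R B], V B 0 = 1)
    (V_rel : ∀ {B : Type u} [CommRing B] [Algebra R B] (t : TPt M B) (x : B),
      E.i B t * V B x * (E.i B t)⁻¹ = V B (TPt.ch m t * x))
    (V_inj : ∀ (B : Type u) [CommRing B] [Algebra R B], Function.Injective (V B)) :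
    ∃ (a : idx) (r : Rˣ), P.root a = m ∧ ∀ (B : Type u) [CommRing B] [Algebra R B] (x : B),
      V B x = E.uu a B (algebraMap R B r * x) := by
  have := PinComb.isReduced b
  exact exists_eq_uu_of_injective (D := E.toDatum) (PinEt876.etOn_one E) (map_one _)
    (allList_nodup b) (mem_allList b)
    (fun a a' p q hp hq h => RootChar876.eq_of_smul_root_eq P a a' p q hp hq h) hm V V_nat
    V_zero V_rel V_inj

end Groth.Agent.Sga3B.RootInj876
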