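import Groth.Agent.Sga3B.BorRig991
import Groth.Agent.Sga3B.BorCompat988
import Groth.Agent.Sga3B.PinModel
import Groth.Agent.Sga3B.PinFinal
import Groth.Agent.Sga3B.RootInj876
import Groth.Agent.Sga3B.RootUniq829
import Groth.Agent.Sga3B.BorTransp991

/-!
# Existence of the extension: the root groups of all positive roots are carried by the isomorphism
of S3004 as by the isomorphism of Borel subgroups
-/

set_option autoImplicit false
set_option linter.unusedSectionVars false
universe u

open CategoryTheory MonoidalCategory CartesianMonoidalCategory MonObj GrpObj AlgebraicGeometry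

namespace Groth.Agent.Sga3B.BorEx991

open Cell PinMod PinTransport GaPts DSPts BorStd991 BorCompat988
open PinFinal (jOf)

variable {S : Scheme.{u}} {G : Over S} [GrpObj G]

section pts

variable {R : Type u} [CommRing R] (s : Spec (CommRingCat.of R) ⟶ S)
variable {B C : Type u} [CommRing B] [Algebra R B] [CommRing C] [Algebra R C]

/-- the point of `Ga S` with coordinate `x` over `Spec B` -/
noncomputable def ga (B : Type u) [CommRing B] [Algebra R B] (x : B) : tB s B ⟶ Red.Ga S :=
  gaPt (tB s B) (fnOf s x)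

lemma ga_nat (φ : B →ₐ[R] C) (x : B) : tMap s φ ≫ ga s B x = ga s C (φ x) := by
  unfold ga
  rw [comp_gaPt]
  congr 1
  have h1 := congr($(Scheme.ΓSpecIso_inv_naturality (CommRingCat.ofHom (φ : B →+* C))) x)
  exact h1.symm

lemma ga_add (x y : B) : ga s B (x + y) = ga s B x * ga s B y := by
  unfold ga
  rw [← gaPt_add]
  congr 1
  exact map_add (Scheme.ΓSpecIso (CommRingCat.of B)).inv.hom x y

lemma fnOf_injective : Function.Injective (fnOf (B := B) s) := by
  intro x y h
  have h1 : ∀ z : B, (Scheme.ΓSpecIso (CommRingCat.of B)).hom (fnOf s z) = z := by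
    intro z
    change ((Scheme.ΓSpecIso (CommRingCat.of B)).inv ≫ (Scheme.ΓSpecIso (CommRingCat.of B)).hom) z = z
    rw [Iso.inv_hom_id]
    rfl
  rw [← h1 x, h, h1]

lemma ga_injective : Function.Injective (ga s B) := by
  intro x y h
  have h1 := congrArg Red.gaFn h
  unfold ga at h1
  rw [gaFn_gaPt, gaFn_gaPt] at h1
  exact fnOf_injective s h1

end pts

variable {idx M : Type} [Fintype idx] [AddCommGroup M] [Module.Free ℤ M]
    [Module.Finite ℤ M] {P : RootPairing idx ℤ M (Module.Dual ℤ M)} {b : P.Base}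

section fam

variable {j : Red.DS S M ⟶ G} {u : idx → (Red.Ga S ⟶ G)}
  {R : Type u} [CommRing R] {s : Spec (CommRingCat.of R) ⟶ S} (m : PinModel P b G j u s)
  (v : Red.Ga S ⟶ G)

/-- the family of points given by a morphism from `Ga` -/
noncomputable def fam (B : Type u) [CommRing B] [Algebra R B] (x : B) : Pt R m.A B :=
  (m.pts B).symm (ga s B x ≫ v)

lemma pts_fam (B : Type u) [CommRing B] [Algebra R B] (x : B) :
    m.pts B (fam m v B x) = ga s B x ≫ v := (m.pts B).apply_symm_apply _

lemma fam_nat {B C : Type u} [CommRing B] [Algebra R B] [CommRing C] [Algebra R C]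
    (φ : B →ₐ[R] C) (x : B) : Pt.map φ (fam m v B x) = fam m v C (φ x) := by
  apply (m.pts C).injective
  rw [← m.pts_nat, pts_fam, pts_fam, ← Category.assoc, ga_nat]

lemma fam_add [IsMonHom v] {B : Type u} [CommRing B] [Algebra R B] (x y : B) :
    fam m v B (x + y) = fam m v B x * fam m v B y := by
  apply (m.pts B).injective
  rw [map_mul, pts_fam, pts_fam, pts_fam, ga_add, MonObj.mul_comp]

lemma fam_zero [IsMonHom v] (B : Type u) [CommRing B] [Algebra R B] : fam m v B 0 = 1 := by
  have h := fam_add m v (0 : B) 0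
  rw [add_zero] at h
  exact mul_eq_left.mp h.symm

lemma fam_inj [Mono v] (B : Type u) [CommRing B] [Algebra R B] : Function.Injective (fam m v B) := by
  intro x y h
  apply ga_injective s
  rw [← cancel_mono v, ← pts_fam m v, h, pts_fam]

/-- root homomorphisms with respect to `j` -/
def IsRel (j : Red.DS S M ⟶ G) (c : M) (v : Red.Ga S ⟶ G) : Prop :=
  ∀ (X : Over S) (t : X ⟶ Red.DS S M) (x : X ⟶ Red.Ga S),
    (t ≫ j) * (x ≫ v) * (t ≫ j)⁻¹ = gaPt X (dsChar t (Multiplicative.ofAdd c) * Red.gaFn x) ≫ v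

variable {v} {c : M}

lemma fam_rel (hv : IsRel j c v) {B : Type u} [CommRing B] [Algebra R B] (t : TPt M B) (x : B) :
    m.E.i B t * fam m v B x * (m.E.i B t)⁻¹ = fam m v B (TPt.ch c t * x) := by
  apply (m.pts B).injective
  rw [map_mul, map_mul, map_inv, pts_fam, pts_fam, m.pts_i, hv]
  unfold ga
  rw [gaFn_gaPt, dsChar_dsEquiv]
  congr 2
  change _ = (Scheme.ΓSpecIso (CommRingCat.of B)).inv.hom (TPt.ch c t * x)
  rw [map_mul]
  rfl

lemma exists_eq_uu [Nontrivial R] [IsMonHom v] [Mono v] {a : idx} (hv : IsRel j (P.root a) v) :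
    ∃ r : Rˣ, ∀ (B : Type u) [CommRing B] [Algebra R B] (x : B),
      fam m v B x = m.E.uu a B (algebraMap R B r * x) := by
  obtain ⟨a', r, h1, h2⟩ := RootInj876.exists_eq_uu m.E (P.ne_zero a) (fam m v) (fam_nat m v)
    (fam_add m v) (fam_rel m hv) (fam_inj m v)
  have h3 : a' = a := P.root.injective h1
  subst h3
  exact ⟨r, h2⟩

lemma exists_eq_uu' [IsMonHom v] {a : idx} (hv : IsRel j (P.root a) v) :
    ∃ r : R, ∀ (B : Type u) [CommRing B] [Algebra R B] (x : B),
      fam m v B x = m.E.uu a B (algebraMap R B r * x) := by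
  have := PinComb.isReduced b
  obtain ⟨r, hr⟩ := Cell.Datum.exists_eq_uu (D := m.E.toDatum) (PinEt876.etOn_one m.E) (map_one _)
    (allList_nodup b) (mem_allList b a)
    (fun a' n h => PinComb.eq_one_of_root_eq_nsmul b h) (fam m v) (fam_nat m v)
    (fam_zero m v) (fam_rel m hv)
  exact ⟨r, fun B _ _ x => hr x⟩

end fam

lemma isRel_of_isRootHom {D : Red.SplitRed G} {c : D.M} {v : Red.Ga S ⟶ G}
    (h : Red.IsRootHom D.i (D.split.hom.hom.hom ≫ Red.chi S c) v) : IsRel (jOf D) c v := by
  intro X t x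
  obtain ⟨y, hy, hy'⟩ := h.2.2 X (t ≫ D.split.inv.hom.hom) x
  have e : (t ≫ D.split.inv.hom.hom) ≫ D.i = t ≫ jOf D := Category.assoc _ _ _
  rw [e] at hy
  rw [← hy]
  congr 1
  apply gaFn_injective
  rw [hy', gaFn_gaPt]
  congr 1
  have e2 : (t ≫ D.split.inv.hom.hom) ≫ D.split.hom.hom.hom ≫ Red.chi S c = t ≫ Red.chi S c := by
    rw [Category.assoc, ← Category.assoc D.split.inv.hom.hom, BorTransp991.split_inv_hom,
      Category.id_comp]
  rw [e2, gmFn_chi]

section main

variable {j : Red.DS S M ⟶ G} {u : idx → (Red.Ga S ⟶ G)}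
  {R : Type u} [CommRing R] {s : Spec (CommRingCat.of R) ⟶ S} (m : PinModel P b G j u s)

lemma pts_pos {w : idx → (Red.Ga S ⟶ G)} {r : idx → R}
    (hr : ∀ a, b.IsPos a → ∀ (B : Type u) [CommRing B] [Algebra R B] (x : B),
      fam m (w a) B x = m.E.uu a B (algebraMap R B (r a) * x))
    {B : Type u} [CommRing B] [Algebra R B] (x : idx → B) :
    m.pts B (BorRig991.pos m.E (fun a => algebraMap R B (r a) * x a)) =
      ((posList b).map (fun a => ga s B (x a) ≫ w a)).prod := by
  unfold BorRig991.pos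
  rw [map_list_prod, List.map_map]
  congr 1
  apply List.map_congr_left
  intro a ha
  rw [Function.comp_apply, ← hr a ((mem_posList b).mp ha), pts_fam]

variable {G' : Over S} [GrpObj G'] {j' : Red.DS S M ⟶ G'} {u' : idx → (Red.Ga S ⟶ G')}
  (m' : PinModel P b G' j' u' s)

/-- The relation between coordinates of two groups of a homomorphism on the group generated by
positive root groups. -/
lemma rel_of_hom {H : Over S} [GrpObj H] {w : idx → (Red.Ga S ⟶ G)} {w' : idx → (Red.Ga S ⟶ G')}
    {r : idx → Rˣ} {r' : idx → R}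
    (hr : ∀ a, b.IsPos a → ∀ (B : Type u) [CommRing B] [Algebra R B] (x : B),
      fam m (w a) B x = m.E.uu a B (algebraMap R B (r a) * x))
    (hr' : ∀ a, b.IsPos a → ∀ (B : Type u) [CommRing B] [Algebra R B] (x : B),
      fam m' (w' a) B x = m'.E.uu a B (algebraMap R B (r' a) * x))
    (iH : H ⟶ G) [IsMonHom iH] [Mono iH] (g : H ⟶ G') [IsMonHom g]
    (hv : ∀ a, b.IsPos a → ∃ v : Red.Ga S ⟶ H, v ≫ iH = w a ∧ v ≫ g = w' a)
    {B : Type u} [CommRing B] [Algebra R B] (x y z : idx → B)
    (h : BorRig991.pos m.E x * BorRig991.pos m.E y = BorRig991.pos m.E z) :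
    BorRig991.pos m'.E (fun a => algebraMap R B (r' a * ↑(r a)⁻¹) * x a) *
      BorRig991.pos m'.E (fun a => algebraMap R B (r' a * ↑(r a)⁻¹) * y a) =
      BorRig991.pos m'.E (fun a => algebraMap R B (r' a * ↑(r a)⁻¹) * z a) := by
  choose! v hv1 hv2 using hv
  let p : (idx → B) → (tB s B ⟶ H) := fun x =>
    ((posList b).map (fun a => ga s B (algebraMap R B ↑(r a)⁻¹ * x a) ≫ v a)).prod
  have h1 : ∀ x : idx → B, m.pts B (BorRig991.pos m.E x) = p x ≫ iH := by
    intro x
    have e : BorRig991.pos m.E x = BorRig991.pos m.E (fun a => algebraMap R B (r a) *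
        (algebraMap R B ↑(r a)⁻¹ * x a)) := by
      congr 1
      funext a
      rw [← _root_.mul_assoc, ← map_mul, Units.mul_inv, map_one, _root_.one_mul]
    rw [e, pts_pos m hr, list_prod_comp]
    congr 1
    apply List.map_congr_left
    intro a ha
    rw [Category.assoc, hv1 a ((mem_posList b).mp ha)]
  have h2 : ∀ x : idx → B, m'.pts B (BorRig991.pos m'.E
      (fun a => algebraMap R B (r' a * ↑(r a)⁻¹) * x a)) = p x ≫ g := by
    intro x
    have e : BorRig991.pos m'.E (fun a => algebraMap R B (r' a * ↑(r a)⁻¹) * x a) =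
        BorRig991.pos m'.E (fun a => algebraMap R B (r' a) *
        (algebraMap R B ↑(r a)⁻¹ * x a)) := by
      congr 1
      funext a
      rw [map_mul, _root_.mul_assoc]
    rw [e, pts_pos m' hr', list_prod_comp]
    congr 1
    apply List.map_congr_left
    intro a ha
    rw [Category.assoc, hv2 a ((mem_posList b).mp ha)]
  have h3 : p x * p y = p z := by
    rw [← cancel_mono iH, MonObj.mul_comp, ← h1, ← h1, ← h1, ← map_mul, h]
  apply (m'.pts B).injective
  rw [map_mul, h2, h2, h2, ← h3, MonObj.mul_comp]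

end main

/-- **(EX)** all positive root groups are carried by the isomorphism of S3004 as by `f`. -/
theorem root_comp_eq {G' B B' : Over S} [GrpObj G'] [GrpObj B] [GrpObj B']
    {iB : B ⟶ G} [IsMonHom iB] [Mono iB] {iB' : B' ⟶ G'} [IsMonHom iB'] {f : Grp.mk B ≅ Grp.mk B'}
    {D : Red.Pinning G} {D' : Red.Pinning G'} {h : RootPairing.Equiv D'.P D.P}
    (hmodel : ∀ (R : Type u) [CommRing R] (s : Spec (CommRingCat.of R) ⟶ S),
      Nonempty (PinModel D.P D.base G (jOf D.toSplitRed) D.u s))
    (hmodel' : ∀ (R : Type u) [CommRing R] (s : Spec (CommRingCat.of R) ⟶ S),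
      Nonempty (PinModel D.P D.base G' (jOf (transport D D' h).toSplitRed) (transport D D' h).u s))
    (hbase : ∀ a' : D'.idx, a' ∈ D'.base.support ↔ h.indexEquiv a' ∈ D.base.support)
    (hpos : ∀ a' : D'.idx, D.base.IsPos (h.indexEquiv a') → ∃ v : Red.Ga S ⟶ B,
        v ≫ iB = D.u (h.indexEquiv a') ∧ v ≫ f.hom.hom.hom ≫ iB' = D'.u a')
    {φ : G ⟶ G'} (hφ : Ind D D' h φ) (c : D.idx) (hc : D.base.IsPos c) :
    D.u c ≫ φ = (transport D D' h).u c := by
  classical
  have hφm := hφ.isMonHom
  have : IsMonHom f.hom.hom.hom := f.hom.hom.isMonHom_hom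
  have hu : ∀ a, IsMonHom (D.u a) := fun a => (D.rootHom a).1
  have hu' : ∀ a, IsMonHom ((transport D D' h).u a) := fun a => ((transport D D' h).rootHom a).1
  have humono : ∀ a, Mono (D.u a) := fun a => by
    have h1 : IsClosedImmersion (D.u a).left := (D.rootHom a).2.1
    have : Mono (D.u a).left := inferInstance
    exact Over.mono_of_mono_left _
  have humono' : ∀ a, Mono ((transport D D' h).u a) := fun a => by
    have h1 : IsClosedImmersion ((transport D D' h).u a).left := ((transport D D' h).rootHom a).2.1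
    have : Mono ((transport D D' h).u a).left := inferInstance
    exact Over.mono_of_mono_left _
  have hj : jOf D.toSplitRed ≫ φ = jOf (transport D D' h).toSplitRed := by
    rw [jOf, jOf, transport_j, Category.assoc, hφ.torus, ← Category.assoc,
      BorTransp991.split_inv_hom, Category.id_comp]
  have hrel : ∀ a, IsRel (jOf D.toSplitRed) (D.P.root a) (D.u a) :=
    fun a => isRel_of_isRootHom (D.rootHom a)
  have hrel' : ∀ a, IsRel (jOf (transport D D' h).toSplitRed) (D.P.root a) ((transport D D' h).u a) :=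
    fun a => isRel_of_isRootHom ((transport D D' h).rootHom a)
  have hrel3 : ∀ a, IsRel (jOf (transport D D' h).toSplitRed) (D.P.root a) (D.u a ≫ φ) := by
    intro a X t x
    have h1 := congrArg (fun z => z ≫ φ) (hrel a X t x)
    simp only [MonObj.mul_comp, GrpObj.inv_comp, Category.assoc, hj] at h1
    exact h1
  apply AffYoneda.hom_ext
  intro R s g
  rcases subsingleton_or_nontrivial R with hR | hR
  · have : IsEmpty (Spec R) := inferInstanceAs (IsEmpty (PrimeSpectrum R))
    ext1
    exact (isInitialOfIsEmpty (X := Spec R)).hom_ext _ _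
  obtain ⟨m⟩ := hmodel R s
  obtain ⟨m'⟩ := hmodel' R s
  choose r1 hr1 using fun a => exists_eq_uu m (v := D.u a) (hrel a)
  choose r2 hr2 using fun a => exists_eq_uu m' (v := (transport D D' h).u a) (hrel' a)
  choose r3 hr3 using fun a => exists_eq_uu' m' (v := D.u a ≫ φ) (hrel3 a)
  have key : (fun a => (r2 a : R) * ↑(r1 a)⁻¹) c = (fun a => r3 a * ↑(r1 a)⁻¹) c := by
    apply BorRig991.eq_of_simple m.E m'.E _ _ ?_ ?_ ?_ hc
    · intro B _ _ x y z hxyz
      refine rel_of_hom m m' (w := D.u) (w' := (transport D D' h).u) (r := r1)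
        (r' := fun a => (r2 a : R)) (fun a _ => hr1 a) (fun a _ => hr2 a) iB
        (f.hom.hom.hom ≫ iB') ?_ x y z hxyz
      intro a ha
      obtain ⟨v, hv1, hv2⟩ := hpos (h.indexEquiv.symm a) (by rwa [Equiv.apply_symm_apply])
      rw [Equiv.apply_symm_apply] at hv1
      exact ⟨v, hv1, hv2⟩
    · intro B _ _ x y z hxyz
      exact rel_of_hom m m' (w := D.u) (w' := fun a => D.u a ≫ φ) (r := r1)
        (r' := r3) (fun a _ => hr1 a) (fun a _ => hr3 a) (𝟙 G) φ
        (fun a _ => ⟨D.u a, Category.comp_id _, rfl⟩) x y z hxyz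
    · intro a ha
      have h1 : D.u a ≫ φ = (transport D D' h).u a := by
        have h2 := hφ.root (h.indexEquiv.symm a)
          ((hbase _).mpr (by rwa [Equiv.apply_symm_apply]))
        rw [Equiv.apply_symm_apply] at h2
        exact h2
      have h2 := hr3 a R 1
      rw [h1, hr2 a R 1, ← BorRig991.pos_single m'.E (b := D.base) (D.base.isPos_of_mem_support ha),
        ← BorRig991.pos_single m'.E (b := D.base) (D.base.isPos_of_mem_support ha)] at h2
      have h3 := BorRig991.pos_inj m'.E h2 (D.base.isPos_of_mem_support ha)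
      rw [Pi.single_eq_same, Pi.single_eq_same, _root_.mul_one, _root_.mul_one] at h3
      change (r2 a : R) * _ = r3 a * _
      rw [show (r2 a : R) = r3 a from h3]
  have key2 : (r2 c : R) = r3 c := by
    have h1 := congrArg (fun z => z * (r1 c : R)) key
    simpa [_root_.mul_assoc] using h1
  let e : tB s R ≅ Over.mk s := Over.isoMk (Iso.refl _) (by
    change 𝟙 _ ≫ s = Spec.map (𝟙 _) ≫ s
    rw [Spec.map_id])
  rw [← cancel_epi e.hom, ← Category.assoc, ← Category.assoc e.hom]
  obtain ⟨y, hy⟩ := exists_gaPt s (e.hom ≫ g)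
  rw [hy]
  change ga s R y ≫ D.u c ≫ φ = ga s R y ≫ (transport D D' h).u c
  rw [← pts_fam m', ← pts_fam m', hr3, hr2, key2]

/-- The existence of models (hypothesis `hmodel` of `PinFinal.main`). -/
def Models : Prop :=
  ∀ {S : Scheme.{u}} {G : Over S} [GrpObj G] (D : Red.Pinning G) (R : Type u)
    [CommRing R] (s : Spec (CommRingCat.of R) ⟶ S),
    Nonempty (PinModel D.P D.base G (jOf D.toSplitRed) D.u s)

/-- **Existence and uniqueness of the extension** for compatible pinnings. -/
theorem existsUnique_ext (hS3004 : IsoThm.{u}) (hM : Models.{u})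
    {G' B B' : Over S} [GrpObj G'] [GrpObj B] [GrpObj B']
    {iB : B ⟶ G} {iB' : B' ⟶ G'} [IsMonHom iB'] {f : Grp.mk B ≅ Grp.mk B'}
    {D : Red.Pinning G} {D' : Red.Pinning G'} {h : RootPairing.Equiv D'.P D.P}
    (hc : Compat iB iB' f D D' h) (hstd : IsStd iB D)
    (hpos : ∀ a' : D'.idx, D.base.IsPos (h.indexEquiv a') → ∃ v : Red.Ga S ⟶ B,
        v ≫ iB = D.u (h.indexEquiv a') ∧ v ≫ f.hom.hom.hom ≫ iB' = D'.u a') :
    ∃! φ : Grp.mk G ≅ Grp.mk G', iB ≫ φ.hom.hom.hom = f.hom.hom.hom ≫ iB' := by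
  have := hstd.isMonHom
  have := hstd.mono
  refine BorCompat988.existsUnique_ext hS3004 hc hstd fun φ hφ a' ha' => ?_
  have hp := (isPos_indexEquiv D.base D'.base h hc.base a').mpr ha'
  obtain ⟨v, hv1, hv2⟩ := hpos a' hp
  refine ⟨v, hv1, ?_⟩
  rw [hv2, root_comp_eq (fun R _ s => hM D R s) (fun R _ s => hM (transport D D' h) R s)
    hc.base hpos hφ _ hp]
  change _ = D'.u (h.indexEquiv.symm (h.indexEquiv a'))
  rw [Equiv.symm_apply_apply]

end Groth.Agent.Sga3B.BorEx991
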