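import Groth.Agent.Sga3B.Chart
import Groth.Agent.Sga3B.RootInj876

/-!
# Characterisation of the root homomorphisms of a pinned group scheme ([SURJ] of S2988)

`v : 𝔾_a ⟶ G` a monomorphism of groups on which the split torus acts through a character `m ≠ 0`:
then `m` is a root and, over every affine `s : Spec R ⟶ S` and every model, `v` is `u_a(r ·)` for a
unit `r`.
-/

set_option autoImplicit false
universe u

open CategoryTheory MonoidalCategory CartesianMonoidalCategory MonObj GrpObj AlgebraicGeometry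

namespace Groth.Agent.Sga3B.RootScheme876

open Cell PinMod DSPts GaPts PinFinal

section model

variable {idx M : Type} [Fintype idx] [AddCommGroup M] [Module.Free ℤ M] [Module.Finite ℤ M]
  {P : RootPairing idx ℤ M (Module.Dual ℤ M)} {b : P.Base} {S : Scheme.{u}} {G : Over S} [GrpObj G]
  {j : Red.DS S M ⟶ G} {u : idx → (Red.Ga S ⟶ G)} {R : Type u} [CommRing R]
  {s : Spec (CommRingCat.of R) ⟶ S} (m₀ : PinModel P b G j u s) (v : Red.Ga S ⟶ G)

/-- the family of points of a model given by a morphism `𝔾_a ⟶ G` -/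
noncomputable def VV (B : Type u) [CommRing B] [Algebra R B] (x : B) : Pt R m₀.A B :=
  (m₀.pts B).symm (gaPt (tB s B) (fnOf s x) ≫ v)

variable {B C : Type u} [CommRing B] [Algebra R B] [CommRing C] [Algebra R C]

@[simp] lemma pts_VV (x : B) : m₀.pts B (VV m₀ v B x) = gaPt (tB s B) (fnOf s x) ≫ v := by
  rw [VV, MulEquiv.apply_symm_apply]

lemma VV_nat (φ : B →ₐ[R] C) (x : B) : Pt.map φ (VV m₀ v B x) = VV m₀ v C (φ x) := by
  apply (m₀.pts C).injective
  rw [← m₀.pts_nat, pts_VV, pts_VV, ← Category.assoc, tMap_gaPt]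

lemma VV_add [IsMonHom v] (x y : B) : VV m₀ v B (x + y) = VV m₀ v B x * VV m₀ v B y := by
  apply (m₀.pts B).injective
  rw [map_mul, pts_VV, pts_VV, pts_VV, fnOf_add, gaPt_add, MonObj.mul_comp]

lemma VV_inj [Mono v] : Function.Injective (VV m₀ v B) := by
  intro x y h
  have h1 := congrArg (m₀.pts B) h
  rw [pts_VV, pts_VV, cancel_mono] at h1
  have h2 := congrArg Red.gaFn h1
  rw [gaFn_gaPt, gaFn_gaPt] at h2
  exact fnOf_injective s h2

/-- `j(t) v(x) j(t)⁻¹ = v(m(t) x)` on points -/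
def Equiv (j : Red.DS S M ⟶ G) (m : M) (v : Red.Ga S ⟶ G) : Prop :=
  ∀ (X : Over S) (t : X ⟶ Red.DS S M) (x : X ⟶ Red.Ga S), ∃ y : X ⟶ Red.Ga S,
    y ≫ v = (t ≫ j) * (x ≫ v) * (t ≫ j)⁻¹ ∧
      Red.gaFn y = Red.gmFn (t ≫ Red.chi S m) * Red.gaFn x

variable {v}

lemma VV_rel {m : M} (hv : Equiv j m v) (t : TPt M B) (x : B) :
    m₀.E.i B t * VV m₀ v B x * (m₀.E.i B t)⁻¹ = VV m₀ v B (TPt.ch m t * x) := by
  obtain ⟨y, hy1, hy2⟩ := hv (tB s B) (dsEquiv (tB s B) M (chΓ s t)) (gaPt (tB s B) (fnOf s x))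
  rw [gmFn_chi, dsChar_dsEquiv, gaFn_gaPt] at hy2
  have h5 : y = gaPt (tB s B) (fnOf s (TPt.ch m t * x)) := by
    apply gaFn_injective
    rw [hy2, gaFn_gaPt, fnOf_mul]
    rfl
  apply (m₀.pts B).injective
  rw [map_mul, map_mul, map_inv, pts_VV, pts_VV, m₀.pts_i]
  rw [h5] at hy1
  rw [hy1]

/-- **Characterisation of root homomorphisms**, model version. -/
theorem exists_eq_uu [Nontrivial R] [IsMonHom v] [Mono v] {m : M} (hm : m ≠ 0)
    (hv : Equiv j m v) :
    ∃ (a : idx) (r : Rˣ), P.root a = m ∧ ∀ (B : Type u) [CommRing B] [Algebra R B] (x : B),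
      m₀.pts B (m₀.E.uu a B (algebraMap R B r * x)) = gaPt (tB s B) (fnOf s x) ≫ v := by
  obtain ⟨a, r, ha, h⟩ := RootInj876.exists_eq_uu m₀.E hm (fun B _ _ x => VV m₀ v B x)
    (fun φ x => VV_nat m₀ v φ x) (fun x y => VV_add m₀ v x y) (fun t x => VV_rel m₀ hv t x)
    (fun B _ _ => VV_inj m₀ v)
  refine ⟨a, r, ha, fun B _ _ x => ?_⟩
  rw [← h B x, pts_VV]

/-- version with a given root and without `Nontrivial R` -/
theorem exists_unit_of_root [IsMonHom v] [Mono v] (a : idx) (hv : Equiv j (P.root a) v) :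
    ∃ r : Rˣ, ∀ (B : Type u) [CommRing B] [Algebra R B] (x : B),
      m₀.pts B (m₀.E.uu a B (algebraMap R B r * x)) = gaPt (tB s B) (fnOf s x) ≫ v := by
  rcases subsingleton_or_nontrivial R with hR | hR
  · refine ⟨1, fun B _ _ x => ?_⟩
    have hB : Subsingleton B := by
      have h1 : (1 : B) = 0 := by
        rw [← map_one (algebraMap R B), Subsingleton.elim (1 : R) 0, map_zero]
      exact subsingleton_of_zero_eq_one h1.symm
    have hP : Subsingleton (Pt R m₀.A B) := ⟨fun f g => Pt.ext fun z => Subsingleton.elim _ _⟩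
    rw [← pts_VV m₀ v x]
    exact congrArg _ (Subsingleton.elim _ _)
  · obtain ⟨a', r, ha', h⟩ := exists_eq_uu m₀ (P.ne_zero a) hv
    obtain rfl := P.root.injective ha'
    exact ⟨r, h⟩

end model

section pinning

variable {S : Scheme.{u}} {G : Over S} [GrpObj G]

/-- root homomorphisms in the sense of `Red` are equivariant for the split torus -/
theorem equiv_of_isRootHom (D : Red.SplitRed G) {m : D.M} {v : Red.Ga S ⟶ G}
    (hv : Red.IsRootHom D.i (D.split.hom.hom.hom ≫ Red.chi S m) v) : Equiv (jOf D) m v := by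
  intro X t x
  obtain ⟨y, hy1, hy2⟩ := hv.2.2 X (t ≫ D.split.inv.hom.hom) x
  have h4 : D.split.inv.hom.hom ≫ D.split.hom.hom.hom = 𝟙 _ := by
    have := congrArg (fun z => z.hom.hom) D.split.inv_hom_id
    exact this
  have h3 : (t ≫ D.split.inv.hom.hom) ≫ D.split.hom.hom.hom ≫ Red.chi S m = t ≫ Red.chi S m := by
    rw [Category.assoc, ← Category.assoc D.split.inv.hom.hom, h4, Category.id_comp]
  rw [h3] at hy2
  refine ⟨y, ?_, hy2⟩
  rw [hy1]
  simp only [jOf, Category.assoc]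

theorem isMonHom_of_isRootHom (D : Red.SplitRed G) {α : D.T ⟶ Red.Gm S} {v : Red.Ga S ⟶ G}
    (hv : Red.IsRootHom D.i α v) : IsMonHom v := hv.1

theorem mono_of_isRootHom (D : Red.SplitRed G) {α : D.T ⟶ Red.Gm S} {v : Red.Ga S ⟶ G}
    (hv : Red.IsRootHom D.i α v) : Mono v := by
  have := hv.2.1
  have : Mono v.left := inferInstance
  exact Over.mono_of_mono_left v

/-- **(i)** the character of a root homomorphism is a root. -/
theorem exists_root [Nonempty S] (D : Red.Pinning G)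
    (hmodel : ∀ (R : Type u) [CommRing R] (s : Spec (CommRingCat.of R) ⟶ S),
      Nonempty (PinModel D.P D.base G (jOf D.toSplitRed) D.u s))
    {m : D.M} (hm : m ≠ 0) {v : Red.Ga S ⟶ G}
    (hv : Red.IsRootHom D.i (D.split.hom.hom.hom ≫ Red.chi S m) v) : ∃ a, D.P.root a = m := by
  have h1 := isMonHom_of_isRootHom D.toSplitRed hv
  have h2 := mono_of_isRootHom D.toSplitRed hv
  obtain ⟨x⟩ := ‹Nonempty S›
  obtain ⟨m₀⟩ := hmodel (S.residueField x) (S.fromSpecResidueField x)
  obtain ⟨a, -, ha, -⟩ := exists_eq_uu m₀ hm (equiv_of_isRootHom D.toSplitRed hv)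
  exact ⟨a, ha⟩

/-- **(ii)** a root homomorphism with the character of the root `a` is `u_a(r ·)` on every model. -/
theorem exists_unit (D : Red.Pinning G) {a : D.idx} {v : Red.Ga S ⟶ G}
    (hv : Red.IsRootHom D.i (D.split.hom.hom.hom ≫ Red.chi S (D.P.root a)) v)
    {R : Type u} [CommRing R] {s : Spec (CommRingCat.of R) ⟶ S}
    (m₀ : PinModel D.P D.base G (jOf D.toSplitRed) D.u s) :
    ∃ r : Rˣ, ∀ (B : Type u) [CommRing B] [Algebra R B] (x : B),
      m₀.pts B (m₀.E.uu a B (algebraMap R B r * x)) = gaPt (tB s B) (fnOf s x) ≫ v := by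
  have h1 := isMonHom_of_isRootHom D.toSplitRed hv
  have h2 := mono_of_isRootHom D.toSplitRed hv
  exact exists_unit_of_root m₀ a (equiv_of_isRootHom D.toSplitRed hv)

/-- both statements together -/
theorem main [Nonempty S] (D : Red.Pinning G)
    (hmodel : ∀ (R : Type u) [CommRing R] (s : Spec (CommRingCat.of R) ⟶ S),
      Nonempty (PinModel D.P D.base G (jOf D.toSplitRed) D.u s))
    {m : D.M} (hm : m ≠ 0) {v : Red.Ga S ⟶ G}
    (hv : Red.IsRootHom D.i (D.split.hom.hom.hom ≫ Red.chi S m) v) :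
    ∃ a, D.P.root a = m ∧ ∀ {R : Type u} [CommRing R] {s : Spec (CommRingCat.of R) ⟶ S}
      (m₀ : PinModel D.P D.base G (jOf D.toSplitRed) D.u s),
      ∃ r : Rˣ, ∀ (B : Type u) [CommRing B] [Algebra R B] (x : B),
        m₀.pts B (m₀.E.uu a B (algebraMap R B r * x)) = gaPt (tB s B) (fnOf s x) ≫ v := by
  obtain ⟨a, rfl⟩ := exists_root D hmodel hm hv
  exact ⟨a, rfl, fun m₀ => exists_unit D hv m₀⟩

end pinning

end Groth.Agent.Sga3B.RootScheme876
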