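import Groth.Agent.Sga3B.PinModelOf
import Groth.Agent.Sga3B.RootScheme876

/-!
# The characters of root homomorphisms of a split reductive group are roots ((iii) of [SURJ], S2988)
-/

set_option autoImplicit false
universe u

open CategoryTheory MonoidalCategory CartesianMonoidalCategory MonObj GrpObj AlgebraicGeometry

namespace Groth.Agent.Sga3B.RootSplit876

open Cell PinMod DSPts GaPts PinFinal Polynomial

section datum

variable {R A : Type u} [CommRing R] [CommRing A] [Algebra R A] [PtGrp R A] {D : Datum R A}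
variable {L : List D.idx} {δ : D.CR}

/-- The weight of an injective homogeneous family is a root (no reducedness needed). -/
theorem exists_root_of_injective [Nontrivial R] (hδ : D.EtOn L δ) (hδ0 : D.ev0 δ = 1)
    {m : D.M} (hm : m ≠ 0)
    (V : ∀ (B : Type u) [CommRing B] [Algebra R B], B → Pt R A B)
    (V_nat : ∀ {B C : Type u} [CommRing B] [Algebra R B] [CommRing C] [Algebra R C]
      (φ : B →ₐ[R] C) (x : B), Pt.map φ (V B x) = V C (φ x))
    (V_zero : ∀ (B : Type u) [CommRing B] [Algebra R B], V B 0 = 1)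
    (V_rel : ∀ {B : Type u} [CommRing B] [Algebra R B] (t : TPt D.M B) (x : B),
      D.i B t * V B x * (D.i B t)⁻¹ = V B (TPt.ch m t * x))
    (V_inj : ∀ (B : Type u) [CommRing B] [Algebra R B], Function.Injective (V B)) :
    ∃ a : D.idx, D.root a = m := by
  classical
  let F : D.Fam Unit (fun _ => m) :=
    { v := fun B _ _ x => V B (x ())
      nat := fun φ x => V_nat φ _
      zero := fun B _ _ => V_zero B
      rel := fun t x => V_rel t _ }
  obtain ⟨lam, n, hn, hlam⟩ := PinComb.exists_functional_of_linearIndependent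
    (fun _ : Unit => m) (by
      rw [linearIndependent_unique_iff]
      exact hm) (fun _ => 1)
  obtain ⟨y, hy0, hy, hv⟩ := F.exists_eq hδ hδ0 lam (fun s => by rw [hlam ()]; simpa using hn)
  by_contra hne
  push Not at hne
  -- all monomials have degree at least two
  have key : ∀ (b : D.idx) (k : Unit →₀ ℕ), MvPolynomial.coeff k (y b) ≠ 0 → 2 ≤ k () := by
    intro b k hk
    have h1 := hy b k hk
    have h2 : (k.sum fun _ e => e • m) = k () • m := by
      rw [Finsupp.sum_fintype _ _ (by simp)]
      simp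
    rw [h2] at h1
    by_contra hlt
    have h3 : k () = 0 ∨ k () = 1 := by omega
    rcases h3 with h3 | h3
    · rw [h3, zero_smul] at h1
      exact D.root_ne b h1.symm
    · rw [h3, one_smul] at h1
      exact hne b h1.symm
  let B : Type u := AdjoinRoot (X ^ 2 : R[X])
  have h2 : (AdjoinRoot.root (X ^ 2 : R[X])) ^ 2 = 0 := by
    rw [AdjoinRoot.root, ← map_pow, AdjoinRoot.mk_self]
  have hz : ∀ (e : B), e ^ 2 = 0 → V B e = 1 := by
    intro e he
    have h3 := hv B (fun _ => e)
    change V B e = _ at h3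
    rw [h3]
    have h4 : (fun b => MvPolynomial.aeval (fun _ : Unit => e) (y b)) = fun _ => (0 : B) := by
      funext b
      rw [MvPolynomial.aeval_def, MvPolynomial.eval₂_eq]
      apply Finset.sum_eq_zero
      intro k hk
      have h5 := key b k (MvPolynomial.mem_support_iff.mp hk)
      have h6 : ∏ i ∈ k.support, e ^ k i = 0 := by
        have hmem : () ∈ k.support := by
          rw [Finsupp.mem_support_iff]; omega
        apply Finset.prod_eq_zero hmem
        obtain ⟨q, hq⟩ := Nat.exists_eq_add_of_le h5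
        rw [hq, pow_add, he, zero_mul]
      rw [h6, mul_zero]
    rw [h4, D.cell_zero, map_one]
  have h4 := V_inj B ((hz _ h2).trans (hz 0 (by simp)).symm)
  rw [AdjoinRoot.root, AdjoinRoot.mk_eq_zero] at h4
  have h5 := Polynomial.X_pow_dvd_iff.mp h4 1 (by norm_num)
  rw [Polynomial.coeff_X_one] at h5
  exact one_ne_zero h5

end datum

variable {S : Scheme.{u}} {G : Over S} [GrpObj G]

/-- the family of points of a chart given by a morphism `𝔾_a ⟶ G` -/
noncomputable def WW {R : Type u} [CommRing R] {s : Spec (CommRingCat.of R) ⟶ S} (c : Chart G s)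
    (v : Red.Ga S ⟶ G) (B : Type u) [CommRing B] [Algebra R B] (x : B) : Pt R c.A B :=
  (c.pts B).symm (gaPt (tB s B) (fnOf s x) ≫ v)

section

variable {R : Type u} [CommRing R] {s : Spec (CommRingCat.of R) ⟶ S} (c : Chart G s)
  {B : Type u} [CommRing B] [Algebra R B]

@[simp] lemma pts_WW (v : Red.Ga S ⟶ G) (x : B) :
    c.pts B (WW c v B x) = gaPt (tB s B) (fnOf s x) ≫ v := by
  rw [WW, MulEquiv.apply_symm_apply]

lemma WW_nat {C : Type u} [CommRing C] [Algebra R C] (v : Red.Ga S ⟶ G) (φ : B →ₐ[R] C) (x : B) :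
    Pt.map φ (WW c v B x) = WW c v C (φ x) := by
  apply (c.pts C).injective
  rw [← c.pts_nat, pts_WW, pts_WW, ← Category.assoc, tMap_gaPt]

lemma WW_zero (v : Red.Ga S ⟶ G) [IsMonHom v] : WW c v B 0 = 1 := by
  have h3 : WW c v B (0 + 0) = WW c v B 0 * WW c v B 0 := by
    apply (c.pts B).injective
    rw [map_mul, pts_WW, pts_WW, fnOf_add, gaPt_add, MonObj.mul_comp]
  rw [add_zero] at h3
  exact mul_eq_left.mp h3.symm

lemma WW_rel (D : Red.SplitRed G) {m : D.M} {v : Red.Ga S ⟶ G}
    (hv : Red.IsRootHom D.i (D.split.hom.hom.hom ≫ Red.chi S m) v) (t : TPt D.M B) (x : B) :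
    c.iPt D B t * WW c v B x * (c.iPt D B t)⁻¹ = WW c v B (TPt.ch m t * x) := by
  obtain ⟨y, hy1, hy2⟩ := RootScheme876.equiv_of_isRootHom D hv (tB s B)
    (dsEquiv (tB s B) D.M (chΓ s t)) (gaPt (tB s B) (fnOf s x))
  rw [gmFn_chi, dsChar_dsEquiv, gaFn_gaPt] at hy2
  have h5 : y = gaPt (tB s B) (fnOf s (TPt.ch m t * x)) := by
    apply gaFn_injective
    rw [hy2, gaFn_gaPt, fnOf_mul]
    rfl
  apply (c.pts B).injective
  rw [map_mul, map_mul, map_inv, pts_WW, pts_WW, c.pts_iPt D]
  rw [h5] at hy1
  exact hy1.symm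

lemma WW_inj (v : Red.Ga S ⟶ G) [Mono v] : Function.Injective (WW c v B) := by
  intro x y h
  have h3 := congrArg (c.pts B) h
  rw [pts_WW, pts_WW, cancel_mono] at h3
  have h4 := congrArg Red.gaFn h3
  rw [gaFn_gaPt, gaFn_gaPt] at h4
  exact fnOf_injective s h4

end

/-- the character of a root homomorphism is a root, given a chart over a nontrivial ring -/
theorem exists_root_of_chart (D : Red.SplitRed G) {m : D.M} (hm : m ≠ 0) {v : Red.Ga S ⟶ G}
    (hv : Red.IsRootHom D.i (D.split.hom.hom.hom ≫ Red.chi S m) v)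
    {R : Type u} [CommRing R] [Nontrivial R] {s : Spec (CommRingCat.of R) ⟶ S} (c : Chart G s) :
    ∃ a, D.P.root a = m := by
  have h1 : IsMonHom v := hv.1
  have h2 := RootScheme876.mono_of_isRootHom D hv
  obtain ⟨δ, hδ, hδ0⟩ := PinModelOf.good D c
    ((Finset.univ : Finset (c.datum D).idx).toList) (Finset.nodup_toList _) (by simp)
  exact exists_root_of_injective (D := c.datum D) hδ hδ0 (m := m) hm
    (fun B _ _ x => WW c v B x) (fun φ x => WW_nat c v φ x) (fun B _ _ => WW_zero c v)
    (fun t x => WW_rel c D hv t x) (fun B _ _ => WW_inj c v)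

/-- **(iii)** the character of a root homomorphism of a split reductive group is a root. -/
theorem exists_root [Nonempty S] (D : Red.SplitRed G) {m : D.M} (hm : m ≠ 0) {v : Red.Ga S ⟶ G}
    (hv : Red.IsRootHom D.i (D.split.hom.hom.hom ≫ Red.chi S m) v) : ∃ a, D.P.root a = m := by
  obtain ⟨σ⟩ := ‹Nonempty S›
  have h1 : IsAffineHom G.hom := D.reductive.1
  exact exists_root_of_chart D hm hv (stdChart G (S.fromSpecResidueField σ))

end Groth.Agent.Sga3B.RootSplit876
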