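import Groth.Agent.Sga3B.Parab.Dyn998
import Groth.Agent.Sga3B.GaPts

/-!
# Root groups in the dynamic parabolic of a split reductive group

`D` a splitting of `G`, `mu : M →+ ℤ` a cocharacter, `λ = i ∘ split⁻¹ ∘ D(mu) : 𝔾_m ⟶ G`.  The orbit of
`u_a(x)` is `u_a(T^{mu a} x)`, so `u_a` lands in `P_G(λ)` if `mu a ≥ 0` and in `U_G(λ)` if `mu a > 0`.
If `Z_G(λ) = T` then `mu a ≠ 0` for all roots `a`.
-/

set_option autoImplicit false

universe u

open CategoryTheory MonoidalCategory CartesianMonoidalCategory MonObj GrpObj AlgebraicGeometry Limits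
open scoped LaurentPolynomial Polynomial
open Groth.Agent.Sga3B.Parab Groth.Agent.Sga3B.Parab.Dyn998
open Groth.Agent.Sga3B.DSPts Groth.Agent.Sga3B.GaPts

namespace Groth.Agent.Sga3B.BorRP478

variable {S : Scheme.{u}} {G : Over S} [GrpObj G] (D : Red.SplitRed G) (mu : D.M →+ ℤ)

/-- The cocharacter of `G` attached to `mu`. -/
noncomputable abbrev coch : Red.Gm S ⟶ G := Red.DSmap S mu ≫ D.split.inv.hom.hom ≫ D.i

lemma coch_eq : coch D mu = Red.DSmap S mu ≫ D.split.inv.hom.hom ≫ D.i := rfl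

lemma split_inv_hom : D.split.inv.hom.hom ≫ D.split.hom.hom.hom = 𝟙 _ :=
  congrArg (fun f => f.hom.hom) D.split.inv_hom_id

lemma split_hom_inv : D.split.hom.hom.hom ≫ D.split.inv.hom.hom = 𝟙 _ :=
  congrArg (fun f => f.hom.hom) D.split.hom_inv_id

/-- `i(t) u_a(x) i(t)⁻¹ = u_a(χ_a(t) x)` for `t` a point of the diagonalizable group. -/
lemma conj_u {X : Over S} (t : X ⟶ Red.DS S D.M) (x : X ⟶ Red.Ga S) (a : D.idx) :
    (t ≫ D.split.inv.hom.hom ≫ D.i) * (x ≫ D.u a) * (t ≫ D.split.inv.hom.hom ≫ D.i)⁻¹ =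
      gaPt X (dsChar t (Multiplicative.ofAdd (D.P.root a)) * Red.gaFn x) ≫ D.u a := by
  obtain ⟨y, hy, hy2⟩ := (D.rootHom a).2.2 X (t ≫ D.split.inv.hom.hom) x
  have h1 : (t ≫ D.split.inv.hom.hom) ≫ D.split.hom.hom.hom ≫ Red.chi S (D.P.root a) =
      t ≫ Red.chi S (D.P.root a) := by
    rw [Category.assoc, ← Category.assoc D.split.inv.hom.hom, split_inv_hom, Category.id_comp]
  rw [h1, gmFn_chi] at hy2
  rw [← hy2, gaPt_gaFn, hy]
  simp only [Category.assoc]

lemma coch_conj {X : Over S} (t : X ⟶ Red.Gm S) (x : X ⟶ Red.Ga S) (a : D.idx) :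
    (t ≫ coch D mu) * (x ≫ D.u a) * (t ≫ coch D mu)⁻¹ =
      gaPt X (dsChar t (Multiplicative.ofAdd (mu (D.P.root a))) * Red.gaFn x) ≫ D.u a := by
  have h := conj_u D (t ≫ Red.DSmap S mu) x a
  rw [dsChar_DSmap] at h
  rw [coch_eq]
  simp only [Category.assoc] at h
  exact h

section Orb

variable {C : Type u} [CommRing C] {c : Spec (CommRingCat.of C) ⟶ S}

lemma orb_u (x : aff C c ⟶ Red.Ga S) (a : D.idx) :
    orb (coch D mu) (x ≫ D.u a) =
      gaPt (gmo C c) (tChar C c (Multiplicative.ofAdd (mu (D.P.root a))) *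
        (gmPr C c).left.appTop (Red.gaFn x)) ≫ D.u a := by
  rw [orb, ← Category.assoc (gmPr C c), coch_conj, gaFn_comp]
  congr 3
  rw [tPt, dsChar_dsEquiv]

/-- The function `Xⁿ` on `Spec C[X]`. -/
noncomputable def xPow (c : Spec (CommRingCat.of C) ⟶ S) (n : ℕ) : Γ((lin C c).left, ⊤) :=
  (Scheme.ΓSpecIso (CommRingCat.of C[X])).inv (Polynomial.X ^ n)

lemma toLin_xPow (n : ℕ) : (toLin C c).left.appTop (xPow c n) =
    tChar C c (Multiplicative.ofAdd (n : ℤ)) := by
  have h := Scheme.ΓSpecIso_inv_naturality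
    (CommRingCat.ofHom (Polynomial.toLaurentAlg (R := C)).toRingHom)
  have h2 := congrArg (fun f => f.hom (Polynomial.X ^ n : C[X])) h
  refine h2.symm.trans ?_
  change (Scheme.ΓSpecIso (CommRingCat.of C[T;T⁻¹])).inv.hom
    (Polynomial.toLaurent (Polynomial.X ^ n : C[X])) = _
  rw [Polynomial.toLaurent_X_pow]
  rfl

lemma zeroSec_xPow (n : ℕ) (hn : n ≠ 0) : (zeroSec C c).left.appTop (xPow c n) = 0 := by
  have h := Scheme.ΓSpecIso_inv_naturality
    (CommRingCat.ofHom (Polynomial.aeval (R := C) (0 : C)).toRingHom)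
  have h2 := congrArg (fun f => f.hom (Polynomial.X ^ n : C[X])) h
  refine h2.symm.trans ?_
  change (Scheme.ΓSpecIso (CommRingCat.of C)).inv.hom
    (Polynomial.aeval (R := C) (0 : C) (Polynomial.X ^ n : C[X])) = _
  rw [map_pow, Polynomial.aeval_X, zero_pow hn, map_zero]

/-- The candidate limit of the orbit. -/
noncomputable def limPt (x : aff C c ⟶ Red.Ga S) (a : D.idx) (n : ℕ) : lin C c ⟶ G :=
  gaPt (lin C c) (xPow c n * (linPr C c).left.appTop (Red.gaFn x)) ≫ D.u a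

lemma toLin_limPt (x : aff C c ⟶ Red.Ga S) (a : D.idx) (n : ℕ) (hn : (n : ℤ) = mu (D.P.root a)) :
    toLin C c ≫ limPt D x a n = orb (coch D mu) (x ≫ D.u a) := by
  rw [limPt, ← Category.assoc, comp_gaPt, orb_u, ← hn, map_mul, toLin_xPow]
  congr 3
  have h : (gmPr C c).left = (toLin C c).left ≫ (linPr C c).left := by
    rw [← Over.comp_left, toLin_linPr]
  rw [h, Scheme.Hom.comp_appTop]
  rfl

lemma limEx_u (x : aff C c ⟶ Red.Ga S) (a : D.idx) (h : 0 ≤ mu (D.P.root a)) :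
    LimEx (coch D mu) (x ≫ D.u a) :=
  ⟨limPt D x a (mu (D.P.root a)).toNat, toLin_limPt D mu x a _ (Int.toNat_of_nonneg h)⟩

lemma limOne_u (x : aff C c ⟶ Red.Ga S) (a : D.idx) (h : 0 < mu (D.P.root a)) :
    LimOne (coch D mu) (x ≫ D.u a) := by
  refine ⟨limPt D x a (mu (D.P.root a)).toNat, toLin_limPt D mu x a _ (Int.toNat_of_nonneg h.le), ?_⟩
  have h0 : (mu (D.P.root a)).toNat ≠ 0 := by omega
  have hu : IsMonHom (D.u a) := (D.rootHom a).1
  rw [limPt, ← Category.assoc, comp_gaPt, map_mul, zeroSec_xPow _ h0, zero_mul]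
  have h1 : gaPt (aff C c) 0 = 1 := by
    apply gaFn_injective
    rw [gaFn_gaPt, gaFn_one]
  rw [h1, MonObj.one_comp]

end Orb

/-- Root groups of non-negative weight lie in `P_G(λ)`. -/
theorem ptP_u {X : Over S} (x : X ⟶ Red.Ga S) (a : D.idx) (h : 0 ≤ mu (D.P.root a)) :
    PtP (coch D mu) (x ≫ D.u a) := by
  intro C _ c y
  have := limEx_u D mu (y ≫ x) a h
  rwa [Category.assoc] at this

/-- Root groups of positive weight lie in `U_G(λ)`. -/
theorem ptU_u {X : Over S} (x : X ⟶ Red.Ga S) (a : D.idx) (h : 0 < mu (D.P.root a)) :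
    PtU (coch D mu) (x ≫ D.u a) := by
  intro C _ c y
  have := limOne_u D mu (y ≫ x) a h
  rwa [Category.assoc] at this

theorem exists_lift_P {B : Over S} [GrpObj B] {iB : B ⟶ G} (hB : IsDynP (coch D mu) iB) (a : D.idx)
    (h : 0 ≤ mu (D.P.root a)) : ∃ v : Red.Ga S ⟶ B, v ≫ iB = D.u a := by
  refine (hB.iff_ptP _ _).2 ?_
  have := ptP_u D mu (𝟙 (Red.Ga S)) a h
  rwa [Category.id_comp] at this

theorem exists_lift_U {B : Over S} [GrpObj B] {iB : B ⟶ G} (hB : IsDynU (coch D mu) iB) (a : D.idx)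
    (h : 0 < mu (D.P.root a)) : ∃ v : Red.Ga S ⟶ B, v ≫ iB = D.u a := by
  refine (hB.iff_ptU _ _).2 ?_
  have := ptU_u D mu (𝟙 (Red.Ga S)) a h
  rwa [Category.id_comp] at this

/-- The universal point of `D_S(M)` over a point `s` of `S`. -/
noncomputable def univChar (s : S) (M : Type) [AddCommGroup M] : Multiplicative M →*
    Γ((Over.mk (Spec.map (CommRingCat.ofHom (algebraMap (S.residueField s)
      (MonoidAlgebra (S.residueField s) (Multiplicative M)))) ≫ S.fromSpecResidueField s)).left, ⊤) :=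
  (RingHom.toMonoidHom (Scheme.ΓSpecIso (CommRingCat.of
    (MonoidAlgebra (S.residueField s) (Multiplicative M)))).inv.hom).comp
      (MonoidAlgebra.of (S.residueField s) (Multiplicative M))

lemma univChar_injective (s : S) (M : Type) [AddCommGroup M] :
    Function.Injective (univChar s M) := by
  intro x y h
  have h1 : Function.Injective (Scheme.ΓSpecIso (CommRingCat.of
      (MonoidAlgebra (S.residueField s) (Multiplicative M)))).inv.hom :=
    (ConcreteCategory.bijective_of_isIso (Scheme.ΓSpecIso (CommRingCat.of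
      (MonoidAlgebra (S.residueField s) (Multiplicative M)))).inv).1
  exact MonoidAlgebra.of_injective (h1 h)

lemma comm_of_retract {T H : Over S} [GrpObj T] [GrpObj H] (e : T ⟶ H) [IsMonHom e] (e' : H ⟶ T)
    (he : e ≫ e' = 𝟙 _) {X : Over S} (hH : ∀ x y : X ⟶ H, x * y = y * x) (t t' : X ⟶ T) :
    t * t' = t' * t := by
  have h2 : ∀ t : X ⟶ T, (t ≫ e) ≫ e' = t := fun t => by
    rw [Category.assoc, he, Category.comp_id]
  rw [← h2 (t * t'), ← h2 (t' * t)]
  congr 1
  rw [MonObj.mul_comp, MonObj.mul_comp, hH]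

lemma ds_comm {M : Type} [AddCommGroup M] {X : Over S} (x y : X ⟶ Red.DS S M) : x * y = y * x := by
  rw [← dsEquiv_dsChar x, ← dsEquiv_dsChar y, ← map_mul, ← map_mul, mul_comm]

/-- The torus is commutative. -/
lemma torus_comm {X : Over S} (t t' : X ⟶ D.T) : t * t' = t' * t :=
  have : IsMonHom D.split.hom.hom.hom := D.split.hom.hom.isMonHom_hom
  comm_of_retract (H := Red.DS S D.M) D.split.hom.hom.hom D.split.inv.hom.hom (split_hom_inv D)
    (fun x y => ds_comm x y) t t'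

/-- If `Z_G(λ) = T` then no root is killed by `mu`. -/
theorem mu_ne_zero [Nonempty S] (hT : Red.IsCentralizerOf (coch D mu) D.i) (a : D.idx) :
    mu (D.P.root a) ≠ 0 := by
  intro h0
  obtain ⟨hm, hmono, hcent⟩ := hT
  have hu : IsMonHom (D.u a) := (D.rootHom a).1
  have hu2 : IsClosedImmersion (D.u a).left := (D.rootHom a).2.1
  have hu3 : Mono (D.u a) := by
    have : Mono (D.u a).left := inferInstance
    exact Over.mono_of_mono_left _
  -- `u_a` commutes with `λ`
  obtain ⟨z, hz⟩ : ∃ z : Red.Ga S ⟶ D.T, z ≫ D.i = D.u a := by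
    refine (hcent _ _).2 fun X x h => ?_
    have := coch_conj D mu h x a
    rw [h0, ofAdd_zero, map_one, _root_.one_mul, gaPt_gaFn] at this
    rw [← this]
    nth_rewrite 1 [← this]
    group
  obtain ⟨s⟩ := ‹Nonempty S›
  let X : Over S := Over.mk (Spec.map (CommRingCat.ofHom (algebraMap (S.residueField s)
      (MonoidAlgebra (S.residueField s) (Multiplicative D.M)))) ≫ S.fromSpecResidueField s)
  let t : X ⟶ Red.DS S D.M := dsEquiv X D.M (univChar s D.M)
  let x : X ⟶ Red.Ga S := gaPt X 1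
  have h1 := conj_u D t x a
  have h2 : (t ≫ D.split.inv.hom.hom ≫ D.i) * (x ≫ D.u a) * (t ≫ D.split.inv.hom.hom ≫ D.i)⁻¹ =
      x ≫ D.u a := by
    have h3 : (t ≫ D.split.inv.hom.hom ≫ D.i) * (x ≫ D.u a) =
        (x ≫ D.u a) * (t ≫ D.split.inv.hom.hom ≫ D.i) := by
      rw [← hz, ← Category.assoc x, ← Category.assoc t, ← MonObj.mul_comp, ← MonObj.mul_comp,
        torus_comm]
    rw [h3]
    group
  rw [h2] at h1
  have h4 := (cancel_mono (D.u a)).1 h1
  have h5 := congrArg Red.gaFn h4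
  rw [gaFn_gaPt, gaFn_gaPt, _root_.mul_one] at h5
  rw [dsChar_dsEquiv, ← map_one (univChar s D.M)] at h5
  have h6 := univChar_injective s D.M h5
  exact D.P.ne_zero a h6.symm

end Groth.Agent.Sga3B.BorRP478
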