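import Mathlib.Algebra.MvPolynomial.Eval
import Mathlib.Algebra.MvPolynomial.Variables
import Mathlib.Algebra.Polynomial.Laurent
import Mathlib.Data.Finsupp.Weight
import Mathlib.Algebra.MvPolynomial.CommRing
import Mathlib.Tactic.LinearCombination

/-!
# Two lemmas on polynomials

* `dep`: a weighted homogeneous polynomial `Z(x, y)` of weight `w c` with `Z(x, 0) = x_c`,
  `Z(0, y) = y_c` is `x_c + y_c` plus a polynomial in the variables of smaller weight.
* `laurent_eq_zero`.
-/

set_option autoImplicit false
universe u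

namespace Groth.Agent.Sga3B.BorPoly991

section dep

open MvPolynomial

variable {J : Type} {R : Type u} [CommRing R]

/-- the truncation of a family -/
noncomputable def tau {B : Type*} [Zero B] (w : J → ℕ) (n : ℕ) (x : J → B) : J → B := by
  classical exact fun j => if w j < n then x j else 0

lemma tau_of_lt {B : Type*} [Zero B] {w : J → ℕ} {n : ℕ} (x : J → B) {j : J} (h : w j < n) :
    tau w n x j = x j := by simp [tau, h]

lemma tau_of_not_lt {B : Type*} [Zero B] {w : J → ℕ} {n : ℕ} (x : J → B) {j : J} (h : ¬ w j < n) :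
    tau w n x j = 0 := by simp [tau, h]

/-- coefficients at monomials without `inr`-variables are unchanged by `y ↦ 0` -/
lemma coeff_of_inl (Z : MvPolynomial (J ⊕ J) R) (m : (J ⊕ J) →₀ ℕ) (hm : ∀ j, m (Sum.inr j) = 0) :
    coeff m (aeval (Sum.elim (fun j => X (Sum.inl j)) (fun _ => (0 : MvPolynomial (J ⊕ J) R))) Z) =
      coeff m Z := by
  classical
  induction Z using MvPolynomial.induction_on' with
  | add p q hp hq => rw [map_add, coeff_add, coeff_add, hp, hq]
  | monomial m' r =>
    rw [aeval_monomial]
    by_cases h : ∀ j, m' (Sum.inr j) = 0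
    · congr 1
      rw [monomial_eq, algebraMap_eq]
      congr 1
      apply Finsupp.prod_congr
      rintro (j | j) hj
      · rfl
      · exact absurd (h j) (Finsupp.mem_support_iff.mp hj)
    · push Not at h
      obtain ⟨j, hj⟩ := h
      have h1 : (m'.prod fun i k => (Sum.elim (fun j => X (Sum.inl j))
          (fun _ => (0 : MvPolynomial (J ⊕ J) R)) i) ^ k) = 0 := by
        apply Finset.prod_eq_zero (Finsupp.mem_support_iff.mpr hj)
        simp [hj]
      rw [h1, mul_zero, coeff_zero, coeff_monomial, if_neg]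
      rintro rfl
      exact hj (hm j)

/-- coefficients at monomials without `inl`-variables are unchanged by `x ↦ 0` -/
lemma coeff_of_inr (Z : MvPolynomial (J ⊕ J) R) (m : (J ⊕ J) →₀ ℕ) (hm : ∀ j, m (Sum.inl j) = 0) :
    coeff m (aeval (Sum.elim (fun _ => (0 : MvPolynomial (J ⊕ J) R)) (fun j => X (Sum.inr j))) Z) =
      coeff m Z := by
  classical
  induction Z using MvPolynomial.induction_on' with
  | add p q hp hq => rw [map_add, coeff_add, coeff_add, hp, hq]
  | monomial m' r =>
    rw [aeval_monomial]
    by_cases h : ∀ j, m' (Sum.inl j) = 0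
    · congr 1
      rw [monomial_eq, algebraMap_eq]
      congr 1
      apply Finsupp.prod_congr
      rintro (j | j) hj
      · exact absurd (h j) (Finsupp.mem_support_iff.mp hj)
      · rfl
    · push Not at h
      obtain ⟨j, hj⟩ := h
      have h1 : (m'.prod fun i k => (Sum.elim (fun _ => (0 : MvPolynomial (J ⊕ J) R))
          (fun j => X (Sum.inr j)) i) ^ k) = 0 := by
        apply Finset.prod_eq_zero (Finsupp.mem_support_iff.mpr hj)
        simp [hj]
      rw [h1, mul_zero, coeff_zero, coeff_monomial, if_neg]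
      rintro rfl
      exact hj (hm j)

/-- scaling the variables by powers of `T` multiplies the coefficient at `m` by `T` to the weight -/
lemma coeff_scale {σ : Type} (w : σ → ℕ) (p : MvPolynomial σ R) (m : σ →₀ ℕ) (n : ℕ)
    (h : aeval (fun v => (Polynomial.C (X v) * Polynomial.X ^ w v :
      Polynomial (MvPolynomial σ R))) p = Polynomial.C p * Polynomial.X ^ n)
    (hm : coeff m p ≠ 0) : Finsupp.weight w m = n := by
  classical
  have key : ∀ (p : MvPolynomial σ R) (d : ℕ),
      coeff m ((aeval (fun v => (Polynomial.C (X v) * Polynomial.X ^ w v :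
        Polynomial (MvPolynomial σ R))) p).coeff d) =
        if Finsupp.weight w m = d then coeff m p else 0 := by
    intro p d
    induction p using MvPolynomial.induction_on' with
    | add p q hp hq =>
      rw [map_add, Polynomial.coeff_add, coeff_add, hp, hq, coeff_add]
      split_ifs <;> simp
    | monomial m' r =>
      have e : (m'.prod fun i k => (Polynomial.C (X i) * Polynomial.X ^ w i :
          Polynomial (MvPolynomial σ R)) ^ k) =
          Polynomial.C (m'.prod fun i k => (X i : MvPolynomial σ R) ^ k) *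
            Polynomial.X ^ (Finsupp.weight w m') := by
        rw [Finsupp.prod, Finsupp.prod, map_prod, Finsupp.weight_apply, Finsupp.sum,
          ← Finset.prod_pow_eq_pow_sum, ← Finset.prod_mul_distrib]
        apply Finset.prod_congr rfl
        intro i _
        rw [mul_pow, ← pow_mul, map_pow, smul_eq_mul, mul_comm (w i)]
      rw [aeval_monomial, e, ← mul_assoc]
      have e2 : (algebraMap R (Polynomial (MvPolynomial σ R)) r) *
          Polynomial.C (m'.prod fun i k => (X i : MvPolynomial σ R) ^ k) =
          Polynomial.C (monomial m' r) := by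
        rw [monomial_eq, map_mul]
        rfl
      rw [e2, Polynomial.coeff_C_mul_X_pow]
      by_cases h1 : m' = m
      · subst h1
        by_cases h2 : d = Finsupp.weight w m'
        · rw [if_pos h2, if_pos h2.symm]
        · rw [if_neg h2, if_neg (Ne.symm h2), coeff_zero]
      · rw [coeff_monomial, if_neg h1, ite_self]
        split_ifs
        · rw [coeff_monomial, if_neg h1]
        · rw [coeff_zero]
  by_contra hne
  have h1 := congrArg (fun z => coeff m (z.coeff n)) h
  simp only [key, Polynomial.coeff_C_mul_X_pow] at h1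
  rw [if_neg hne, if_true] at h1
  exact hm h1.symm

theorem dep (w : J → ℕ) (hw : ∀ j, 0 < w j) (c : J) (Z : MvPolynomial (J ⊕ J) R)
    (hZ : ∀ m, coeff m Z ≠ 0 → Finsupp.weight (Sum.elim w w) m = w c)
    (hl : aeval (Sum.elim (fun j => X (Sum.inl j)) (fun _ => (0 : MvPolynomial (J ⊕ J) R))) Z =
      X (Sum.inl c))
    (hr : aeval (Sum.elim (fun _ => (0 : MvPolynomial (J ⊕ J) R)) (fun j => X (Sum.inr j))) Z =
      X (Sum.inr c))
    {B : Type*} [CommRing B] [Algebra R B] (x y : J → B) :
    aeval (Sum.elim x y) Z = x c + y c + aeval (Sum.elim (tau w (w c) x) (tau w (w c) y)) Z := by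
  classical
  set D : MvPolynomial (J ⊕ J) R := Z - X (Sum.inl c) - X (Sum.inr c) with hD
  have hsing : ∀ v : J ⊕ J, Finsupp.weight (Sum.elim w w) (Finsupp.single v 1) =
      Sum.elim w w v := by
    intro v
    rw [Finsupp.weight_apply, Finsupp.sum_single_index] <;> simp
  have hDw : ∀ m, coeff m D ≠ 0 → Finsupp.weight (Sum.elim w w) m = w c := by
    intro m hm
    by_cases h1 : coeff m Z = 0
    · rw [hD, coeff_sub, coeff_sub, h1, coeff_X, coeff_X] at hm
      by_cases h2 : Finsupp.single (Sum.inl c) 1 = m
      · rw [← h2, hsing]; rfl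
      · by_cases h3 : Finsupp.single (Sum.inr c) 1 = m
        · rw [← h3, hsing]; rfl
        · simp [h2, h3] at hm
    · exact hZ m h1
  have hDl : ∀ m, (∀ j, m (Sum.inr j) = 0) → coeff m D = 0 := by
    intro m hm
    rw [← coeff_of_inl D m hm, hD, map_sub, map_sub, hl, aeval_X, aeval_X]
    simp
  have hDr : ∀ m, (∀ j, m (Sum.inl j) = 0) → coeff m D = 0 := by
    intro m hm
    rw [← coeff_of_inr D m hm, hD, map_sub, map_sub, hr, aeval_X, aeval_X]
    simp
  have hvars : ∀ v ∈ D.vars, Sum.elim w w v < w c := by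
    intro v hv
    obtain ⟨m, hm, hvm⟩ := (mem_vars_iff_mem_support v).mp hv
    have hm0 : coeff m D ≠ 0 := mem_support_iff.mp hm
    have hwt := hDw m hm0
    have h1 : ∃ j, m (Sum.inl j) ≠ 0 := by
      by_contra hcon
      push Not at hcon
      exact hm0 (hDr m hcon)
    have h2 : ∃ j, m (Sum.inr j) ≠ 0 := by
      by_contra hcon
      push Not at hcon
      exact hm0 (hDl m hcon)
    obtain ⟨v', hv', hvv'⟩ : ∃ v', v' ∈ m.support ∧ v' ≠ v := by
      rcases v with j | j
      · obtain ⟨j', hj'⟩ := h2
        exact ⟨Sum.inr j', Finsupp.mem_support_iff.mpr hj', by simp⟩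
      · obtain ⟨j', hj'⟩ := h1
        exact ⟨Sum.inl j', Finsupp.mem_support_iff.mpr hj', by simp⟩
    rw [Finsupp.weight_apply, Finsupp.sum] at hwt
    have h3 : ∑ i ∈ ({v, v'} : Finset (J ⊕ J)), m i • Sum.elim w w i ≤
        ∑ i ∈ m.support, m i • Sum.elim w w i := by
      apply Finset.sum_le_sum_of_subset
      intro i hi
      rcases Finset.mem_insert.mp hi with rfl | hi
      · exact hvm
      · rw [Finset.mem_singleton.mp hi]; exact hv'
    rw [Finset.sum_pair (Ne.symm hvv'), hwt] at h3
    have h4 : 0 < Sum.elim w w v' := by rcases v' with j | j <;> exact hw j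
    have h5 : 1 ≤ m v := Nat.one_le_iff_ne_zero.mpr (Finsupp.mem_support_iff.mp hvm)
    have h6 : 1 ≤ m v' := Nat.one_le_iff_ne_zero.mpr (Finsupp.mem_support_iff.mp hv')
    simp only [smul_eq_mul] at h3
    nlinarith
  have hDD : aeval (Sum.elim x y) D = aeval (Sum.elim (tau w (w c) x) (tau w (w c) y)) D := by
    apply MvPolynomial.eval₂Hom_congr' rfl _ rfl
    rintro (j | j) hj -
    · exact (tau_of_lt x (hvars _ hj)).symm
    · exact (tau_of_lt y (hvars _ hj)).symm
  rw [hD] at hDD
  simp only [map_sub, aeval_X, Sum.elim_inl, Sum.elim_inr] at hDD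
  rw [tau_of_not_lt x (lt_irrefl _), tau_of_not_lt y (lt_irrefl _)] at hDD
  linear_combination hDD

end dep

end Groth.Agent.Sga3B.BorPoly991

namespace Groth.Agent.Sga3B.BorPoly991

section laurent

open Polynomial LaurentPolynomial

variable {K : Type u} [CommRing K]

lemma coeff_toLaurent_nat (f : K[X]) (n : ℕ) : (Polynomial.toLaurent f).coeff (n : ℤ) = f.coeff n := by
  rw [LaurentPolynomial.coeff_toLaurent]
  exact Finsupp.mapDomain_apply Nat.castEmbedding.injective _ _

lemma coeff_toLaurent_of_neg (f : K[X]) {n : ℤ} (hn : n < 0) : (Polynomial.toLaurent f).coeff n = 0 := by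
  rw [LaurentPolynomial.coeff_toLaurent]
  apply Finsupp.mapDomain_of_notMem_range
  rintro ⟨m, hm⟩
  have : (m : ℤ) = n := hm
  omega

lemma coeff_T_mul (f : K[T;T⁻¹]) (m n : ℤ) : (T m * f).coeff (m + n) = f.coeff n := by
  have h := AddMonoidAlgebra.coeff_single_mul_eq_mul_coeff (R := K) (x := f) (r := 1) (m := m)
    (m₁ := m + n) n (fun m' _ => by constructor <;> intro h <;> omega)
  rw [one_mul] at h
  exact h

theorem laurent_eq_zero {n : ℤ} (hn : 0 < n) (p q : K[X])
    (h : Polynomial.aeval (T 1 - 1 : K[T;T⁻¹]) q = T (-n) * Polynomial.aeval (1 - T (-1) : K[T;T⁻¹]) p) :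
    p = 0 := by
  set q' : K[X] := q.comp (X - 1) with hq'
  set p' : K[X] := p.comp (1 - X) with hp'
  have h1 : Polynomial.aeval (T 1 - 1 : K[T;T⁻¹]) q = Polynomial.toLaurent q' := by
    rw [← Polynomial.toLaurentAlg_apply, hq', Polynomial.comp_eq_aeval, ← Polynomial.aeval_algHom_apply]
    congr 2
    simp
  have h2 : Polynomial.aeval (1 - T (-1) : K[T;T⁻¹]) p =
      LaurentPolynomial.invert (Polynomial.toLaurent p') := by
    rw [← Polynomial.toLaurentAlg_apply, hp', Polynomial.comp_eq_aeval, ← Polynomial.aeval_algHom_apply]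
    change _ = LaurentPolynomial.invert.toAlgHom _
    rw [← Polynomial.aeval_algHom_apply]
    congr 2
    simp
  rw [h1, h2] at h
  have h3 : p' = 0 := by
    ext j
    have h5 := congrArg (fun z : K[T;T⁻¹] => z.coeff (-n + -(j : ℤ))) h
    simp only [coeff_T_mul, LaurentPolynomial.invert_apply, neg_neg] at h5
    rw [coeff_toLaurent_nat, coeff_toLaurent_of_neg _ (by omega)] at h5
    rw [← h5, Polynomial.coeff_zero]
  have h4 : p = p'.comp (1 - X) := by
    rw [hp', Polynomial.comp_assoc]
    simp
  rw [h4, h3, Polynomial.zero_comp]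

end laurent

end Groth.Agent.Sga3B.BorPoly991
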