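import Groth.Agent.Sga3B.PinCell
import Groth.Agent.Sga3B.PinComb829
import Groth.Agent.Sga3B.BorPoly991

/-!
# Rigidity of the positive unipotent group: homomorphisms out of the standard Borel subgroup which
agree on the torus and are "diagonal" on root groups are determined by the simple root groups.
-/

set_option autoImplicit false
set_option linter.unusedSectionVars false
universe u

open scoped Polynomial LaurentPolynomial

namespace Groth.Agent.Sga3B.BorRig991

open Groth.Agent.Sga3B.Cell Groth.Agent.Sga3B.BorPoly991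

variable {idx M : Type} [Fintype idx] [AddCommGroup M] [Module.Free ℤ M] [Module.Finite ℤ M]
  {P : RootPairing idx ℤ M (Module.Dual ℤ M)} {b : P.Base}
  {R A : Type u} [CommRing R] [CommRing A] [Algebra R A] [PtGrp R A] (E : PinCell P b R A)
  {B B' : Type u} [CommRing B] [Algebra R B] [CommRing B'] [Algebra R B']

/-- the product of positive root group elements -/
noncomputable def pos (x : idx → B) : Pt R A B :=
  ((posList b).map (fun a => E.uu a B (x a))).prod

lemma pos_congr {x y : idx → B} (h : ∀ a, b.IsPos a → x a = y a) : pos E x = pos E y := by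
  unfold pos
  congr 1
  apply List.map_congr_left
  intro a ha
  rw [h a ((mem_posList b).mp ha)]

lemma pos_nat (φ : B →ₐ[R] B') (x : idx → B) : Pt.map φ (pos E x) = pos E (fun a => φ (x a)) := by
  unfold pos
  rw [Pt.map_list_prod, List.map_map]
  congr 1
  apply List.map_congr_left
  intro a _
  exact E.uu_nat a φ (x a)

/-- the positive part of a family -/
noncomputable def pp (b : P.Base) (x : idx → B) : idx → B := by
  classical exact fun a => if b.IsPos a then x a else 0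

lemma pp_of_isPos (x : idx → B) {a : idx} (h : b.IsPos a) : pp b x a = x a := by simp [pp, h]
lemma pp_of_not (x : idx → B) {a : idx} (h : ¬ b.IsPos a) : pp b x a = 0 := by simp [pp, h]

lemma prod_eq_one (l : List idx) (x : idx → B) (h : ∀ a ∈ l, x a = 0) :
    (l.map (fun a => E.uu a B (x a))).prod = 1 := by
  apply List.prod_eq_one
  intro y hy
  obtain ⟨a, ha, rfl⟩ := List.mem_map.mp hy
  rw [h a ha, E.uu_zero]

lemma prod_single (l : List idx) (hl : l.Nodup) {a : idx} (ha : a ∈ l) (x : idx → B)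
    (h : ∀ c ∈ l, c ≠ a → x c = 0) :
    (l.map (fun a => E.uu a B (x a))).prod = E.uu a B (x a) := by
  induction l with
  | nil => simp at ha
  | cons d l ih =>
    rw [List.map_cons, List.prod_cons]
    rw [List.nodup_cons] at hl
    rcases List.mem_cons.mp ha with rfl | ha'
    · rw [prod_eq_one E l x, mul_one]
      intro c hc
      exact h c (List.mem_cons_of_mem _ hc) (fun hca => hl.1 (hca ▸ hc))
    · have hda : d ≠ a := fun hda => hl.1 (hda ▸ ha')
      rw [h d (List.mem_cons_self) hda, E.uu_zero, one_mul]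
      exact ih hl.2 ha' (fun c hc => h c (List.mem_cons_of_mem _ hc))

lemma pos_of_single {a : idx} (ha : b.IsPos a) (x : idx → B) (h : ∀ c, b.IsPos c → c ≠ a → x c = 0) :
    pos E x = E.uu a B (x a) :=
  prod_single E _ (posList_nodup b) ((mem_posList b).mpr ha) x
    (fun c hc => h c ((mem_posList b).mp hc))

lemma pos_single [DecidableEq idx] {a : idx} (ha : b.IsPos a) (x : B) :
    pos E (Pi.single a x) = E.uu a B x := by
  rw [pos_of_single E ha _ (fun c _ hc => Pi.single_eq_of_ne hc _), Pi.single_eq_same]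

lemma cell_pp (x : idx → B) : E.cell (pp b x) 1 = pos E x := by
  unfold PinCell.cell allList
  rw [List.map_append, List.prod_append, map_one, mul_one, prod_eq_one E (negList b), one_mul]
  · exact pos_congr E (fun a ha => pp_of_isPos x ha)
  · intro a ha
    exact pp_of_not x ((mem_negList b).mp ha)

lemma pos_inj {x y : idx → B} (h : pos E x = pos E y) {a : idx} (ha : b.IsPos a) : x a = y a := by
  rw [← cell_pp, ← cell_pp] at h
  have := congrFun (E.cell_injective h).1 a
  rwa [pp_of_isPos x ha, pp_of_isPos y ha] at this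

lemma pos_zero : pos E (fun _ => (0 : B)) = 1 := prod_eq_one E _ _ (fun _ _ => rfl)

lemma conj_pos (t : TPt M B) (x : idx → B) :
    E.i B t * pos E x * (E.i B t)⁻¹ = pos E (fun a => TPt.ch (P.root a) t * x a) := by
  have h := E.toDatum.conj_cell (posList b) x 1 t
  have h1 : E.toDatum.i B 1 = 1 := map_one _
  unfold Datum.cell at h
  rw [h1, mul_one, mul_one] at h
  exact h

section Z

open MvPolynomial

/-- the multiplication polynomials of the positive unipotent group -/
noncomputable def Z : idx → MvPolynomial (idx ⊕ idx) R :=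
  (E.pos_mul (fun a => (X (Sum.inl a) : MvPolynomial (idx ⊕ idx) R)) (fun a => X (Sum.inr a))).choose

lemma Z_spec : pos E (fun a => (X (Sum.inl a) : MvPolynomial (idx ⊕ idx) R)) *
    pos E (fun a => (X (Sum.inr a) : MvPolynomial (idx ⊕ idx) R)) = pos E (Z E) :=
  (E.pos_mul (fun a => (X (Sum.inl a) : MvPolynomial (idx ⊕ idx) R))
    (fun a => X (Sum.inr a))).choose_spec.1

lemma pos_mul_pos (x y : idx → B) :
    pos E x * pos E y = pos E (fun a => aeval (Sum.elim x y) (Z E a)) := by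
  have h := congrArg (Pt.map (aeval (Sum.elim x y) : MvPolynomial (idx ⊕ idx) R →ₐ[R] B)) (Z_spec E)
  rw [Pt.map_mul, pos_nat, pos_nat, pos_nat] at h
  simpa only [aeval_X, Sum.elim_inl, Sum.elim_inr] using h

lemma exists_pos_mul (x y : idx → B) : ∃ z : idx → B, pos E x * pos E y = pos E z ∧
    ∀ a ∈ b.support, z a = x a + y a := E.pos_mul x y

/-- the height functional -/
noncomputable def lam (b : P.Base) : M →+ ℤ := (PinComb.exists_height_functional b).choose

lemma lam_spec (b : P.Base) : ∃ n : ℤ, 0 < n ∧ ∀ i, lam b (P.root i) = n * b.height i :=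
  (PinComb.exists_height_functional b).choose_spec

/-- the weight of a root -/
noncomputable def wt (b : P.Base) (a : idx) : ℕ := (lam b (P.root a)).natAbs

lemma lam_ne (b : P.Base) (a : idx) : lam b (P.root a) ≠ 0 := by
  obtain ⟨n, hn, h⟩ := lam_spec b
  rw [h]
  exact mul_ne_zero hn.ne' (b.height_ne_zero a)

lemma wt_pos (b : P.Base) (a : idx) : 0 < wt b a := Int.natAbs_pos.mpr (lam_ne b a)

lemma wt_eq {a : idx} (ha : b.IsPos a) : (wt b a : ℤ) = lam b (P.root a) := by
  obtain ⟨n, hn, h⟩ := lam_spec b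
  apply Int.natAbs_of_nonneg
  rw [h]
  exact (mul_pos hn ha).le

lemma pos_scale (v : Bˣ) (x : idx → B) :
    E.i B (TPt.cow (lam b).toIntLinearMap v) * pos E x *
      (E.i B (TPt.cow (lam b).toIntLinearMap v))⁻¹ = pos E (fun a => (v : B) ^ wt b a * x a) := by
  rw [conj_pos]
  apply pos_congr
  intro a ha
  rw [TPt.ch_cow]
  congr 1
  have : (lam b).toIntLinearMap (P.root a) = (wt b a : ℤ) := (wt_eq ha).symm
  rw [this, zpow_natCast, Units.val_pow_eq_pow_val]

lemma Z_scale (v : Bˣ) (x y : idx → B) {c : idx} (hc : b.IsPos c) :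
    aeval (Sum.elim (fun a => (v : B) ^ wt b a * x a) (fun a => (v : B) ^ wt b a * y a)) (Z E c) =
      (v : B) ^ wt b c * aeval (Sum.elim x y) (Z E c) := by
  have h := pos_scale E v (fun a => aeval (Sum.elim x y) (Z E a))
  rw [← pos_mul_pos] at h
  have h2 : pos E (fun a => (v : B) ^ wt b a * x a) * pos E (fun a => (v : B) ^ wt b a * y a) =
      pos E (fun a => (v : B) ^ wt b a * aeval (Sum.elim x y) (Z E a)) := by
    rw [← h, ← pos_scale, ← pos_scale]
    group
  rw [pos_mul_pos] at h2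
  exact pos_inj E h2 hc

lemma weight_Z {c : idx} (hc : b.IsPos c) (m : (idx ⊕ idx) →₀ ℕ) (hm : coeff m (Z E c) ≠ 0) :
    Finsupp.weight (Sum.elim (wt b) (wt b)) m = wt b c := by
  apply coeff_scale _ _ _ _ ?_ hm
  apply Polynomial.toLaurent_injective
  let S := MvPolynomial (idx ⊕ idx) R
  let v : S[T;T⁻¹]ˣ := ⟨LaurentPolynomial.T 1, LaurentPolynomial.T (-1), by
    rw [← LaurentPolynomial.T_add]; simp, by rw [← LaurentPolynomial.T_add]; simp⟩
  let ι : S →ₐ[R] S[T;T⁻¹] := IsScalarTower.toAlgHom R S S[T;T⁻¹]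
  let κ : S[X] →ₐ[R] S[T;T⁻¹] := (Polynomial.toLaurentAlg (R := S)).restrictScalars R
  have h := Z_scale E v (fun a => ι (X (Sum.inl a))) (fun a => ι (X (Sum.inr a))) hc
  have h1 : aeval (Sum.elim (fun a => ι (X (Sum.inl a))) (fun a => ι (X (Sum.inr a)))) (Z E c) =
      ι (Z E c) := by
    have h2 : (aeval (Sum.elim (fun a => ι (X (Sum.inl a))) (fun a => ι (X (Sum.inr a)))) :
        S →ₐ[R] S[T;T⁻¹]) = ι := by
      apply MvPolynomial.algHom_ext
      rintro (a | a) <;> simp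
    rw [h2]
  have h3 : κ.comp (aeval (fun v => (Polynomial.C (X v) * Polynomial.X ^ (Sum.elim (wt b) (wt b) v) :
      Polynomial S))) = aeval (Sum.elim (fun a => (v : S[T;T⁻¹]) ^ wt b a * ι (X (Sum.inl a)))
        (fun a => (v : S[T;T⁻¹]) ^ wt b a * ι (X (Sum.inr a)))) := by
    have e1 : ∀ z : S, κ (Polynomial.C z) = ι z := fun z => Polynomial.toLaurent_C z
    have e2 : κ Polynomial.X = (v : S[T;T⁻¹]) := Polynomial.toLaurent_X
    apply MvPolynomial.algHom_ext
    rintro (a | a)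
    · rw [AlgHom.comp_apply, aeval_X, aeval_X, Sum.elim_inl, Sum.elim_inl, map_mul, map_pow, e1, e2,
        mul_comm]
    · rw [AlgHom.comp_apply, aeval_X, aeval_X, Sum.elim_inr, Sum.elim_inr, map_mul, map_pow, e1, e2,
        mul_comm]
  have h4 := congrArg (fun φ : S →ₐ[R] S[T;T⁻¹] => φ (Z E c)) h3
  refine (h4.trans (h.trans ?_))
  rw [h1, map_mul, map_pow, Polynomial.toLaurent_X, Polynomial.toLaurent_C, mul_comm]
  rfl

lemma Z_left {c : idx} (hc : b.IsPos c) :
    aeval (Sum.elim (fun j => X (Sum.inl j)) (fun _ => (0 : MvPolynomial (idx ⊕ idx) R))) (Z E c) =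
      X (Sum.inl c) := by
  have h := pos_mul_pos E (fun a => (X (Sum.inl a) : MvPolynomial (idx ⊕ idx) R)) (fun _ => 0)
  rw [pos_zero, mul_one] at h
  exact (pos_inj E h hc).symm

lemma Z_right {c : idx} (hc : b.IsPos c) :
    aeval (Sum.elim (fun _ => (0 : MvPolynomial (idx ⊕ idx) R)) (fun j => X (Sum.inr j))) (Z E c) =
      X (Sum.inr c) := by
  have h := pos_mul_pos E (fun _ => 0) (fun a => (X (Sum.inr a) : MvPolynomial (idx ⊕ idx) R))
  rw [pos_zero, one_mul] at h
  exact (pos_inj E h hc).symm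

/-- The mixed part of the multiplication polynomial. -/
noncomputable def N (c : idx) : MvPolynomial (idx ⊕ idx) R :=
  aeval (Sum.elim (tau (wt b) (wt b c) (fun j => X (Sum.inl j)))
    (tau (wt b) (wt b c) (fun j => X (Sum.inr j)))) (Z E c)

lemma aeval_N (c : idx) (x y : idx → B) : aeval (Sum.elim x y) (N E c) =
    aeval (Sum.elim (tau (wt b) (wt b c) x) (tau (wt b) (wt b c) y)) (Z E c) := by
  have h : (aeval (Sum.elim x y) : MvPolynomial (idx ⊕ idx) R →ₐ[R] B).comp
      (aeval (Sum.elim (tau (wt b) (wt b c) (fun j => X (Sum.inl j)))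
    (tau (wt b) (wt b c) (fun j => X (Sum.inr j))))) =
      aeval (Sum.elim (tau (wt b) (wt b c) x) (tau (wt b) (wt b c) y)) := by
    apply MvPolynomial.algHom_ext
    rintro (a | a)
    · rw [AlgHom.comp_apply, aeval_X, aeval_X, Sum.elim_inl, Sum.elim_inl]
      by_cases h : wt b a < wt b c
      · rw [tau_of_lt _ h, tau_of_lt _ h, aeval_X, Sum.elim_inl]
      · rw [tau_of_not_lt _ h, tau_of_not_lt _ h, map_zero]
    · rw [AlgHom.comp_apply, aeval_X, aeval_X, Sum.elim_inr, Sum.elim_inr]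
      by_cases h : wt b a < wt b c
      · rw [tau_of_lt _ h, tau_of_lt _ h, aeval_X, Sum.elim_inr]
      · rw [tau_of_not_lt _ h, tau_of_not_lt _ h, map_zero]
  exact congrArg (fun φ : MvPolynomial (idx ⊕ idx) R →ₐ[R] B => φ (Z E c)) h

lemma aeval_Z {c : idx} (hc : b.IsPos c) (x y : idx → B) :
    aeval (Sum.elim x y) (Z E c) = x c + y c + aeval (Sum.elim x y) (N E c) := by
  rw [aeval_N]
  exact dep (wt b) (wt_pos b) c (Z E c) (weight_Z E hc) (Z_left E hc) (Z_right E hc) x y

/-- the content ideal -/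
def cont (c : idx) : Ideal R := Ideal.span (Set.range (fun m => coeff m (N E c)))

lemma aeval_N_of_cont {c : idx} (hB : ∀ r ∈ cont E c, algebraMap R B r = 0) (x y : idx → B) :
    aeval (Sum.elim x y) (N E c) = 0 := by
  rw [aeval_def, eval₂_eq']
  apply Finset.sum_eq_zero
  intro m _
  rw [hB _ (Ideal.subset_span ⟨m, rfl⟩), zero_mul]

lemma add_of_cont {c : idx} (hc : b.IsPos c) (hB : ∀ r ∈ cont E c, algebraMap R B r = 0)
    {x y z : idx → B} (h : pos E x * pos E y = pos E z) : z c = x c + y c := by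
  rw [pos_mul_pos] at h
  have h1 := pos_inj E h hc
  rw [← h1, aeval_Z E hc, aeval_N_of_cont E hB, add_zero]

lemma mul_cont_eq_zero {c : idx} {d : R}
    (h : ∀ (x y z : idx → MvPolynomial (idx ⊕ idx) R), (∀ a, ¬ wt b a < wt b c → x a = 0) →
      (∀ a, ¬ wt b a < wt b c → y a = 0) → pos E x * pos E y = pos E z → C d * z c = 0)
    (r : R) (hr : r ∈ cont E c) : d * r = 0 := by
  have h1 : C d * N E c = 0 := by
    have h2 := h (tau (wt b) (wt b c) (fun j => X (Sum.inl j)))
      (tau (wt b) (wt b c) (fun j => X (Sum.inr j)))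
      (fun a => aeval (Sum.elim (tau (wt b) (wt b c) (fun j => X (Sum.inl j)))
        (tau (wt b) (wt b c) (fun j => (X (Sum.inr j) : MvPolynomial (idx ⊕ idx) R)))) (Z E a))
      (fun a ha => tau_of_not_lt _ ha) (fun a ha => tau_of_not_lt _ ha)
      (pos_mul_pos E (tau (wt b) (wt b c) (fun j => X (Sum.inl j)))
        (tau (wt b) (wt b c) (fun j => X (Sum.inr j))))
    exact h2
  refine Submodule.span_induction ?_ (by simp) ?_ ?_ hr
  · rintro _ ⟨m, rfl⟩
    have h2 := congrArg (coeff m) h1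
    rwa [coeff_C_mul, coeff_zero] at h2
  · intro x y _ _ hx hy
    rw [mul_add, hx, hy, add_zero]
  · intro a x _ hx
    rw [smul_eq_mul, mul_left_comm, hx, mul_zero]

end Z

section InU

/-- `g` is a product of positive root group elements without `a`-component and with `c`-component `r` -/
def InU (a c : idx) (g : Pt R A B) (r : B) : Prop := ∃ x : idx → B, x a = 0 ∧ x c = r ∧ g = pos E x

variable {E} {a c : idx}

lemma InU.unique (hc : b.IsPos c) {g : Pt R A B} {r r' : B} (h : InU E a c g r) (h' : InU E a c g r') :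
    r = r' := by
  obtain ⟨x, -, hx, hg⟩ := h
  obtain ⟨y, -, hy, hg'⟩ := h'
  rw [← hx, ← hy]
  exact pos_inj E (hg.symm.trans hg') hc

lemma InU.map (φ : B →ₐ[R] B') {g : Pt R A B} {r : B} (h : InU E a c g r) :
    InU E a c (Pt.map φ g) (φ r) := by
  obtain ⟨x, hxa, hx, hg⟩ := h
  exact ⟨fun d => φ (x d), by beta_reduce; rw [hxa, map_zero], by beta_reduce; rw [hx],
    by rw [hg, pos_nat]⟩

lemma InU.conj_torus {g : Pt R A B} {r : B} (h : InU E a c g r) (t : TPt M B) :
    InU E a c (E.i B t * g * (E.i B t)⁻¹) (TPt.ch (P.root c) t * r) := by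
  obtain ⟨x, hxa, hx, hg⟩ := h
  exact ⟨fun d => TPt.ch (P.root d) t * x d, by beta_reduce; rw [hxa, mul_zero],
    by beta_reduce; rw [hx], by rw [hg, conj_pos]⟩

/-- conjugation by `U_a`, without control of the `c`-component -/
lemma exists_inU_mul (ha : a ∈ b.support) {g h : Pt R A B} {r s : B} (hg : InU E a c g r)
    (hh : InU E a c h s) : ∃ t, InU E a c (g * h) t := by
  obtain ⟨x, hxa, hx, rfl⟩ := hg
  obtain ⟨y, hya, hy, rfl⟩ := hh
  obtain ⟨z, hz, hza⟩ := exists_pos_mul E x y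
  exact ⟨z c, z, by rw [hza a ha, hxa, hya, add_zero], rfl, hz⟩

lemma exists_inU_conj (ha : a ∈ b.support) {g : Pt R A B} {r : B} (hg : InU E a c g r) (t : B) :
    ∃ s, InU E a c ((E.uu a B t)⁻¹ * g * E.uu a B t) s := by
  classical
  have hpa : b.IsPos a := b.isPos_of_mem_support ha
  obtain ⟨x, hxa, hx, rfl⟩ := hg
  obtain ⟨z, hz, hza⟩ := exists_pos_mul E (Pi.single a (-t)) x
  obtain ⟨w, hw, hwa⟩ := exists_pos_mul E z (Pi.single a t)
  refine ⟨w c, w, ?_, rfl, ?_⟩
  · rw [hwa a ha, hza a ha, hxa]; simp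
  · rw [← hw, ← hz, pos_single E hpa, pos_single E hpa, E.uu_neg]

lemma InU.conj_simple (ha : a ∈ b.support) (hc : b.IsPos c) (hca : c ≠ a)
    (hB : ∀ r ∈ cont E c, algebraMap R B r = 0) {g : Pt R A B} {r : B} (hg : InU E a c g r) (t : B) :
    InU E a c ((E.uu a B t)⁻¹ * g * E.uu a B t) r := by
  classical
  have hpa : b.IsPos a := b.isPos_of_mem_support ha
  obtain ⟨x, hxa, hx, rfl⟩ := hg
  obtain ⟨z, hz, hza⟩ := exists_pos_mul E (Pi.single a (-t)) x
  obtain ⟨w, hw, hwa⟩ := exists_pos_mul E z (Pi.single a t)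
  refine ⟨w, ?_, ?_, ?_⟩
  · rw [hwa a ha, hza a ha, hxa]; simp
  · rw [add_of_cont E hc hB hw, add_of_cont E hc hB hz, hx, Pi.single_eq_of_ne hca,
      Pi.single_eq_of_ne hca, zero_add, add_zero]
  · rw [← hw, ← hz, pos_single E hpa, pos_single E hpa, E.uu_neg]

lemma inU_one : InU E a c (1 : Pt R A B) 0 := ⟨fun _ => 0, rfl, rfl, (pos_zero E).symm⟩

/-- products of conjugates -/
lemma exists_inU_of_conj (ha : a ∈ b.support) (n : Pt R A B)
    (hn : ∀ d, b.IsPos d → d ≠ a → ∀ y : B, ∃ r, InU E a c (n * E.uu d B y * n⁻¹) r)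
    {g : Pt R A B} {r : B} (hg : InU E a c g r) : ∃ s, InU E a c (n * g * n⁻¹) s := by
  obtain ⟨x, hxa, hx, rfl⟩ := hg
  unfold pos
  have key : ∀ l : List idx, (∀ d ∈ l, b.IsPos d) →
      ∃ s, InU E a c (n * (l.map (fun d => E.uu d B (x d))).prod * n⁻¹) s := by
    intro l
    induction l with
    | nil =>
      intro _
      refine ⟨0, ?_⟩
      rw [List.map_nil, List.prod_nil, mul_one, mul_inv_cancel]
      exact inU_one
    | cons d l ih =>
      intro hl
      obtain ⟨s, hs⟩ := ih (fun e he => hl e (List.mem_cons_of_mem _ he))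
      have h1 : ∃ r, InU E a c (n * E.uu d B (x d) * n⁻¹) r := by
        by_cases hda : d = a
        · subst hda
          rw [hxa, E.uu_zero, mul_one, mul_inv_cancel]
          exact ⟨0, inU_one⟩
        · exact hn d (hl d List.mem_cons_self) hda _
      obtain ⟨r, hr⟩ := h1
      obtain ⟨t, ht⟩ := exists_inU_mul ha hr hs
      refine ⟨t, ?_⟩
      have e : n * ((d :: l).map (fun d => E.uu d B (x d))).prod * n⁻¹ =
          n * E.uu d B (x d) * n⁻¹ * (n * (l.map (fun d => E.uu d B (x d))).prod * n⁻¹) := by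
        rw [List.map_cons, List.prod_cons]
        group
      rw [e]
      exact ht
  exact key _ (fun d hd => (mem_posList b).mp hd)

lemma inU_uu {d : idx} (hd : b.IsPos d) (hda : d ≠ a) (y : B) : ∃ r, InU E a c (E.uu d B y) r := by
  classical
  exact ⟨_, Pi.single d y, Pi.single_eq_of_ne (Ne.symm hda) _, rfl, (pos_single E hd y).symm⟩

lemma reflectionPerm_isPos (ha : a ∈ b.support) {d : idx} (hd : b.IsPos d) (hda : d ≠ a) :
    b.IsPos (P.reflectionPerm a d) ∧ P.reflectionPerm a d ≠ a := by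
  have : P.IsReduced := PinComb.isReduced b
  refine ⟨hd.reflectionPerm ha hda, ?_⟩
  intro h
  have h1 : P.reflectionPerm a (P.reflectionPerm a d) = d := by simp
  have h2 := RootPairing.Base.IsPos.neg_iff_not b a
  rw [h] at h1
  rw [← h1] at hd
  exact (h2.mp hd) (b.isPos_of_mem_support ha)

variable (E) in
lemma exists_inU_nn (ha : a ∈ b.support) {g : Pt R A B} {r : B} (hg : InU E a c g r) :
    ∃ s, InU E a c (E.nn a B * g * (E.nn a B)⁻¹) s := by
  apply exists_inU_of_conj ha (E.nn a B) _ hg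
  intro d hd hda y
  obtain ⟨r, hr⟩ := E.nn_conj ha d
  obtain ⟨h1, h2⟩ := reflectionPerm_isPos ha hd hda
  rw [hr y]
  exact inU_uu h1 h2 _

variable (E) in
lemma exists_inU_nn_inv (ha : a ∈ b.support) {g : Pt R A B} {r : B} (hg : InU E a c g r) :
    ∃ s, InU E a c ((E.nn a B)⁻¹ * g * E.nn a B) s := by
  have h := exists_inU_of_conj (c := c) ha (E.nn a B)⁻¹ ?_ hg
  · rwa [inv_inv] at h
  intro d hd hda y
  obtain ⟨h1, h2⟩ := reflectionPerm_isPos ha hd hda
  obtain ⟨r, hr⟩ := E.nn_conj ha (P.reflectionPerm a d)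
  have h3 := hr (B := B) (algebraMap R B (↑r⁻¹ : R) * y)
  rw [← mul_assoc, ← map_mul, Units.mul_inv, map_one, one_mul] at h3
  have h4 : P.reflectionPerm a (P.reflectionPerm a d) = d := by simp
  rw [h4] at h3
  rw [inv_inv, ← h3]
  have e : (E.nn a B)⁻¹ * (E.nn a B * E.uu (P.reflectionPerm a d) B (algebraMap R B (↑r⁻¹ : R) * y) *
      (E.nn a B)⁻¹) * E.nn a B = E.uu (P.reflectionPerm a d) B (algebraMap R B (↑r⁻¹ : R) * y) := by
    group
  rw [e]
  exact inU_uu h1 h2 _

variable (E) in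
/-- conjugation by `U_{-a}` -/
lemma exists_inU_neg (ha : a ∈ b.support) {g : Pt R A B} {r : B} (hg : InU E a c g r) (y : B) :
    ∃ s, InU E a c ((E.uu (P.reflectionPerm a a) B y)⁻¹ * g * E.uu (P.reflectionPerm a a) B y) s := by
  obtain ⟨r, hr⟩ := E.nn_conj ha a
  have h3 := hr (B := B) (algebraMap R B (↑r⁻¹ : R) * y)
  rw [← mul_assoc, ← map_mul, Units.mul_inv, map_one, one_mul] at h3
  obtain ⟨s1, h1⟩ := exists_inU_nn_inv E ha hg
  obtain ⟨s2, h2⟩ := exists_inU_conj ha h1 (algebraMap R B (↑r⁻¹ : R) * y)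
  obtain ⟨s3, h4⟩ := exists_inU_nn E ha h2
  refine ⟨s3, ?_⟩
  rw [← h3]
  convert h4 using 1
  group

end InU

section main

variable {a c : idx}

lemma isUnit_T (K : Type u) [CommRing K] : ∃ v : K[T;T⁻¹]ˣ, (v : K[T;T⁻¹]) = LaurentPolynomial.T 1 ∧
    ((v⁻¹ : K[T;T⁻¹]ˣ) : K[T;T⁻¹]) = LaurentPolynomial.T (-1) ∧
    ∀ n : ℤ, ((v ^ n : K[T;T⁻¹]ˣ) : K[T;T⁻¹]) = LaurentPolynomial.T n := by
  refine ⟨⟨LaurentPolynomial.T 1, LaurentPolynomial.T (-1), by
    rw [← LaurentPolynomial.T_add]; simp, by rw [← LaurentPolynomial.T_add]; simp⟩, rfl, rfl, ?_⟩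
  intro n
  obtain ⟨m, rfl | rfl⟩ := n.eq_nat_or_neg
  · rw [zpow_natCast, Units.val_pow_eq_pow_val, LaurentPolynomial.T_pow, mul_one]
  · rw [zpow_neg, zpow_natCast, ← inv_pow, Units.val_pow_eq_pow_val]
    change (LaurentPolynomial.T (-1)) ^ m = _
    rw [LaurentPolynomial.T_pow, mul_neg, mul_one]

/-- there is no field quotient over which the coordinate of a non-simple positive root is additive -/
theorem false_of_field (K : Type u) [Field K] [Algebra R K] (hK : ∀ r ∈ cont E c, algebraMap R K r = 0)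
    (ha : a ∈ b.support) (hc : b.IsPos c) (hca : c ≠ a) (hpair : 0 < P.coroot a (P.root c)) : False := by
  classical
  let g : Pt R A K := E.uu c K 1
  have hg : InU E a c g (1 : K) := ⟨Pi.single c 1, Pi.single_eq_of_ne (Ne.symm hca) _,
    Pi.single_eq_same _ _, (pos_single E hc 1).symm⟩
  have hKX : ∀ r ∈ cont E c, algebraMap R K[X] r = 0 := fun r hr => by
    rw [IsScalarTower.algebraMap_apply R K K[X], hK r hr, map_zero]
  have hKL : ∀ r ∈ cont E c, algebraMap R K[T;T⁻¹] r = 0 := fun r hr => by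
    rw [IsScalarTower.algebraMap_apply R K K[T;T⁻¹], hK r hr, map_zero]
  let ι : K →ₐ[R] K[X] := IsScalarTower.toAlgHom R K K[X]
  obtain ⟨s, hs⟩ := exists_inU_conj ha hg 1
  obtain ⟨q, hq⟩ := exists_inU_neg E ha (hs.map ι) Polynomial.X
  obtain ⟨p, hp⟩ := exists_inU_neg E ha (hg.map ι) Polynomial.X
  obtain ⟨v, hv, hv', hvn⟩ := isUnit_T K
  let φ₁ : K[X] →ₐ[R] K[T;T⁻¹] :=
    (Polynomial.aeval (LaurentPolynomial.T 1 - 1 : K[T;T⁻¹]) : K[X] →ₐ[K] K[T;T⁻¹]).restrictScalars R
  let φ₂ : K[X] →ₐ[R] K[T;T⁻¹] :=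
    (Polynomial.aeval (1 - LaurentPolynomial.T (-1) : K[T;T⁻¹]) : K[X] →ₐ[K] K[T;T⁻¹]).restrictScalars R
  let κ : K →ₐ[R] K[T;T⁻¹] := IsScalarTower.toAlgHom R K K[T;T⁻¹]
  have hφ₁ι : φ₁.comp ι = κ := by
    refine AlgHom.ext fun z => ?_
    simp [φ₁, ι, κ]
  have hφ₂ι : φ₂.comp ι = κ := by
    refine AlgHom.ext fun z => ?_
    simp [φ₂, ι, κ]
  have hφ₁X : φ₁ Polynomial.X = LaurentPolynomial.T 1 - 1 := Polynomial.aeval_X _
  have hφ₂X : φ₂ Polynomial.X = 1 - LaurentPolynomial.T (-1) := Polynomial.aeval_X _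
  have hq' := hq.map φ₁
  have hp' := hp.map φ₂
  rw [Pt.map_mul, Pt.map_mul, Pt.map_inv, E.uu_nat, Pt.map_map, hφ₁ι, hφ₁X, Pt.map_mul, Pt.map_mul,
    Pt.map_inv, E.uu_nat, map_one] at hq'
  rw [Pt.map_mul, Pt.map_mul, Pt.map_inv, E.uu_nat, Pt.map_map, hφ₂ι, hφ₂X] at hp'
  have hrel := E.rank1 a ha (B := K[T;T⁻¹]) 1 (LaurentPolynomial.T 1 - 1) v (by rw [hv]; ring)
  have e1 : ((v⁻¹ : K[T;T⁻¹]ˣ) : K[T;T⁻¹]) * (LaurentPolynomial.T 1 - 1) =
      1 - LaurentPolynomial.T (-1) := by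
    rw [hv', mul_sub, ← LaurentPolynomial.T_add]; simp
  rw [e1] at hrel
  set w := E.uu (P.reflectionPerm a a) K[T;T⁻¹] (1 - LaurentPolynomial.T (-1)) with hw
  set t := TPt.cow (P.coroot a) v with ht
  have h1 := (hp'.conj_torus t⁻¹).conj_simple ha hc hca hKL (((v⁻¹ : K[T;T⁻¹]ˣ) : K[T;T⁻¹]) * 1)
  have e2 : (E.uu (P.reflectionPerm a a) K[T;T⁻¹] (LaurentPolynomial.T 1 - 1))⁻¹ *
      ((E.uu a K[T;T⁻¹] 1)⁻¹ * Pt.map κ g * E.uu a K[T;T⁻¹] 1) *
      E.uu (P.reflectionPerm a a) K[T;T⁻¹] (LaurentPolynomial.T 1 - 1) =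
      (E.uu a K[T;T⁻¹] (((v⁻¹ : K[T;T⁻¹]ˣ) : K[T;T⁻¹]) * 1))⁻¹ *
        (E.i K[T;T⁻¹] t⁻¹ * (w⁻¹ * Pt.map κ g * w) * (E.i K[T;T⁻¹] t⁻¹)⁻¹) *
        E.uu a K[T;T⁻¹] (((v⁻¹ : K[T;T⁻¹]ˣ) : K[T;T⁻¹]) * 1) := by
    have e3 : (E.uu (P.reflectionPerm a a) K[T;T⁻¹] (LaurentPolynomial.T 1 - 1))⁻¹ *
      ((E.uu a K[T;T⁻¹] 1)⁻¹ * Pt.map κ g * E.uu a K[T;T⁻¹] 1) *
      E.uu (P.reflectionPerm a a) K[T;T⁻¹] (LaurentPolynomial.T 1 - 1) =
      (E.uu a K[T;T⁻¹] 1 * E.uu (P.reflectionPerm a a) K[T;T⁻¹] (LaurentPolynomial.T 1 - 1))⁻¹ *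
        Pt.map κ g *
      (E.uu a K[T;T⁻¹] 1 * E.uu (P.reflectionPerm a a) K[T;T⁻¹] (LaurentPolynomial.T 1 - 1)) := by
      group
    have hi : E.i K[T;T⁻¹] t⁻¹ = (E.i K[T;T⁻¹] t)⁻¹ := map_inv (E.i K[T;T⁻¹]) t
    rw [e3, hrel, hi]
    group
  rw [e2] at hq'
  have h2 := hq'.unique hc h1
  have h3 : p = 0 := by
    apply laurent_eq_zero hpair p q
    refine h2.trans ?_
    congr 1
    rw [← hvn, zpow_neg]
    rfl
  let ψ : K[X] →ₐ[R] K :=
    (Polynomial.aeval (0 : K) : K[X] →ₐ[K] K).restrictScalars R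
  have hψι : ψ.comp ι = AlgHom.id R K := by
    refine AlgHom.ext fun z => ?_
    simp [ψ, ι]
  have hψX : ψ Polynomial.X = 0 := Polynomial.aeval_X _
  have h4 := hp.map ψ
  rw [Pt.map_mul, Pt.map_mul, Pt.map_inv, E.uu_nat, Pt.map_map, hψι, hψX, E.uu_zero, Pt.map_id,
    inv_one, one_mul, mul_one, h3, map_zero] at h4
  exact one_ne_zero (hg.unique hc h4)

/-- the content ideal is the unit ideal for a non-simple positive root -/
theorem cont_eq_top (hc : b.IsPos c) (hc' : c ∉ b.support) : cont E c = ⊤ := by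
  by_contra hne
  obtain ⟨m, hm, hle⟩ := Ideal.exists_le_maximal _ hne
  let := Ideal.Quotient.field m
  obtain ⟨a, ha, hac⟩ := hc.exists_mem_support_pos_pairingIn
  rw [P.zero_lt_pairingIn_iff'] at hac
  refine false_of_field (E := E) (a := a) (c := c) (R ⧸ m) ?_ ha hc (fun h => hc' (h ▸ ha)) ?_
  · intro r hr
    exact Ideal.Quotient.eq_zero_iff_mem.mpr (hle hr)
  · have h1 : P.pairingIn ℤ c a = P.pairing c a := P.algebraMap_pairingIn ℤ c a
    rw [h1, ← P.root_coroot_eq_pairing, E.pairing_eq] at hac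
    exact hac

/-- **Rigidity.** Two "diagonal" homomorphisms from the positive unipotent group of `G` to `G'`
which agree on the simple root groups agree. -/
theorem eq_of_simple {A' : Type u} [CommRing A'] [Algebra R A'] [PtGrp R A']
    (E : PinCell P b R A) (E' : PinCell P b R A') (r ρ : idx → R)
    (hr : ∀ {B : Type u} [CommRing B] [Algebra R B] (x y z : idx → B), pos E x * pos E y = pos E z →
      pos E' (fun a => algebraMap R B (r a) * x a) * pos E' (fun a => algebraMap R B (r a) * y a) =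
        pos E' (fun a => algebraMap R B (r a) * z a))
    (hρ : ∀ {B : Type u} [CommRing B] [Algebra R B] (x y z : idx → B), pos E x * pos E y = pos E z →
      pos E' (fun a => algebraMap R B (ρ a) * x a) * pos E' (fun a => algebraMap R B (ρ a) * y a) =
        pos E' (fun a => algebraMap R B (ρ a) * z a))
    (hs : ∀ a ∈ b.support, r a = ρ a) {c : idx} (hc : b.IsPos c) : r c = ρ c := by
  induction hn : wt b c using Nat.strong_induction_on generalizing c with
  | _ n ih =>
    by_cases hcs : c ∈ b.support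
    · exact hs c hcs
    have h1 : (r c - ρ c) * 1 = 0 := by
      apply mul_cont_eq_zero E ?_ 1 (by rw [cont_eq_top (E := E) hc hcs]; trivial)
      intro x y z hx hy hxyz
      have hcong : ∀ w : idx → MvPolynomial (idx ⊕ idx) R, (∀ a, ¬ wt b a < wt b c → w a = 0) →
          pos E' (fun a => algebraMap R (MvPolynomial (idx ⊕ idx) R) (r a) * w a) =
            pos E' (fun a => algebraMap R (MvPolynomial (idx ⊕ idx) R) (ρ a) * w a) := by
        intro w hw
        apply pos_congr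
        intro a ha
        by_cases hac : wt b a < wt b c
        · rw [ih (wt b a) (hn ▸ hac) ha rfl]
        · rw [hw a hac, mul_zero, mul_zero]
      have h2 := hr x y z hxyz
      have h3 := hρ x y z hxyz
      rw [hcong x hx, hcong y hy, h3] at h2
      have h4 := pos_inj E' h2 hc
      rw [MvPolynomial.algebraMap_eq] at h4
      rw [MvPolynomial.C_sub, sub_mul, h4, sub_self]
    rw [mul_one] at h1
    exact sub_eq_zero.mp h1

end main

end Groth.Agent.Sga3B.BorRig991
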