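import Groth.Agent.Sga3B.CellUniv
import Mathlib.LinearAlgebra.RootSystem.Base

/-!
# The common interface for the isomorphism theorem (S3004): pinned cell data over a ring

`PinCell P b R A`: functor-of-points form of a pinned split reductive group `Spec A` over `Spec R`
with root datum `P : RootPairing idx ℤ M (Module.Dual ℤ M)` and base `b`.  The root datum is a
parameter, so two groups `A`, `A'` can share it.
-/

set_option autoImplicit false
universe u

open Polynomial TensorProduct

namespace Groth.Agent.Sga3B.Cell

/-- the torus point `m ↦ v ^ f(m)` of a cocharacter `f : M → ℤ` and a unit `v`. -/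
def TPt.cow {M : Type} {B : Type u} [AddCommGroup M] [CommRing B] (f : Module.Dual ℤ M) (v : Bˣ) :
    TPt M B where
  toFun m := v ^ (f m.toAdd)
  map_one' := by simp
  map_mul' m n := by rw [toAdd_mul, map_add, zpow_add]

lemma TPt.ch_cow {M : Type} {B : Type u} [AddCommGroup M] [CommRing B] (f : Module.Dual ℤ M)
    (v : Bˣ) (m : M) : TPt.ch m (TPt.cow f v) = ((v ^ (f m) : Bˣ) : B) := rfl

lemma TPt.map_cow {M : Type} {R B C : Type u} [AddCommGroup M] [CommRing R] [CommRing B]
    [Algebra R B] [CommRing C] [Algebra R C] (φ : B →ₐ[R] C) (f : Module.Dual ℤ M) (v : Bˣ) :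
    TPt.map φ (TPt.cow f v) = TPt.cow f (Units.map (φ : B →* C) v) := by
  ext m
  simp [TPt.map, TPt.cow]

section defs

variable {idx M : Type} [Fintype idx] [AddCommGroup M] (P : RootPairing idx ℤ M (Module.Dual ℤ M))

/-- the list of the negative roots (w.r.t. a base), in some fixed order -/
noncomputable def negList {P : RootPairing idx ℤ M (Module.Dual ℤ M)} (b : P.Base) : List idx := by
  classical exact (Finset.univ.filter (fun a => ¬ b.IsPos a)).toList

/-- the list of the positive roots (w.r.t. a base), in some fixed order -/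
noncomputable def posList {P : RootPairing idx ℤ M (Module.Dual ℤ M)} (b : P.Base) : List idx := by
  classical exact (Finset.univ.filter (fun a => b.IsPos a)).toList

variable {P} (b : P.Base)

lemma mem_negList {a : idx} : a ∈ negList b ↔ ¬ b.IsPos a := by simp [negList]

lemma mem_posList {a : idx} : a ∈ posList b ↔ b.IsPos a := by simp [posList]

lemma negList_nodup : (negList b).Nodup := Finset.nodup_toList _

lemma posList_nodup : (posList b).Nodup := Finset.nodup_toList _

/-- all roots, the negative ones first -/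
noncomputable def allList : List idx := negList b ++ posList b

lemma mem_allList (a : idx) : a ∈ allList b := by
  rw [allList, List.mem_append, mem_negList, mem_posList]
  tauto

lemma allList_nodup : (allList b).Nodup := by
  rw [allList, List.nodup_append]
  refine ⟨negList_nodup b, posList_nodup b, ?_⟩
  intro a ha c hc hac
  subst hac
  exact (mem_negList b).mp ha ((mem_posList b).mp hc)

end defs

/-- Functor-of-points form of a pinned split reductive group `Spec A` over `Spec R` with root datum
`(P, b)`: everything that the proof of the isomorphism theorem uses. -/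
structure PinCell {idx M : Type} [Fintype idx] [AddCommGroup M] [Module.Free ℤ M]
    [Module.Finite ℤ M] (P : RootPairing idx ℤ M (Module.Dual ℤ M)) (b : P.Base)
    (R A : Type u) [CommRing R] [CommRing A] [Algebra R A] [PtGrp R A] where
  pairing_eq : P.toLinearMap = Module.Dual.eval ℤ M
  /-- the torus -/
  i : ∀ (B : Type u) [CommRing B] [Algebra R B], TPt M B →* Pt R A B
  i_nat : ∀ {B C : Type u} [CommRing B] [Algebra R B] [CommRing C] [Algebra R C] (φ : B →ₐ[R] C)
    (t : TPt M B), Pt.map φ (i B t) = i C (TPt.map φ t)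
  i_inj : ∀ (B : Type u) [CommRing B] [Algebra R B], Function.Injective (i B)
  /-- the root homomorphisms (those of the negatives of the simple roots are normalised by `rank1`) -/
  uu : idx → ∀ (B : Type u) [CommRing B] [Algebra R B], B → Pt R A B
  uu_add : ∀ (a : idx) {B : Type u} [CommRing B] [Algebra R B] (x y : B),
    uu a B (x + y) = uu a B x * uu a B y
  uu_nat : ∀ (a : idx) {B C : Type u} [CommRing B] [Algebra R B] [CommRing C] [Algebra R C]
    (φ : B →ₐ[R] C) (x : B), Pt.map φ (uu a B x) = uu a C (φ x)
  uu_surj : ∀ a : idx, Function.Surjective (uu a R[X] X).hom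
  rel : ∀ (a : idx) {B : Type u} [CommRing B] [Algebra R B] (t : TPt M B) (x : B),
    i B t * uu a B x * (i B t)⁻¹ = uu a B (TPt.ch (P.root a) t * x)
  /-- (F1) the rank one relation for the simple roots -/
  rank1 : ∀ a ∈ b.support, ∀ {B : Type u} [CommRing B] [Algebra R B] (x y : B) (v : Bˣ),
    (v : B) = 1 + x * y → uu a B x * uu (P.reflectionPerm a a) B y =
      uu (P.reflectionPerm a a) B ((v⁻¹ : Bˣ) * y) * i B (TPt.cow (P.coroot a) v) *
        uu a B ((v⁻¹ : Bˣ) * x)
  /-- (F2) `U_a` and `U_{-c}` commute for simple `a ≠ c` -/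
  comm : ∀ a ∈ b.support, ∀ c ∈ b.support, a ≠ c → ∀ {B : Type u} [CommRing B] [Algebra R B]
    (x y : B), uu a B x * uu (P.reflectionPerm c c) B y = uu (P.reflectionPerm c c) B y * uu a B x
  /-- (F3) conjugation by `n_a = u_a(1) u_{-a}(-1) u_a(1)` -/
  conj : ∀ a ∈ b.support, ∀ c : idx, ∃ r : Rˣ, ∀ {B : Type u} [CommRing B] [Algebra R B] (x : B),
    (uu a B 1 * uu (P.reflectionPerm a a) B (-1) * uu a B 1) * uu c B x *
      (uu a B 1 * uu (P.reflectionPerm a a) B (-1) * uu a B 1)⁻¹ =
      uu (P.reflectionPerm a c) B (algebraMap R B r * x)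
  /-- (F4) the big cell `U⁻ × U⁺ × T → G` is a monomorphism -/
  cell_inj : ∀ {B : Type u} [CommRing B] [Algebra R B] (x x' : idx → B) (t t' : TPt M B),
    ((allList b).map (fun a => uu a B (x a))).prod * i B t =
      ((allList b).map (fun a => uu a B (x' a))).prod * i B t' → x = x' ∧ t = t'
  /-- (F4) the ideal whose complement is the big cell -/
  cellIdeal : Ideal A
  cellIdeal_fg : cellIdeal.FG
  mem_cell_iff : ∀ {B : Type u} [CommRing B] [Algebra R B] (g : Pt R A B),
    (∃ (x : idx → B) (t : TPt M B), g = ((allList b).map (fun a => uu a B (x a))).prod * i B t) ↔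
      cellIdeal.map g.hom.toRingHom = ⊤
  /-- (F5) the simple coordinates are additive on `U⁺` -/
  pos_mul : ∀ {B : Type u} [CommRing B] [Algebra R B] (x y : idx → B), ∃ z : idx → B,
    ((posList b).map (fun a => uu a B (x a))).prod * ((posList b).map (fun a => uu a B (y a))).prod =
      ((posList b).map (fun a => uu a B (z a))).prod ∧ ∀ a ∈ b.support, z a = x a + y a
  /-- (F5) the simple coordinates are additive on `U⁻` -/
  neg_mul : ∀ {B : Type u} [CommRing B] [Algebra R B] (x y : idx → B), ∃ z : idx → B,
    ((negList b).map (fun a => uu a B (x a))).prod * ((negList b).map (fun a => uu a B (y a))).prod =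
      ((negList b).map (fun a => uu a B (z a))).prod ∧
      ∀ a ∈ b.support, z (P.reflectionPerm a a) = x (P.reflectionPerm a a) + y (P.reflectionPerm a a)
  /-- (F6) -/
  fp : Algebra.FinitePresentation R A
  smooth : Algebra.Smooth R A
  domain : ∀ (K : Type u) [Field K] [Algebra R K], IsDomain (K ⊗[R] A)

namespace PinCell

variable {idx M : Type} [Fintype idx] [AddCommGroup M] [Module.Free ℤ M]
    [Module.Finite ℤ M] {P : RootPairing idx ℤ M (Module.Dual ℤ M)} {b : P.Base}
    {R A : Type u} [CommRing R] [CommRing A] [Algebra R A] [PtGrp R A] (E : PinCell P b R A)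

/-- the underlying torus and root homomorphisms -/
def toDatum : Datum R A where
  M := M
  idx := idx
  root := P.root
  i := E.i
  i_nat := E.i_nat
  i_inj := E.i_inj
  uu := E.uu
  uu_add := E.uu_add
  uu_nat := E.uu_nat
  uu_surj := E.uu_surj
  rel := E.rel
  root_inj := P.root.injective
  root_ne a := P.ne_zero a

variable {B C : Type u} [CommRing B] [Algebra R B] [CommRing C] [Algebra R C]

/-- the element `n_a = u_a(1) u_{-a}(-1) u_a(1)` -/
def nn (a : idx) (B : Type u) [CommRing B] [Algebra R B] : Pt R A B :=
  E.uu a B 1 * E.uu (P.reflectionPerm a a) B (-1) * E.uu a B 1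

@[simp] lemma uu_zero (a : idx) : E.uu a B (0 : B) = 1 := E.toDatum.uu_zero a

lemma uu_neg (a : idx) (x : B) : E.uu a B (-x) = (E.uu a B x)⁻¹ := E.toDatum.uu_neg a x

lemma uu_inj (a : idx) : Function.Injective (E.uu a B) := E.toDatum.uu_inj a

lemma nn_nat (a : idx) (φ : B →ₐ[R] C) : Pt.map φ (E.nn a B) = E.nn a C := by
  simp [nn, Pt.map_mul, E.uu_nat]

lemma nn_conj {a : idx} (ha : a ∈ b.support) (c : idx) : ∃ r : Rˣ,
    ∀ {B : Type u} [CommRing B] [Algebra R B] (x : B),
      E.nn a B * E.uu c B x * (E.nn a B)⁻¹ = E.uu (P.reflectionPerm a c) B (algebraMap R B r * x) :=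
  E.conj a ha c

/-- the big cell `U⁻ × U⁺ × T → G` on points -/
noncomputable def cell (x : idx → B) (t : TPt M B) : Pt R A B :=
  ((allList b).map (fun a => E.uu a B (x a))).prod * E.i B t

lemma cell_eq (x : idx → B) (t : TPt M B) : E.cell x t = E.toDatum.cell (allList b) x t := rfl

lemma cell_nat (φ : B →ₐ[R] C) (x : idx → B) (t : TPt M B) :
    Pt.map φ (E.cell x t) = E.cell (fun a => φ (x a)) (TPt.map φ t) :=
  E.toDatum.cell_nat (allList b) φ x t

/-- the coordinate at a root `a` -/
lemma cell_injective {x x' : idx → B} {t t' : TPt M B} (h : E.cell x t = E.cell x' t') :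
    x = x' ∧ t = t' := E.cell_inj x x' t t' h

end PinCell

end Groth.Agent.Sga3B.Cell
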