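import Groth.Agent.Sga3B.RootUniq829

/-!
# Characterisation of the root homomorphisms of a split reductive group ((L4) of S2988)

A nonconstant `T`-equivariant family `V(x)`, `x ∈ 𝔸¹`, of weight `m ≠ 0` with `V(0) = 1` whose
universal point `A → R[X]` is surjective is, up to a unit, a root homomorphism; in particular `m`
is a root.
-/

set_option autoImplicit false
universe u

open Polynomial

namespace Groth.Agent.Sga3B.RootChar876

open Groth.Agent.Sga3B.Cell

section datum

variable {R A : Type u} [CommRing R] [CommRing A] [Algebra R A] [PtGrp R A] {D : Datum R A}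

/-- the algebra map of the point `u_a(c X ^ j)` -/
theorem uu_hom_eq (a : D.idx) (p : R[X]) (f : A) :
    (D.uu a R[X] p).hom f = Polynomial.aeval p ((D.uu a R[X] X).hom f) := by
  have h := D.uu_nat a (Polynomial.aeval p : R[X] →ₐ[R] R[X]) X
  rw [Polynomial.aeval_X] at h
  rw [← h, Pt.map_hom_apply]

/-- `X` is a polynomial in `c X ^ j` only if `j = 1` and `c` is a unit -/
theorem eq_one_of_aeval [Nontrivial R] {c : R} {j : ℕ} {q : R[X]}
    (h : Polynomial.aeval (Polynomial.C c * X ^ j : R[X]) q = X) : j = 1 ∧ IsUnit c := by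
  rcases Nat.eq_zero_or_pos j with rfl | hj
  · exfalso
    rw [pow_zero, mul_one] at h
    have h1 : Polynomial.aeval (Polynomial.C c : R[X]) q = Polynomial.C (q.eval c) := by
      rw [Polynomial.aeval_def, Polynomial.algebraMap_eq, Polynomial.eval₂_at_apply]
    rw [h1] at h
    have h2 := congrArg (fun p : R[X] => p.coeff 1) h
    simp at h2
  · have h1 : (Polynomial.aeval (Polynomial.C c * X ^ j : R[X]) q).coeff 1 =
        if j = 1 then q.coeff 1 * c else 0 := by
      rw [Polynomial.aeval_eq_sum_range, Polynomial.finsetSum_coeff]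
      have h2 : ∀ i, (q.coeff i • (Polynomial.C c * X ^ j : R[X]) ^ i).coeff 1 =
          if i * j = 1 then q.coeff i * c ^ i else 0 := by
        intro i
        rw [mul_pow, ← Polynomial.C_pow, ← pow_mul, Polynomial.coeff_smul, smul_eq_mul,
          Polynomial.coeff_C_mul_X_pow]
        by_cases hi : i * j = 1
        · rw [if_pos hi, if_pos (by rw [mul_comm j i, hi])]
        · rw [if_neg hi, if_neg (by rw [mul_comm j i]; exact fun h => hi h.symm), mul_zero]
      simp only [h2]
      by_cases hj1 : j = 1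
      · subst hj1
        simp only [mul_one, if_true]
        rw [Finset.sum_ite_eq']
        by_cases hq : 1 ∈ Finset.range (q.natDegree + 1)
        · rw [if_pos hq, pow_one]
        · rw [if_neg hq, Polynomial.coeff_eq_zero_of_natDegree_lt, zero_mul]
          rw [Finset.mem_range] at hq
          omega
      · rw [if_neg hj1]
        apply Finset.sum_eq_zero
        intro i _
        rw [if_neg]
        intro h3
        exact hj1 (Nat.eq_one_of_mul_eq_one_left h3)
    rw [h, Polynomial.coeff_X_one] at h1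
    by_cases hj1 : j = 1
    · rw [if_pos hj1] at h1
      exact ⟨hj1, IsUnit.of_mul_eq_one (q.coeff 1) (by rw [mul_comm]; exact h1.symm)⟩
    · rw [if_neg hj1] at h1
      exact absurd h1 one_ne_zero

variable {L : List D.idx} {δ : D.CR}

/-- **Characterisation of root homomorphisms.** -/
theorem exists_eq_uu_of_surjective [Nontrivial R] (hδ : D.EtOn L δ) (hδ0 : D.ev0 δ = 1)
    (hL : L.Nodup) (hL' : ∀ a, a ∈ L)
    (hred : ∀ (a a' : D.idx) (p q : ℕ), p ≠ 0 → q ≠ 0 →
      (p : ℤ) • D.root a = (q : ℤ) • D.root a' → a = a')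
    {m : D.M} (hm : m ≠ 0)
    (V : ∀ (B : Type u) [CommRing B] [Algebra R B], B → Pt R A B)
    (V_nat : ∀ {B C : Type u} [CommRing B] [Algebra R B] [CommRing C] [Algebra R C]
      (φ : B →ₐ[R] C) (x : B), Pt.map φ (V B x) = V C (φ x))
    (V_zero : ∀ (B : Type u) [CommRing B] [Algebra R B], V B 0 = 1)
    (V_rel : ∀ {B : Type u} [CommRing B] [Algebra R B] (t : TPt D.M B) (x : B),
      D.i B t * V B x * (D.i B t)⁻¹ = V B (TPt.ch m t * x))
    (V_surj : Function.Surjective (V R[X] X).hom) :
    ∃ (a : D.idx) (r : Rˣ), D.root a = m ∧ ∀ {B : Type u} [CommRing B] [Algebra R B] (x : B),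
      V B x = D.uu a B (algebraMap R B r * x) := by
  classical
  have : IsAddTorsionFree D.M := .of_isTorsionFree ℤ D.M
  let F : D.Fam Unit (fun _ => m) :=
    { v := fun B _ _ x => V B (x ())
      nat := fun φ x => V_nat φ _
      zero := fun B _ _ => V_zero B
      rel := fun t x => V_rel t _ }
  obtain ⟨lam, n, hn, hlam⟩ := PinComb.exists_functional_of_linearIndependent
    (fun _ : Unit => m) (by
      rw [linearIndependent_unique_iff]
      exact hm) (fun _ => 1)
  obtain ⟨y, hy0, hy, hv⟩ := F.exists_eq hδ hδ0 lam (fun s => by rw [hlam ()]; simpa using hn)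
  -- the weights of the monomials
  have key : ∀ (b : D.idx) (k : Unit →₀ ℕ), MvPolynomial.coeff k (y b) ≠ 0 →
      k () ≠ 0 ∧ ((k () : ℕ) : ℤ) • m = D.root b := by
    intro b k hk
    have h1 := hy b k hk
    have h2 : (k.sum fun _ e => e • m) = ((k () : ℕ) : ℤ) • m := by
      rw [Finsupp.sum_fintype _ _ (by simp)]
      simp
    rw [h2] at h1
    refine ⟨?_, h1⟩
    intro h0
    rw [h0] at h1
    exact D.root_ne b (by rw [← h1]; simp)
  -- some coordinate is nonzero
  by_cases hall : ∀ b, y b = 0
  · exfalso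
    have h1 : V R[X] X = 1 := by
      have h2 := hv R[X] (fun _ => X)
      change V R[X] X = _ at h2
      rw [h2]
      simp only [hall, map_zero]
      rw [D.cell_zero, map_one]
    obtain ⟨f, hf⟩ := V_surj X
    rw [h1] at hf
    have h2 : (1 : Pt R A R[X]) = Pt.map (Algebra.ofId R R[X]) (1 : Pt R A R) :=
      (Pt.map_one _).symm
    rw [h2, Pt.map_hom_apply] at hf
    have h3 := congrArg (fun p : R[X] => p.coeff 1) hf
    rw [Algebra.ofId_apply, Polynomial.algebraMap_eq] at h3
    simp at h3
  · push Not at hall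
    obtain ⟨a, ha⟩ := hall
    obtain ⟨k₀, hk₀⟩ := MvPolynomial.ne_zero_iff.mp ha
    obtain ⟨hk₁, hk₂⟩ := key a k₀ hk₀
    set j : ℕ := k₀ () with hj
    -- all other coordinates vanish
    have hb : ∀ b, b ≠ a → y b = 0 := by
      intro b hba
      ext k
      rw [MvPolynomial.coeff_zero]
      by_contra hk
      obtain ⟨h1, h2⟩ := key b k hk
      apply hba
      refine hred b a j (k ()) hk₁ h1 ?_
      rw [← h2, ← hk₂, smul_comm]
    -- the coordinate at `a` is a monomial
    have hya : y a = MvPolynomial.monomial k₀ (MvPolynomial.coeff k₀ (y a)) := by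
      ext k
      rw [MvPolynomial.coeff_monomial]
      by_cases hk : k₀ = k
      · rw [if_pos hk, hk]
      · rw [if_neg hk]
        by_contra h
        obtain ⟨h1, h2⟩ := key a k h
        apply hk
        ext
        rw [← hk₂, ← sub_eq_zero, ← sub_smul, smul_eq_zero] at h2
        rcases h2 with h2 | h2
        · have : ((k () : ℕ) : ℤ) = (j : ℤ) := by linarith
          exact_mod_cast this.symm
        · exact absurd h2 hm
    set c := MvPolynomial.coeff k₀ (y a) with hc
    have hV : ∀ {B : Type u} [CommRing B] [Algebra R B] (x : B),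
        V B x = D.uu a B (algebraMap R B c * x ^ j) := by
      intro B _ _ x
      have h1 := hv B (fun _ => x)
      rw [Datum.cell_single hL (hL' a) (fun b hba => by rw [hb b hba, map_zero])] at h1
      change V B x = _ at h1
      rw [h1, hya, MvPolynomial.aeval_monomial, Finsupp.prod_fintype _ _ (by simp)]
      simp [hj]
    obtain ⟨f, hf⟩ := V_surj X
    rw [hV X, uu_hom_eq, Polynomial.algebraMap_eq] at hf
    obtain ⟨hj1, hcu⟩ := eq_one_of_aeval hf
    obtain ⟨r, hr⟩ := hcu
    refine ⟨a, r, ?_, ?_⟩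
    · rw [← hk₂, hj1]; simp
    · intro B _ _ x
      rw [hV x, hj1, pow_one, hr]

/-- the same with an additive family -/
theorem exists_eq_uu_of_add [Nontrivial R] (hδ : D.EtOn L δ) (hδ0 : D.ev0 δ = 1)
    (hL : L.Nodup) (hL' : ∀ a, a ∈ L)
    (hred : ∀ (a a' : D.idx) (p q : ℕ), p ≠ 0 → q ≠ 0 →
      (p : ℤ) • D.root a = (q : ℤ) • D.root a' → a = a')
    {m : D.M} (hm : m ≠ 0)
    (V : ∀ (B : Type u) [CommRing B] [Algebra R B], B → Pt R A B)
    (V_nat : ∀ {B C : Type u} [CommRing B] [Algebra R B] [CommRing C] [Algebra R C]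
      (φ : B →ₐ[R] C) (x : B), Pt.map φ (V B x) = V C (φ x))
    (V_add : ∀ {B : Type u} [CommRing B] [Algebra R B] (x y : B), V B (x + y) = V B x * V B y)
    (V_rel : ∀ {B : Type u} [CommRing B] [Algebra R B] (t : TPt D.M B) (x : B),
      D.i B t * V B x * (D.i B t)⁻¹ = V B (TPt.ch m t * x))
    (V_surj : Function.Surjective (V R[X] X).hom) :
    ∃ (a : D.idx) (r : Rˣ), D.root a = m ∧ ∀ {B : Type u} [CommRing B] [Algebra R B] (x : B),
      V B x = D.uu a B (algebraMap R B r * x) := by
  refine exists_eq_uu_of_surjective hδ hδ0 hL hL' hred hm V V_nat (fun B _ _ => ?_) V_rel V_surj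
  have h := V_add (0 : B) 0
  rw [add_zero] at h
  exact mul_eq_left.mp h.symm

/-- version for good data -/
theorem exists_eq_uu_of_good [Nontrivial R] (hG : D.Good)
    (hred : ∀ (a a' : D.idx) (p q : ℕ), p ≠ 0 → q ≠ 0 →
      (p : ℤ) • D.root a = (q : ℤ) • D.root a' → a = a')
    {m : D.M} (hm : m ≠ 0)
    (V : ∀ (B : Type u) [CommRing B] [Algebra R B], B → Pt R A B)
    (V_nat : ∀ {B C : Type u} [CommRing B] [Algebra R B] [CommRing C] [Algebra R C]
      (φ : B →ₐ[R] C) (x : B), Pt.map φ (V B x) = V C (φ x))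
    (V_add : ∀ {B : Type u} [CommRing B] [Algebra R B] (x y : B), V B (x + y) = V B x * V B y)
    (V_rel : ∀ {B : Type u} [CommRing B] [Algebra R B] (t : TPt D.M B) (x : B),
      D.i B t * V B x * (D.i B t)⁻¹ = V B (TPt.ch m t * x))
    (V_surj : Function.Surjective (V R[X] X).hom) :
    ∃ (a : D.idx) (r : Rˣ), D.root a = m ∧ ∀ {B : Type u} [CommRing B] [Algebra R B] (x : B),
      V B x = D.uu a B (algebraMap R B r * x) := by
  classical
  obtain ⟨δ, hδ, hδ0⟩ := hG (Finset.univ.toList) (Finset.nodup_toList _) (by simp)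
  exact exists_eq_uu_of_add hδ hδ0 (Finset.nodup_toList _) (by simp) hred hm V V_nat V_add V_rel
    V_surj

end datum

/-- positively proportional roots of a reduced root datum are equal -/
theorem eq_of_smul_root_eq {idx M N : Type*} [Finite idx] [AddCommGroup M] [AddCommGroup N]
    (P : RootPairing idx ℤ M N) [P.IsReduced] (a a' : idx) (p q : ℕ) (hp : p ≠ 0) (hq : q ≠ 0)
    (h : (p : ℤ) • P.root a = (q : ℤ) • P.root a') : a = a' := by
  have : Module.IsReflexive ℤ M := .of_isPerfPair P.toLinearMap
  have : IsAddTorsionFree M := .of_isTorsionFree ℤ M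
  by_contra hne
  have hld : ¬ LinearIndependent ℤ ![P.root a, P.root a'] := by
    intro hli
    have h1 := LinearIndependent.pair_iff.mp hli (p : ℤ) (-(q : ℤ)) (by
      rw [h, neg_smul, add_neg_cancel])
    exact hp (by exact_mod_cast h1.1)
  have h2 := RootPairing.IsReduced.eq_or_eq_neg (P := P) a a' hld
  rcases h2 with h2 | h2
  · exact hne (P.root.injective h2)
  · rw [h2, smul_neg, ← neg_smul, ← sub_eq_zero, ← sub_smul, smul_eq_zero] at h
    rcases h with h | h
    · omega
    · exact P.ne_zero a' h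

end Groth.Agent.Sga3B.RootChar876
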