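import Groth.Agent.Sga3B.CellOpen
import Groth.Agent.Sga3B.PinCell
import Groth.Agent.Sga3B.RootChar876

/-!
# The big cell of a `PinCell` is étale; characterisation of root homomorphisms for a `PinCell`
-/

set_option autoImplicit false
universe u

open Polynomial TensorProduct

namespace Groth.Agent.Sga3B.PinEt876

open Groth.Agent.Sga3B.Cell

section datum

variable {R A : Type u} [CommRing R] [CommRing A] [Algebra R A] [PtGrp R A]

/-- a cell map which is injective and has the infinitesimal lifting property is étale -/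
theorem phi_etale_of (D : Datum R A) (L : List D.idx) [Algebra.FiniteType R A]
    (hinj : ∀ {B : Type u} [CommRing B] [Algebra R B] {x x' : D.idx → B} {t t' : TPt D.M B},
      D.cell L x t = D.cell L x' t' → x = x' ∧ t = t')
    (hlift : ∀ {B : Type u} [CommRing B] [Algebra R B] {I : Ideal B} (_ : I ^ 2 = ⊥)
      {x₀ : D.idx → B ⧸ I} {t₀ : TPt D.M (B ⧸ I)} {g : Pt R A B},
      D.cell L x₀ t₀ = Pt.map (Ideal.Quotient.mkₐ R I) g →
      ∃ (x : D.idx → B) (t : TPt D.M B), (∀ a, Ideal.Quotient.mk I (x a) = x₀ a) ∧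
        TPt.map (Ideal.Quotient.mkₐ R I) t = t₀ ∧ D.cell L x t = g) :
    (D.phi L : A →+* D.CR).Etale := by
  let _ : Algebra A D.CR := (D.phi L : A →+* D.CR).toAlgebra
  have hT : IsScalarTower R A D.CR := .of_algebraMap_eq fun r => ((D.phi L).commutes r).symm
  have hfp : Algebra.FinitePresentation A D.CR :=
    Algebra.FinitePresentation.of_restrict_scalars_finitePresentation R A D.CR
  have hfe : Algebra.FormallyEtale A D.CR := by
    rw [Algebra.FormallyEtale.iff_comp_bijective]
    intro B _ _ I hI
    let _ : Algebra R B := ((algebraMap A B).comp (algebraMap R A)).toAlgebra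
    have hTB : IsScalarTower R A B := .of_algebraMap_eq fun r => rfl
    let gB : Pt R A B := Pt.mk (IsScalarTower.toAlgHom R A B)
    have hcell : ∀ (C : Type u) [CommRing C] [Algebra A C] [Algebra R C] [IsScalarTower R A C]
        (f : D.CR →ₐ[A] C), D.cell L (fun a => f (MvPolynomial.X a))
          (TPt.map (f.restrictScalars R) D.tU) = Pt.mk (IsScalarTower.toAlgHom R A C) := by
      intro C _ _ _ _ f
      apply Pt.ext
      intro z
      rw [← Datum.ev_phi]
      have h1 := D.eq_ev (f.restrictScalars R)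
      have h2 : D.ev (fun a => f (MvPolynomial.X a)) (TPt.map (f.restrictScalars R) D.tU) =
        f.restrictScalars R := h1.symm
      rw [h2]
      exact f.commutes z
    constructor
    · intro f f' _
      have h1 := (hcell B f).trans (hcell B f').symm
      obtain ⟨h2, h3⟩ := hinj h1
      have h4 : f.restrictScalars R = f'.restrictScalars R := by
        rw [D.eq_ev (f.restrictScalars R), D.eq_ev (f'.restrictScalars R), h3]
        congr 1
      apply AlgHom.ext
      intro z
      exact congrArg (fun k : D.CR →ₐ[R] B => k z) h4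
    · intro f₀
      have h1 := hcell (B ⧸ I) f₀
      obtain ⟨x, t, hx, ht, hg⟩ := hlift hI (g := gB) h1
      let f : D.CR →ₐ[A] B :=
        { (D.ev x t : D.CR →+* B) with
          commutes' := fun z => by
            change D.ev x t (D.phi L z) = algebraMap A B z
            rw [Datum.ev_phi, hg]
            rfl }
      refine ⟨f, ?_⟩
      have h4 : ((Ideal.Quotient.mkₐ R I).comp (D.ev x t)) = f₀.restrictScalars R := by
        rw [D.comp_ev, D.eq_ev (f₀.restrictScalars R), ht]
        congr 1
        funext a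
        exact hx a
      apply AlgHom.ext
      intro z
      exact congrArg (fun k : D.CR →ₐ[R] B ⧸ I => k z) h4
  exact ⟨hfe, hfp⟩

theorem etOn_one_of (D : Datum R A) (L : List D.idx) (h : (D.phi L : A →+* D.CR).Etale) :
    D.EtOn L 1 := by
  unfold Datum.EtOn
  exact RingHom.Etale.stableUnderComposition _ _ h
    (RingHom.etale_algebraMap.mpr (Algebra.Etale.of_isLocalizationAway (1 : D.CR)))

end datum

variable {idx M : Type} [Fintype idx] [AddCommGroup M] [Module.Free ℤ M]
    [Module.Finite ℤ M] {P : RootPairing idx ℤ M (Module.Dual ℤ M)} {b : P.Base}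
    {R A : Type u} [CommRing R] [CommRing A] [Algebra R A] [PtGrp R A] (E : PinCell P b R A)

/-- points of the big cell lift along square zero ideals -/
theorem cell_lift {B : Type u} [CommRing B] [Algebra R B] {I : Ideal B} (hI : I ^ 2 = ⊥)
    {x₀ : idx → B ⧸ I} {t₀ : TPt M (B ⧸ I)} {g : Pt R A B}
    (h : E.cell x₀ t₀ = Pt.map (Ideal.Quotient.mkₐ R I) g) :
    ∃ (x : idx → B) (t : TPt M B), (∀ a, Ideal.Quotient.mk I (x a) = x₀ a) ∧
      TPt.map (Ideal.Quotient.mkₐ R I) t = t₀ ∧ E.cell x t = g := by
  have h1 : E.cellIdeal.map (Pt.map (Ideal.Quotient.mkₐ R I) g).hom.toRingHom = ⊤ :=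
    (E.mem_cell_iff _).mp ⟨x₀, t₀, h.symm⟩
  have h2 : E.cellIdeal.map g.hom.toRingHom = ⊤ := by
    have h3 : (E.cellIdeal.map g.hom.toRingHom).map (Ideal.Quotient.mk I) = ⊤ := by
      rw [Ideal.map_map]
      exact h1
    rw [Ideal.eq_top_iff_one] at h3 ⊢
    obtain ⟨j, hj, hj'⟩ := (Ideal.mem_map_iff_of_surjective _ Ideal.Quotient.mk_surjective).mp h3
    have h4 : j - 1 ∈ I := by rw [← Ideal.Quotient.eq, hj', map_one]
    have h5 : (j - 1) ^ 2 = 0 := by
      have := Ideal.pow_mem_pow h4 2
      rwa [hI] at this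
    have h6 : (1 : B) = j * (2 - j) := by linear_combination h5
    rw [h6]
    exact Ideal.mul_mem_right _ _ hj
  obtain ⟨x, t, hxt⟩ := (E.mem_cell_iff g).mpr h2
  have h3 := E.cell_nat (Ideal.Quotient.mkₐ R I) x t
  rw [show E.cell x t = g from hxt.symm, ← h] at h3
  obtain ⟨h4, h5⟩ := E.cell_injective h3
  exact ⟨x, t, fun a => (congrFun h4 a).symm, h5.symm, hxt.symm⟩

/-- the big cell of a `PinCell` is étale over the group -/
theorem phi_etale : (E.toDatum.phi (allList b) : A →+* E.toDatum.CR).Etale := by
  have := E.fp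
  exact phi_etale_of E.toDatum (allList b) (fun h => E.cell_injective h)
    (fun hI _ _ _ h => cell_lift E hI h)

/-- `EtOn` for a `PinCell` -/
theorem etOn_one : E.toDatum.EtOn (allList b) 1 := etOn_one_of _ _ (phi_etale E)

/-- **Characterisation of root homomorphisms** for a `PinCell`. -/
theorem exists_eq_uu [Nontrivial R] {m : M} (hm : m ≠ 0)
    (V : ∀ (B : Type u) [CommRing B] [Algebra R B], B → Pt R A B)
    (V_nat : ∀ {B C : Type u} [CommRing B] [Algebra R B] [CommRing C] [Algebra R C]
      (φ : B →ₐ[R] C) (x : B), Pt.map φ (V B x) = V C (φ x))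
    (V_add : ∀ {B : Type u} [CommRing B] [Algebra R B] (x y : B), V B (x + y) = V B x * V B y)
    (V_rel : ∀ {B : Type u} [CommRing B] [Algebra R B] (t : TPt M B) (x : B),
      E.i B t * V B x * (E.i B t)⁻¹ = V B (TPt.ch m t * x))
    (V_surj : Function.Surjective (V R[X] X).hom) :
    ∃ (a : idx) (r : Rˣ), P.root a = m ∧ ∀ {B : Type u} [CommRing B] [Algebra R B] (x : B),
      V B x = E.uu a B (algebraMap R B r * x) := by
  have := PinComb.isReduced b
  exact RootChar876.exists_eq_uu_of_add (D := E.toDatum) (etOn_one E) (map_one _)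
    (allList_nodup b) (mem_allList b)
    (fun a a' p q hp hq h => RootChar876.eq_of_smul_root_eq P a a' p q hp hq h) hm V V_nat V_add
    V_rel V_surj

end Groth.Agent.Sga3B.PinEt876
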