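import Groth.Agent.Sga3B.OrbEqui829
import Groth.Agent.Sga3B.BorRig991
import Groth.Agent.Sga3B.PinEt876
import Groth.Agent.Sga3B.Chart
import Groth.Agent.Sga3B.Parab.DynLevi998

/-!
# The universal points of `U_G(λ)` and of the standard Borel subgroup `P_G(λ)`

`λ` a regular dominant cocharacter of the torus of a pinned group.  Every point of `U_G(λ)` is a
product of points of the positive root groups, every point of `P_G(λ)` is such a product times a point
of the torus.
-/

set_option autoImplicit false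
set_option linter.unusedSectionVars false
universe u

open CategoryTheory MonoidalCategory CartesianMonoidalCategory MonObj GrpObj AlgebraicGeometry
open scoped Polynomial LaurentPolynomial

namespace Groth.Agent.Sga3B.BorUniv829

open Cell Cell.Datum PinMod DSPts GaPts Parab OrbEqui829

section kap

variable {S : Scheme.{u}} {C : Type u} [CommRing C] (c : Spec (CommRingCat.of C) ⟶ S)

/-- `Spec C` over `S` in its two guises -/
noncomputable def kap : tB c C ≅ aff C c := Over.isoMk (Iso.refl _) (by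
  change 𝟙 _ ≫ c = Spec.map (CommRingCat.ofHom (RingHom.id C)) ≫ c
  rw [show CommRingCat.ofHom (RingHom.id C) = 𝟙 _ from rfl, Spec.map_id])

lemma gmPr_eq : gmPr C c = tMap c (lC C C) ≫ (kap c).hom := by
  ext1
  change Spec.map _ = Spec.map _ ≫ 𝟙 _
  rw [Category.comp_id]
  rfl

lemma toLin_eq : toLin C c = tMap c (lau C C) := by
  ext1
  rfl

lemma kap_zeroSec : (kap c).hom ≫ zeroSec C c = tMap c (pev C C 0) := by
  ext1
  change 𝟙 _ ≫ Spec.map _ = Spec.map _
  rw [Category.id_comp]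
  rfl

end kap

variable {idx M : Type} [Fintype idx] [AddCommGroup M] [Module.Free ℤ M]
    [Module.Finite ℤ M] {P : RootPairing idx ℤ M (Module.Dual ℤ M)} {b : P.Base}
    {S : Scheme.{u}} {G : Over S} [GrpObj G] {j : Red.DS S M ⟶ G} {u : idx → (Red.Ga S ⟶ G)}

section local_

variable {C : Type u} [CommRing C] {c : Spec (CommRingCat.of C) ⟶ S} (m : PinModel P b G j u c)
  {mu : M →+ ℤ}

lemma gmPr_comp (g : aff C c ⟶ G) :
    gmPr C c ≫ g = m.pts _ (Pt.map (lC C C) ((m.pts C).symm ((kap c).hom ≫ g))) := by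
  rw [← m.pts_nat, MulEquiv.apply_symm_apply, gmPr_eq, Category.assoc]

lemma tPt_comp : tPt C c ≫ Red.DSmap S mu ≫ j =
    m.pts _ (m.E.i _ (m.E.toDatum.cochar mu : TPt M C[T;T⁻¹])) := by
  rw [m.pts_i, tPt, ← Category.assoc, dsEquiv_DSmap]
  rfl

/-- Local coordinates of the points contracted by `mu`. -/
theorem exists_pos (hmu : ∀ a, b.IsPos a ↔ 0 < mu (P.root a)) {g : aff C c ⟶ G}
    (hg : LimOne (Red.DSmap S mu ≫ j) g) :
    ∃ y : idx → C, (kap c).hom ≫ g = m.pts C (BorRig991.pos m.E y) := by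
  obtain ⟨h, h1, h2⟩ := hg
  set p : Pt C m.A C := (m.pts C).symm ((kap c).hom ≫ g) with hp
  set q : Pt C m.A C[X] := (m.pts C[X]).symm h with hq
  have e1 : Pt.map (lau C C) q = m.E.i _ (m.E.toDatum.cochar mu : TPt M C[T;T⁻¹]) *
      Pt.map (lC C C) p * (m.E.i _ (m.E.toDatum.cochar mu : TPt M C[T;T⁻¹]))⁻¹ := by
    apply (m.pts C[T;T⁻¹]).injective
    rw [← m.pts_nat, hq, MulEquiv.apply_symm_apply, ← toLin_eq, h1, orb, map_mul, map_mul, map_inv,
      ← tPt_comp m, ← gmPr_comp m]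
  have e2 : Pt.map (pev C C 0) q = 1 := by
    apply (m.pts C).injective
    rw [← m.pts_nat, hq, MulEquiv.apply_symm_apply, ← kap_zeroSec, Category.assoc, h2,
      MonObj.comp_one, map_one]
  obtain ⟨y, hy, hpy⟩ : ∃ y : idx → C, (∀ a, mu (P.root a) ≤ 0 → y a = 0) ∧ p = m.E.cell y 1 :=
    exists_eq_of_orbit m.E.toDatum (PinEt876.etOn_one m.E) (map_one _) e1 e2
  refine ⟨y, ?_⟩
  have e3 : BorRig991.pp b y = y := by
    funext a
    by_cases ha : b.IsPos a
    · exact BorRig991.pp_of_isPos y ha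
    · rw [BorRig991.pp_of_not y ha, hy a (not_lt.mp (fun h => ha ((hmu a).2 h)))]
  rw [← BorRig991.cell_pp, e3, ← hpy, hp, MulEquiv.apply_symm_apply]

/-- the comparison of the root homomorphisms of the model with `u` -/
def Norm (m : PinModel P b G j u c) : Prop :=
  ∀ a, ∃ r : Cˣ, ∀ x : C, m.pts C (m.E.uu a C (r * x)) = gaPt (tB c C) (fnOf c x) ≫ u a

/-- the product of points of positive root groups -/
noncomputable def pr (b : P.Base) (u : idx → (Red.Ga S ⟶ G)) {X : Over S}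
    (x : idx → (X ⟶ Red.Ga S)) : X ⟶ G := ((posList b).map (fun a => x a ≫ u a)).prod

lemma pr_congr (b : P.Base) (u : idx → (Red.Ga S ⟶ G)) {X : Over S}
    {x y : idx → (X ⟶ Red.Ga S)} (h : ∀ a, b.IsPos a → x a = y a) : pr b u x = pr b u y := by
  unfold pr
  congr 1
  apply List.map_congr_left
  intro a ha
  rw [h a ((mem_posList b).mp ha)]

lemma comp_pr (b : P.Base) (u : idx → (Red.Ga S ⟶ G)) {X Y : Over S} (f : Y ⟶ X)
    (x : idx → (X ⟶ Red.Ga S)) : f ≫ pr b u x = pr b u (fun a => f ≫ x a) := by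
  have h : ∀ l : List idx, f ≫ (l.map (fun a => x a ≫ u a)).prod =
      (l.map (fun a => (f ≫ x a) ≫ u a)).prod := by
    intro l
    induction l with
    | nil => exact MonObj.comp_one _
    | cons a l ih =>
      rw [List.map_cons, List.map_cons, List.prod_cons, List.prod_cons, MonObj.comp_mul, ih,
        Category.assoc]
  exact h _

variable {m}

/-- coordinates in the model -/
lemma pts_pos (hm : Norm m) : ∃ r : idx → Cˣ, ∀ y : idx → C,
    m.pts C (BorRig991.pos m.E (fun a => r a * y a)) =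
      pr b u (fun a => gaPt (tB c C) (fnOf c (y a))) := by
  choose r hr using hm
  refine ⟨r, fun y => ?_⟩
  unfold pr BorRig991.pos
  rw [map_list_prod, List.map_map]
  congr 1
  apply List.map_congr_left
  intro a _
  exact hr a (y a)

/-- existence of coordinates over affine schemes -/
theorem exists_coord (hm : Norm m) (hmu : ∀ a, b.IsPos a ↔ 0 < mu (P.root a)) {g : aff C c ⟶ G}
    (hg : LimOne (Red.DSmap S mu ≫ j) g) :
    ∃ x : idx → (aff C c ⟶ Red.Ga S), g = pr b u x := by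
  obtain ⟨y, hy⟩ := exists_pos m hmu hg
  obtain ⟨r, hr⟩ := pts_pos hm
  refine ⟨fun a => (kap c).inv ≫ gaPt (tB c C) (fnOf c ((r a)⁻¹ * y a)), ?_⟩
  have h1 := hr (fun a => ((r a)⁻¹ : Cˣ) * y a)
  simp only [Units.mul_inv_cancel_left] at h1
  rw [← comp_pr, ← h1, ← hy, Iso.inv_hom_id_assoc]

/-- uniqueness of coordinates over affine schemes -/
theorem coord_unique (hm : Norm m) {x x' : idx → (aff C c ⟶ Red.Ga S)}
    (h : pr b u x = pr b u x') {a : idx} (ha : b.IsPos a) : x a = x' a := by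
  obtain ⟨r, hr⟩ := pts_pos hm
  choose y hy using fun a => exists_gaPt c ((kap c).hom ≫ x a)
  choose y' hy' using fun a => exists_gaPt c ((kap c).hom ≫ x' a)
  have h1 := hr y
  have h2 := hr y'
  rw [show (fun a => gaPt (tB c C) (fnOf c (y a))) = fun a => (kap c).hom ≫ x a from
    (funext hy).symm, ← comp_pr] at h1
  rw [show (fun a => gaPt (tB c C) (fnOf c (y' a))) = fun a => (kap c).hom ≫ x' a from
    (funext hy').symm, ← comp_pr, ← h, ← h1] at h2
  have h3 := BorRig991.pos_inj m.E ((m.pts C).injective h2) ha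
  have h4 : y a = y' a := ((Units.mul_right_inj (r a)).mp h3).symm
  rw [← cancel_epi (kap c).hom, hy, hy', h4]

end local_

section global

/-- **(U)** points contracted by `mu` are products of points of positive root groups. -/
theorem exists_of_ptU {mu : M →+ ℤ} (hmu : ∀ a, b.IsPos a ↔ 0 < mu (P.root a))
    (hmod : ∀ (C : Type u) [CommRing C] (c : Spec (CommRingCat.of C) ⟶ S),
      ∃ m : PinModel P b G j u c, Norm m)
    {X : Over S} {g : X ⟶ G} (hg : PtU (Red.DSmap S mu ≫ j) g) :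
    ∃ x : idx → (X ⟶ Red.Ga S), g = pr b u x := by
  classical
  have hloc : ∀ (R : CommRingCat.{u}) (s : Spec R ⟶ S) (t : Over.mk s ⟶ X),
      ∃ x : idx → (Over.mk s ⟶ Red.Ga S), t ≫ g = pr b u x := by
    intro R s t
    obtain ⟨m, hm⟩ := hmod R s
    exact exists_coord (C := R) (c := s) hm hmu (hg R s t)
  choose F hF using hloc
  have huniq : ∀ (R : CommRingCat.{u}) (s : Spec R ⟶ S) (x x' : idx → (Over.mk s ⟶ Red.Ga S)),
      pr b u x = pr b u x' → ∀ a, b.IsPos a → x a = x' a := by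
    intro R s x x' h a ha
    obtain ⟨m, hm⟩ := hmod R s
    exact coord_unique (C := R) (c := s) hm h ha
  have hex : ∀ a, ∃ f : X ⟶ Red.Ga S, b.IsPos a → ∀ (R : CommRingCat.{u}) (s : Spec R ⟶ S)
      (t : Over.mk s ⟶ X), t ≫ f = F R s t a := by
    intro a
    by_cases ha : b.IsPos a
    · obtain ⟨f, hf, -⟩ := AffYoneda.existsUnique_hom (G := X) (G' := Red.Ga S)
        (fun R s t => F R s t a) (by
          intro R R' s s' h t
          refine huniq R' s' _ (fun a => h ≫ F R s t a) ?_ a ha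
          rw [← hF, ← comp_pr, ← hF, Category.assoc])
      exact ⟨f, fun _ => hf⟩
    · exact ⟨1, fun h => absurd h ha⟩
  choose x hx using hex
  refine ⟨x, ?_⟩
  apply AffYoneda.hom_ext
  intro R s t
  rw [hF, comp_pr]
  exact pr_congr b u (fun a ha => (hx a ha R s t).symm)

/-- the component in the centralizer of a point of `P_G(λ)` over an affine scheme -/
lemma exists_cent {lam : Red.Gm S ⟶ G} [IsMonHom lam] [IsAffineHom G.hom] {T : Over S} [GrpObj T]
    {i : T ⟶ G} (hi : Red.IsCentralizerOf lam i) {C : Type u} [CommRing C]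
    {c : Spec (CommRingCat.of C) ⟶ S} {g : aff C c ⟶ G} (hg : LimEx lam g) :
    ∃ t : aff C c ⟶ T, LimOne lam (g * (t ≫ i)⁻¹) := by
  have hZ := (Parab.DynExist998.isDynZ_iff i).2 hi
  obtain ⟨z, w, hz, hw, hzw⟩ := hg.exists_levi
  obtain ⟨t, ht⟩ := (hZ.iff_ptZ _ z).2 (Parab.Dyn998.ptZ_iff.2 hz)
  refine ⟨t, ?_⟩
  rw [ht, ← hzw]
  exact hw.conj hz.limEx

lemma cent_unique {lam : Red.Gm S ⟶ G} [IsMonHom lam] [IsAffineHom G.hom] {T : Over S} [GrpObj T]
    {i : T ⟶ G} (hi : Red.IsCentralizerOf lam i) {C : Type u} [CommRing C]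
    {c : Spec (CommRingCat.of C) ⟶ S} {g : aff C c ⟶ G} {t t' : aff C c ⟶ T}
    (ht : LimOne lam (g * (t ≫ i)⁻¹)) (ht' : LimOne lam (g * (t' ≫ i)⁻¹)) : t = t' := by
  have hZ := (Parab.DynExist998.isDynZ_iff i).2 hi
  have hmono := hi.2.1
  have h1 : OrbConst lam ((t ≫ i) * (t' ≫ i)⁻¹) := (hZ.ptZ C c t).mul (hZ.ptZ C c t').inv
  have h2 : LimOne lam ((t ≫ i) * (t' ≫ i)⁻¹) := by
    have := ht.inv.mul ht'
    rwa [show (g * (t ≫ i)⁻¹)⁻¹ * (g * (t' ≫ i)⁻¹) = (t ≫ i) * (t' ≫ i)⁻¹ by group] at this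
  have h3 := h2.eq_one h1
  rw [mul_inv_eq_one] at h3
  exact (cancel_mono i).1 h3

/-- **(P)** points of `P_G(λ)` are products of points of positive root groups and of the torus. -/
theorem exists_of_ptP {mu : M →+ ℤ} (hmu : ∀ a, b.IsPos a ↔ 0 < mu (P.root a))
    (hmod : ∀ (C : Type u) [CommRing C] (c : Spec (CommRingCat.of C) ⟶ S),
      ∃ m : PinModel P b G j u c, Norm m) [IsMonHom (Red.DSmap S mu ≫ j)] [IsAffineHom G.hom]
    {T : Over S} [GrpObj T] {i : T ⟶ G} (hi : Red.IsCentralizerOf (Red.DSmap S mu ≫ j) i)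
    {X : Over S} {g : X ⟶ G} (hg : PtP (Red.DSmap S mu ≫ j) g) :
    ∃ (t : X ⟶ T) (x : idx → (X ⟶ Red.Ga S)), g = pr b u x * (t ≫ i) := by
  have hloc : ∀ (R : CommRingCat.{u}) (s : Spec R ⟶ S) (t : Over.mk s ⟶ X),
      ∃ τ : Over.mk s ⟶ T, LimOne (C := R) (c := s) (Red.DSmap S mu ≫ j) ((t ≫ g) * (τ ≫ i)⁻¹) :=
    fun R s t => exists_cent (C := R) (c := s) hi (hg R s t)
  choose F hF using hloc
  obtain ⟨t, ht, -⟩ := AffYoneda.existsUnique_hom (G := X) (G' := T) F (by
    intro R R' s s' h t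
    have h1 := (hF R s t).comp (D := R') (d := s') h
    rw [MonObj.comp_mul, GrpObj.comp_inv, ← Category.assoc, ← Category.assoc] at h1
    exact cent_unique (C := R') (c := s') hi (hF R' s' (h ≫ t)) h1)
  have h2 : PtU (Red.DSmap S mu ≫ j) (g * (t ≫ i)⁻¹) := by
    intro C _ c x
    have h3 := hF (CommRingCat.of C) c x
    rw [← ht] at h3
    rw [MonObj.comp_mul, GrpObj.comp_inv, ← Category.assoc]
    exact h3
  obtain ⟨x, hx⟩ := exists_of_ptU hmu hmod h2
  exact ⟨t, x, by rw [← hx, inv_mul_cancel_right]⟩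

end global

/-! ### The forms used for S2988 -/

section pinning

open PinFinal

variable {D : Red.Pinning G} {mu : D.M →+ ℤ}

/-- the normalisation hypothesis in terms of all test rings -/
lemma norm_of {R : Type u} [CommRing R] {s : Spec (CommRingCat.of R) ⟶ S}
    {m : PinModel P b G j u s}
    (h : ∀ a, ∃ r : Rˣ, ∀ (B : Type u) [CommRing B] [Algebra R B] (x : B),
      m.pts B (m.E.uu a B (algebraMap R B r * x)) = gaPt (tB s B) (fnOf s x) ≫ u a) : Norm m :=
  fun a => (h a).imp fun _ hr x => hr R x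

/-- **(U) for S2988.** -/
theorem univ_U (hmu : ∀ a, D.base.IsPos a ↔ 0 < mu (D.P.root a))
    (hmodel : ∀ (R : Type u) [CommRing R] (s : Spec (CommRingCat.of R) ⟶ S),
      Nonempty (PinModel D.P D.base G (jOf D.toSplitRed) D.u s))
    (hu : ∀ (R : Type u) [CommRing R] (s : Spec (CommRingCat.of R) ⟶ S)
      (m : PinModel D.P D.base G (jOf D.toSplitRed) D.u s) (a : D.idx), ∃ r : Rˣ,
      ∀ (B : Type u) [CommRing B] [Algebra R B] (x : B),
        m.pts B (m.E.uu a B (algebraMap R B r * x)) = gaPt (tB s B) (fnOf s x) ≫ D.u a)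
    {X : Over S} {g : X ⟶ G}
    (hg : PtU (Red.DSmap S mu ≫ D.split.inv.hom.hom ≫ D.i) g) :
    ∃ x : D.idx → (X ⟶ Red.Ga S),
      g = ((Cell.posList D.base).map (fun a => x a ≫ D.u a)).prod :=
  exists_of_ptU (P := D.P) (b := D.base) (j := jOf D.toSplitRed) (u := D.u) hmu
    (fun R _ s => by
      obtain ⟨m⟩ := hmodel R s
      exact ⟨m, norm_of (hu R s m)⟩) hg

/-- **(P) for S2988.** -/
theorem univ_P [IsAffineHom G.hom] (hmu : ∀ a, D.base.IsPos a ↔ 0 < mu (D.P.root a))
    (hmodel : ∀ (R : Type u) [CommRing R] (s : Spec (CommRingCat.of R) ⟶ S),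
      Nonempty (PinModel D.P D.base G (jOf D.toSplitRed) D.u s))
    (hu : ∀ (R : Type u) [CommRing R] (s : Spec (CommRingCat.of R) ⟶ S)
      (m : PinModel D.P D.base G (jOf D.toSplitRed) D.u s) (a : D.idx), ∃ r : Rˣ,
      ∀ (B : Type u) [CommRing B] [Algebra R B] (x : B),
        m.pts B (m.E.uu a B (algebraMap R B r * x)) = gaPt (tB s B) (fnOf s x) ≫ D.u a)
    (hc : Red.IsCentralizerOf (Red.DSmap S mu ≫ D.split.inv.hom.hom ≫ D.i) D.i)
    {X : Over S} {g : X ⟶ G}
    (hg : PtP (Red.DSmap S mu ≫ D.split.inv.hom.hom ≫ D.i) g) :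
    ∃ (t : X ⟶ D.T) (x : D.idx → (X ⟶ Red.Ga S)),
      g = ((Cell.posList D.base).map (fun a => x a ≫ D.u a)).prod * (t ≫ D.i) := by
  have h1 : IsMonHom (Red.DSmap S mu) := isMonHom_DSmap mu
  have h2 : IsMonHom (jOf D.toSplitRed) := Chart.isMonHom_j D.toSplitRed
  have h3 : IsMonHom (Red.DSmap S mu ≫ jOf D.toSplitRed) := inferInstance
  exact exists_of_ptP (P := D.P) (b := D.base) (j := jOf D.toSplitRed) (u := D.u) hmu
    (fun R _ s => by
      obtain ⟨m⟩ := hmodel R s
      exact ⟨m, norm_of (hu R s m)⟩) hc hg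

end pinning

end Groth.Agent.Sga3B.BorUniv829
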