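import Groth.Prelude.Def_Red2
import Groth.Agent.Sga3B.PinCell

/-!
# Standard Borel subgroups of pinned groups, and compatible pinnings (for S2988)
-/

set_option autoImplicit false
universe u

open CategoryTheory MonoidalCategory CartesianMonoidalCategory MonObj GrpObj AlgebraicGeometry

namespace Groth.Agent.Sga3B.BorStd991

open Groth.Agent.Sga3B.Cell (posList)

variable {S : Scheme.{u}} {G G' B B' : Over S} [GrpObj G] [GrpObj G'] [GrpObj B] [GrpObj B']

/-- `iB : B ⟶ G` is the standard Borel subgroup of the pinning `D`: it contains the torus and the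
positive root groups, and its universal point is `∏_{a > 0} u_a(x_a) · t`. -/
structure IsStd (iB : B ⟶ G) (D : Red.Pinning G) : Prop where
  isMonHom : IsMonHom iB
  mono : Mono iB
  torus : ∃ j : D.T ⟶ B, j ≫ iB = D.i
  root : ∀ a, D.base.IsPos a → ∃ v : Red.Ga S ⟶ B, v ≫ iB = D.u a
  univ : ∃ (t : B ⟶ D.T) (x : D.idx → (B ⟶ Red.Ga S)),
    iB = ((posList D.base).map (fun a => x a ≫ D.u a)).prod * (t ≫ D.i)

/-- The pinnings `D` of `G` and `D'` of `G'` correspond to each other under `f : B ≅ B'`, through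
the isomorphism `h` of root data. -/
structure Compat (iB : B ⟶ G) (iB' : B' ⟶ G') (f : Grp.mk B ≅ Grp.mk B') (D : Red.Pinning G)
    (D' : Red.Pinning G') (h : RootPairing.Equiv D'.P D.P) : Prop where
  base : ∀ a' : D'.idx, a' ∈ D'.base.support ↔ h.indexEquiv a' ∈ D.base.support
  torus : ∃ j : D.T ⟶ B, j ≫ iB = D.i ∧ j ≫ f.hom.hom.hom ≫ iB' =
    D.split.hom.hom.hom ≫ Red.DSmap S h.weightMap.toAddMonoidHom ≫ D'.split.inv.hom.hom ≫ D'.i
  root : ∀ a' : D'.idx, a' ∈ D'.base.support → ∃ v : Red.Ga S ⟶ B, v ≫ iB = D.u (h.indexEquiv a') ∧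
    v ≫ f.hom.hom.hom ≫ iB' = D'.u a'

end Groth.Agent.Sga3B.BorStd991
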