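import Mathlib.Algebra.Polynomial.Laurent
import Mathlib.Algebra.MvPolynomial.Basic
import Mathlib.Algebra.MvPolynomial.Eval
import Mathlib.Algebra.MonoidAlgebra.Basic
import Mathlib.RingTheory.Nilpotent.Basic
import Mathlib.LinearAlgebra.FreeModule.Finite.Basic
import Mathlib.Tactic.Group

/-!
# Affine group functors with a split torus and root homomorphisms: basic definitions

`Pt R A B` = B-points of Spec A over R.  `PtGrp R A` = natural group structure on the points.
`Datum R A` = a split torus and root homomorphisms in functor-of-points form.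
-/

set_option autoImplicit false
universe u

open Polynomial

namespace Groth.Agent.Sga3B.Cell

section Pt

variable (R A B : Type u) [CommRing R] [CommRing A] [Algebra R A] [CommRing B] [Algebra R B]

/-- The `B`-valued points of `Spec A` over `R`. -/
def Pt : Type u := A →ₐ[R] B

variable {R A B}

/-- the underlying algebra homomorphism of a point -/
def Pt.hom (f : Pt R A B) : A →ₐ[R] B := f

/-- a point from an algebra homomorphism -/
def Pt.mk (f : A →ₐ[R] B) : Pt R A B := f

@[simp] lemma Pt.hom_mk (f : A →ₐ[R] B) : (Pt.mk f).hom = f := rfl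
@[simp] lemma Pt.mk_hom (f : Pt R A B) : Pt.mk f.hom = f := rfl

@[ext] lemma Pt.ext {f g : Pt R A B} (h : ∀ a, f.hom a = g.hom a) : f = g :=
  AlgHom.ext h

variable {C : Type u} [CommRing C] [Algebra R C]

/-- functoriality of points -/
def Pt.map (φ : B →ₐ[R] C) (f : Pt R A B) : Pt R A C := Pt.mk (φ.comp f.hom)

@[simp] lemma Pt.map_hom_apply (φ : B →ₐ[R] C) (f : Pt R A B) (a : A) :
    (Pt.map φ f).hom a = φ (f.hom a) := rfl

lemma Pt.map_hom (φ : B →ₐ[R] C) (f : Pt R A B) : (Pt.map φ f).hom = φ.comp f.hom := rfl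

@[simp] lemma Pt.map_id (f : Pt R A B) : Pt.map (AlgHom.id R B) f = f := rfl

lemma Pt.map_map {D : Type u} [CommRing D] [Algebra R D] (φ : B →ₐ[R] C) (ψ : C →ₐ[R] D)
    (f : Pt R A B) : Pt.map ψ (Pt.map φ f) = Pt.map (ψ.comp φ) f := rfl

lemma Pt.map_injective {φ : B →ₐ[R] C} (hφ : Function.Injective φ) :
    Function.Injective (Pt.map (A := A) φ) := by
  intro f g h
  apply Pt.ext
  intro a
  apply hφ
  exact congrArg (fun k : Pt R A C => k.hom a) h

end Pt

/-- A natural group structure on the points of `Spec A`. -/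
class PtGrp (R A : Type u) [CommRing R] [CommRing A] [Algebra R A] where
  /-- the group structure on points -/
  grp : ∀ (B : Type u) [CommRing B] [Algebra R B], Group (Pt R A B)
  map_mul' : ∀ {B C : Type u} [CommRing B] [Algebra R B] [CommRing C] [Algebra R C]
    (φ : B →ₐ[R] C) (f g : Pt R A B), Pt.map φ (f * g) = Pt.map φ f * Pt.map φ g

attribute [reducible, instance] PtGrp.grp

section PtGrp

variable {R A : Type u} [CommRing R] [CommRing A] [Algebra R A] [PtGrp R A]
variable {B C : Type u} [CommRing B] [Algebra R B] [CommRing C] [Algebra R C]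

/-- `Pt.map` as a group homomorphism. -/
def Pt.mapHom (φ : B →ₐ[R] C) : Pt R A B →* Pt R A C := MonoidHom.mk' (Pt.map φ) (PtGrp.map_mul' φ)

@[simp] lemma Pt.mapHom_apply (φ : B →ₐ[R] C) (f : Pt R A B) : Pt.mapHom φ f = Pt.map φ f := rfl

lemma Pt.map_mul (φ : B →ₐ[R] C) (f g : Pt R A B) : Pt.map φ (f * g) = Pt.map φ f * Pt.map φ g :=
  PtGrp.map_mul' φ f g

lemma Pt.map_inv (φ : B →ₐ[R] C) (f : Pt R A B) : Pt.map φ f⁻¹ = (Pt.map φ f)⁻¹ :=
  _root_.map_inv (Pt.mapHom φ) f

lemma Pt.map_one (φ : B →ₐ[R] C) : Pt.map φ (1 : Pt R A B) = 1 :=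
  _root_.map_one (Pt.mapHom φ)

lemma Pt.map_list_prod (φ : B →ₐ[R] C) (l : List (Pt R A B)) :
    Pt.map φ l.prod = (l.map (Pt.map φ)).prod :=
  _root_.map_list_prod (Pt.mapHom (A := A) φ) l

end PtGrp

/-- points of the split torus with character group `M`. -/
abbrev TPt (M : Type) (B : Type u) [AddCommGroup M] [CommRing B] := Multiplicative M →* Bˣ

/-- functoriality of torus points -/
def TPt.map {M : Type} [AddCommGroup M] {R B C : Type u} [CommRing R] [CommRing B] [Algebra R B]
    [CommRing C] [Algebra R C] (φ : B →ₐ[R] C) : TPt M B →* TPt M C where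
  toFun t := (Units.map (φ : B →* C)).comp t
  map_one' := by ext; simp
  map_mul' s t := by ext; simp

@[simp] lemma TPt.map_apply {M : Type} [AddCommGroup M] {R B C : Type u} [CommRing R] [CommRing B]
    [Algebra R B] [CommRing C] [Algebra R C] (φ : B →ₐ[R] C) (t : TPt M B) (m : Multiplicative M) :
    ((TPt.map φ t m : Cˣ) : C) = φ (t m : B) := rfl

/-- value of a character on a torus point -/
def TPt.ch {M : Type} [AddCommGroup M] {B : Type u} [CommRing B] (m : M) (t : TPt M B) : B :=
  ((t (Multiplicative.ofAdd m) : Bˣ) : B)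

section ch
variable {M : Type} [AddCommGroup M] {R B C : Type u} [CommRing R] [CommRing B]
    [Algebra R B] [CommRing C] [Algebra R C]

@[simp] lemma TPt.ch_map (φ : B →ₐ[R] C) (m : M) (t : TPt M B) :
    TPt.ch m (TPt.map φ t) = φ (TPt.ch m t) := rfl

@[simp] lemma TPt.ch_one (m : M) : TPt.ch m (1 : TPt M B) = 1 := rfl

@[simp] lemma TPt.ch_mul (m : M) (s t : TPt M B) : TPt.ch m (s * t) = TPt.ch m s * TPt.ch m t := rfl

lemma TPt.ch_add (m n : M) (t : TPt M B) : TPt.ch (m + n) t = TPt.ch m t * TPt.ch n t := by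
  simp [TPt.ch, ofAdd_add]

@[simp] lemma TPt.ch_zero (t : TPt M B) : TPt.ch (0 : M) t = 1 := by
  simp [TPt.ch]

lemma TPt.isUnit_ch (m : M) (t : TPt M B) : IsUnit (TPt.ch m t) := Units.isUnit _

lemma TPt.ext_ch {s t : TPt M B} (h : ∀ m, TPt.ch m s = TPt.ch m t) : s = t :=
  MonoidHom.ext fun m => Units.ext (h m.toAdd)

end ch

/-- A split torus and root homomorphisms in the affine group functor `Pt R A`. -/
structure Datum (R A : Type u) [CommRing R] [CommRing A] [Algebra R A] [PtGrp R A] where
  /-- character group -/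
  M : Type
  [acg : AddCommGroup M]
  [free : Module.Free ℤ M]
  [fin : Module.Finite ℤ M]
  /-- index type of the roots -/
  idx : Type
  [fty : Fintype idx]
  /-- the roots -/
  root : idx → M
  /-- the torus -/
  i : ∀ (B : Type u) [CommRing B] [Algebra R B], TPt M B →* Pt R A B
  i_nat : ∀ {B C : Type u} [CommRing B] [Algebra R B] [CommRing C] [Algebra R C] (φ : B →ₐ[R] C)
    (t : TPt M B), Pt.map φ (i B t) = i C (TPt.map φ t)
  i_inj : ∀ (B : Type u) [CommRing B] [Algebra R B], Function.Injective (i B)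
  /-- the root homomorphisms -/
  uu : idx → ∀ (B : Type u) [CommRing B] [Algebra R B], B → Pt R A B
  uu_add : ∀ (a : idx) {B : Type u} [CommRing B] [Algebra R B] (x y : B),
    uu a B (x + y) = uu a B x * uu a B y
  uu_nat : ∀ (a : idx) {B C : Type u} [CommRing B] [Algebra R B] [CommRing C] [Algebra R C]
    (φ : B →ₐ[R] C) (x : B), Pt.map φ (uu a B x) = uu a C (φ x)
  uu_surj : ∀ a : idx, Function.Surjective (uu a R[X] X).hom
  rel : ∀ (a : idx) {B : Type u} [CommRing B] [Algebra R B] (t : TPt M B) (x : B),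
    i B t * uu a B x * (i B t)⁻¹ = uu a B (TPt.ch (root a) t * x)
  root_inj : Function.Injective root
  root_ne : ∀ a, root a ≠ 0

attribute [instance] Datum.acg Datum.free Datum.fin Datum.fty

namespace Datum

variable {R A : Type u} [CommRing R] [CommRing A] [Algebra R A] [PtGrp R A] (D : Datum R A)
variable {B C : Type u} [CommRing B] [Algebra R B] [CommRing C] [Algebra R C]

@[simp] lemma uu_zero (a : D.idx) : D.uu a B (0 : B) = 1 := by
  have h := D.uu_add a (0 : B) 0
  rw [add_zero] at h
  exact (mul_eq_left.mp h.symm)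

lemma uu_neg (a : D.idx) (x : B) : D.uu a B (-x) = (D.uu a B x)⁻¹ := by
  rw [eq_inv_iff_mul_eq_one, ← D.uu_add, neg_add_cancel, D.uu_zero]

lemma uu_inj (a : D.idx) : Function.Injective (D.uu a B) := by
  intro x y h
  obtain ⟨f, hf⟩ := D.uu_surj a X
  have key : ∀ z : B, (D.uu a B z).hom f = z := by
    intro z
    have h1 := D.uu_nat a (Polynomial.aeval z : R[X] →ₐ[R] B) X
    rw [Polynomial.aeval_X] at h1
    rw [← h1, Pt.map_hom_apply, hf, Polynomial.aeval_X]
  rw [← key x, ← key y, h]

/-- The product of root group elements over a list followed by a torus element. -/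
def cell (L : List D.idx) (x : D.idx → B) (t : TPt D.M B) : Pt R A B :=
  (L.map (fun a => D.uu a B (x a))).prod * D.i B t

lemma cell_nat (L : List D.idx) (φ : B →ₐ[R] C) (x : D.idx → B) (t : TPt D.M B) :
    Pt.map φ (D.cell L x t) = D.cell L (fun a => φ (x a)) (TPt.map φ t) := by
  unfold cell
  rw [Pt.map_mul, Pt.map_list_prod, D.i_nat, List.map_map]
  congr 2
  apply List.map_congr_left
  intro a _
  simp [D.uu_nat]

lemma cell_mul_i (L : List D.idx) (x : D.idx → B) (t s : TPt D.M B) :
    D.cell L x t * D.i B s = D.cell L x (t * s) := by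
  unfold cell; rw [map_mul, mul_assoc]

lemma i_mul_prod (L : List D.idx) (x : D.idx → B) (t : TPt D.M B) :
    D.i B t * (L.map (fun a => D.uu a B (x a))).prod =
      (L.map (fun a => D.uu a B (TPt.ch (D.root a) t * x a))).prod * D.i B t := by
  induction L with
  | nil => simp
  | cons a L ih =>
    simp only [List.map_cons, List.prod_cons]
    rw [← mul_assoc, mul_assoc (D.uu a B _), ← ih, ← mul_assoc, ← D.rel]
    group

lemma i_mul_cell (L : List D.idx) (x : D.idx → B) (t s : TPt D.M B) :
    D.i B s * D.cell L x t = D.cell L (fun a => TPt.ch (D.root a) s * x a) (s * t) := by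
  unfold cell
  rw [← mul_assoc, i_mul_prod, mul_assoc, ← map_mul]

lemma conj_cell (L : List D.idx) (x : D.idx → B) (t s : TPt D.M B) :
    D.i B s * D.cell L x t * (D.i B s)⁻¹ = D.cell L (fun a => TPt.ch (D.root a) s * x a) t := by
  rw [i_mul_cell, ← map_inv, cell_mul_i, mul_comm s t]
  congr 1
  exact mul_inv_cancel_right t s

@[simp] lemma cell_zero (L : List D.idx) (t : TPt D.M B) : D.cell L (fun _ => (0 : B)) t = D.i B t := by
  unfold cell
  have : (L.map (fun a => D.uu a B (0 : B))).prod = 1 := by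
    apply List.prod_eq_one
    intro y hy
    obtain ⟨a, _, rfl⟩ := List.mem_map.mp hy
    simp
  rw [this, one_mul]

end Datum

end Groth.Agent.Sga3B.Cell
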