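import Groth.Agent.Sga3B.CellTan
import Groth.Agent.Sga3B.CellN
import Mathlib.RingTheory.Ideal.Maximal
import Mathlib.RingTheory.Ideal.Quotient.Basic
import Mathlib.GroupTheory.QuotientGroup.Basic

/-!
# The torus is a closed subgroup: `A → R[M]` is surjective
-/

set_option autoImplicit false
universe u

namespace Groth.Agent.Sga3B.Cell

/-- product of torus points (for coefficient rings where the instance is hard to find) -/
def TPt.mulP {M : Type} [AddCommGroup M] {B : Type u} [CommRing B] (s t : TPt M B) : TPt M B := s * t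

lemma TPt.ch_mulP {M : Type} [AddCommGroup M] {B : Type u} [CommRing B] (s t : TPt M B) (m : M) :
    TPt.ch m (TPt.mulP s t) = TPt.ch m s * TPt.ch m t := rfl

namespace Datum

open Groth.Agent.Sga3B.Cell

variable {R A : Type u} [CommRing R] [CommRing A] [Algebra R A] [PtGrp R A] (D : Datum R A)

section
variable {B : Type u} [CommRing B] [Algebra R B]

/-- restriction of functions to the torus -/
noncomputable def pi : A →ₐ[R] MonoidAlgebra R (Multiplicative D.M) :=
  (D.i _ (D.sU (B := R))).hom

lemma map_evT_sU (t : TPt D.M B) : TPt.map (D.evT t) (D.sU (B := R)) = t := by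
  apply TPt.ext_ch
  intro m
  rw [TPt.ch_map, ch_sU, evT_single]
  simp [TPt.ch]

lemma i_hom_apply (t : TPt D.M B) (f : A) : (D.i B t).hom f = D.evT t (D.pi f) := by
  conv_lhs => rw [← D.map_evT_sU t, ← D.i_nat]
  rfl

lemma i_mulP (s t : TPt D.M B) : D.i B (TPt.mulP s t) = D.i B s * D.i B t := D.i_mul' s t

end

/-- the universal point translated by the universal torus point -/
noncomputable def trP : Pt R A (MonoidAlgebra A (Multiplicative D.M)) :=
  Pt.map (IsScalarTower.toAlgHom R A (MonoidAlgebra A (Multiplicative D.M)))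
    (Pt.mk (AlgHom.id R A)) * D.i _ (D.sU (B := A))

/-- the diagonal torus point over `R[M][M]` -/
noncomputable def tDiag : TPt D.M (MonoidAlgebra (MonoidAlgebra R (Multiplicative D.M))
    (Multiplicative D.M)) :=
  TPt.mulP (TPt.map (IsScalarTower.toAlgHom R (MonoidAlgebra R (Multiplicative D.M))
    (MonoidAlgebra (MonoidAlgebra R (Multiplicative D.M)) (Multiplicative D.M))) (D.sU (B := R)))
    (D.sU (B := MonoidAlgebra R (Multiplicative D.M)))

lemma ch_tDiag (m : D.M) : TPt.ch m D.tDiag =
    MonoidAlgebra.single (Multiplicative.ofAdd m)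
      (MonoidAlgebra.single (Multiplicative.ofAdd m) (1 : R)) := by
  unfold tDiag
  rw [TPt.ch_mulP, TPt.ch_map, ch_sU, ch_sU, IsScalarTower.coe_toAlgHom', MonoidAlgebra.coe_algebraMap]
  simp [MonoidAlgebra.single_mul_single]

lemma coeff_evT_tDiag (z : MonoidAlgebra R (Multiplicative D.M)) (m : Multiplicative D.M) :
    (D.evT D.tDiag z).coeff m = MonoidAlgebra.single m (z.coeff m) := by
  classical
  induction z using MonoidAlgebra.induction_linear with
  | zero => simp
  | add x y hx hy =>
    rw [map_add, MonoidAlgebra.coeff_add, Finsupp.add_apply, hx, hy, MonoidAlgebra.coeff_add,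
      Finsupp.add_apply, MonoidAlgebra.single_add]
  | single n r =>
    rw [evT_single]
    have h1 : ((D.tDiag n : _) : MonoidAlgebra (MonoidAlgebra R (Multiplicative D.M))
        (Multiplicative D.M)) = TPt.ch n.toAdd D.tDiag := rfl
    rw [h1, ch_tDiag, ← Algebra.smul_def, MonoidAlgebra.coeff_smul_apply,
      MonoidAlgebra.coeff_single, MonoidAlgebra.coeff_single, Finsupp.single_apply,
      Finsupp.single_apply]
    simp only [ofAdd_toAdd]
    split_ifs with h
    · subst h
      rw [MonoidAlgebra.smul_single]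
      simp
    · simp

/-- The image of `A → R[M]` contains the homogeneous components of its elements. -/
lemma exists_pi_eq_single (f : A) (m : Multiplicative D.M) :
    ∃ f' : A, D.pi f' = MonoidAlgebra.single m ((D.pi f).coeff m) := by
  refine ⟨(D.trP.hom f).coeff m, ?_⟩
  have e1 : Pt.map (MonoidAlgebra.mapAlgHom (Multiplicative D.M) D.pi)
      (Pt.map (IsScalarTower.toAlgHom R A (MonoidAlgebra A (Multiplicative D.M)))
        (Pt.mk (AlgHom.id R A))) =
      D.i _ (TPt.map (IsScalarTower.toAlgHom R (MonoidAlgebra R (Multiplicative D.M))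
        (MonoidAlgebra (MonoidAlgebra R (Multiplicative D.M)) (Multiplicative D.M)))
        (D.sU (B := R))) := by
    rw [← D.i_nat]
    apply Pt.ext
    intro f
    change MonoidAlgebra.mapAlgHom (Multiplicative D.M) D.pi
      (algebraMap A (MonoidAlgebra A (Multiplicative D.M)) f) =
      algebraMap (MonoidAlgebra R (Multiplicative D.M))
        (MonoidAlgebra (MonoidAlgebra R (Multiplicative D.M)) (Multiplicative D.M)) (D.pi f)
    rw [MonoidAlgebra.coe_algebraMap, MonoidAlgebra.coe_algebraMap]
    simp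
  have e2 : Pt.map (MonoidAlgebra.mapAlgHom (Multiplicative D.M) D.pi) (D.i _ (D.sU (B := A))) =
      D.i _ (D.sU (B := MonoidAlgebra R (Multiplicative D.M))) := by
    rw [D.i_nat]
    congr 1
    apply TPt.ext_ch
    intro m
    rw [TPt.ch_map, ch_sU, ch_sU, MonoidAlgebra.mapAlgHom_single, map_one]
  have h1 : Pt.map (MonoidAlgebra.mapAlgHom (Multiplicative D.M) D.pi) D.trP =
      D.i _ D.tDiag := by
    unfold trP tDiag
    rw [Pt.map_mul, i_mulP, e1, e2]
  have h2 := congrArg (fun g : Pt R A (MonoidAlgebra (MonoidAlgebra R (Multiplicative D.M))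
    (Multiplicative D.M)) => (g.hom f).coeff m) h1
  simp only [Pt.map_hom_apply, MonoidAlgebra.coeff_mapAlgHom] at h2
  rw [h2, i_hom_apply, coeff_evT_tDiag]

/-- the ideal of coefficients of the character `m` occurring in functions on `G` -/
def coefI (m : Multiplicative D.M) : Ideal R where
  carrier := {c | ∃ f, D.pi f = MonoidAlgebra.single m c}
  zero_mem' := ⟨0, by simp⟩
  add_mem' := by
    rintro c c' ⟨f, hf⟩ ⟨f', hf'⟩
    exact ⟨f + f', by rw [map_add, hf, hf', MonoidAlgebra.single_add]⟩
  smul_mem' := by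
    rintro r c ⟨f, hf⟩
    exact ⟨r • f, by rw [map_smul, hf, MonoidAlgebra.smul_single]⟩

lemma mem_coefI {m : Multiplicative D.M} {c : R} :
    c ∈ D.coefI m ↔ ∃ f, D.pi f = MonoidAlgebra.single m c := Iff.rfl

lemma coeff_mem_coefI (f : A) (m : Multiplicative D.M) : (D.pi f).coeff m ∈ D.coefI m :=
  D.exists_pi_eq_single f m

lemma one_mem_coefI : (1 : R) ∈ D.coefI 1 := ⟨1, by rw [map_one]; rfl⟩

lemma mul_mem_coefI {m n : Multiplicative D.M} {c c' : R} (h : c ∈ D.coefI m)
    (h' : c' ∈ D.coefI n) : c * c' ∈ D.coefI (m * n) := by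
  obtain ⟨f, hf⟩ := h
  obtain ⟨f', hf'⟩ := h'
  exact ⟨f * f', by rw [map_mul, hf, hf', MonoidAlgebra.single_mul_single]⟩

lemma inv_mem_coefI {m : Multiplicative D.M} {c : R} (h : c ∈ D.coefI m) : c ∈ D.coefI m⁻¹ := by
  obtain ⟨f, hf⟩ := h
  refine ⟨((Pt.mk (AlgHom.id R A))⁻¹ : Pt R A A).hom f, ?_⟩
  have h1 : Pt.map D.pi ((Pt.mk (AlgHom.id R A))⁻¹ : Pt R A A) = D.i _ (D.sU (B := R))⁻¹ := by
    rw [Pt.map_inv, i_inv']
    rfl
  have h2 := congrArg (fun g : Pt R A (MonoidAlgebra R (Multiplicative D.M)) => g.hom f) h1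
  simp only [Pt.map_hom_apply] at h2
  rw [h2, i_hom_apply, hf, evT_single]
  have h3 : (((D.sU (B := R))⁻¹ m : _) : MonoidAlgebra R (Multiplicative D.M)) =
      MonoidAlgebra.single m⁻¹ 1 := by
    rw [MonoidHom.inv_apply, ← map_inv]
    rfl
  rw [h3, ← Algebra.smul_def, MonoidAlgebra.smul_single]
  simp

lemma evT_apply {B : Type u} [CommRing B] [Algebra R B] (t : TPt D.M B)
    (z : MonoidAlgebra R (Multiplicative D.M)) :
    D.evT t z = z.coeff.sum fun n c => algebraMap R B c * (t n : B) := by
  unfold evT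
  rw [MonoidAlgebra.lift_apply]
  simp [Algebra.smul_def]

/-- The torus is a closed subgroup. -/
theorem pi_surjective : Function.Surjective D.pi := by
  have key : ∀ m, D.coefI m = ⊤ := by
    intro m
    by_contra hm
    obtain ⟨p, hp, hle⟩ := Ideal.exists_le_maximal _ hm
    let N : Subgroup (Multiplicative D.M) :=
      { carrier := {n | ¬ D.coefI n ≤ p}
        one_mem' := fun h => hp.ne_top ((Ideal.eq_top_iff_one _).mpr (h D.one_mem_coefI))
        mul_mem' := by
          intro a b ha hb
          obtain ⟨c, hc, hc'⟩ := Set.not_subset.mp ha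
          obtain ⟨d, hd, hd'⟩ := Set.not_subset.mp hb
          intro hab
          rcases hp.isPrime.mem_or_mem (hab (D.mul_mem_coefI hc hd)) with h | h
          · exact hc' h
          · exact hd' h
        inv_mem' := by
          intro a ha hinv
          obtain ⟨c, hc, hc'⟩ := Set.not_subset.mp ha
          exact hc' (hinv (D.inv_mem_coefI hc)) }
    have hN : ∀ n, n ∈ N ↔ ¬ D.coefI n ≤ p := fun n => Iff.rfl
    let k := R ⧸ p
    have hk : Nontrivial k := Ideal.Quotient.nontrivial_iff.mpr hp.ne_top
    let K := MonoidAlgebra k (Multiplicative D.M ⧸ N)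
    let t : TPt D.M K :=
      MonoidHom.toHomUnits ((MonoidAlgebra.of k (Multiplicative D.M ⧸ N)).comp (QuotientGroup.mk' N))
    have ht : ∀ n : Multiplicative D.M, ((t n : Kˣ) : K) =
      MonoidAlgebra.single (n : Multiplicative D.M ⧸ N) (1 : k) := fun n => rfl
    have hi : D.i K t = D.i K 1 := by
      apply Pt.ext
      intro f
      rw [i_hom_apply, i_hom_apply, evT_apply, evT_apply]
      apply Finsupp.sum_congr
      intro n _
      by_cases hn : n ∈ N
      · rw [ht, (QuotientGroup.eq_one_iff n).mpr hn]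
        rfl
      · rw [hN, not_not] at hn
        have h0 : algebraMap R K ((D.pi f).coeff n) = 0 := by
          rw [IsScalarTower.algebraMap_apply R k K]
          have : algebraMap R k ((D.pi f).coeff n) = 0 :=
            Ideal.Quotient.eq_zero_iff_mem.mpr (hn (D.coeff_mem_coefI f n))
          rw [this, map_zero]
        rw [h0, zero_mul, zero_mul]
    have h1 := D.i_inj K hi
    have h2 := congrArg (fun s : TPt D.M K => ((s m : Kˣ) : K)) h1
    simp only [ht] at h2
    have h3 : (MonoidAlgebra.single (m : Multiplicative D.M ⧸ N) (1 : k) : K) =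
      MonoidAlgebra.single 1 (1 : k) := h2
    have h4 := (MonoidAlgebra.of_injective (R := k) (M := Multiplicative D.M ⧸ N)) h3
    exact (hN m).mp ((QuotientGroup.eq_one_iff m).mp h4) hle
  intro z
  induction z using MonoidAlgebra.induction_linear with
  | zero => exact ⟨0, map_zero _⟩
  | add x y hx hy =>
    obtain ⟨f, rfl⟩ := hx
    obtain ⟨g, rfl⟩ := hy
    exact ⟨f + g, map_add _ _ _⟩
  | single n r =>
    exact (D.mem_coefI).mp (by rw [key n]; trivial)

end Datum

end Groth.Agent.Sga3B.Cell
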