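import Groth.Agent.Sga3B.CellField
import Groth.Agent.Sga3B.CellN
import Groth.Agent.Sga3B.CellOm
import Mathlib.RingTheory.Smooth.Flat
import Mathlib.RingTheory.Flat.FaithfullyFlat.Algebra
import Mathlib.RingTheory.RingHom.FaithfullyFlat
import Mathlib.RingTheory.RingHom.Etale
import Mathlib.FieldTheory.IsAlgClosed.AlgebraicClosure

/-!
# Every point is, fpqc locally, a quotient of two cell points; the centre
-/

set_option autoImplicit false
universe u

open TensorProduct

namespace Groth.Agent.Sga3B.Cell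

/-- geometrically integral fibres -/
def GeomDom (R A : Type u) [CommRing R] [CommRing A] [Algebra R A] : Prop :=
  ∀ (K : Type u) [Field K] [IsAlgClosed K] [Algebra R K], IsDomain (K ⊗[R] A)

/-- Pushouts of algebras, with an opaque ring structure. -/
theorem exists_pushout {R A B C : Type u} [CommRing R] [CommRing A] [CommRing B] [CommRing C]
    [Algebra R A] [Algebra R B] [Algebra R C] (f : A →ₐ[R] B) (h : A →ₐ[R] C) :
    ∃ (E : Type u) (_ : CommRing E) (_ : Algebra R E) (j : B →ₐ[R] E) (c : C →ₐ[R] E),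
      j.comp f = c.comp h ∧ ((h : A →+* C).Flat → (j : B →+* E).Flat) ∧
      ((h : A →+* C).Etale → (j : B →+* E).Etale) ∧
      ∀ (K : Type u) [CommRing K] [Algebra R K] (k : B →ₐ[R] K) (l : C →ₐ[R] K),
        k.comp f = l.comp h → ∃ ψ : E →ₐ[R] K, ψ.comp j = k ∧ ψ.comp c = l := by
  let _ : Algebra A B := (f : A →+* B).toAlgebra
  let _ : Algebra A C := (h : A →+* C).toAlgebra
  have hT1 : IsScalarTower R A B := .of_algebraMap_eq fun r => (f.commutes r).symm
  have hT2 : IsScalarTower R A C := .of_algebraMap_eq fun r => (h.commutes r).symm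
  refine ⟨B ⊗[A] C, inferInstance, inferInstance,
    (Algebra.TensorProduct.includeLeft : B →ₐ[A] B ⊗[A] C).restrictScalars R,
    (Algebra.TensorProduct.includeRight : C →ₐ[A] B ⊗[A] C).restrictScalars R, ?_, ?_, ?_, ?_⟩
  · apply AlgHom.ext
    intro a
    exact ((Algebra.TensorProduct.includeLeft : B →ₐ[A] B ⊗[A] C).commutes a).trans
      ((Algebra.TensorProduct.includeRight : C →ₐ[A] B ⊗[A] C).commutes a).symm
  · intro hf
    have : Module.Flat A C := hf
    change (algebraMap B (B ⊗[A] C)).Flat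
    rw [RingHom.flat_algebraMap_iff]
    infer_instance
  · intro hf
    have : Algebra.Etale A C := hf
    change (algebraMap B (B ⊗[A] C)).Etale
    rw [RingHom.etale_algebraMap]
    infer_instance
  · intro K _ _ k l hkl
    let _ : Algebra A K := ((k.comp f : A →ₐ[R] K) : A →+* K).toAlgebra
    have hT3 : IsScalarTower R A K := .of_algebraMap_eq fun r => ((k.comp f).commutes r).symm
    let k' : B →ₐ[A] K := { (k : B →+* K) with commutes' := fun a => rfl }
    let l' : C →ₐ[A] K := { (l : C →+* K) with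
      commutes' := fun a => (congrArg (fun g : A →ₐ[R] K => g a) hkl).symm }
    refine ⟨(Algebra.TensorProduct.lift k' l' (fun _ _ => Commute.all _ _)).restrictScalars R, ?_, ?_⟩
    · apply AlgHom.ext
      intro b
      change Algebra.TensorProduct.lift k' l' (fun _ _ => Commute.all _ _) (b ⊗ₜ[A] 1) = k b
      rw [Algebra.TensorProduct.lift_tmul, map_one, mul_one]
      rfl
    · apply AlgHom.ext
      intro b
      change Algebra.TensorProduct.lift k' l' (fun _ _ => Commute.all _ _) (1 ⊗ₜ[A] b) = l b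
      rw [Algebra.TensorProduct.lift_tmul, map_one, one_mul]
      rfl

/-- Faithful flatness from geometric points. -/
theorem faithfullyFlat_of_points {R B E : Type u} [CommRing R] [CommRing B] [CommRing E]
    [Algebra R B] [Algebra R E] (φ : B →ₐ[R] E) (hφ : (φ : B →+* E).Flat)
    (h : ∀ (K : Type u) [Field K] [IsAlgClosed K] [Algebra R K] (k : B →ₐ[R] K),
      ∃ ψ : E →ₐ[R] K, ψ.comp φ = k) : (φ : B →+* E).FaithfullyFlat := by
  let _ : Algebra B E := (φ : B →+* E).toAlgebra
  have hfl : Module.Flat B E := hφ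
  change Module.FaithfullyFlat B E
  apply Module.FaithfullyFlat.of_comap_surjective
  intro p
  let K := AlgebraicClosure p.asIdeal.ResidueField
  obtain ⟨ψ, hψ⟩ := h K (IsScalarTower.toAlgHom R B K)
  refine ⟨⟨RingHom.ker (ψ : E →+* K), RingHom.ker_isPrime _⟩, ?_⟩
  apply PrimeSpectrum.ext
  ext b
  change ψ (φ b) = 0 ↔ b ∈ p.asIdeal
  have h1 : ψ (φ b) = algebraMap B K b := congrArg (fun g : B →ₐ[R] K => g b) hψ
  rw [h1, IsScalarTower.algebraMap_apply B p.asIdeal.ResidueField K,
    map_eq_zero_iff _ (algebraMap p.asIdeal.ResidueField K).injective,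
    Ideal.algebraMap_residueField_eq_zero]

namespace Datum

open Groth.Agent.Sga3B.Cell

variable {R A : Type u} [CommRing R] [CommRing A] [Algebra R A] [PtGrp R A] {D : Datum R A}

/-- evaluation on the localisation -/
noncomputable def evL {δ : D.CR} {B : Type u} [CommRing B] [Algebra R B] (x : D.idx → B)
    (t : TPt D.M B) (h : IsUnit (D.ev x t δ)) : Localization.Away δ →ₐ[R] B :=
  { IsLocalization.Away.lift (S := Localization.Away δ) δ (g := (D.ev x t : D.CR →+* B)) h with
    commutes' := fun r => by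
      change IsLocalization.Away.lift (S := Localization.Away δ) δ (g := (D.ev x t : D.CR →+* B)) h
        (algebraMap R (Localization.Away δ) r) = _
      rw [IsScalarTower.algebraMap_apply R D.CR (Localization.Away δ)]
      exact (IsLocalization.Away.lift_eq (S := Localization.Away δ) δ h _).trans
        ((D.ev x t).commutes r) }

lemma evL_algebraMap {δ : D.CR} {B : Type u} [CommRing B] [Algebra R B] (x : D.idx → B)
    (t : TPt D.M B) (h : IsUnit (D.ev x t δ)) (z : D.CR) :
    D.evL x t h (algebraMap D.CR (Localization.Away δ) z) = D.ev x t z :=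
  IsLocalization.Away.lift_eq (S := Localization.Away δ) δ h z

/-- Every point becomes a quotient of two cell points over a faithfully flat extension. -/
theorem exists_cover [Algebra.Smooth R A] (hD : GeomDom R A) {L : List D.idx} {δ : D.CR}
    (hδ : D.EtOn L δ) (hδ0 : D.ev0 δ = 1) {B : Type u} [CommRing B] [Algebra R B] (g : Pt R A B) :
    ∃ (B₂ : Type u) (_ : CommRing B₂) (_ : Algebra R B₂) (φ : B →ₐ[R] B₂),
      (φ : B →+* B₂).FaithfullyFlat ∧ ∃ (x x' : D.idx → B₂) (t t' : TPt D.M B₂),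
        IsUnit (D.ev x t δ) ∧ IsUnit (D.ev x' t' δ) ∧
          Pt.map φ g * D.cell L x t = D.cell L x' t' := by
  let Cδ := Localization.Away δ
  let e : D.CR →ₐ[R] Cδ := IsScalarTower.toAlgHom R D.CR Cδ
  have hflatR : Module.Flat R Cδ := inferInstance
  obtain ⟨B₁, _, _, j₁, c₁, -, hj₁, -, hψ₁⟩ := exists_pushout (Algebra.ofId R B) (Algebra.ofId R Cδ)
  replace hj₁ := hj₁ (RingHom.flat_algebraMap_iff.mpr hflatR)
  let x₁ : D.idx → B₁ := fun a => (c₁.comp e) (MvPolynomial.X a)
  let t₁ : TPt D.M B₁ := TPt.map (c₁.comp e) D.tU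
  have he₁ : D.ev x₁ t₁ = c₁.comp e := (D.eq_ev (c₁.comp e)).symm
  let g₁ : Pt R A B₁ := Pt.map j₁ g * D.cell L x₁ t₁
  obtain ⟨B₂, _, _, j₂, c₂, hjc, -, hj₂, hψ₂⟩ := exists_pushout g₁.hom (e.comp (D.phi L))
  replace hj₂ := hj₂ hδ
  let x₂ : D.idx → B₂ := fun a => (c₂.comp e) (MvPolynomial.X a)
  let t₂ : TPt D.M B₂ := TPt.map (c₂.comp e) D.tU
  have he₂ : D.ev x₂ t₂ = c₂.comp e := (D.eq_ev (c₂.comp e)).symm
  have hu : ∀ {E : Type u} [CommRing E] [Algebra R E] (f : Cδ →ₐ[R] E),
      IsUnit ((f.comp e) δ) := by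
    intro E _ _ f
    exact (IsLocalization.Away.algebraMap_isUnit δ).map (f : Cδ →+* E)
  have hj₂f : (j₂ : B₁ →+* B₂).Flat := by
    let _ : Algebra B₁ B₂ := (j₂ : B₁ →+* B₂).toAlgebra
    have : Algebra.Etale B₁ B₂ := hj₂
    have h : Module.Flat B₁ B₂ := inferInstance
    exact h
  refine ⟨B₂, inferInstance, inferInstance, j₂.comp j₁, ?_, fun a => j₂ (x₁ a), x₂,
    TPt.map j₂ t₁, t₂, ?_, ?_, ?_⟩
  · apply faithfullyFlat_of_points
    · exact RingHom.Flat.comp hj₁ hj₂f
    · intro K _ _ _ k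
      have hdom := hD K
      obtain ⟨x, x', t, t', hx, hx', hq⟩ := exists_quot hδ hδ0 (Pt.map k g)
      obtain ⟨ψ₁, h1, h2⟩ := hψ₁ K k (D.evL x t hx.isUnit) (Subsingleton.elim _ _)
      have h3 : ψ₁.comp (c₁.comp e) = D.ev x t := by
        rw [← AlgHom.comp_assoc, h2]
        apply AlgHom.ext
        intro z
        exact D.evL_algebraMap x t hx.isUnit z
      have h4 : Pt.map ψ₁ g₁ = D.cell L x' t' := by
        rw [← hq]
        change Pt.map ψ₁ (Pt.map j₁ g * D.cell L x₁ t₁) = _
        rw [Pt.map_mul, Pt.map_map, h1]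
        congr 1
        apply Pt.ext
        intro z
        rw [Pt.map_hom_apply, ← ev_phi, he₁, ← ev_phi, ← h3]
        rfl
      obtain ⟨ψ₂, h5, h6⟩ := hψ₂ K ψ₁ (D.evL x' t' hx'.isUnit) (by
        apply AlgHom.ext
        intro a
        have h7 := congrArg (fun g : Pt R A K => g.hom a) h4
        change ψ₁ (g₁.hom a) = D.evL x' t' hx'.isUnit (algebraMap D.CR Cδ (D.phi L a))
        rw [D.evL_algebraMap, ev_phi]
        exact h7)
      refine ⟨ψ₂, ?_⟩
      rw [← AlgHom.comp_assoc, h5, h1]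
  · have h := D.comp_ev j₂ x₁ t₁
    rw [← h, he₁, ← AlgHom.comp_assoc]
    exact hu (j₂.comp c₁)
  · rw [he₂]
    exact hu c₂
  · rw [← Pt.map_map, ← cell_nat, ← Pt.map_mul]
    apply Pt.ext
    intro a
    rw [Pt.map_hom_apply, ← ev_phi, he₂]
    exact congrArg (fun g : A →ₐ[R] B₂ => g a) hjc

/-- Two points that agree after a faithfully flat extension agree. -/
lemma pt_eq_of_faithfullyFlat {B E : Type u} [CommRing B] [Algebra R B] [CommRing E] [Algebra R E]
    {φ : B →ₐ[R] E} (hφ : (φ : B →+* E).FaithfullyFlat) {g h : Pt R A B}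
    (hgh : Pt.map φ g = Pt.map φ h) : g = h :=
  Pt.map_injective (φ := φ) hφ.injective hgh

/-- A torus point on which all roots are trivial is central. -/
theorem i_central [Algebra.Smooth R A] (hG : D.Good) (hD : GeomDom R A) {B : Type u} [CommRing B]
    [Algebra R B] (t : TPt D.M B) (ht : ∀ a, TPt.ch (D.root a) t = 1) (g : Pt R A B) :
    D.i B t * g = g * D.i B t := by
  obtain ⟨δ, hδ, hδ0⟩ := hG (Finset.univ.toList) (Finset.nodup_toList _) (fun a => by simp)
  obtain ⟨B₂, _, _, φ, hφ, x, x', s, s', -, -, h⟩ := exists_cover hD hδ hδ0 g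
  apply pt_eq_of_faithfullyFlat hφ
  set t₂ := TPt.map φ t with ht₂
  have ht₂r : ∀ a, TPt.ch (D.root a) t₂ = 1 := by
    intro a; rw [ht₂, TPt.ch_map, ht, map_one]
  have hc : ∀ (y : D.idx → B₂) (r : TPt D.M B₂),
      D.i B₂ t₂ * D.cell Finset.univ.toList y r = D.cell Finset.univ.toList y r * D.i B₂ t₂ := by
    intro y r
    rw [i_mul_cell, cell_mul_i, TPt.mul_comm' t₂ r]
    congr 1
    funext a
    rw [ht₂r, one_mul]
  have h1 : Pt.map φ g = D.cell Finset.univ.toList x' s' * (D.cell Finset.univ.toList x s)⁻¹ := by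
    rw [← h]; group
  have h2 : Commute (D.i B₂ t₂) (Pt.map φ g) := by
    rw [h1]
    exact Commute.mul_right (hc x' s') (Commute.inv_right (hc x s))
  rw [Pt.map_mul, Pt.map_mul, D.i_nat]
  exact h2

end Datum

end Groth.Agent.Sga3B.Cell
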