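import Groth.Agent.Sga3B.CellUniv
import Mathlib.Algebra.Polynomial.Laurent
import Mathlib.Algebra.Polynomial.Div
import Mathlib.RingTheory.Ideal.Quotient.Operations

/-!
# Power series argument: a `θ`-equivariant curve in the group is a product of root group elements
-/

set_option autoImplicit false
universe u

open Polynomial LaurentPolynomial

namespace Groth.Agent.Sga3B.Cell

section trunc

variable (R : Type u) [CommRing R] (B : Type u) [CommRing B] [Algebra R B]

/-- truncated polynomials -/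
abbrev TQ (n : ℕ) : Type u := B[X] ⧸ Ideal.span {(X : B[X]) ^ n}

/-- evaluation of a polynomial as an `R`-algebra map -/
noncomputable def pev (b : B) : B[X] →ₐ[R] B := (Polynomial.aeval (R := B) b).restrictScalars R

@[simp] lemma pev_apply (b : B) (p : B[X]) : pev R B b p = p.eval b := by
  simp [pev, Polynomial.aeval_def, Polynomial.eval₂_eq_eval_map]

/-- reduction mod `X^n` -/
noncomputable def tmk (n : ℕ) : B[X] →ₐ[R] TQ B n := Ideal.Quotient.mkₐ R _

lemma tmk_surjective (n : ℕ) : Function.Surjective (tmk R B n) := Ideal.Quotient.mk_surjective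

lemma tmk_eq_iff {n : ℕ} {p q : B[X]} : tmk R B n p = tmk R B n q ↔ ∀ d < n, p.coeff d = q.coeff d := by
  change Ideal.Quotient.mk _ p = Ideal.Quotient.mk _ q ↔ _
  rw [Ideal.Quotient.eq, Ideal.mem_span_singleton, Polynomial.X_pow_dvd_iff]
  simp [sub_eq_zero]

lemma eq_of_tmk_eq {p q : B[X]} (n₀ : ℕ) (h : ∀ n, n₀ ≤ n → tmk R B n p = tmk R B n q) : p = q := by
  ext d
  exact (tmk_eq_iff R B).mp (h (max n₀ (d + 1)) (le_max_left _ _)) d (by omega)

/-- reduction mod `X` on truncated polynomials -/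
noncomputable def tred {n : ℕ} (hn : n ≠ 0) : TQ B n →ₐ[R] B :=
  Ideal.Quotient.liftₐ _ (pev R B 0) (by
    intro a ha
    rw [Ideal.mem_span_singleton, Polynomial.X_pow_dvd_iff] at ha
    rw [pev_apply, ← Polynomial.coeff_zero_eq_eval_zero]
    exact ha 0 (Nat.pos_of_ne_zero hn))

@[simp] lemma tred_tmk {n : ℕ} (hn : n ≠ 0) (p : B[X]) : tred R B hn (tmk R B n p) = p.eval 0 := by
  change pev R B 0 p = _
  exact pev_apply R B 0 p

lemma tred_comp_tmk {n : ℕ} (hn : n ≠ 0) : (tred R B hn).comp (tmk R B n) = pev R B 0 := by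
  refine AlgHom.ext fun p => ?_
  simp

lemma tred_surjective {n : ℕ} (hn : n ≠ 0) : Function.Surjective (tred R B hn) := by
  intro b
  exact ⟨tmk R B n (Polynomial.C b), by simp⟩

lemma tred_ker_nilpotent {n : ℕ} (hn : n ≠ 0) :
    IsNilpotent (RingHom.ker (tred R B hn : TQ B n →+* B)) := by
  refine ⟨n, ?_⟩
  rw [Ideal.zero_eq_bot, eq_bot_iff]
  have h1 : RingHom.ker (tred R B hn : TQ B n →+* B) ≤ Ideal.span {tmk R B n X} := by
    intro z hz
    obtain ⟨p, rfl⟩ := tmk_surjective R B n z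
    rw [RingHom.mem_ker] at hz
    change tred R B hn (tmk R B n p) = 0 at hz
    rw [tred_tmk] at hz
    obtain ⟨q, hq⟩ := (Polynomial.dvd_iff_isRoot (p := p) (a := 0)).mpr hz
    rw [hq]
    simp only [map_zero, sub_zero, map_mul]
    exact Ideal.mul_mem_right _ _ (Ideal.mem_span_singleton_self _)
  refine (Ideal.pow_right_mono h1 n).trans ?_
  rw [Ideal.span_singleton_pow, Ideal.span_le, Set.singleton_subset_iff]
  have : tmk R B n X ^ n = 0 := by
    rw [← map_pow]
    change Ideal.Quotient.mk _ _ = 0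
    rw [Ideal.Quotient.eq_zero_iff_mem]
    exact Ideal.mem_span_singleton_self _
  rw [this]
  exact Ideal.zero_mem _

/-- the inclusion of constants in Laurent polynomials -/
noncomputable def lC : B →ₐ[R] B[T;T⁻¹] := IsScalarTower.toAlgHom R B B[T;T⁻¹]

lemma lC_apply (b : B) : lC R B b = LaurentPolynomial.C b := by
  exact (LaurentPolynomial.C_eq_algebraMap b).symm

/-- coefficientwise inclusion -/
noncomputable def iotaM : B[X] →ₐ[R] B[T;T⁻¹][X] := Polynomial.mapAlgHom (lC R B)

/-- scaling by `T` -/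
noncomputable def sigmaM : B[X] →ₐ[R] B[T;T⁻¹][X] :=
  ((Polynomial.aeval (R := B[T;T⁻¹]) (Polynomial.C (T 1) * X)).restrictScalars R).comp (iotaM R B)

/-- constants in polynomials over Laurent polynomials -/
noncomputable def kapM : B[T;T⁻¹] →ₐ[R] B[T;T⁻¹][X] :=
  (Polynomial.CAlgHom (R := B[T;T⁻¹]) (A := B[T;T⁻¹])).restrictScalars R

@[simp] lemma kapM_apply (z : B[T;T⁻¹]) : kapM R B z = Polynomial.C z := rfl

@[simp] lemma iotaM_coeff (p : B[X]) (n : ℕ) :
    (iotaM R B p).coeff n = LaurentPolynomial.C (p.coeff n) := by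
  simp [iotaM, Polynomial.coeff_map, lC_apply]

@[simp] lemma sigmaM_coeff (p : B[X]) (n : ℕ) :
    (sigmaM R B p).coeff n = LaurentPolynomial.C (p.coeff n) * T n := by
  have : sigmaM R B p = (iotaM R B p).comp (Polynomial.C (T 1) * X) := by
    simp only [sigmaM, AlgHom.comp_apply, AlgHom.restrictScalars_apply]
    rw [Polynomial.aeval_def, Polynomial.comp]
    rfl
  rw [this, Polynomial.comp_C_mul_X_coeff, iotaM_coeff, T_pow]
  simp

end trunc

section trunc2

variable (R : Type u) [CommRing R] (B : Type u) [CommRing B] [Algebra R B]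

/-- an algebra map of polynomial rings induces one on truncations -/
noncomputable def tmap {B' : Type u} [CommRing B'] [Algebra R B'] (n : ℕ) (f : B[X] →ₐ[R] B'[X])
    (hf : (X : B'[X]) ^ n ∣ f (X ^ n)) : TQ B n →ₐ[R] TQ B' n :=
  Ideal.Quotient.liftₐ _ ((tmk R B' n).comp f) (by
    intro a ha
    rw [Ideal.mem_span_singleton] at ha
    obtain ⟨b, rfl⟩ := ha
    change Ideal.Quotient.mk _ (f (X ^ n * b)) = 0
    rw [Ideal.Quotient.eq_zero_iff_mem, Ideal.mem_span_singleton, map_mul]
    exact hf.mul_right _)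

@[simp] lemma tmap_tmk {B' : Type u} [CommRing B'] [Algebra R B'] (n : ℕ) (f : B[X] →ₐ[R] B'[X])
    (hf : (X : B'[X]) ^ n ∣ f (X ^ n)) (p : B[X]) :
    tmap R B n f hf (tmk R B n p) = tmk R B' n (f p) := rfl

lemma tmap_comp_tmk {B' : Type u} [CommRing B'] [Algebra R B'] (n : ℕ) (f : B[X] →ₐ[R] B'[X])
    (hf : (X : B'[X]) ^ n ∣ f (X ^ n)) :
    (tmap R B n f hf).comp (tmk R B n) = (tmk R B' n).comp f := rfl

lemma iotaM_dvd (n : ℕ) : (X : B[T;T⁻¹][X]) ^ n ∣ iotaM R B (X ^ n) := by
  rw [Polynomial.X_pow_dvd_iff]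
  intro d hd
  rw [iotaM_coeff, Polynomial.coeff_X_pow, if_neg (by omega), map_zero]

lemma sigmaM_dvd (n : ℕ) : (X : B[T;T⁻¹][X]) ^ n ∣ sigmaM R B (X ^ n) := by
  rw [Polynomial.X_pow_dvd_iff]
  intro d hd
  rw [sigmaM_coeff, Polynomial.coeff_X_pow, if_neg (by omega), map_zero, zero_mul]

end trunc2

namespace Datum

variable {R A : Type u} [CommRing R] [CommRing A] [Algebra R A] [PtGrp R A] (D : Datum R A)
variable {B : Type u} [CommRing B] [Algebra R B]

/-- `c(st) = θ(s) c(t) θ(s)⁻¹`. -/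
def Equi (θ : TPt D.M B[T;T⁻¹]) (c : Pt R A B[X]) : Prop :=
  Pt.map (sigmaM R B) c = D.i _ (TPt.map (kapM R B) θ) * Pt.map (iotaM R B) c *
    (D.i _ (TPt.map (kapM R B) θ))⁻¹

variable {D} in
lemma Equi.mul {θ : TPt D.M B[T;T⁻¹]} {c c' : Pt R A B[X]} (h : D.Equi θ c) (h' : D.Equi θ c') :
    D.Equi θ (c * c') := by
  unfold Equi at *
  rw [Pt.map_mul, h, h', Pt.map_mul]
  group

variable {D} in
lemma Equi.inv {θ : TPt D.M B[T;T⁻¹]} {c : Pt R A B[X]} (h : D.Equi θ c) :
    D.Equi θ c⁻¹ := by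
  unfold Equi at *
  rw [Pt.map_inv, h, Pt.map_inv]
  group

/-- key coefficient comparison -/
lemma coeff_eq_zero {p : B[X]} {n : ℕ} {k : ℤ}
    (h : tmk R _ n (sigmaM R B p) = tmk R _ n (Polynomial.C (T k) * iotaM R B p)) {d : ℕ} (hd : d < n)
    (hdk : (d : ℤ) ≠ k) : p.coeff d = 0 := by
  rw [tmk_eq_iff] at h
  have h1 := h d hd
  rw [sigmaM_coeff, Polynomial.coeff_C_mul, iotaM_coeff, mul_comm (T k)] at h1
  have h2 := congrArg (fun z : B[T;T⁻¹] => z.coeff (d : ℤ)) h1
  have e : ∀ m : ℤ, (LaurentPolynomial.C (p.coeff d) * T m).coeff (d : ℤ) =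
      if m = (d : ℤ) then p.coeff d else 0 := by
    intro m
    rw [← LaurentPolynomial.single_eq_C_mul_T, AddMonoidAlgebra.coeff_single, Finsupp.single_apply]
  simp only [e, if_true, if_neg hdk.symm] at h2
  exact h2

/-- the origin is in the étale locus, over any algebra -/
lemma ev_origin {δ : D.CR} (hδ0 : D.ev0 δ = 1) (B' : Type u) [CommRing B'] [Algebra R B'] :
    D.ev (fun _ => (0 : B')) 1 δ = 1 := by
  have h1 : (Algebra.ofId R B').comp D.ev0 = D.ev (fun _ => (0 : B')) 1 := by
    unfold ev0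
    rw [comp_ev]
    congr 1
    · funext a; simp
    · simp
  rw [← h1, AlgHom.comp_apply, hδ0, map_one]

/-- points which are the origin modulo a nilpotent kernel are in the étale locus -/
lemma isUnit_ev_of_red {δ : D.CR} (hδ0 : D.ev0 δ = 1) {B' : Type u} [CommRing B'] [Algebra R B']
    {φ : B →ₐ[R] B'} (hker : IsNilpotent (RingHom.ker (φ : B →+* B'))) {x : D.idx → B}
    {t : TPt D.M B} (hx : ∀ a, φ (x a) = 0) (ht : TPt.map φ t = 1) : IsUnit (D.ev x t δ) := by
  have h2 : φ (D.ev x t δ) = 1 := by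
    have h3 : φ (D.ev x t δ) = D.ev (fun a => φ (x a)) (TPt.map φ t) δ := by
      rw [← comp_ev]; rfl
    rw [h3, ht]
    have h4 : (fun a => φ (x a)) = fun _ => (0 : B') := funext hx
    rw [h4, D.ev_origin hδ0]
  have h5 : IsNilpotent (D.ev x t δ - 1) := by
    obtain ⟨m, hm⟩ := hker
    refine ⟨m, ?_⟩
    have h6 : D.ev x t δ - 1 ∈ RingHom.ker (φ : B →+* B') := by
      rw [RingHom.mem_ker, map_sub, map_one, sub_eq_zero]
      exact h2
    have := Ideal.pow_mem_pow h6 m
    rw [hm] at this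
    simpa using this
  have h7 := h5.isUnit_add_left_of_commute isUnit_one (Commute.all _ _)
  simpa using h7

/-- uniqueness at a truncated level -/
lemma EtOn.unique_level {L : List D.idx} {δ : D.CR} (hδ : D.EtOn L δ) (hδ0 : D.ev0 δ = 1)
    {k : D.idx → ℤ} {N : ℕ} (hN : ∀ a, (k a).toNat < N) (hN0 : N ≠ 0) {y y' : D.idx → B}
    (hy0 : ∀ a, k a ≤ 0 → y a = 0) (hy'0 : ∀ a, k a ≤ 0 → y' a = 0)
    (h : D.cell L (fun a => tmk R B N (Polynomial.C (y a) * X ^ (k a).toNat)) 1 =
      D.cell L (fun a => tmk R B N (Polynomial.C (y' a) * X ^ (k a).toNat)) 1) : y = y' := by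
  have hz : ∀ (w : D.idx → B), (∀ a, k a ≤ 0 → w a = 0) → ∀ a,
      tred R B hN0 (tmk R B N (Polynomial.C (w a) * X ^ (k a).toNat)) = 0 := by
    intro w hw a
    rw [tred_tmk]
    by_cases hka : k a ≤ 0
    · rw [hw a hka]; simp
    · have : (k a).toNat ≠ 0 := by omega
      simp [this]
  have hu := hδ.unique (D := D) (φ := tred R B hN0) (tred_ker_nilpotent R B hN0)
    (fun a => by rw [hz y hy0, hz y' hy'0]) rfl
    (D.isUnit_ev_of_red hδ0 (tred_ker_nilpotent R B hN0) (hz y hy0) (map_one _)) h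
  funext a
  have h1 := congrFun hu.1 a
  rw [tmk_eq_iff] at h1
  have h2 := h1 (k a).toNat (hN a)
  simpa using h2

/-- the power series lemma: equivariant curves are products of root group elements. -/
theorem Equi.exists_eq {L : List D.idx} {δ : D.CR} (hδ : D.EtOn L δ) (hδ0 : D.ev0 δ = 1)
    {k : D.idx → ℤ} {θ : TPt D.M B[T;T⁻¹]} (hθ : ∀ a, TPt.ch (D.root a) θ = T (k a))
    {c : Pt R A B[X]} (hc : D.Equi θ c) (hc0 : Pt.map (pev R B 0) c = 1) :
    ∃ y : D.idx → B, (∀ a, k a ≤ 0 → y a = 0) ∧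
      c = D.cell L (fun a => Polynomial.C (y a) * X ^ (k a).toNat) 1 := by
  -- lifts at each level
  have step : ∀ n : ℕ, n ≠ 0 → ∃ y : D.idx → B, (∀ a, k a ≤ 0 → y a = 0) ∧
      Pt.map (tmk R B n) c =
        D.cell L (fun a => tmk R B n (Polynomial.C (y a) * X ^ (k a).toNat)) 1 := by
    intro n hn
    obtain ⟨x, t, hx, ht, hcell⟩ := hδ.exists_lift (D := D) (φ := tred R B hn)
      (tred_surjective R B hn) (tred_ker_nilpotent R B hn) (x₀ := fun _ => (0 : B)) (t₀ := 1)
      (by rw [D.ev_origin hδ0]; exact isUnit_one) (g := Pt.map (tmk R B n) c) (by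
        rw [Pt.map_map, tred_comp_tmk, hc0, cell_zero, map_one])
    -- compare the two lifts over Laurent polynomials
    let σ := tmap R B n (sigmaM R B) (sigmaM_dvd R B n)
    let ι := tmap R B n (iotaM R B) (iotaM_dvd R B n)
    let θ' : TPt D.M (TQ B[T;T⁻¹] n) := TPt.map (tmk R _ n) (TPt.map (kapM R B) θ)
    have hσc : Pt.map σ (D.cell L x t) = D.i _ θ' * Pt.map ι (D.cell L x t) * (D.i _ θ')⁻¹ := by
      rw [hcell, Pt.map_map, Pt.map_map]
      have h1 := congrArg (Pt.map (tmk R B[T;T⁻¹] n)) hc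
      rw [Pt.map_mul, Pt.map_mul, Pt.map_inv, D.i_nat, Pt.map_map, Pt.map_map] at h1
      exact h1
    rw [cell_nat, cell_nat, conj_cell] at hσc
    have e1 : ∀ z : TQ B n, tred R B[T;T⁻¹] hn (σ z) = lC R B (tred R B hn z) := by
      intro z
      obtain ⟨p, rfl⟩ := tmk_surjective R B n z
      change tred R _ hn (tmk R _ n (sigmaM R B p)) = _
      rw [tred_tmk, tred_tmk, ← Polynomial.coeff_zero_eq_eval_zero, sigmaM_coeff, lC_apply,
        ← Polynomial.coeff_zero_eq_eval_zero]
      simp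
    have e2 : ∀ z : TQ B n, tred R B[T;T⁻¹] hn (ι z) = lC R B (tred R B hn z) := by
      intro z
      obtain ⟨p, rfl⟩ := tmk_surjective R B n z
      change tred R _ hn (tmk R _ n (iotaM R B p)) = _
      rw [tred_tmk, tred_tmk, ← Polynomial.coeff_zero_eq_eval_zero, iotaM_coeff, lC_apply,
        ← Polynomial.coeff_zero_eq_eval_zero]
    have huniq := hδ.unique (D := D) (φ := tred R B[T;T⁻¹] hn) (tred_ker_nilpotent R _ hn)
      (x := fun a => σ (x a)) (t := TPt.map σ t)
      (x' := fun a => TPt.ch (D.root a) θ' * ι (x a)) (t' := TPt.map ι t) ?_ ?_ ?_ hσc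
    · obtain ⟨hxe, hte⟩ := huniq
      -- the torus part is trivial
      have ht1 : t = 1 := by
        apply TPt.ext_ch
        intro m
        obtain ⟨p, hp⟩ := tmk_surjective R B n (TPt.ch m t)
        have h1 := congrArg (TPt.ch m) hte
        rw [TPt.ch_map, TPt.ch_map, ← hp] at h1
        have h2 : tmk R _ n (sigmaM R B p) = tmk R _ n (Polynomial.C (T 0) * iotaM R B p) := by
          rw [T_zero, map_one, one_mul]
          exact h1
        have h3 := congrArg (TPt.ch m) ht
        rw [TPt.ch_map, ← hp, tred_tmk, TPt.ch_one, ← Polynomial.coeff_zero_eq_eval_zero] at h3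
        rw [← hp, TPt.ch_one, ← map_one (tmk R B n), tmk_eq_iff]
        intro d hd
        rcases Nat.eq_zero_or_pos d with rfl | hpos
        · simpa using h3
        · rw [coeff_eq_zero h2 hd (by omega), Polynomial.coeff_one, if_neg (by omega)]
      -- the unipotent part
      have hxa : ∀ a, ∃ y : B, (k a ≤ 0 → y = 0) ∧
          x a = tmk R B n (Polynomial.C y * X ^ (k a).toNat) := by
        intro a
        obtain ⟨p, hp⟩ := tmk_surjective R B n (x a)
        have h1 := congrFun hxe a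
        simp only [← hp] at h1
        have h2 : tmk R _ n (sigmaM R B p) = tmk R _ n (Polynomial.C (T (k a)) * iotaM R B p) := by
          rw [map_mul]
          refine h1.trans ?_
          congr 1
          change tmk R _ n (kapM R B (TPt.ch (D.root a) θ)) = _
          rw [hθ, kapM_apply]
        have h3 := hx a
        rw [← hp, tred_tmk, ← Polynomial.coeff_zero_eq_eval_zero] at h3
        refine ⟨if k a ≤ 0 then 0 else p.coeff (k a).toNat, fun h => if_pos h, ?_⟩
        rw [← hp, tmk_eq_iff]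
        intro d hd
        rw [Polynomial.coeff_C_mul, Polynomial.coeff_X_pow]
        by_cases hka : k a ≤ 0
        · rw [if_pos hka, zero_mul]
          rcases Nat.eq_zero_or_pos d with rfl | hpos
          · exact h3
          · exact coeff_eq_zero h2 hd (by omega)
        · rw [if_neg hka]
          by_cases hdk : d = (k a).toNat
          · rw [if_pos hdk, mul_one, hdk]
          · rw [if_neg hdk, mul_zero]
            exact coeff_eq_zero h2 hd (by omega)
      choose y hy0 hy using hxa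
      refine ⟨y, hy0, ?_⟩
      rw [← hcell, ht1]
      congr 1
      funext a
      exact hy a
    · -- equal mod X
      intro a
      rw [e1, map_mul, e2, hx a]
      simp
    · apply TPt.ext_ch
      intro m
      simp only [TPt.ch_map]
      rw [e1, e2]
    · -- unit
      have h1 : D.ev (fun a => σ (x a)) (TPt.map σ t) δ = σ (D.ev x t δ) := by
        rw [← comp_ev]; rfl
      rw [h1]
      exact (D.isUnit_ev_of_red hδ0 (tred_ker_nilpotent R B hn) hx ht).map _
  -- glue the levels
  let N : ℕ := 1 + ∑ a, (k a).toNat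
  have hN : ∀ a, (k a).toNat < N := by
    intro a
    have := Finset.single_le_sum (f := fun a => (k a).toNat) (fun _ _ => Nat.zero_le _)
      (Finset.mem_univ a)
    omega
  obtain ⟨y, hy0, hy⟩ := step N (by omega)
  refine ⟨y, hy0, ?_⟩
  apply Pt.ext
  intro f
  apply eq_of_tmk_eq R B N
  intro n hn
  obtain ⟨y', hy'0, hy'⟩ := step n (by omega)
  have hmap : ∀ (w : D.idx → B) (n : ℕ),
      D.cell L (fun a => tmk R B n (Polynomial.C (w a) * X ^ (k a).toNat)) 1 =
        Pt.map (tmk R B n) (D.cell L (fun a => Polynomial.C (w a) * X ^ (k a).toNat) 1) := by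
    intro w n
    rw [cell_nat, map_one]
  have hyy : y' = y := by
    -- reduce level n to level N
    have hdiv : ∀ p q : B[X], tmk R B n p = tmk R B n q → tmk R B N p = tmk R B N q := by
      intro p q h
      rw [tmk_eq_iff] at *
      intro d hd
      exact h d (by omega)
    have hcN : Pt.map (tmk R B N) c =
        D.cell L (fun a => tmk R B N (Polynomial.C (y' a) * X ^ (k a).toNat)) 1 := by
      apply Pt.ext
      intro f
      have h1 := congrArg (fun z : Pt R A (TQ B n) => z.hom f) hy'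
      rw [hmap]
      rw [hmap] at h1
      exact hdiv _ _ h1
    exact hδ.unique_level (D := D) hδ0 hN (by omega) hy'0 hy0 (hcN.symm.trans hy)
  have h1 := congrArg (fun z : Pt R A (TQ B n) => z.hom f) hy'
  rw [hyy, hmap] at h1
  exact h1

end Datum

end Groth.Agent.Sga3B.Cell
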