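import Mathlib.RingTheory.Etale.Locus
import Mathlib.RingTheory.Kaehler.JacobiZariski
import Mathlib.RingTheory.Spectrum.Prime.FreeLocus
import Mathlib.RingTheory.Flat.LocallyFree
import Mathlib.RingTheory.LocalRing.Module
import Mathlib.RingTheory.Smooth.Kaehler
import Mathlib.Algebra.Module.LocalizedModule.Exact
import Mathlib.LinearAlgebra.Dual.Lemmas

/-!
# Étale locus of an algebra map between smooth algebras from ranks of differentials
-/

set_option autoImplicit false
universe u

open TensorProduct KaehlerDifferential

namespace Groth.Agent.Sga3B.CellEtAlg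

variable {R A C : Type u} [CommRing R] [CommRing A] [CommRing C] [Algebra R A] [Algebra A C]
  [Algebra R C] [IsScalarTower R A C]

attribute [local instance] Module.free_of_flat_of_isLocalRing

omit [CommRing R] [CommRing A] [Algebra R A] [Algebra A C] [Algebra R C] [IsScalarTower R A C] in
/-- a map of finite flat modules which is surjective at a prime where the ranks agree is bijective
there. -/
theorem bijective_localized_of_rank {M N : Type u} [AddCommGroup M] [Module C M] [Module.Finite C M]
    [Module.Flat C M] [AddCommGroup N] [Module C N] [Module.Finite C N] [Module.Flat C N]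
    (f : M →ₗ[C] N) (q : PrimeSpectrum C)
    (hs : Function.Surjective (LocalizedModule.map q.asIdeal.primeCompl f))
    (h : Module.rankAtStalk M q = Module.rankAtStalk N q) :
    Function.Bijective (LocalizedModule.map q.asIdeal.primeCompl f) :=
  OrzechProperty.bijective_of_surjective_of_finrank_le
    (LocalizedModule.map q.asIdeal.primeCompl f) hs h.le

/-- `R → A → C` with `A`, `C` smooth over `R`: `C` is étale over `A` at `q` as soon as `Ω[C/A]`
vanishes at `q` and the ranks of `Ω[A/R]` and `Ω[C/R]` agree. -/
theorem mem_etaleLocus [Algebra.Smooth R A] [Algebra.Smooth R C] (q : PrimeSpectrum C)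
    (h1 : q ∉ Module.support C Ω[C⁄A])
    (h2 : Module.rankAtStalk Ω[A⁄R] (q.comap (algebraMap A C)) = Module.rankAtStalk Ω[C⁄R] q) :
    q ∈ Algebra.etaleLocus A C := by
  rw [Algebra.etaleLocus_eq_compl_support]
  refine ⟨h1, ?_⟩
  rw [Set.mem_compl_iff, Module.notMem_support_iff]
  set S := q.asIdeal.primeCompl
  have hH : Subsingleton (Algebra.H1Cotangent R C) := Algebra.FormallySmooth.subsingleton_h1Cotangent
  have hinj : Function.Injective (Algebra.H1Cotangent.δ R A C) := by
    rw [injective_iff_map_eq_zero]
    intro z hz
    obtain ⟨w, rfl⟩ := (Algebra.H1Cotangent.exact_map_δ R A C z).mp hz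
    rw [Subsingleton.elim w 0, map_zero]
  have hsurj : Function.Surjective
      (LocalizedModule.map S (KaehlerDifferential.mapBaseChange R A C)) := by
    intro z
    have hex := LocalizedModule.map_exact S (KaehlerDifferential.mapBaseChange R A C)
      (KaehlerDifferential.map R A C C) (KaehlerDifferential.exact_mapBaseChange_map R A C)
    rw [Module.notMem_support_iff] at h1
    exact (hex z).mp (Subsingleton.elim _ _)
  have hbij : Function.Bijective
      (LocalizedModule.map S (KaehlerDifferential.mapBaseChange R A C)) := by
    refine bijective_localized_of_rank _ q hsurj ?_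
    rw [Module.rankAtStalk_baseChange, h2]
  rw [subsingleton_iff_forall_eq 0]
  intro z
  apply LocalizedModule.map_injective S _ hinj
  rw [map_zero]
  apply hbij.1
  rw [map_zero]
  have hex := LocalizedModule.map_exact S (Algebra.H1Cotangent.δ R A C)
    (KaehlerDifferential.mapBaseChange R A C) (Algebra.H1Cotangent.exact_δ_mapBaseChange R A C)
  exact (hex _).mpr ⟨z, rfl⟩

/-- If every `A`-derivation `C → κ(q)` vanishes, then `q` is not in the support of `Ω[C/A]`. -/
theorem notMem_support_of_der [Algebra.FiniteType A C] (q : PrimeSpectrum C)
    (h : ∀ d : Derivation A C q.asIdeal.ResidueField, d = 0) : q ∉ Module.support C Ω[C⁄A] := by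
  rw [Module.mem_support_iff_nontrivial_residueField_tensorProduct, not_nontrivial_iff_subsingleton]
  set κ := q.asIdeal.ResidueField
  rw [subsingleton_iff_forall_eq 0]
  intro z
  rw [← Module.forall_dual_apply_eq_zero_iff κ]
  intro l
  let g : Ω[C⁄A] →ₗ[C] κ := (l.restrictScalars C).comp (TensorProduct.mk C κ Ω[C⁄A] 1)
  have hg : g = 0 := by
    have h1 := h (g.compDer (KaehlerDifferential.D A C))
    apply (KaehlerDifferential.linearMapEquivDerivation A C).injective
    rw [map_zero]
    exact h1
  have hl : l = 0 := by
    apply TensorProduct.AlgebraTensorModule.curry_injective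
    apply LinearMap.ext_ring
    exact hg
  rw [hl, LinearMap.zero_apply]

/-- The rank of a finite projective module at the kernel of a map to a field. -/
theorem finrank_eq_rankAtStalk {M : Type u} [AddCommGroup M] [Module A M] [Module.Finite A M]
    [Module.Flat A M] (K : Type u) [Field K] [Algebra A K] :
    Module.finrank K (K ⊗[A] M) =
      Module.rankAtStalk M ((⊥ : PrimeSpectrum K).comap (algebraMap A K)) := by
  rw [← Module.rankAtStalk_baseChange, Module.rankAtStalk_eq_finrank_of_free]
  rfl

end Groth.Agent.Sga3B.CellEtAlg
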