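import Groth.Agent.Sga3B.CellN
import Groth.Agent.Sga3B.CellOm
import Groth.Agent.FlatA.TensorPrime
import Mathlib.RingTheory.Etale.Basic
import Mathlib.RingTheory.Smooth.Flat
import Mathlib.RingTheory.Flat.FaithfullyFlat.Descent
import Mathlib.RingTheory.Flat.FaithfullyFlat.Algebra
import Mathlib.RingTheory.Spectrum.Prime.Chevalley
import Mathlib.RingTheory.Flat.Basic

/-!
# The big cell is open
-/

set_option autoImplicit false
universe u

open LaurentPolynomial TensorProduct

namespace Groth.Agent.Sga3B.Cell.Datum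

open Groth.Agent.Sga3B.Cell

variable {R A : Type u} [CommRing R] [CommRing A] [Algebra R A] [PtGrp R A] {D : Datum R A}

section
variable {B : Type u} [CommRing B] [Algebra R B]

/-- negative part of coordinates -/
def negP (k : D.idx → ℤ) (x : D.idx → B) : D.idx → B := fun a => if k a < 0 then x a else 0
/-- nonnegative part of coordinates -/
def posP (k : D.idx → ℤ) (x : D.idx → B) : D.idx → B := fun a => if k a < 0 then 0 else x a

omit [Algebra R B] in
lemma negP_zero (k : D.idx → ℤ) (x : D.idx → B) (a : D.idx) (h : -k a ≤ 0) : negP k x a = 0 :=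
  if_neg (by omega)

omit [Algebra R B] in
lemma posP_zero {k : D.idx → ℤ} (hk : ∀ a, k a ≠ 0) (x : D.idx → B) (a : D.idx) (h : k a ≤ 0) :
    posP k x a = 0 :=
  if_pos (lt_of_le_of_ne h (hk a))

omit [Algebra R B] in
lemma negP_add_posP (k : D.idx → ℤ) (x : D.idx → B) (a : D.idx) : negP k x a + posP k x a = x a := by
  unfold negP posP
  split_ifs <;> simp

lemma cell_split (k : D.idx → ℤ) (x : D.idx → B) (t : TPt D.M B) :
    D.cell (D.signList k) x t =
      D.cell (D.signList k) (negP k x) 1 * (D.cell (D.signList k) (posP k x) 1 * D.i B t) := by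
  rw [cell_signList, cell_eq_mul_i D _ _ t]
  rfl

/-- The big cell map is injective on points, over any ring. -/
theorem signCell_inj (hG : D.Good) (lam : D.M →+ ℤ) (hlam : ∀ a, lam (D.root a) ≠ 0)
    {x x' : D.idx → B} {t t' : TPt D.M B}
    (h : D.cell (D.signList fun a => lam (D.root a)) x t =
      D.cell (D.signList fun a => lam (D.root a)) x' t') : x = x' ∧ t = t' := by
  set k : D.idx → ℤ := fun a => lam (D.root a) with hkdef
  obtain ⟨δ, hδ, hδ0⟩ := hG (D.signList k) (D.signList_nodup k) (D.mem_signList k)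
  rw [cell_split k x, cell_split k x', ← cell_eq_mul_i D _ (posP k x) t,
    ← cell_eq_mul_i D _ (posP k x') t'] at h
  obtain ⟨h1, h2, h3⟩ := bigCell_inj (k := k) hδ hδ0 lam (fun a => rfl) (negP_zero k x)
    (posP_zero hlam x) (negP_zero k x') (posP_zero hlam x') h
  refine ⟨?_, h3⟩
  funext a
  rw [← negP_add_posP k x a, ← negP_add_posP k x' a, h1, h2]

lemma isNilpotent_mk {I : Ideal B} (hI : I ^ 2 = ⊥) :
    IsNilpotent (RingHom.ker (Ideal.Quotient.mkₐ R I : B →+* B ⧸ I)) := by
  refine ⟨2, ?_⟩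
  have : RingHom.ker (Ideal.Quotient.mkₐ R I : B →+* B ⧸ I) = I := Ideal.mk_ker
  rw [this, hI]
  rfl

/-- lifting points of the torus along square zero ideals -/
lemma exists_T_lift {I : Ideal B} (hI : I ^ 2 = ⊥) (t : TPt D.M (B ⧸ I)) :
    ∃ t' : TPt D.M B, TPt.map (Ideal.Quotient.mkₐ R I) t' = t := by
  let b := Module.Free.chooseBasis ℤ D.M
  choose v hv using fun i => DiagSmooth.exists_unit_lift I hI (t (Multiplicative.ofAdd (b i)))
  let ψ : D.M →ₗ[ℤ] Additive Bˣ := b.constr ℤ (fun i => Additive.ofMul (v i))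
  let ψ' : TPt D.M B := AddMonoidHom.toMultiplicativeLeft ψ.toAddMonoidHom
  refine ⟨ψ', ?_⟩
  have h2 : (AddMonoidHom.toIntLinearMap (MonoidHom.toAdditiveRight
      (TPt.map (Ideal.Quotient.mkₐ R I) ψ'))) =
      (AddMonoidHom.toIntLinearMap (MonoidHom.toAdditiveRight t)) := by
    apply b.ext
    intro i
    apply Additive.toMul.injective
    apply Units.ext
    change Ideal.Quotient.mk I (Additive.toMul (ψ (b i)) : Bˣ) = t (Multiplicative.ofAdd (b i))
    rw [show ψ (b i) = Additive.ofMul (v i) from b.constr_basis ℤ _ i]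
    exact hv i
  apply MonoidHom.ext
  intro x
  have := DFunLike.congr_fun h2 x.toAdd
  exact Additive.toMul.injective this

/-- infinitesimal lifting for the big cell -/
theorem signCell_lift (hG : D.Good) (lam : D.M →+ ℤ) (hlam : ∀ a, lam (D.root a) ≠ 0)
    {I : Ideal B} (hI : I ^ 2 = ⊥) {x₀ : D.idx → B ⧸ I} {t₀ : TPt D.M (B ⧸ I)} {g : Pt R A B}
    (h : D.cell (D.signList fun a => lam (D.root a)) x₀ t₀ = Pt.map (Ideal.Quotient.mkₐ R I) g) :
    ∃ (x : D.idx → B) (t : TPt D.M B), (∀ a, Ideal.Quotient.mk I (x a) = x₀ a) ∧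
      TPt.map (Ideal.Quotient.mkₐ R I) t = t₀ ∧
      D.cell (D.signList fun a => lam (D.root a)) x t = g := by
  set k : D.idx → ℤ := fun a => lam (D.root a) with hkdef
  set L := D.signList k with hL
  obtain ⟨δ, hδ, hδ0⟩ := hG L (D.signList_nodup k) (D.mem_signList k)
  have hθ : ∀ {B' : Type u} [CommRing B'], ∀ a,
      TPt.ch (D.root a) (D.cochar lam : TPt D.M B'[T;T⁻¹]) = T (k a) := fun a => rfl
  have hθn : ∀ {B' : Type u} [CommRing B'], ∀ a,
      TPt.ch (D.root a) (D.cochar (-lam) : TPt D.M B'[T;T⁻¹]) = T (-k a) := fun a => rfl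
  -- arbitrary lifts
  choose x' hx' using fun a => Ideal.Quotient.mk_surjective (x₀ a)
  obtain ⟨t', ht'⟩ := exists_T_lift (D := D) hI t₀
  have hmap' : Pt.map (Ideal.Quotient.mkₐ R I) (D.cell L x' t') = Pt.map (Ideal.Quotient.mkₐ R I) g := by
    rw [cell_nat, ht', ← h]
    congr 1
    funext a
    exact hx' a
  set v' := D.cell L (negP k x') 1 with hv'
  set u' := D.cell L (posP k x') 1 with hu'
  have hsp' : D.cell L x' t' = v' * (u' * D.i B t') := cell_split k x' t'
  -- the infinitesimal correction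
  set g' : Pt R A B := v'⁻¹ * g * (u' * D.i B t')⁻¹ with hg'
  have hg'1 : Pt.map (Ideal.Quotient.mkₐ R I) g' = 1 := by
    rw [hg', Pt.map_mul, Pt.map_mul, ← hmap', hsp', Pt.map_mul, Pt.map_inv, Pt.map_inv]
    group
  have hδu : IsUnit (D.ev (fun _ => (0 : B ⧸ I)) 1 δ) := by
    have h := D.comp_ev (Algebra.ofId R (B ⧸ I)) (fun _ => (0 : R)) 1
    simp only [map_zero, map_one] at h
    have h2 := congrArg (fun k : D.CR →ₐ[R] B ⧸ I => k δ) h
    simp only [AlgHom.comp_apply] at h2
    rw [← h2]
    change IsUnit (Algebra.ofId R (B ⧸ I) (D.ev0 δ))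
    rw [hδ0, map_one]
    exact isUnit_one
  obtain ⟨x'', t'', hx'', ht'', hcell⟩ := hδ.exists_lift D (φ := Ideal.Quotient.mkₐ R I)
    Ideal.Quotient.mk_surjective (isNilpotent_mk hI) (x₀ := fun _ => 0) (t₀ := 1) (g := g') hδu (by
      rw [hg'1, cell_zero, i_one'])
  have hsp'' := cell_split k x'' t''
  rw [hcell] at hsp''
  set v'' := D.cell L (negP k x'') 1 with hv''
  set u'' := D.cell L (posP k x'') 1 with hu''
  -- recombine
  have hv1 : v' ∈ D.UP L (fun a => -k a) B := ⟨_, negP_zero k x', rfl⟩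
  have hv2 : v'' ∈ D.UP L (fun a => -k a) B := ⟨_, negP_zero k x'', rfl⟩
  have hu1 : D.i B t'' * u' * (D.i B t'')⁻¹ ∈ D.UP L k B := by
    rw [hu', conj_cell]
    exact ⟨_, fun a ha => by rw [posP_zero hlam x' a ha, mul_zero], rfl⟩
  have hu2 : u'' ∈ D.UP L k B := ⟨_, posP_zero hlam x'', rfl⟩
  obtain ⟨y, hy0, hy⟩ := UP_mul hδ hδ0 (k := fun a => -k a) hθn hv1 hv2
  obtain ⟨z, hz0, hz⟩ := UP_mul hδ hδ0 (k := k) hθ hu2 hu1
  set X : D.idx → B := fun a => if k a < 0 then y a else z a with hX
  have hXn : negP k X = y := by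
    funext a
    unfold negP
    rw [hX]
    by_cases ha : k a < 0
    · simp [ha]
    · rw [if_neg ha, hy0 a (by change -k a ≤ 0; omega)]
  have hXp : posP k X = z := by
    funext a
    unfold posP
    rw [hX]
    by_cases ha : k a < 0
    · rw [if_pos ha, hz0 a ha.le]
    · simp [ha]
  have hgX : D.cell L X (t'' * t') = g := by
    rw [hL, cell_split, ← hL, hXn, hXp, ← hy, ← hz, i_mul']
    have h1 : g = v' * g' * (u' * D.i B t') := by rw [hg']; group
    rw [h1, hsp'']
    group
  refine ⟨X, t'' * t', ?_, ?_, hgX⟩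
  · have h1 : D.cell L (fun a => Ideal.Quotient.mkₐ R I (X a))
        (TPt.map (Ideal.Quotient.mkₐ R I) (t'' * t')) = D.cell L x₀ t₀ := by
      rw [← cell_nat, hgX, h]
    exact fun a => congrFun (signCell_inj hG lam hlam h1).1 a
  · have h1 : D.cell L (fun a => Ideal.Quotient.mkₐ R I (X a))
        (TPt.map (Ideal.Quotient.mkₐ R I) (t'' * t')) = D.cell L x₀ t₀ := by
      rw [← cell_nat, hgX, h]
    exact (signCell_inj hG lam hlam h1).2

end

/-- The big cell map is étale. -/
theorem signCell_etale [Algebra.FiniteType R A] (hG : D.Good) (lam : D.M →+ ℤ)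
    (hlam : ∀ a, lam (D.root a) ≠ 0) :
    (D.phi (D.signList fun a => lam (D.root a)) : A →+* D.CR).Etale := by
  set L := D.signList fun a => lam (D.root a) with hL
  let _ : Algebra A D.CR := (D.phi L : A →+* D.CR).toAlgebra
  have hT : IsScalarTower R A D.CR := .of_algebraMap_eq fun r => ((D.phi L).commutes r).symm
  have hfp : Algebra.FinitePresentation A D.CR :=
    Algebra.FinitePresentation.of_restrict_scalars_finitePresentation R A D.CR
  have hfe : Algebra.FormallyEtale A D.CR := by
    rw [Algebra.FormallyEtale.iff_comp_bijective]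
    intro B _ _ I hI
    let _ : Algebra R B := ((algebraMap A B).comp (algebraMap R A)).toAlgebra
    have hTB : IsScalarTower R A B := .of_algebraMap_eq fun r => rfl
    let gB : Pt R A B := Pt.mk (IsScalarTower.toAlgHom R A B)
    have hcell : ∀ (C : Type u) [CommRing C] [Algebra A C] [Algebra R C] [IsScalarTower R A C]
        (f : D.CR →ₐ[A] C), D.cell L (fun a => f (MvPolynomial.X a))
          (TPt.map (f.restrictScalars R) D.tU) = Pt.mk (IsScalarTower.toAlgHom R A C) := by
      intro C _ _ _ _ f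
      apply Pt.ext
      intro z
      rw [← ev_phi]
      have h1 := D.eq_ev (f.restrictScalars R)
      have h2 : D.ev (fun a => f (MvPolynomial.X a)) (TPt.map (f.restrictScalars R) D.tU) =
        f.restrictScalars R := h1.symm
      rw [h2]
      exact f.commutes z
    constructor
    · intro f f' _
      have h1 := (hcell B f).trans (hcell B f').symm
      obtain ⟨h2, h3⟩ := signCell_inj hG lam hlam h1
      have h4 : f.restrictScalars R = f'.restrictScalars R := by
        rw [D.eq_ev (f.restrictScalars R), D.eq_ev (f'.restrictScalars R), h3]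
        congr 1
      apply AlgHom.ext
      intro z
      exact congrArg (fun k : D.CR →ₐ[R] B => k z) h4
    · intro f₀
      have h1 := hcell (B ⧸ I) f₀
      obtain ⟨x, t, hx, ht, hg⟩ := signCell_lift hG lam hlam hI (g := gB) h1
      let f : D.CR →ₐ[A] B :=
        { (D.ev x t : D.CR →+* B) with
          commutes' := fun z => by
            change D.ev x t (D.phi L z) = algebraMap A B z
            rw [ev_phi, hg]
            rfl }
      refine ⟨f, ?_⟩
      have h4 : ((Ideal.Quotient.mkₐ R I).comp (D.ev x t)) = f₀.restrictScalars R := by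
        rw [D.comp_ev, D.eq_ev (f₀.restrictScalars R), ht]
        congr 1
        funext a
        exact hx a
      apply AlgHom.ext
      intro z
      exact congrArg (fun k : D.CR →ₐ[R] B ⧸ I => k z) h4
  exact ⟨hfe, hfp⟩

/-- faithfully flat epimorphisms are surjective -/
lemma surjective_of_epi {B B' : Type u} [CommRing B] [CommRing B'] [Algebra B B']
    [Module.FaithfullyFlat B B'] (h : ∀ (E : Type u) [CommRing E] [Algebra B E]
      (f₁ f₂ : B' →ₐ[B] E), f₁ = f₂) : Function.Surjective (algebraMap B B') := by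
  apply Module.FaithfullyFlat.surjective_of_tensorProduct (R := B) (S := B')
  intro z
  have h1 := h (B' ⊗[B] B') Algebra.TensorProduct.includeLeft Algebra.TensorProduct.includeRight
  induction z with
  | zero => exact ⟨0, map_zero _⟩
  | tmul x y =>
    refine ⟨x * y, ?_⟩
    have h2 : x ⊗ₜ[B] y = (x ⊗ₜ[B] (1 : B')) * ((1 : B') ⊗ₜ[B] y) := by simp
    have h3 : (1 : B') ⊗ₜ[B] y = y ⊗ₜ[B] (1 : B') :=
      (congrArg (fun k : B' →ₐ[B] B' ⊗[B] B' => k y) h1).symm
    rw [h2, h3]
    simp
  | add x y hx hy =>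
    obtain ⟨x', rfl⟩ := hx
    obtain ⟨y', rfl⟩ := hy
    exact ⟨x' + y', map_add _ _ _⟩

lemma cell_of_algHom {C : Type u} [CommRing C] [Algebra R C] (L : List D.idx) (f : D.CR →ₐ[R] C)
    (g : Pt R A C) (hf : ∀ a, f (D.phi L a) = g.hom a) :
    D.cell L (fun a => f (MvPolynomial.X a)) (TPt.map f D.tU) = g := by
  apply Pt.ext
  intro z
  rw [← ev_phi, ← D.eq_ev f, hf]

/-- The big cell map is an epimorphism of rings. -/
lemma algHom_ext_signCell (hG : D.Good) (lam : D.M →+ ℤ) (hlam : ∀ a, lam (D.root a) ≠ 0)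
    {C : Type u} [CommRing C] [Algebra R C] (f₁ f₂ : D.CR →ₐ[R] C)
    (h : ∀ a, f₁ (D.phi (D.signList fun a => lam (D.root a)) a) =
      f₂ (D.phi (D.signList fun a => lam (D.root a)) a)) : f₁ = f₂ := by
  have e1 := cell_of_algHom (D.signList fun a => lam (D.root a)) f₁
    (Pt.mk (f₁.comp (D.phi (D.signList fun a => lam (D.root a))))) (fun a => rfl)
  have e2 := cell_of_algHom (D.signList fun a => lam (D.root a)) f₂
    (Pt.mk (f₁.comp (D.phi (D.signList fun a => lam (D.root a))))) (fun a => (h a).symm)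
  obtain ⟨h2, h3⟩ := signCell_inj hG lam hlam (e1.trans e2.symm)
  rw [D.eq_ev f₁, D.eq_ev f₂, h3]
  congr 1

/-- A point whose topological image lies in the image of the big cell is a cell point. -/
theorem exists_signCell_of_range [Algebra.FiniteType R A] (hG : D.Good) (lam : D.M →+ ℤ)
    (hlam : ∀ a, lam (D.root a) ≠ 0) {B : Type u} [CommRing B] [Algebra R B] (g : Pt R A B)
    (h : ∀ q : PrimeSpectrum B, q.comap (g.hom : A →+* B) ∈ Set.range
      (PrimeSpectrum.comap (D.phi (D.signList fun a => lam (D.root a)) : A →+* D.CR))) :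
    ∃ (x : D.idx → B) (t : TPt D.M B), D.cell (D.signList fun a => lam (D.root a)) x t = g := by
  have het := signCell_etale hG lam hlam
  set L := D.signList fun a => lam (D.root a) with hL
  let _ : Algebra A D.CR := (D.phi L : A →+* D.CR).toAlgebra
  have hT : IsScalarTower R A D.CR := .of_algebraMap_eq fun r => ((D.phi L).commutes r).symm
  let _ : Algebra A B := (g.hom : A →+* B).toAlgebra
  have hTB : IsScalarTower R A B := .of_algebraMap_eq fun r => (g.hom.commutes r).symm
  have het' : Algebra.Etale A D.CR := het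
  have hflat : Module.Flat A D.CR := inferInstance
  have hff : Module.FaithfullyFlat B (B ⊗[A] D.CR) := by
    apply Module.FaithfullyFlat.of_comap_surjective
    intro q
    obtain ⟨p, hp⟩ := h q
    obtain ⟨r, hr, -⟩ := FlatA.TensorPrime.exists_prime (R := A) q p hp.symm
    exact ⟨r, hr⟩
  have hinj : Function.Injective (algebraMap B (B ⊗[A] D.CR)) :=
    FaithfulSMul.algebraMap_injective B (B ⊗[A] D.CR)
  have hc : ∀ a : A, (1 : B) ⊗ₜ[A] D.phi L a = algebraMap B (B ⊗[A] D.CR) (g.hom a) := by
    intro a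
    have h1 : D.phi L a = a • (1 : D.CR) := by
      rw [Algebra.smul_def, mul_one]; rfl
    have h2 : g.hom a = a • (1 : B) := by
      rw [Algebra.smul_def, mul_one]; rfl
    rw [h1, h2, Algebra.TensorProduct.algebraMap_apply, Algebra.algebraMap_self_apply,
      TensorProduct.tmul_smul, ← TensorProduct.smul_tmul']
  have hsurj : Function.Surjective (algebraMap B (B ⊗[A] D.CR)) := by
    apply surjective_of_epi
    intro E _ _ j₁ j₂
    let _ : Algebra R E := ((algebraMap B E).comp (algebraMap R B)).toAlgebra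
    have hTE : IsScalarTower R B E := .of_algebraMap_eq fun r => rfl
    let c : D.CR →ₐ[R] (B ⊗[A] D.CR) :=
      (Algebra.TensorProduct.includeRight : D.CR →ₐ[A] B ⊗[A] D.CR).restrictScalars R
    let f₁ : D.CR →ₐ[R] E := (j₁.restrictScalars R).comp c
    let f₂ : D.CR →ₐ[R] E := (j₂.restrictScalars R).comp c
    have h4 : f₁ = f₂ := by
      apply algHom_ext_signCell hG lam hlam
      intro a
      change j₁ ((1 : B) ⊗ₜ[A] D.phi L a) = j₂ ((1 : B) ⊗ₜ[A] D.phi L a)
      rw [hc, j₁.commutes, j₂.commutes]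
    apply AlgHom.ext
    intro z
    induction z with
    | zero => rw [map_zero, map_zero]
    | tmul b z =>
      have h5 : b ⊗ₜ[A] z = algebraMap B (B ⊗[A] D.CR) b * ((1 : B) ⊗ₜ[A] z) := by
        simp [Algebra.TensorProduct.algebraMap_apply]
      rw [h5, map_mul, map_mul, j₁.commutes, j₂.commutes]
      congr 1
      exact congrArg (fun k : D.CR →ₐ[R] E => k z) h4
    | add x y hx hy => rw [map_add, map_add, hx, hy]
  let e : B ≃ₐ[B] (B ⊗[A] D.CR) :=
    AlgEquiv.ofBijective (Algebra.ofId B (B ⊗[A] D.CR)) ⟨hinj, hsurj⟩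
  let c : D.CR →ₐ[R] (B ⊗[A] D.CR) :=
      (Algebra.TensorProduct.includeRight : D.CR →ₐ[A] B ⊗[A] D.CR).restrictScalars R
  let f : D.CR →ₐ[R] B := ((e.symm : (B ⊗[A] D.CR) →ₐ[B] B).restrictScalars R).comp c
  refine ⟨fun a => f (MvPolynomial.X a), TPt.map f D.tU, cell_of_algHom L f g ?_⟩
  intro z
  change e.symm ((1 : B) ⊗ₜ[A] D.phi L z) = g.hom z
  rw [hc, e.symm.commutes]
  rfl

variable (D) in
/-- the ideal defining the complement of the big cell -/
noncomputable def cellIdeal (L : List D.idx) : Ideal A :=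
  PrimeSpectrum.vanishingIdeal
    (Set.range (PrimeSpectrum.comap (D.phi L : A →+* D.CR)))ᶜ

/-- Membership in the big cell, over any ring. -/
theorem exists_signCell_iff [Algebra.FiniteType R A] (hG : D.Good) (lam : D.M →+ ℤ)
    (hlam : ∀ a, lam (D.root a) ≠ 0) {B : Type u} [CommRing B] [Algebra R B] (g : Pt R A B) :
    (∃ (x : D.idx → B) (t : TPt D.M B),
      D.cell (D.signList fun a => lam (D.root a)) x t = g) ↔
      (D.cellIdeal (D.signList fun a => lam (D.root a))).map (g.hom : A →+* B) = ⊤ := by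
  have het := signCell_etale hG lam hlam
  set L := D.signList fun a => lam (D.root a) with hL
  have hopen : IsOpen (Set.range (PrimeSpectrum.comap (D.phi L : A →+* D.CR))) := by
    let _ : Algebra A D.CR := (D.phi L : A →+* D.CR).toAlgebra
    have het' : Algebra.Etale A D.CR := het
    have hm := PrimeSpectrum.isOpenMap_comap_of_hasGoingDown_of_finitePresentation
      (R := A) (S := D.CR)
    exact hm.isOpen_range
  have hzl : PrimeSpectrum.zeroLocus (D.cellIdeal L : Set A) =
      (Set.range (PrimeSpectrum.comap (D.phi L : A →+* D.CR)))ᶜ := by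
    unfold cellIdeal
    rw [PrimeSpectrum.zeroLocus_vanishingIdeal_eq_closure, hopen.isClosed_compl.closure_eq]
  constructor
  · rintro ⟨x, t, rfl⟩
    by_contra hne
    obtain ⟨m, hm, hle⟩ := Ideal.exists_le_maximal _ hne
    have h1 : PrimeSpectrum.comap ((D.cell L x t).hom : A →+* B) ⟨m, hm.isPrime⟩ ∈
        PrimeSpectrum.zeroLocus (D.cellIdeal L : Set A) := by
      intro z hz
      exact hle (Ideal.mem_map_of_mem _ hz)
    rw [hzl] at h1
    apply h1
    refine ⟨PrimeSpectrum.comap (D.ev x t : D.CR →+* B) ⟨m, hm.isPrime⟩, ?_⟩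
    rw [← PrimeSpectrum.comap_comp_apply]
    congr 1
    exact congrArg (fun f : A →ₐ[R] B => (f : A →+* B)) (D.ev_comp_phi L x t)
  · intro h
    apply exists_signCell_of_range hG lam hlam
    intro q
    by_contra hq
    have h1 : q.comap (g.hom : A →+* B) ∈ PrimeSpectrum.zeroLocus (D.cellIdeal L : Set A) := by
      rw [hzl]; exact hq
    have h2 : (D.cellIdeal L).map (g.hom : A →+* B) ≤ q.asIdeal := by
      rw [Ideal.map_le_iff_le_comap]
      exact h1
    rw [h] at h2
    exact q.isPrime.ne_top (top_le_iff.mp h2)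

end Groth.Agent.Sga3B.Cell.Datum
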