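import Groth.Agent.Sga3B.CellBase
import Mathlib.RingTheory.RingHom.Etale
import Mathlib.RingTheory.Etale.Basic
import Mathlib.RingTheory.Localization.Away.Basic

/-!
# The universal cell: coordinate ring, universal point, étaleness near the unit section in lifting form
-/

set_option autoImplicit false
universe u

open MvPolynomial

namespace Groth.Agent.Sga3B.Cell.Datum

open Groth.Agent.Sga3B.Cell

variable {R A : Type u} [CommRing R] [CommRing A] [Algebra R A] [PtGrp R A] (D : Datum R A)
variable {B C : Type u} [CommRing B] [Algebra R B] [CommRing C] [Algebra R C]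

/-- coordinate ring of `𝔸^idx × D(M)`. -/
abbrev CR : Type u := MvPolynomial D.idx (MonoidAlgebra R (Multiplicative D.M))

/-- the algebra homomorphism `R[M] → B` of a torus point. -/
noncomputable def evT (t : TPt D.M B) : MonoidAlgebra R (Multiplicative D.M) →ₐ[R] B :=
  MonoidAlgebra.lift R B (Multiplicative D.M) ((Units.coeHom B).comp t)

lemma evT_single (t : TPt D.M B) (m : Multiplicative D.M) (r : R) :
    D.evT t (MonoidAlgebra.single m r) = algebraMap R B r * (t m : B) := by
  simp [evT, MonoidAlgebra.lift_single, Algebra.smul_def]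

/-- evaluation of functions on the cell at a point. -/
noncomputable def ev (x : D.idx → B) (t : TPt D.M B) : D.CR →ₐ[R] B :=
  MvPolynomial.aevalTower (D.evT t) x

@[simp] lemma ev_X (x : D.idx → B) (t : TPt D.M B) (a : D.idx) : D.ev x t (X a) = x a := by
  simp [ev]

@[simp] lemma ev_C_single (x : D.idx → B) (t : TPt D.M B) (m : Multiplicative D.M) :
    D.ev x t (MvPolynomial.C (MonoidAlgebra.single m 1)) = (t m : B) := by
  simp [ev, evT_single]

/-- the universal coordinates -/
noncomputable def xU : D.idx → D.CR := fun a => X a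

/-- the universal torus point -/
noncomputable def tU : TPt D.M D.CR :=
  MonoidHom.toHomUnits
    (((MvPolynomial.C (σ := D.idx) (R := MonoidAlgebra R (Multiplicative D.M))) : _ →* D.CR).comp
      (MonoidAlgebra.of R (Multiplicative D.M)))

lemma ch_tU (m : D.M) : TPt.ch m D.tU =
    MvPolynomial.C (MonoidAlgebra.single (Multiplicative.ofAdd m) (1 : R)) := rfl

lemma algHom_ext {f g : D.CR →ₐ[R] B} (hX : ∀ a, f (X a) = g (X a))
    (hT : ∀ m : D.M, f (TPt.ch m D.tU) = g (TPt.ch m D.tU)) : f = g := by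
  have h1 : (f.comp (IsScalarTower.toAlgHom R (MonoidAlgebra R (Multiplicative D.M)) D.CR)) =
      (g.comp (IsScalarTower.toAlgHom R (MonoidAlgebra R (Multiplicative D.M)) D.CR)) := by
    apply MonoidAlgebra.algHom_ext
    · intro m
      exact hT m.toAdd
    · exact Subsingleton.elim _ _
  have h2 : (f : D.CR →+* B) = (g : D.CR →+* B) := by
    apply MvPolynomial.ringHom_ext
    · intro r
      exact congrArg (fun k : MonoidAlgebra R (Multiplicative D.M) →ₐ[R] B => k r) h1
    · intro a
      exact hX a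
  exact AlgHom.ext fun z => congrArg (fun k : D.CR →+* B => k z) h2

@[simp] lemma ev_xU (x : D.idx → B) (t : TPt D.M B) (a : D.idx) : D.ev x t (D.xU a) = x a :=
  D.ev_X x t a

@[simp] lemma map_ev_tU (x : D.idx → B) (t : TPt D.M B) : TPt.map (D.ev x t) D.tU = t := by
  apply TPt.ext_ch
  intro m
  rw [TPt.ch_map, ch_tU, ev_C_single]
  rfl

lemma comp_ev (φ : B →ₐ[R] C) (x : D.idx → B) (t : TPt D.M B) :
    φ.comp (D.ev x t) = D.ev (fun a => φ (x a)) (TPt.map φ t) := by
  apply D.algHom_ext
  · intro a; simp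
  · intro m
    rw [AlgHom.comp_apply, ch_tU, ev_C_single, ev_C_single]
    rfl

/-- Every algebra homomorphism from the cell ring is an evaluation. -/
lemma eq_ev (f : D.CR →ₐ[R] B) : f = D.ev (fun a => f (X a)) (TPt.map f D.tU) := by
  apply D.algHom_ext
  · intro a; simp
  · intro m
    rw [ch_tU, ev_C_single]
    rfl

lemma ev_injective {x x' : D.idx → B} {t t' : TPt D.M B} (h : D.ev x t = D.ev x' t') :
    x = x' ∧ t = t' := by
  constructor
  · funext a
    rw [← D.ev_X x t a, h, D.ev_X]
  · rw [← D.map_ev_tU x t, h, D.map_ev_tU]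

/-- the algebra homomorphism of the cell map -/
noncomputable def phi (L : List D.idx) : A →ₐ[R] D.CR := (D.cell L D.xU D.tU).hom

lemma ev_comp_phi (L : List D.idx) (x : D.idx → B) (t : TPt D.M B) :
    (D.ev x t).comp (D.phi L) = (D.cell L x t).hom := by
  have h := D.cell_nat L (D.ev x t) D.xU D.tU
  simp only [ev_xU, map_ev_tU] at h
  exact congrArg Pt.hom h

lemma ev_phi (L : List D.idx) (x : D.idx → B) (t : TPt D.M B) (f : A) :
    D.ev x t (D.phi L f) = (D.cell L x t).hom f :=
  congrArg (fun k : A →ₐ[R] B => k f) (D.ev_comp_phi L x t)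

/-- the evaluation at the origin -/
noncomputable def ev0 : D.CR →ₐ[R] R := D.ev (fun _ => (0 : R)) 1

/-- étaleness of the cell map on `D(δ)`. -/
def EtOn (L : List D.idx) (δ : D.CR) : Prop :=
  ((algebraMap D.CR (Localization.Away δ)).comp (D.phi L : A →+* D.CR)).Etale

section lift

variable {L : List D.idx} {δ : D.CR} (hδ : D.EtOn L δ)
include hδ

/-- uniqueness of lifts along nilpotent ideals for étale cell maps -/
lemma EtOn.unique {φ : B →ₐ[R] C} (hker : IsNilpotent (RingHom.ker (φ : B →+* C)))
    {x x' : D.idx → B} {t t' : TPt D.M B} (hx : ∀ a, φ (x a) = φ (x' a))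
    (ht : TPt.map φ t = TPt.map φ t') (hu : IsUnit (D.ev x t δ))
    (h : D.cell L x t = D.cell L x' t') : x = x' ∧ t = t' := by
  apply D.ev_injective
  have hφ : ∀ z, D.ev x' t' z - D.ev x t z ∈ RingHom.ker (φ : B →+* C) := by
    intro z
    rw [RingHom.mem_ker, map_sub, sub_eq_zero]
    have e1 : (φ : B →+* C) (D.ev x' t' z) = D.ev (fun a => φ (x' a)) (TPt.map φ t') z := by
      rw [← comp_ev]; rfl
    have e2 : (φ : B →+* C) (D.ev x t z) = D.ev (fun a => φ (x a)) (TPt.map φ t) z := by
      rw [← comp_ev]; rfl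
    rw [e1, e2, ht]
    congr 2
    funext a
    exact (hx a).symm
  have hu' : IsUnit (D.ev x' t' δ) := by
    have h2 : IsNilpotent (D.ev x' t' δ - D.ev x t δ) := by
      obtain ⟨n, hn⟩ := hker
      refine ⟨n, ?_⟩
      have := Ideal.pow_mem_pow (hφ δ) n
      rw [hn] at this
      simpa using this
    have h3 := h2.isUnit_add_left_of_commute hu (Commute.all _ _)
    simpa using h3
  let S := Localization.Away δ
  let g₁ : S →+* B := IsLocalization.Away.lift (S := S) δ (g := (D.ev x t : D.CR →+* B)) hu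
  let g₂ : S →+* B := IsLocalization.Away.lift (S := S) δ (g := (D.ev x' t' : D.CR →+* B)) hu'
  have hg₁ : ∀ z, g₁ (algebraMap D.CR S z) = D.ev x t z := fun z => IsLocalization.Away.lift_eq δ hu z
  have hg₂ : ∀ z, g₂ (algebraMap D.CR S z) = D.ev x' t' z := fun z => IsLocalization.Away.lift_eq δ hu' z
  let _ : Algebra A S := ((algebraMap D.CR S).comp (D.phi L : A →+* D.CR)).toAlgebra
  let _ : Algebra A B := ((D.cell L x t).hom : A →+* B).toAlgebra
  have : Algebra.Etale A S := hδ
  let G₁ : S →ₐ[A] B := { g₁ with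
    commutes' := fun f => by
      change g₁ (algebraMap D.CR S (D.phi L f)) = (D.cell L x t).hom f
      rw [hg₁, ev_phi] }
  let G₂ : S →ₐ[A] B := { g₂ with
    commutes' := fun f => by
      change g₂ (algebraMap D.CR S (D.phi L f)) = (D.cell L x t).hom f
      rw [hg₂, ev_phi, h] }
  have key : G₁ = G₂ := by
    refine Algebra.FormallyUnramified.ext (I := RingHom.ker (φ : B →+* C)) hker ?_
    intro z
    have hcomp : ((Ideal.Quotient.mk (RingHom.ker (φ : B →+* C))).comp g₁) =
        ((Ideal.Quotient.mk (RingHom.ker (φ : B →+* C))).comp g₂) := by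
      apply IsLocalization.ringHom_ext (Submonoid.powers δ)
      refine RingHom.ext fun w => ?_
      simp only [RingHom.comp_apply]
      rw [hg₁, hg₂, Ideal.Quotient.eq]
      have := (RingHom.ker (φ : B →+* C)).neg_mem (hφ w)
      rwa [neg_sub] at this
    exact congrArg (fun k : S →+* _ => k z) hcomp
  refine AlgHom.ext fun z => ?_
  have := congrArg (fun k : S →ₐ[A] B => k (algebraMap D.CR S z)) key
  change g₁ _ = g₂ _ at this
  rwa [hg₁, hg₂] at this

/-- existence of lifts along nilpotent surjections for étale cell maps -/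
lemma EtOn.exists_lift {φ : B →ₐ[R] C} (hφ : Function.Surjective φ)
    (hker : IsNilpotent (RingHom.ker (φ : B →+* C)))
    {x₀ : D.idx → C} {t₀ : TPt D.M C} (hu : IsUnit (D.ev x₀ t₀ δ)) {g : Pt R A B}
    (h : D.cell L x₀ t₀ = Pt.map φ g) :
    ∃ (x : D.idx → B) (t : TPt D.M B), (∀ a, φ (x a) = x₀ a) ∧ TPt.map φ t = t₀ ∧
      D.cell L x t = g := by
  let S := Localization.Away δ
  let g₀ : S →+* C := IsLocalization.Away.lift (S := S) δ (g := (D.ev x₀ t₀ : D.CR →+* C)) hu
  have hg₀ : ∀ z, g₀ (algebraMap D.CR S z) = D.ev x₀ t₀ z :=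
    fun z => IsLocalization.Away.lift_eq δ hu z
  let _ : Algebra A S := ((algebraMap D.CR S).comp (D.phi L : A →+* D.CR)).toAlgebra
  let _ : Algebra A B := (g.hom : A →+* B).toAlgebra
  let _ : Algebra A C := ((Pt.map φ g).hom : A →+* C).toAlgebra
  have : Algebra.Etale A S := hδ
  let G₀ : S →ₐ[A] C := { g₀ with
    commutes' := fun f => by
      change g₀ (algebraMap D.CR S (D.phi L f)) = (Pt.map φ g).hom f
      rw [hg₀, ev_phi, h] }
  let φ' : B →ₐ[A] C := { (φ : B →+* C) with
    commutes' := fun f => rfl }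
  let G : S →ₐ[A] B := Algebra.FormallySmooth.liftOfSurjective G₀ φ' hφ hker
  have hG : ∀ z, φ (G z) = g₀ z := fun z =>
    Algebra.FormallySmooth.liftOfSurjective_apply G₀ φ' hφ hker z
  have hGR : ∀ r : R, G (algebraMap D.CR S (algebraMap R D.CR r)) = algebraMap R B r := by
    intro r
    have h1 : algebraMap D.CR S (algebraMap R D.CR r) = algebraMap A S (algebraMap R A r) := by
      change _ = algebraMap D.CR S (D.phi L (algebraMap R A r))
      rw [AlgHom.commutes]
    rw [h1, AlgHom.commutes]
    change g.hom (algebraMap R A r) = _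
    rw [AlgHom.commutes]
  let G' : D.CR →ₐ[R] B := { (G : S →+* B).comp (algebraMap D.CR S) with
    commutes' := fun r => hGR r }
  have hG' : ∀ z, G' z = G (algebraMap D.CR S z) := fun z => rfl
  refine ⟨fun a => G' (X a), TPt.map G' D.tU, ?_, ?_, ?_⟩
  · intro a
    change φ (G' (X a)) = x₀ a
    rw [hG', hG, hg₀, ev_X]
  · apply TPt.ext_ch
    intro m
    rw [TPt.ch_map, TPt.ch_map, hG', hG, hg₀, ← TPt.ch_map, map_ev_tU]
  · have h1 := D.eq_ev G'
    apply Pt.ext
    intro f
    rw [← D.ev_phi, ← h1, hG']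
    change G (algebraMap A S f) = _
    rw [AlgHom.commutes]
    rfl

end lift

end Groth.Agent.Sga3B.Cell.Datum
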