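import Groth.Agent.Sga3B.CellCI
import Groth.Agent.Sga3B.CellCov

/-!
# Points normalising the torus and fixing the roots lie in the torus, over any base
-/

set_option autoImplicit false
universe u

open TensorProduct Polynomial

namespace Groth.Agent.Sga3B.Cell

/-- a homomorphism to `ℤ` positive on a given nonzero element -/
lemma exists_lam_pos {M : Type} [AddCommGroup M] [Module.Free ℤ M] {m : M} (hm : m ≠ 0) :
    ∃ lam : M →+ ℤ, 0 < lam m := by
  let b := Module.Free.chooseBasis ℤ M
  have h1 : b.repr m ≠ 0 := fun h => hm (by simpa using h)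
  obtain ⟨i, hi⟩ := Finsupp.ne_iff.mp h1
  rw [Finsupp.zero_apply] at hi
  rcases lt_or_gt_of_ne hi with h | h
  · refine ⟨-(b.coord i).toAddMonoidHom, ?_⟩
    change 0 < -(b.repr m i)
    omega
  · exact ⟨(b.coord i).toAddMonoidHom, h⟩

/-- the unit `1 + X` in truncated polynomials -/
lemma isUnit_one_add_X (R B : Type u) [CommRing R] [CommRing B] [Algebra R B] (n : ℕ) :
    IsUnit (tmk R B n (1 + X)) := by
  rw [map_add, map_one]
  have : IsNilpotent (tmk R B n X) := by
    refine ⟨n, ?_⟩
    rw [← map_pow]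
    change Ideal.Quotient.mk _ _ = 0
    rw [Ideal.Quotient.eq_zero_iff_mem]
    exact Ideal.mem_span_singleton_self _
  exact this.isUnit_one_add

/-- the torus point `v ^ lam` -/
def TPt.pw {M : Type} [AddCommGroup M] {B : Type u} [CommRing B] (v : Bˣ) (lam : M →+ ℤ) :
    TPt M B where
  toFun m := v ^ (lam m.toAdd)
  map_one' := by simp
  map_mul' m n := by rw [toAdd_mul, map_add, zpow_add]

lemma TPt.ch_pw {M : Type} [AddCommGroup M] {B : Type u} [CommRing B] (v : Bˣ) (lam : M →+ ℤ)
    (m : M) : TPt.ch m (TPt.pw v lam) = ((v ^ lam m : Bˣ) : B) := rfl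

namespace Datum

open Groth.Agent.Sga3B.Cell

variable {R A : Type u} [CommRing R] [CommRing A] [Algebra R A] [PtGrp R A] {D : Datum R A}

/-- constants in truncated polynomials -/
noncomputable def tcon (R B : Type u) [CommRing R] [CommRing B] [Algebra R B] (n : ℕ) :
    B →ₐ[R] TQ B n := (tmk R B n).comp (IsScalarTower.toAlgHom R B B[X])

lemma tcon_apply {B : Type u} [CommRing B] [Algebra R B] (n : ℕ) (b : B) :
    tcon R B n b = tmk R B n (C b) := rfl

lemma tred_comp_tcon {B : Type u} [CommRing B] [Algebra R B] {n : ℕ} (hn : n ≠ 0) :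
    (tred R B hn).comp (tcon R B n) = AlgHom.id R B := by
  apply AlgHom.ext
  intro b
  rw [AlgHom.comp_apply, tcon_apply, tred_tmk]
  simp

/-- A cell point near the unit section commuting with the torus lies in the torus. -/
theorem cell_comm_eq_zero {L : List D.idx} {δ : D.CR} (hδ : D.EtOn L δ) {B : Type u} [CommRing B]
    [Algebra R B] {x : D.idx → B} {t : TPt D.M B} (hu : IsUnit (D.ev x t δ))
    (hcomm : ∀ (C : Type u) [CommRing C] [Algebra R C] (φ : B →ₐ[R] C) (s : TPt D.M C),
      D.i C s * Pt.map φ (D.cell L x t) = Pt.map φ (D.cell L x t) * D.i C s) : x = 0 := by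
  funext a
  obtain ⟨lam, hlam⟩ := exists_lam_pos (D.root_ne a)
  obtain ⟨k, hk⟩ := Int.eq_ofNat_of_zero_le hlam.le
  have hk0 : 0 < k := by omega
  set n := k + 1 with hn
  have hn0 : n ≠ 0 := by omega
  set v : (TQ B n)ˣ := (isUnit_one_add_X R B n).unit with hv
  set s : TPt D.M (TQ B n) := TPt.pw v lam with hs
  have h1 := hcomm (TQ B n) (tcon R B n) s
  rw [cell_nat, i_mul_cell, cell_mul_i, TPt.mul_comm' s] at h1
  have h2 : D.cell L (fun a => tcon R B n (x a)) (TPt.map (tcon R B n) t) =
      D.cell L (fun a => TPt.ch (D.root a) s * tcon R B n (x a)) (TPt.map (tcon R B n) t) := by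
    have h3 := congrArg (fun g => g * (D.i _ s)⁻¹) h1
    simp only [← cell_mul_i, mul_inv_cancel_right] at h3
    exact h3.symm
  have h4 := (EtOn.unique D hδ (φ := tred R B hn0) (tred_ker_nilpotent R B hn0)
    (x := fun a => tcon R B n (x a)) (x' := fun a => TPt.ch (D.root a) s * tcon R B n (x a))
    (t := TPt.map (tcon R B n) t) (t' := TPt.map (tcon R B n) t) (by
      intro b
      rw [map_mul]
      have h5 : tred R B hn0 (TPt.ch (D.root b) s) = 1 := by
        rw [hs, TPt.ch_pw]
        have h6 : tred R B hn0 ((v ^ lam (D.root b) : (TQ B n)ˣ) : TQ B n) =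
          ((Units.map (tred R B hn0 : TQ B n →* B) v ^ lam (D.root b) : Bˣ) : B) := by
          rw [← map_zpow]; rfl
        have h7 : Units.map (tred R B hn0 : TQ B n →* B) v = 1 := by
          apply Units.ext
          change tred R B hn0 (tmk R B n (1 + X)) = 1
          rw [tred_tmk]; simp
        rw [h6, h7, one_zpow, Units.val_one]
      rw [h5, one_mul]) rfl (by
      rw [← D.comp_ev]
      exact hu.map (tcon R B n : B →+* TQ B n)) h2).1
  have h8 := congrFun h4 a
  have h9 : TPt.ch (D.root a) s = tmk R B n ((1 + X) ^ k) := by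
    rw [hs, TPt.ch_pw, hk]
    simp [hv]
  rw [h9, tcon_apply, ← map_mul] at h8
  have h10 := (tmk_eq_iff R B).mp h8 k (by omega)
  rw [Polynomial.coeff_C, if_neg (by omega), Polynomial.coeff_mul_C, add_comm,
    Polynomial.coeff_X_add_one_pow, Nat.choose_self] at h10
  simpa using h10.symm

/-- A point killing the functions vanishing on the torus is a torus point. -/
theorem exists_eq_i_of_ker {B : Type u} [CommRing B] [Algebra R B] (g : Pt R A B)
    (h : ∀ f, D.pi f = 0 → g.hom f = 0) : ∃ t : TPt D.M B, g = D.i B t := by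
  let γ : MonoidAlgebra R (Multiplicative D.M) →ₐ[R] B :=
    (Ideal.Quotient.liftₐ (RingHom.ker D.pi) g.hom (fun a ha => h a ha)).comp
      (Ideal.quotientKerAlgEquivOfSurjective D.pi_surjective).symm.toAlgHom
  have hγ : ∀ f, γ (D.pi f) = g.hom f := by
    intro f
    have h1 : (Ideal.quotientKerAlgEquivOfSurjective D.pi_surjective).symm (D.pi f) =
        Ideal.Quotient.mk _ f := by
      rw [AlgEquiv.symm_apply_eq]
      rfl
    change Ideal.Quotient.liftₐ (RingHom.ker D.pi) g.hom (fun a ha => h a ha)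
      ((Ideal.quotientKerAlgEquivOfSurjective D.pi_surjective).symm (D.pi f)) = _
    rw [h1]
    rfl
  refine ⟨TPt.map γ D.sU, ?_⟩
  apply Pt.ext
  intro f
  rw [i_hom_apply, ← hγ]
  have h2 : D.evT (TPt.map γ D.sU) = γ := by
    apply MonoidAlgebra.algHom_ext
    · intro m
      rw [evT_single, map_one, one_mul]
      rfl
    · exact Subsingleton.elim _ _
  rw [h2]

lemma hom_eq_zero_of_i {B : Type u} [CommRing B] [Algebra R B] (t : TPt D.M B) {f : A}
    (hf : D.pi f = 0) : (D.i B t).hom f = 0 := by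
  rw [i_hom_apply, hf, map_zero]

/-- lifting torus points along surjections of local rings -/
lemma exists_T_lift_local {B k : Type u} [CommRing B] [IsLocalRing B] [Algebra R B] [CommRing k]
    [Algebra R k] (φ : B →ₐ[R] k) (hφ : Function.Surjective φ) (hker : ∀ b, IsUnit (φ b) → IsUnit b)
    (t : TPt D.M k) : ∃ t' : TPt D.M B, TPt.map φ t' = t := by
  let b := Module.Free.chooseBasis ℤ D.M
  have hu : ∀ u : kˣ, ∃ v : Bˣ, φ v = u := by
    intro u
    obtain ⟨x, hx⟩ := hφ u
    exact ⟨(hker x (by rw [hx]; exact u.isUnit)).unit, hx⟩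
  choose v hv using fun i => hu (t (Multiplicative.ofAdd (b i)))
  let ψ : D.M →ₗ[ℤ] Additive Bˣ := b.constr ℤ (fun i => Additive.ofMul (v i))
  let ψ' : TPt D.M B := AddMonoidHom.toMultiplicativeLeft ψ.toAddMonoidHom
  refine ⟨ψ', ?_⟩
  have h2 : (AddMonoidHom.toIntLinearMap (MonoidHom.toAdditiveRight (TPt.map φ ψ'))) =
      (AddMonoidHom.toIntLinearMap (MonoidHom.toAdditiveRight t)) := by
    apply b.ext
    intro i
    apply Additive.toMul.injective
    apply Units.ext
    change φ (Additive.toMul (ψ (b i)) : Bˣ) = t (Multiplicative.ofAdd (b i))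
    rw [show ψ (b i) = Additive.ofMul (v i) from b.constr_basis ℤ _ i]
    exact hv i
  apply MonoidHom.ext
  intro x
  have := DFunLike.congr_fun h2 x.toAdd
  exact Additive.toMul.injective this

lemma ev_zero_one_isUnit {δ : D.CR} (hδ0 : D.ev0 δ = 1) {B : Type u} [CommRing B] [Algebra R B] :
    IsUnit (D.ev (fun _ => (0 : B)) 1 δ) := by
  rw [D.ev_origin hδ0]
  exact isUnit_one

/-- A point centralising the torus and geometrically in the torus lies in the torus: local case. -/
theorem exists_eq_i_local [Algebra.Smooth R A] (hG : D.Good) {B : Type u} [CommRing B]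
    [IsLocalRing B] [Algebra R B] (g : Pt R A B)
    (hcomm : ∀ (C : Type u) [CommRing C] [Algebra R C] (φ : B →ₐ[R] C) (s : TPt D.M C),
      D.i C s * Pt.map φ g = Pt.map φ g * D.i C s)
    (hpt : ∀ (K : Type u) [Field K] [IsAlgClosed K] [Algebra R K] (φ : B →ₐ[R] K),
      ∃ t : TPt D.M K, Pt.map φ g = D.i K t) : ∃ t : TPt D.M B, g = D.i B t := by
  obtain ⟨δ, hδ, hδ0⟩ := hG (Finset.univ.toList) (Finset.nodup_toList _) (fun a => by simp)
  set L : List D.idx := Finset.univ.toList with hL
  -- the closed point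
  let κ := IsLocalRing.ResidueField B
  let ρ : B →ₐ[R] κ := IsScalarTower.toAlgHom R B κ
  have hρ : Function.Surjective ρ := IsLocalRing.residue_surjective
  obtain ⟨t₀, ht₀⟩ : ∃ t : TPt D.M κ, Pt.map ρ g = D.i κ t := by
    apply exists_eq_i_of_ker
    intro f hf
    let K := AlgebraicClosure κ
    let j : κ →ₐ[R] K := IsScalarTower.toAlgHom R κ K
    obtain ⟨t, ht⟩ := hpt K (j.comp ρ)
    have h1 : j ((Pt.map ρ g).hom f) = 0 := by
      have h2 := congrArg (fun g : Pt R A K => g.hom f) ht
      simp only [hom_eq_zero_of_i t hf] at h2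
      exact h2
    exact (algebraMap κ K).injective (h1.trans (map_zero j).symm)
  obtain ⟨t₁, ht₁⟩ := exists_T_lift_local (D := D) ρ hρ (fun b hb => by
    by_contra hb'
    exact hb.ne_zero ((IsLocalRing.residue_eq_zero_iff b).mpr hb')) t₀
  set g' : Pt R A B := (D.i B t₁)⁻¹ * g with hg'
  have hg'1 : Pt.map ρ g' = 1 := by
    rw [hg', Pt.map_mul, Pt.map_inv, D.i_nat, ht₁, ht₀, inv_mul_cancel]
  have hcomm' : ∀ (C : Type u) [CommRing C] [Algebra R C] (φ : B →ₐ[R] C) (s : TPt D.M C),
      D.i C s * Pt.map φ g' = Pt.map φ g' * D.i C s := by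
    intro C _ _ φ s
    rw [hg', Pt.map_mul, Pt.map_inv, D.i_nat]
    have h1 : Commute (D.i C s) (D.i C (TPt.map φ t₁))⁻¹ := by
      apply Commute.inv_right
      change D.i C s * D.i C (TPt.map φ t₁) = D.i C (TPt.map φ t₁) * D.i C s
      rw [← i_mul', ← i_mul', TPt.mul_comm']
    exact (Commute.mul_right h1 (hcomm C φ s)).eq
  -- étale neighbourhood
  let Cδ := Localization.Away δ
  let e : D.CR →ₐ[R] Cδ := IsScalarTower.toAlgHom R D.CR Cδ
  obtain ⟨E, _, _, j, c, hjc, -, hj, hψ⟩ := exists_pushout g'.hom (e.comp (D.phi L))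
  replace hj := hj hδ
  have hjf : (j : B →+* E).Flat := by
    let _ : Algebra B E := (j : B →+* E).toAlgebra
    have : Algebra.Etale B E := hj
    have h : Module.Flat B E := inferInstance
    exact h
  obtain ⟨ψ, hψ1, -⟩ := hψ κ ρ (D.evL (fun _ => (0 : κ)) 1 (D.ev_zero_one_isUnit hδ0)) (by
    apply AlgHom.ext
    intro a
    change ρ (g'.hom a) = D.evL (fun _ => (0 : κ)) 1 (D.ev_zero_one_isUnit hδ0)
      (algebraMap D.CR Cδ (D.phi L a))
    rw [D.evL_algebraMap, ev_phi, cell_zero, i_one']
    exact congrArg (fun g : Pt R A κ => g.hom a) hg'1)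
  have hff : (j : B →+* E).FaithfullyFlat := by
    let _ : Algebra B E := (j : B →+* E).toAlgebra
    have hfl : Module.Flat B E := hjf
    change Module.FaithfullyFlat B E
    refine ⟨fun m hm => ?_⟩
    rw [IsLocalRing.eq_maximalIdeal hm, Ideal.smul_top_eq_map]
    intro htop
    have h1 : (1 : E) ∈ (IsLocalRing.maximalIdeal B).map (algebraMap B E) := by
      have : (1 : E) ∈ (⊤ : Submodule B E) := trivial
      rw [← htop] at this
      exact this
    have h2 : (IsLocalRing.maximalIdeal B).map (algebraMap B E) ≤ RingHom.ker (ψ : E →+* κ) := by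
      rw [Ideal.map_le_iff_le_comap]
      intro b hb
      change ψ (j b) = 0
      have h3 : ψ (j b) = ρ b := congrArg (fun k : B →ₐ[R] κ => k b) hψ1
      rw [h3]
      exact (IsLocalRing.residue_eq_zero_iff b).mpr hb
    have h3 : ψ 1 = 0 := h2 h1
    rw [map_one] at h3
    exact one_ne_zero h3
  -- over `E` the point is a cell point
  let x : D.idx → E := fun a => (c.comp e) (MvPolynomial.X a)
  let t : TPt D.M E := TPt.map (c.comp e) D.tU
  have hev : D.ev x t = c.comp e := (D.eq_ev (c.comp e)).symm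
  have hcell : D.cell L x t = Pt.map j g' := by
    apply Pt.ext
    intro a
    rw [Pt.map_hom_apply, ← ev_phi, hev]
    exact (congrArg (fun g : A →ₐ[R] E => g a) hjc).symm
  have hx : x = 0 := by
    apply cell_comm_eq_zero hδ (t := t)
    · rw [hev]
      exact (IsLocalization.Away.algebraMap_isUnit δ).map (c : Cδ →+* E)
    · intro C _ _ φ s
      rw [hcell, Pt.map_map]
      exact hcomm' C (φ.comp j) s
  have hker : ∀ f, D.pi f = 0 → g'.hom f = 0 := by
    intro f hf
    apply hff.injective
    change j (g'.hom f) = j 0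
    have h1 : j (g'.hom f) = (D.cell L x t).hom f := by rw [hcell]; rfl
    rw [h1, hx, map_zero]
    have h2 : D.cell L (0 : D.idx → E) t = D.i E t := D.cell_zero L t
    rw [h2]
    exact hom_eq_zero_of_i t hf
  obtain ⟨t₂, ht₂⟩ := exists_eq_i_of_ker g' hker
  refine ⟨t₁ * t₂, ?_⟩
  rw [i_mul', ← ht₂, hg']
  group

/-- A point centralising the torus and geometrically in the torus lies in the torus. -/
theorem exists_eq_i [Algebra.Smooth R A] (hG : D.Good) {B : Type u} [CommRing B]
    [Algebra R B] (g : Pt R A B)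
    (hcomm : ∀ (C : Type u) [CommRing C] [Algebra R C] (φ : B →ₐ[R] C) (s : TPt D.M C),
      D.i C s * Pt.map φ g = Pt.map φ g * D.i C s)
    (hpt : ∀ (K : Type u) [Field K] [IsAlgClosed K] [Algebra R K] (φ : B →ₐ[R] K),
      ∃ t : TPt D.M K, Pt.map φ g = D.i K t) : ∃ t : TPt D.M B, g = D.i B t := by
  apply exists_eq_i_of_ker
  intro f hf
  -- check in the local rings
  apply Module.eq_zero_of_localization_maximal (fun P _ => Localization.AtPrime P)
    (fun P _ => Algebra.linearMap B (Localization.AtPrime P))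
  intro P hP
  let φ : B →ₐ[R] Localization.AtPrime P := IsScalarTower.toAlgHom R B _
  obtain ⟨t, ht⟩ := exists_eq_i_local hG (Pt.map φ g)
    (fun C _ _ ψ s => by rw [Pt.map_map]; exact hcomm C (ψ.comp φ) s)
    (fun K _ _ _ ψ => by rw [Pt.map_map]; exact hpt K (ψ.comp φ))
  have h1 := congrArg (fun g : Pt R A _ => g.hom f) ht
  simp only [hom_eq_zero_of_i t hf] at h1
  exact h1

end Datum

end Groth.Agent.Sga3B.Cell
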