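import Groth.Agent.Sga3B.TorusAlgClosed
import Mathlib.AlgebraicGeometry.Geometrically.Irreducible
import Mathlib.Algebra.MonoidAlgebra.NoZeroDivisors

/-!
# Tori are geometrically irreducible over the base
-/

set_option autoImplicit false
universe u
open CategoryTheory AlgebraicGeometry Limits TensorProduct

namespace Groth.Agent.Sga3B.TorusIrr

lemma irreducibleSpace_of_surjective {X Y : Scheme.{u}} (f : X ⟶ Y) [Surjective f] [IrreducibleSpace X] : 
    IrreducibleSpace Y := by
  have h := (IrreducibleSpace.isIrreducible_univ X).image f f.continuous.continuousOn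
  rw [Set.image_univ, Set.range_eq_univ.mpr f.surjective] at h
  rwa [irreducibleSpace_def]

instance surjective_specField {K L : Type u} [Field K] [Field L] (φ : CommRingCat.of K ⟶ CommRingCat.of L) : 
    Surjective (Spec.map φ) := by
  refine ⟨fun x => ?_⟩
  exact ⟨IsLocalRing.closedPoint L, Subsingleton.elim _ _⟩

instance descendsAlong_geometricallyIrreducible : MorphismProperty.DescendsAlong @GeometricallyIrreducible.{u} 
    (@Surjective.{u} ⊓ @Flat.{u} ⊓ @QuasiCompact.{u}) := by
  refine ⟨fun {A X Y Z fst snd f g} h hf hfst => ⟨?_⟩⟩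
  intro K _ y W a b H
  have hs : Surjective f := hf.1.1
  obtain ⟨z⟩ : Nonempty ↥(pullback f y) := by
    obtain ⟨z, -⟩ := (pullback.snd f y).surjective (IsLocalRing.closedPoint K)
    exact ⟨z⟩
  let L := (pullback f y).residueField z
  let q : Spec L ⟶ pullback f y := (pullback f y).fromSpecResidueField z
  let φ : CommRingCat.of K ⟶ L := Spec.preimage (q ≫ pullback.snd f y)
  have hφ : Spec.map φ = q ≫ pullback.snd f y := Spec.map_preimage _
  -- the base change of `W` to `L`
  have H1 : IsPullback (pullback.fst b (Spec.map φ) ≫ a) (pullback.snd b (Spec.map φ)) g (Spec.map φ ≫ y) := 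
    (IsPullback.of_hasPullback b (Spec.map φ)).paste_horiz H
  have e1 : Spec.map φ ≫ y = (q ≫ pullback.fst f y) ≫ f := by
    rw [hφ, Category.assoc, Category.assoc, pullback.condition]
  rw [e1] at H1
  let c := h.flip.lift (pullback.fst b (Spec.map φ) ≫ a) (pullback.snd b (Spec.map φ) ≫ q ≫ pullback.fst f y) (by
    rw [H1.w, Category.assoc, Category.assoc, Category.assoc])
  have hc1 : c ≫ snd = pullback.fst b (Spec.map φ) ≫ a := h.flip.lift_fst _ _ _
  have hc2 : c ≫ fst = pullback.snd b (Spec.map φ) ≫ q ≫ pullback.fst f y := h.flip.lift_snd _ _ _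
  rw [← hc1] at H1
  have H2 := IsPullback.of_right H1 hc2 h.flip
  have : IrreducibleSpace ↥(pullback b (Spec.map φ)) := hfst.geometrically_irreducibleSpace (K := L) _ _ _ H2
  have : Surjective (Spec.map φ) := surjective_specField (L := L) φ
  exact irreducibleSpace_of_surjective (pullback.fst b (Spec.map φ))

instance isZariskiLocalAtTarget_geometricallyIrreducible : IsZariskiLocalAtTarget @GeometricallyIrreducible.{u} := by
  have : ObjectProperty.IsClosedUnderIsomorphisms (fun X : Scheme.{u} => IrreducibleSpace X) := 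
    ⟨fun {X Y} e h => by
      have : IrreducibleSpace X := h
      exact irreducibleSpace_of_surjective e.hom⟩
  rw [GeometricallyIrreducible.eq_geometrically]
  infer_instance

lemma geometricallyIrreducible_monoidAlgebra (R : Type u) [CommRing R] (r : ℕ) : GeometricallyIrreducible 
    (Spec.map (CommRingCat.ofHom (algebraMap R (MonoidAlgebra R (Multiplicative (Fin r → ℤ)))))) := by
  refine ⟨?_⟩
  intro K _ y Z a b H
  obtain ⟨φ, rfl⟩ := Spec.map_surjective y
  let _ : Algebra R K := φ.hom.toAlgebra
  have h1 := CommRingCat.isPushout_tensorProduct R K (MonoidAlgebra R (Multiplicative (Fin r → ℤ)))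
  have h2 := isPullback_SpecMap_of_isPushout _ _ _ _ h1
  have h3 : CommRingCat.ofHom (algebraMap R K) = φ := by
    ext x; rfl
  rw [h3] at h2
  let e := H.isoIsPullback _ _ h2.flip
  have h4 : IsDomain (K ⊗[R] MonoidAlgebra R (Multiplicative (Fin r → ℤ))) := by
    exact MulEquiv.isDomain _ (MonoidAlgebra.scalarTensorEquiv (M := Multiplicative (Fin r → ℤ)) R K).toMulEquiv
  have h5 : IrreducibleSpace ↥(Spec (CommRingCat.of (K ⊗[R] MonoidAlgebra R (Multiplicative (Fin r → ℤ))))) := 
    inferInstance
  exact irreducibleSpace_of_surjective e.inv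

/-- Split tori are geometrically irreducible. -/
lemma geometricallyIrreducible_diag (r : ℕ) : 
    GeometricallyIrreducible (Red.diag (ULift.{u} ℤ) (Fin r → ℤ)).hom :=
  geometricallyIrreducible_monoidAlgebra (ULift.{u} ℤ) r

lemma geometricallyIrreducible_of_isTorus {S : Scheme.{u}} {T : Over S} [GrpObj T] (h : Red.IsTorus T) : 
    GeometricallyIrreducible T.hom :=
  TorusAlgClosed.prop_of_isTorus (P := @GeometricallyIrreducible) geometricallyIrreducible_diag h

end Groth.Agent.Sga3B.TorusIrr
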