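import Groth.Agent.Sga3C.CWMain
import Groth.Agent.Sga3C.ClosedSub
import Groth.Agent.Sga3B.TorusIrr
import Groth.Agent.Ega43.FPOfComp
import Groth.Prelude.Def_Red2

/-!
# Representability of centralizers and normalizers of subtori by closed subgroup schemes

* `exists_closed` : a closed condition on `X ⊗ Q` which has to hold universally along `Q`, with `Q`
  smooth and geometrically irreducible over `S`, is represented by a closed subscheme of `X`.
-/

set_option autoImplicit false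
universe u
open CategoryTheory MonoidalCategory CartesianMonoidalCategory MonObj GrpObj AlgebraicGeometry Limits

namespace Groth.Agent.Sga3B.CentRep

variable {S : Scheme.{u}}

/-- A closed condition on `X ⊗ Q` imposed along all of `Q` is represented by a closed subscheme. -/
theorem exists_closed (X Q : Over S) [Smooth Q.hom] [GeometricallyIrreducible Q.hom] {W : Over S}
    (w : W ⟶ X ⊗ Q) [IsClosedImmersion w.left] :
    ∃ (Z : Over S) (z : Z ⟶ X), IsClosedImmersion z.left ∧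
      (∀ (T : Over S) (g : T ⟶ X), (∃ a : T ⟶ Z, a ≫ z = g) ↔
        ∀ (T' : Over S) (x : T' ⟶ T) (h : T' ⟶ Q), ∃ b : T' ⟶ W, b ≫ w = lift (x ≫ g) h) ∧
      (LocallyOfFinitePresentation w.left → LocallyOfFinitePresentation z.left) := by
  have h1 : Smooth (fst X Q).left := inferInstanceAs (Smooth (pullback.fst X.hom Q.hom))
  have h2 : GeometricallyIrreducible (fst X Q).left :=
    inferInstanceAs (GeometricallyIrreducible (pullback.fst X.hom Q.hom))
  obtain ⟨Z, t, ht, huniv, hfp⟩ :=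
    Sga3C.CWMain.exists_closed_weilRestriction (fst X Q).left w.left
  refine ⟨Over.mk (t ≫ X.hom), Over.homMk t rfl, ht, ?_, hfp⟩
  intro T g
  have h3 : (∃ a : T ⟶ Over.mk (t ≫ X.hom), a ≫ Over.homMk t rfl = g) ↔
      ∃ a' : T.left ⟶ Z, a' ≫ t = g.left := by
    constructor
    · rintro ⟨a, rfl⟩
      exact ⟨a.left, rfl⟩
    · rintro ⟨a', ha'⟩
      refine ⟨Over.homMk a' ?_, ?_⟩
      · change a' ≫ t ≫ X.hom = _
        rw [← Category.assoc, ha', Over.w]
      · ext1; exact ha'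
  rw [h3, huniv]
  constructor
  · rintro ⟨a, ha⟩ T' x h
    have e1 : (lift (x ≫ g) h).left ≫ (fst X Q).left = x.left ≫ g.left := by
      rw [← Over.comp_left, lift_fst, Over.comp_left]
    refine ⟨Over.homMk (pullback.lift (lift (x ≫ g) h).left x.left e1 ≫ a) ?_, ?_⟩
    · rw [← Over.w w, Category.assoc, reassoc_of% ha, pullback.lift_fst_assoc, Over.w]
    · apply Over.OverMorphism.ext
      change (pullback.lift (lift (x ≫ g) h).left x.left e1 ≫ a) ≫ w.left = _
      rw [Category.assoc, ha, pullback.lift_fst]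
  · intro H
    let T' : Over S := Over.mk (pullback.snd (fst X Q).left g.left ≫ T.hom)
    let x : T' ⟶ T := Over.homMk (pullback.snd (fst X Q).left g.left) rfl
    let p : T' ⟶ X ⊗ Q := Over.homMk (pullback.fst (fst X Q).left g.left) (by
      change _ = pullback.snd (fst X Q).left g.left ≫ T.hom
      rw [← Over.w (fst X Q), pullback.condition_assoc, Over.w g])
    obtain ⟨b, hb⟩ := H T' x (p ≫ snd X Q)
    have hp : lift (x ≫ g) (p ≫ snd X Q) = p := by
      apply CartesianMonoidalCategory.hom_ext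
      · rw [lift_fst]
        apply Over.OverMorphism.ext
        exact pullback.condition.symm
      · rw [lift_snd]
    rw [hp] at hb
    exact ⟨b.left, congrArg CommaMorphism.left hb⟩


/-- The left component of a base change in `Over S` of a closed immersion (lfp). -/
lemma isPullback_left {A B C D : Over S} {a : A ⟶ B} {b : A ⟶ C} {c : B ⟶ D} {d : C ⟶ D} 
    (h : IsPullback a b c d) : IsPullback a.left b.left c.left d.left :=
  h.map (Over.forget S)

/-- Version of `exists_closed` with a map into `Y` and a closed subscheme of `Y`. -/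
theorem exists_closed_map {X Q Y H : Over S} [Smooth Q.hom] [GeometricallyIrreducible Q.hom] 
    (c : X ⊗ Q ⟶ Y) (i : H ⟶ Y) [IsClosedImmersion i.left] :
    ∃ (Z : Over S) (z : Z ⟶ X), IsClosedImmersion z.left ∧
      (∀ (T : Over S) (g : T ⟶ X), (∃ a : T ⟶ Z, a ≫ z = g) ↔
        ∀ (T' : Over S) (x : T' ⟶ T) (h : T' ⟶ Q), ∃ b : T' ⟶ H, b ≫ i = lift (x ≫ g) h ≫ c) ∧
      (LocallyOfFinitePresentation i.left → LocallyOfFinitePresentation z.left) := by
  have H1 := isPullback_left (IsPullback.of_hasPullback c i)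
  have H2 : IsClosedImmersion (pullback.fst c i).left := MorphismProperty.of_isPullback H1.flip inferInstance
  obtain ⟨Z, z, hz, huniv, hfp⟩ := exists_closed X Q (pullback.fst c i)
  refine ⟨Z, z, hz, fun T g => ?_, fun h => hfp (MorphismProperty.of_isPullback H1.flip h)⟩
  rw [huniv]
  refine forall_congr' fun T' => forall_congr' fun x => forall_congr' fun h => ?_
  constructor
  · rintro ⟨b, hb⟩
    exact ⟨b ≫ pullback.snd c i, by rw [Category.assoc, ← pullback.condition, ← Category.assoc, hb]⟩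
  · rintro ⟨b, hb⟩
    exact ⟨pullback.lift (lift (x ≫ g) h) b hb.symm, pullback.lift_fst _ _ _⟩

/-- Intersections of closed subobjects. -/
lemma exists_inter {X Z₁ Z₂ : Over S} (z₁ : Z₁ ⟶ X) (z₂ : Z₂ ⟶ X) [IsClosedImmersion z₁.left] 
    [IsClosedImmersion z₂.left] : 
    ∃ (Z : Over S) (z : Z ⟶ X), IsClosedImmersion z.left ∧
      (∀ (T : Over S) (g : T ⟶ X), (∃ a : T ⟶ Z, a ≫ z = g) ↔
        (∃ a : T ⟶ Z₁, a ≫ z₁ = g) ∧ (∃ a : T ⟶ Z₂, a ≫ z₂ = g)) ∧ 
      (LocallyOfFinitePresentation z₁.left → LocallyOfFinitePresentation z₂.left → 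
        LocallyOfFinitePresentation z.left) := by
  have H1 := isPullback_left (IsPullback.of_hasPullback z₁ z₂)
  have H2 : IsClosedImmersion (pullback.fst z₁ z₂).left := MorphismProperty.of_isPullback H1.flip inferInstance
  refine ⟨pullback z₁ z₂, pullback.fst z₁ z₂ ≫ z₁, ?_, ?_, ?_⟩
  · rw [Over.comp_left]; infer_instance
  · intro T g
    constructor
    · rintro ⟨a, rfl⟩
      exact ⟨⟨a ≫ pullback.fst _ _, by rw [Category.assoc]⟩, ⟨a ≫ pullback.snd _ _, by 
        rw [Category.assoc, pullback.condition]⟩⟩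
    · rintro ⟨⟨a, ha⟩, ⟨b, hb⟩⟩
      exact ⟨pullback.lift a b (ha.trans hb.symm), by rw [pullback.lift_fst_assoc, ha]⟩
  · intro h1 h2
    have : LocallyOfFinitePresentation (pullback.fst z₁ z₂).left := MorphismProperty.of_isPullback H1.flip h2
    rw [Over.comp_left]; infer_instance

/-- A subobject whose points form subgroups is a subgroup scheme. -/
lemma exists_grpObj {G Z : Over S} [GrpObj G] (z : Z ⟶ G) [Mono z] (H : ∀ T : Over S, Subgroup (T ⟶ G)) 
    (hH : ∀ (T : Over S) (g : T ⟶ G), (∃ a : T ⟶ Z, a ≫ z = g) ↔ g ∈ H T) : ∃ _ : GrpObj Z, IsMonHom z := by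
  refine Sga3C.ClosedSub.exists_grpObj_of_mono z ?_ ?_ ?_
  · rw [hH, one_eq_one]
    exact one_mem _
  · rw [hH]
    have e : (z ⊗ₘ z) ≫ μ[G] = (fst Z Z ≫ z) * (snd Z Z ≫ z) := by
      rw [Hom.mul_def]
      congr 1
    rw [e]
    exact mul_mem ((hH _ _).mp ⟨_, rfl⟩) ((hH _ _).mp ⟨_, rfl⟩)
  · rw [hH]
    have e : z ≫ ι[G] = z⁻¹ := rfl
    rw [e]
    exact inv_mem ((hH _ _).mp ⟨𝟙 _, Category.id_comp _⟩)

variable {G Q : Over S} [GrpObj G] [GrpObj Q] (q : Q ⟶ G) [IsMonHom q]

/-- The `T`-points of the centralizer of `q`. -/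
def centPts (T : Over S) : Subgroup (T ⟶ G) where
  carrier := {g | ∀ (T' : Over S) (x : T' ⟶ T) (h : T' ⟶ Q), (x ≫ g) * (h ≫ q) = (h ≫ q) * (x ≫ g)}
  mul_mem' := by
    intro a b ha hb T' x h
    rw [MonObj.comp_mul, _root_.mul_assoc, hb, ← _root_.mul_assoc, ha, _root_.mul_assoc]
  one_mem' := by
    intro T' x h
    rw [MonObj.comp_one, _root_.one_mul, _root_.mul_one]
  inv_mem' := by
    intro a ha T' x h
    rw [GrpObj.comp_inv]
    have := ha T' x h
    rw [inv_mul_eq_iff_eq_mul, ← _root_.mul_assoc, this, _root_.mul_assoc, mul_inv_cancel, _root_.mul_one]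

/-- The `T`-points of the normalizer of `q`. -/
def normPts (T : Over S) : Subgroup (T ⟶ G) where
  carrier := {g | ∀ (T' : Over S) (x : T' ⟶ T) (h : T' ⟶ Q), 
      (∃ h' : T' ⟶ Q, (x ≫ g) * (h ≫ q) * (x ≫ g)⁻¹ = h' ≫ q) ∧
      (∃ h' : T' ⟶ Q, (x ≫ g)⁻¹ * (h ≫ q) * (x ≫ g) = h' ≫ q)}
  mul_mem' := by
    intro a b ha hb T' x h
    rw [MonObj.comp_mul]
    constructor
    · obtain ⟨h1, e1⟩ := (hb T' x h).1
      obtain ⟨h2, e2⟩ := (ha T' x h1).1
      refine ⟨h2, ?_⟩
      rw [← e2, ← e1]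
      group
    · obtain ⟨h1, e1⟩ := (ha T' x h).2
      obtain ⟨h2, e2⟩ := (hb T' x h1).2
      refine ⟨h2, ?_⟩
      rw [← e2, ← e1]
      group
  one_mem' := by
    intro T' x h
    rw [MonObj.comp_one]
    exact ⟨⟨h, by group⟩, ⟨h, by group⟩⟩
  inv_mem' := by
    intro a ha T' x h
    rw [GrpObj.comp_inv, _root_.inv_inv]
    exact (ha T' x h).symm


omit [GrpObj Q] [IsMonHom q] in
lemma mem_centPts {T : Over S} {g : T ⟶ G} : g ∈ centPts q T ↔ 
    ∀ (T' : Over S) (x : T' ⟶ T) (h : T' ⟶ Q), (x ≫ g) * (h ≫ q) = (h ≫ q) * (x ≫ g) := Iff.rfl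

omit [GrpObj Q] [IsMonHom q] in
lemma mem_normPts {T : Over S} {g : T ⟶ G} : g ∈ normPts q T ↔ 
    ∀ (T' : Over S) (x : T' ⟶ T) (h : T' ⟶ Q), 
      (∃ h' : T' ⟶ Q, (x ≫ g) * (h ≫ q) * (x ≫ g)⁻¹ = h' ≫ q) ∧
      (∃ h' : T' ⟶ Q, (x ≫ g)⁻¹ * (h ≫ q) * (x ≫ g) = h' ≫ q) := Iff.rfl

/-- The unit section of a group scheme with a closed subgroup scheme affine over the base is closed. -/
lemma isClosedImmersion_one [IsClosedImmersion q.left] [IsAffineHom Q.hom] : IsClosedImmersion η[G].left := by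
  have h1 : IsClosedImmersion η[Q].left := by
    have h2 : η[Q].left ≫ Q.hom = 𝟙 S := Over.w η[Q]
    have : IsClosedImmersion (η[Q].left ≫ Q.hom) := by
      rw [h2]; exact (inferInstance : IsClosedImmersion (𝟙 S))
    exact IsClosedImmersion.of_comp _ Q.hom
  rw [← IsMonHom.one_hom (f := q), Over.comp_left]
  infer_instance

lemma locallyOfFinitePresentation_one [LocallyOfFiniteType G.hom] : LocallyOfFinitePresentation η[G].left := by
  have h2 : η[G].left ≫ G.hom = 𝟙 S := Over.w η[G]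
  have : LocallyOfFinitePresentation (η[G].left ≫ G.hom) := by
    rw [h2]; exact (inferInstance : LocallyOfFinitePresentation (𝟙 S))
  exact Ega43.FPOfComp.locallyOfFinitePresentation_of_comp _ G.hom

/-- The centralizer of a smooth geometrically irreducible affine closed subgroup. -/
theorem exists_centralizer [IsClosedImmersion q.left] [IsAffineHom Q.hom] [Smooth Q.hom] 
    [GeometricallyIrreducible Q.hom] : 
    ∃ (Z : Over S) (_ : GrpObj Z) (z : Z ⟶ G), IsClosedImmersion z.left ∧ Red.IsCentralizerOf q z ∧ 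
      (LocallyOfFiniteType G.hom → LocallyOfFinitePresentation z.left) := by
  have h1 := isClosedImmersion_one q
  obtain ⟨Z, z, hz, huniv, hfp⟩ := exists_closed_map (X := G) (Q := Q) 
    (fst G Q * (snd G Q ≫ q) * (fst G Q)⁻¹ * (snd G Q ≫ q)⁻¹) η[G]
  have hz' : Mono z := Over.mono_of_mono_left z
  have key : ∀ (T : Over S) (g : T ⟶ G), (∃ a : T ⟶ Z, a ≫ z = g) ↔ g ∈ centPts q T := by
    intro T g
    rw [huniv, mem_centPts]
    refine forall_congr' fun T' => forall_congr' fun x => forall_congr' fun h => ?_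
    have e : lift (x ≫ g) h ≫ (fst G Q * (snd G Q ≫ q) * (fst G Q)⁻¹ * (snd G Q ≫ q)⁻¹) = 
        (x ≫ g) * (h ≫ q) * (x ≫ g)⁻¹ * (h ≫ q)⁻¹ := by
      simp only [MonObj.comp_mul, GrpObj.comp_inv, lift_fst, lift_snd_assoc]
    rw [e]
    constructor
    · rintro ⟨b, hb⟩
      have e2 : b ≫ η[G] = 1 := by rw [one_eq_one, MonObj.comp_one]
      rw [e2, eq_comm, mul_inv_eq_one, mul_inv_eq_iff_eq_mul] at hb
      exact hb
    · intro h
      refine ⟨toUnit _, ?_⟩
      have e2 : toUnit T' ≫ η[G] = 1 := by rw [one_eq_one, MonObj.comp_one]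
      rw [e2, eq_comm, mul_inv_eq_one, mul_inv_eq_iff_eq_mul]
      exact h
  obtain ⟨i1, i2⟩ := exists_grpObj z (centPts q) key
  exact ⟨Z, i1, z, hz, ⟨i2, hz', fun T g => (key T g).trans (mem_centPts q)⟩, 
    fun h => hfp locallyOfFinitePresentation_one⟩

/-- The normalizer of a smooth geometrically irreducible affine closed subgroup. -/
theorem exists_normalizer [IsClosedImmersion q.left] [Smooth Q.hom] [GeometricallyIrreducible Q.hom] : 
    ∃ (Z : Over S) (_ : GrpObj Z) (z : Z ⟶ G), IsClosedImmersion z.left ∧ Red.IsNormalizerOf q z ∧ 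
      (LocallyOfFiniteType G.hom → LocallyOfFinitePresentation z.left) := by
  obtain ⟨Z₁, z₁, hz₁, huniv₁, hfp₁⟩ := exists_closed_map (X := G) (Q := Q) 
    (fst G Q * (snd G Q ≫ q) * (fst G Q)⁻¹) q
  obtain ⟨Z₂, z₂, hz₂, huniv₂, hfp₂⟩ := exists_closed_map (X := G) (Q := Q) 
    ((fst G Q)⁻¹ * (snd G Q ≫ q) * (fst G Q)) q
  obtain ⟨Z, z, hz, huniv, hfp⟩ := exists_inter z₁ z₂
  have hz' : Mono z := Over.mono_of_mono_left z
  have key : ∀ (T : Over S) (g : T ⟶ G), (∃ a : T ⟶ Z, a ≫ z = g) ↔ g ∈ normPts q T := by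
    intro T g
    rw [huniv, huniv₁, huniv₂, mem_normPts, ← forall_and]
    refine forall_congr' fun T' => ?_
    rw [← forall_and]
    refine forall_congr' fun x => ?_
    rw [← forall_and]
    refine forall_congr' fun h => ?_
    have e1 : lift (x ≫ g) h ≫ (fst G Q * (snd G Q ≫ q) * (fst G Q)⁻¹) = 
        (x ≫ g) * (h ≫ q) * (x ≫ g)⁻¹ := by
      simp only [MonObj.comp_mul, GrpObj.comp_inv, lift_fst, lift_snd_assoc]
    have e2 : lift (x ≫ g) h ≫ ((fst G Q)⁻¹ * (snd G Q ≫ q) * (fst G Q)) = 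
        (x ≫ g)⁻¹ * (h ≫ q) * (x ≫ g) := by
      simp only [MonObj.comp_mul, GrpObj.comp_inv, lift_fst, lift_snd_assoc]
    rw [e1, e2]
    exact and_congr (exists_congr fun _ => eq_comm) (exists_congr fun _ => eq_comm)
  obtain ⟨i1, i2⟩ := exists_grpObj z (normPts q) key
  refine ⟨Z, i1, z, hz, ⟨i2, hz', fun T g => (key T g).trans (mem_normPts q)⟩, fun h => ?_⟩
  have : LocallyOfFinitePresentation (q.left ≫ G.hom) := by rw [Over.w]; infer_instance
  have := Ega43.FPOfComp.locallyOfFinitePresentation_of_comp q.left G.hom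
  exact hfp (hfp₁ this) (hfp₂ this)

end Groth.Agent.Sga3B.CentRep
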