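import Groth.Agent.Sga3B.InfConj

set_option autoImplicit false
universe u
open CategoryTheory MonoidalCategory CartesianMonoidalCategory MonObj GrpObj AlgebraicGeometry Limits

namespace Groth.Agent.Sga3B.InfConjFam
open Groth.Agent.Sga3B.DSPts Groth.Agent.Sga3B.InfConj

/-- A morphism of group objects multiplicative on points is a homomorphism. -/
lemma isMonHom_of_mul {𝒞 : Type*} [Category 𝒞] [CartesianMonoidalCategory 𝒞] {G H : 𝒞} [GrpObj G] [GrpObj H] (f : G ⟶ H)
    (h : ∀ (T : 𝒞) (x y : T ⟶ G), (x * y) ≫ f = (x ≫ f) * (y ≫ f)) : IsMonHom f where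
  one_hom := by
    have h1 := h (𝟙_ _) 1 1
    rw [_root_.mul_one] at h1
    rw [MonObj.one_eq_one, MonObj.one_eq_one]
    exact (mul_eq_left.mp h1.symm)
  mul_hom := by
    have h1 := h (G ⊗ G) (fst _ _) (snd _ _)
    rw [← MonObj.mul_eq_mul] at h1
    rw [h1, Hom.mul_def]
    congr 1
    ext <;> simp

/-- The unit section of `G` has an affine open neighbourhood. -/
def HasAffineUnitNhd {S : Scheme.{u}} (G : Over S) [GrpObj G] : Prop :=
  ∃ (D : CommRingCat.{u}) (j : Spec D ⟶ G.left), IsOpenImmersion j ∧ Set.range η[G].left ⊆ Set.range j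

lemma hasAffineUnitNhd_of_isAffine {S : Scheme.{u}} (G : Over S) [GrpObj G] [IsAffine G.left] :
    HasAffineUnitNhd G := by
  refine ⟨Γ(G.left, ⊤), G.left.isoSpec.inv, inferInstance, ?_⟩
  have : Set.range G.left.isoSpec.inv = Set.univ := Set.range_eq_univ.mpr G.left.isoSpec.inv.surjective
  rw [this]
  exact Set.subset_univ _

section
variable {S : Scheme.{u}} {S' : Scheme.{u}} (x : S' ⟶ S) 

/-- transport of points of `D(M)` along a base change -/
noncomputable def tr {M : Type} [AddCommGroup M] {T : Over S'} (q : T ⟶ Red.DS S' M) : 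
    (Over.map x).obj T ⟶ Red.DS S M := dsEquiv ((Over.map x).obj T) M (dsChar (S := S') (T := T) q : Multiplicative M →* Γ(T.left, ⊤))

noncomputable def st (T : Over S') : (Over.map x).obj T ⟶ Over.mk x := Over.homMk T.hom

lemma tr_comp {M : Type} [AddCommGroup M] {T T' : Over S'} (h : T' ⟶ T) (q : T ⟶ Red.DS S' M) :
    tr x (h ≫ q) = (Over.map x).map h ≫ tr x q := by
  unfold tr
  rw [dsEquiv_naturality, dsChar_comp]
  rfl

lemma st_comp {T T' : Over S'} (h : T' ⟶ T) : st x T' = (Over.map x).map h ≫ st x T := by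
  ext1
  simp [st]

lemma tr_mul {M : Type} [AddCommGroup M] {T : Over S'} (q q' : T ⟶ Red.DS S' M) :
    tr x (q * q') = tr x q * tr x q' := by
  unfold tr
  rw [dsChar_mul]
  exact map_mul (dsEquiv _ M) _ _

end

section family
variable {C : Type u} [CommRing C] {S : Scheme.{u}} (x : Spec (CommRingCat.of C) ⟶ S) {M : Type} [AddCommGroup M] 
  (G : Over S) [GrpObj G]

/-- The homomorphism over the base attached to a family. -/
noncomputable def famHom (a : Red.DS S M ⊗ Over.mk x ⟶ G) : Red.DS (Spec (CommRingCat.of C)) M ⟶ Red.bc x G :=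
  bcEquiv x _ G (lift (tr x (𝟙 _)) (st x _) ≫ a)

lemma comp_famHom (a : Red.DS S M ⊗ Over.mk x ⟶ G) {T : Over (Spec (CommRingCat.of C))} 
    (q : T ⟶ Red.DS (Spec (CommRingCat.of C)) M) : 
    q ≫ famHom x G a = bcEquiv x T G (lift (tr x q) (st x T) ≫ a) := by
  rw [famHom, bcEquiv_naturality, ← Category.assoc, comp_lift, ← tr_comp, ← st_comp, Category.comp_id]

lemma isMonHom_famHom {a : Red.DS S M ⊗ Over.mk x ⟶ G} (ha : AutFam.IsHomFamily (Red.DS S M) G a) : 
    IsMonHom (famHom x G a) := 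
  isMonHom_of_mul _ fun T q q' => by 
    rw [comp_famHom, comp_famHom, comp_famHom, tr_mul, ha, map_mul]

/-- the closed immersion `Spec C/I → Spec C` over `S`. -/
noncomputable def redMap (I : Ideal C) : 
    Over.mk (Spec.map (CommRingCat.ofHom (Ideal.Quotient.mk I)) ≫ x) ⟶ Over.mk x :=
  Over.homMk (Spec.map (CommRingCat.ofHom (Ideal.Quotient.mk I)))

/-- **Infinitesimal conjugacy for families.** -/
theorem infConj_family (I : Ideal C) (hI : I * I = ⊥) [IsSeparated G.hom]
    (hU : HasAffineUnitNhd (Red.bc x G)) (a b : Red.DS S M ⊗ Over.mk x ⟶ G) 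
    (ha : AutFam.IsHomFamily (Red.DS S M) G a) (hb : AutFam.IsHomFamily (Red.DS S M) G b)
    (hab : (Red.DS S M ◁ redMap x I) ≫ a = (Red.DS S M ◁ redMap x I) ≫ b) :
    ∃ w : Over.mk x ⟶ G, redMap x I ≫ w = 1 ∧ ∀ (T : Over S) (q : T ⟶ Red.DS S M) (t : T ⟶ Over.mk x), 
      lift q t ≫ a = (t ≫ w) * (lift q t ≫ b) * (t ≫ w)⁻¹ := by
  obtain ⟨D, j, hj, hj'⟩ := hU
  have := isMonHom_famHom x G ha
  have := isMonHom_famHom x G hb
  have : IsSeparated (Red.bc x G).hom := inferInstanceAs (IsSeparated (pullback.snd _ _))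
  obtain ⟨w, hw1, hw2⟩ := infConj_base I hI M (Red.bc x G) D j hj' (famHom x G a) (famHom x G b) (by
    intro E _ _ q hE
    rw [comp_famHom, comp_famHom]
    congr 1
    let e : (Over.map x).obj (pt C E) ⟶ Over.mk (Spec.map (CommRingCat.ofHom (Ideal.Quotient.mk I)) ≫ x) :=
      Over.homMk (Spec.map (CommRingCat.ofHom (Ideal.Quotient.lift I (algebraMap C E) hE))) (by
        simp only [Over.mk_hom, Over.map_obj_hom, ← Category.assoc, ← Spec.map_comp, ← CommRingCat.ofHom_comp]
        congr 3)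
    have he : st x (pt C E) = e ≫ redMap x I := by
      ext1
      simp only [st, redMap, Over.comp_left, Over.homMk_left, e, ← Spec.map_comp, ← CommRingCat.ofHom_comp]
      rfl
    have he' : lift (tr x q) (st x (pt C E)) = lift (tr x q) e ≫ (Red.DS S M ◁ redMap x I) := by
      rw [lift_whiskerLeft, he]
    rw [he', Category.assoc, Category.assoc, hab])
  let u : Over.mk x ⟶ (Over.map x).obj (𝟙_ (Over (Spec (CommRingCat.of C)))) := Over.homMk (𝟙 _) (by
    simp only [Over.map_obj_hom, Over.mk_hom]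
    erw [Category.id_comp, Category.id_comp])
  refine ⟨u ≫ (bcEquiv x _ G).symm w, ?_, ?_⟩
  · have h5 := congr((bcEquiv x _ G).symm $(hw1 (C ⧸ I) (fun i hi => Ideal.Quotient.eq_zero_iff_mem.mpr hi)))
    rw [← bcEquiv_symm_naturality, map_one] at h5
    let e : Over.mk (Spec.map (CommRingCat.ofHom (Ideal.Quotient.mk I)) ≫ x) ⟶ (Over.map x).obj (pt C (C ⧸ I)) :=
      Over.homMk (𝟙 _) (Category.id_comp _)
    have h6 : redMap x I ≫ u = e ≫ (Over.map x).map (toUnit (pt C (C ⧸ I))) := by
      ext1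
      simp only [redMap, u, e, Over.comp_left, Over.homMk_left, Over.map_map_left, Over.toUnit_left]
      erw [Category.id_comp, Category.comp_id]
      rfl
    rw [← Category.assoc, h6, Category.assoc, h5, comp_one]
  · intro T q t
    let T' : Over (Spec (CommRingCat.of C)) := Over.mk t.left
    let e : T ⟶ (Over.map x).obj T' := Over.homMk (𝟙 _) (by
      simp only [T', Over.map_obj_hom, Over.mk_hom]
      erw [Category.id_comp]
      exact Over.w t)
    let q' : T' ⟶ Red.DS (Spec (CommRingCat.of C)) M := dsEquiv T' M (dsChar q : Multiplicative M →* Γ(T.left, ⊤))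
    have h1 : e ≫ tr x q' = q := by
      unfold tr
      rw [dsEquiv_naturality, dsChar_dsEquiv]
      refine Eq.trans ?_ (dsEquiv_dsChar q)
      congr 1
    have h2 : e ≫ st x T' = t := by
      ext1
      simp [e, st, T']
    have h3 := congr(e ≫ (bcEquiv x T' G).symm $(hw2 T' q'))
    have h4 : e ≫ (Over.map x).map (toUnit T') = t ≫ u := by
      ext1
      simp [e, u, T']
    simp only [map_mul, map_inv, comp_famHom, MulEquiv.symm_apply_apply, comp_mul, comp_inv, comp_lift_assoc, h1, h2] at h3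
    rw [h3, ← bcEquiv_symm_naturality, ← Category.assoc, h4, Category.assoc]

end family

end Groth.Agent.Sga3B.InfConjFam
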