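import Groth.Agent.S1350
import Groth.Agent.Flat2H.FSSmoothHom
import Groth.Agent.Sga3B.InfConjFam
import Groth.Agent.Sga3B.TorusAlgClosed

/-!
# Smoothness from lifting over local test rings, and its fpqc-local form

* `smooth_of_local_lift` : `f` locally of finite presentation with the lifting property along
  surjections of local rings with square-zero kernel is smooth.
* `hasAffineUnitNhd_of_isLocalRing` : over a local base the unit section has an affine open neighbourhood.
-/

set_option autoImplicit false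
universe u
open CategoryTheory MonoidalCategory CartesianMonoidalCategory MonObj GrpObj AlgebraicGeometry Limits

namespace Groth.Agent.Sga3B.LocalLift

/-- The lifting property along square-zero quotients of local rings. -/
theorem smooth_of_local_lift {X S : Scheme.{u}} (f : X ⟶ S) [LocallyOfFinitePresentation f]
    (H : ∀ (B : Type u) [CommRing B] [IsLocalRing B] (I : Ideal B), I * I = ⊥ →
      ∀ (α : Spec (CommRingCat.of (B ⧸ I)) ⟶ X) (β : Spec (CommRingCat.of B) ⟶ S),
        Spec.map (CommRingCat.ofHom (Ideal.Quotient.mk I)) ≫ β = α ≫ f →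
        ∃ γ : Spec (CommRingCat.of B) ⟶ X,
          Spec.map (CommRingCat.ofHom (Ideal.Quotient.mk I)) ≫ γ = α ∧ γ ≫ f = β) :
    Smooth f := by
  rw [← Scheme.Hom.smoothLocus_eq_top_iff, ← top_le_iff]
  rintro x -
  rw [Scheme.Hom.mem_smoothLocus]
  let A := S.presheaf.stalk (f x)
  let C := X.presheaf.stalk x
  let _ : Algebra A C := (f.stalkMap x).hom.toAlgebra
  change Algebra.FormallySmooth A C
  apply S1350.formallySmooth_of_local_lifting
  intro B' _ _ _ φ hφ hk
  let I := RingHom.ker φ.toRingHom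
  have hI : I * I = ⊥ := by rw [← pow_two]; exact hk
  let e : (B' ⧸ I) ≃+* C := RingHom.quotientKerEquivOfSurjective (f := φ.toRingHom) hφ
  have he : CommRingCat.ofHom (Ideal.Quotient.mk I) ≫ CommRingCat.ofHom e.toRingHom =
      CommRingCat.ofHom φ.toRingHom := by
    ext b
    exact RingHom.quotientKerEquivOfSurjective_apply_mk (f := φ.toRingHom) hφ b
  have he' : CommRingCat.ofHom φ.toRingHom ≫ CommRingCat.ofHom e.symm.toRingHom =
      CommRingCat.ofHom (Ideal.Quotient.mk I) := by
    rw [← he, Category.assoc]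
    ext b
    exact e.symm_apply_apply _
  obtain ⟨γ, hγ₁, hγ₂⟩ := H B' I hI (Spec.map (CommRingCat.ofHom e.symm.toRingHom) ≫ X.fromSpecStalk x)
    (Spec.map (CommRingCat.ofHom (algebraMap A B')) ≫ S.fromSpecStalk (f x))
    (by
      rw [Category.assoc, ← Scheme.SpecMap_stalkMap_fromSpecStalk, ← Spec.map_comp_assoc,
        ← Spec.map_comp_assoc]
      congr 2
      rw [← he']
      ext r
      exact congrArg e.symm (φ.commutes r))
  have hγ₁' : Spec.map (CommRingCat.ofHom φ.toRingHom) ≫ γ = X.fromSpecStalk x := by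
    rw [← he, Spec.map_comp, Category.assoc, hγ₁, ← Spec.map_comp_assoc]
    have : CommRingCat.ofHom e.symm.toRingHom ≫ CommRingCat.ofHom e.toRingHom = 𝟙 _ := by
      ext b; exact e.apply_symm_apply _
    rw [this, Spec.map_id, Category.id_comp]
  have hγ : γ (IsLocalRing.closedPoint B') = x := by
    rw [← S1350.closedPoint_eq φ.toRingHom hφ]
    have h1 := S1350.comp_apply_eq _ _ _ hγ₁' (IsLocalRing.closedPoint C)
    exact h1.trans Scheme.fromSpecStalk_closedPoint
  obtain ⟨g, -, hg⟩ := S1350.exists_stalk_hom γ x hγ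
  have h1 : g ≫ CommRingCat.ofHom φ.toRingHom = 𝟙 _ := by
    apply Spec.map_injective
    rw [← cancel_mono (X.fromSpecStalk x), Spec.map_comp, Category.assoc, hg, hγ₁']
    rw [Spec.map_id]
    exact (Category.id_comp (X.fromSpecStalk x)).symm
  have h2 : f.stalkMap x ≫ g = CommRingCat.ofHom (algebraMap A B') := by
    apply Spec.map_injective
    rw [← cancel_mono (S.fromSpecStalk (f x)), Spec.map_comp, Category.assoc,
      Scheme.SpecMap_stalkMap_fromSpecStalk, reassoc_of% hg, hγ₂]
  refine ⟨{ g.hom with commutes' := fun r => congr($(h2).hom r) }, ?_⟩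
  ext r
  exact congr($(h1).hom r)

/-- Over a local base the unit section has an affine open neighbourhood. -/
lemma hasAffineUnitNhd_of_isLocalRing {B : Type u} [CommRing B] [IsLocalRing B]
    (G : Over (Spec (CommRingCat.of B))) [GrpObj G] : InfConjFam.HasAffineUnitNhd G := by
  let e : Spec (CommRingCat.of B) ⟶ G.left := η[G].left
  obtain ⟨_, ⟨U, hU, rfl⟩, hxU, -⟩ := G.left.isBasis_affineOpens.exists_subset_of_mem_open
    (Set.mem_univ (e (IsLocalRing.closedPoint B))) isOpen_univ
  refine ⟨Γ(G.left, U), hU.fromSpec, hU.isOpenImmersion_fromSpec, ?_⟩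
  rw [hU.range_fromSpec]
  rintro _ ⟨y, rfl⟩
  have h1 : IsLocalRing.closedPoint B ∈ (e ⁻¹ᵁ U) := hxU
  have h2 : (e ⁻¹ᵁ U) = ⊤ := (IsLocalRing.closed_point_mem_iff (U := e ⁻¹ᵁ U)).mp h1
  have h3 : y ∈ e ⁻¹ᵁ U := by rw [h2]; trivial
  exact h3

set_option backward.isDefEq.respectTransparency.types false in
/-- Smoothness of `Z` over `S` by lifting over local test rings mapping to the members of an fpqc
covering. -/
theorem smooth_of_local_lift_fpqc {S S' : Scheme.{u}} (Z : Over S) [LocallyOfFinitePresentation Z.hom]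
    (f : S' ⟶ S) [Flat f] [Surjective f]
    (hc : ∀ V : S.Opens, IsAffineOpen V →
      ∃ W : S'.Opens, IsCompact (W : Set S') ∧ f '' (W : Set S') = (V : Set S))
    (H : ∀ s' : S', ∃ U : S'.Opens, s' ∈ U ∧ ∀ (B : Type u) [CommRing B] [IsLocalRing B] (I : Ideal B),
      I * I = ⊥ → ∀ (α : Spec (CommRingCat.of (B ⧸ I)) ⟶ Z.left) (β : Spec (CommRingCat.of B) ⟶ U),
        Spec.map (CommRingCat.ofHom (Ideal.Quotient.mk I)) ≫ β ≫ U.ι ≫ f = α ≫ Z.hom →
        ∃ γ : Spec (CommRingCat.of B) ⟶ Z.left,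
          Spec.map (CommRingCat.ofHom (Ideal.Quotient.mk I)) ≫ γ = α ∧ γ ≫ Z.hom = β ≫ U.ι ≫ f) :
    Smooth Z.hom := by
  refine FpqcLoc.of_fpqc_cover (P := @Smooth.{u}) Z.hom f hc fun s' => ?_
  obtain ⟨U, hU, hlift⟩ := H s'
  refine ⟨U, hU, ?_⟩
  apply smooth_of_local_lift
  intro B _ _ I hI α β h
  obtain ⟨γ, hγ₁, hγ₂⟩ := hlift B I hI (α ≫ pullback.fst _ _) β (by
    rw [← Category.assoc, h, Category.assoc, Category.assoc, pullback.condition])
  refine ⟨pullback.lift γ β hγ₂, ?_, pullback.lift_snd _ _ _⟩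
  apply pullback.hom_ext
  · rw [Category.assoc, pullback.lift_fst, hγ₁]
  · rw [Category.assoc, pullback.lift_snd, h]

end Groth.Agent.Sga3B.LocalLift
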