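import Groth.Agent.Sga3B.DSRigid
import Groth.Agent.Sga3B.BcPts
import Groth.Agent.Sga3B.LocalLift
import Groth.Agent.Sga3B.CentRep

/-!
# Infinitesimal lifting for centralizers and normalizers of split tori over local bases
-/

set_option autoImplicit false
universe u
open CategoryTheory MonoidalCategory CartesianMonoidalCategory MonObj GrpObj AlgebraicGeometry Limits

namespace Groth.Agent.Sga3B.CentLift

open InfConj InfConjFam DSPts DSRigid CentRep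

variable {S : Scheme.{u}}

/-- A torus which is split after the base change `x` is a constant family of diagonalisable groups. -/
lemma exists_isIsoFamily {S' : Scheme.{u}} (x : S' ⟶ S) {Q : Over S} [GrpObj Q] {M : Type} [AddCommGroup M]
    (h : Red.IsSplitTorusWith M (Red.bc x Q)) :
    ∃ e : Red.DS S M ⊗ Over.mk x ⟶ Q, AutFam.IsIsoFamily (Red.DS S M) Q e := by
  obtain ⟨e₀⟩ := h
  let E : Grp.mk (Red.bc x (Red.DS S M)) ≅ Grp.mk (Red.bc x Q) := TorusAlgClosed.dsBcIso x M ≪≫ e₀.symm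
  let a : Red.bc x (Red.DS S M) ⟶ Red.bc x Q := E.hom.hom.hom
  let b : Red.bc x Q ⟶ Red.bc x (Red.DS S M) := E.inv.hom.hom
  have hab : a ≫ b = 𝟙 _ := congrArg (fun f => f.hom.hom) E.hom_inv_id
  have hba : b ≫ a = 𝟙 _ := congrArg (fun f => f.hom.hom) E.inv_hom_id
  have ha : IsMonHom a := E.hom.hom.isMonHom_hom
  refine ⟨BcPts.fam a, ?_, BcPts.fam b, ?_, ?_⟩
  · intro X g₁ g₂ t
    rw [BcPts.lift_fam, BcPts.lift_fam, BcPts.lift_fam, BcPts.ev_mul]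
  · intro X g t
    rw [BcPts.lift_fam, BcPts.lift_fam, BcPts.ev_comp, hab, BcPts.ev_id]
  · intro X g t
    rw [BcPts.lift_fam, BcPts.lift_fam, BcPts.ev_comp, hba, BcPts.ev_id]


/-- The inverse of a family of isomorphisms is a family of homomorphisms. -/
lemma isHomFamily_inverse {G H T : Over S} [GrpObj G] [GrpObj H] {φ : G ⊗ T ⟶ H} {ψ : H ⊗ T ⟶ G}
    (hφ : AutFam.IsHomFamily G H φ)
    (h1 : ∀ (X : Over S) (g : X ⟶ G) (t : X ⟶ T), lift (lift g t ≫ φ) t ≫ ψ = g)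
    (h2 : ∀ (X : Over S) (g' : X ⟶ H) (t : X ⟶ T), lift (lift g' t ≫ ψ) t ≫ φ = g') :
    AutFam.IsHomFamily H G ψ := by
  intro X g₁ g₂ t
  have h3 : lift ((lift g₁ t ≫ ψ) * (lift g₂ t ≫ ψ)) t ≫ φ = g₁ * g₂ := by
    rw [hφ, h2, h2]
  rw [← h3, h1]

section

variable {G Q : Over S} [GrpObj G] [GrpObj Q] (q : Q ⟶ G) [IsMonHom q]
  {B : Type u} [CommRing B] (x : Spec (CommRingCat.of B) ⟶ S) {M : Type} [AddCommGroup M]

/-- Conjugation by a point normalising `Q` on one side is given by an endomorphism of `M`. -/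
lemma norm_step [Mono q] {y : Over S} {R : Type u} [CommRing R] [IsLocalRing R] (x₀ : Spec (CommRingCat.of R) ⟶ S)
    (r : Over.mk x₀ ⟶ y) (e : Red.DS S M ⊗ y ⟶ Q) (he : AutFam.IsIsoFamily (Red.DS S M) Q e)
    (g₀ : Over.mk x₀ ⟶ G)
    (h : ∀ (T : Over S) (t : T ⟶ Over.mk x₀) (k : T ⟶ Q), ∃ k' : T ⟶ Q,
      (t ≫ g₀) * (k ≫ q) * (t ≫ g₀)⁻¹ = k' ≫ q) :
    ∃ φ : M →+ M, ∀ (T : Over S) (d : T ⟶ Red.DS S M) (t : T ⟶ Over.mk x₀),
      (t ≫ g₀) * ((lift d (t ≫ r) ≫ e) ≫ q) * (t ≫ g₀)⁻¹ =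
        (lift (d ≫ Red.DSmap S φ) (t ≫ r) ≫ e) ≫ q := by
  obtain ⟨he, ψ, hψ1, hψ2⟩ := he
  have hψ := isHomFamily_inverse he hψ1 hψ2
  obtain ⟨k, hk⟩ := h (Red.DS S M ⊗ Over.mk x₀) (snd _ _) (lift (fst _ _) (snd _ _ ≫ r) ≫ e)
  have hk' : ∀ (T : Over S) (d : T ⟶ Red.DS S M) (t : T ⟶ Over.mk x₀),
      (t ≫ g₀) * ((lift d (t ≫ r) ≫ e) ≫ q) * (t ≫ g₀)⁻¹ = (lift d t ≫ k) ≫ q := by
    intro T d t
    have h1 := congrArg (fun f => lift d t ≫ f) hk
    simp only [MonObj.comp_mul, GrpObj.comp_inv, ← Category.assoc, comp_lift, lift_fst, lift_snd] at h1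
    exact h1
  let θ : Red.DS S M ⊗ Over.mk x₀ ⟶ Red.DS S M := lift k (snd _ _ ≫ r) ≫ ψ
  have hθ' : ∀ (T : Over S) (d : T ⟶ Red.DS S M) (t : T ⟶ Over.mk x₀),
      lift d t ≫ θ = lift (lift d t ≫ k) (t ≫ r) ≫ ψ := by
    intro T d t
    simp only [θ, ← Category.assoc, comp_lift, lift_snd]
  have hθ : AutFam.IsHomFamily (Red.DS S M) (Red.DS S M) θ := by
    intro T d₁ d₂ t
    rw [hθ', hθ', hθ', ← hψ]
    congr 2
    rw [← cancel_mono q, ← hk', he]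
    rw [MonObj.mul_comp, MonObj.mul_comp, ← hk', ← hk']
    group
  obtain ⟨φ, hφ⟩ := exists_DSmap_family x₀ θ hθ
  refine ⟨φ, fun T d t => ?_⟩
  rw [hk', ← hφ T d t, hθ', hψ2]

end

/-- If `D(φ)` and `D(φ')` are inverse to each other over some nonempty affine base then they are so. -/
lemma DSmap_comp_eq_id {R : Type u} [CommRing R] [Nontrivial R] (x₀ : Spec (CommRingCat.of R) ⟶ S)
    {M : Type} [AddCommGroup M] (φ φ' : M →+ M)
    (h : ∀ (T : Over S) (d : T ⟶ Red.DS S M) (_ : T ⟶ Over.mk x₀),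
      (d ≫ Red.DSmap S φ) ≫ Red.DSmap S φ' = d) :
    Red.DSmap S φ ≫ Red.DSmap S φ' = 𝟙 (Red.DS S M) := by
  have h1 := h _ (tr x₀ (univPt R M)) (st x₀ _)
  have h2 := congrArg dsChar h1
  rw [dsChar_DSmap, dsChar_DSmap] at h2
  have h3 : (dsChar (S := S) (T := (Over.map x₀).obj _) (tr x₀ (univPt R M)) :
      Multiplicative M →* Γ((pt R (MonoidAlgebra R (Multiplicative M))).left, ⊤)) =
      (gPt R (MonoidAlgebra R (Multiplicative M))).toMonoidHom.comp (MonoidAlgebra.of R (Multiplicative M)) :=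
    (dsChar_tr x₀ _).trans (dsChar_dsEquiv _)
  have h4 : ∀ m : M, φ (φ' m) = m := by
    intro m
    have h5 := congr($h2 (Multiplicative.ofAdd m))
    change (dsChar (S := S) (T := (Over.map x₀).obj _) (tr x₀ (univPt R M)) :
      Multiplicative M →* Γ((pt R (MonoidAlgebra R (Multiplicative M))).left, ⊤))
        (Multiplicative.ofAdd (φ (φ' m))) = (dsChar (S := S) (T := (Over.map x₀).obj _) (tr x₀ (univPt R M)) :
      Multiplicative M →* Γ((pt R (MonoidAlgebra R (Multiplicative M))).left, ⊤)) (Multiplicative.ofAdd m) at h5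
    rw [h3] at h5
    have h6 : MonoidAlgebra.of R (Multiplicative M) (Multiplicative.ofAdd (φ (φ' m))) =
        MonoidAlgebra.of R (Multiplicative M) (Multiplicative.ofAdd m) :=
      gPt_injective (R := R) (MonoidAlgebra R (Multiplicative M)) h5
    exact Multiplicative.ofAdd.injective (MonoidAlgebra.of_injective h6)
  apply (dsEquiv _ M).symm.injective
  change dsChar _ = dsChar _
  rw [dsChar_DSmap]
  have h6 : dsChar (Red.DSmap S φ) = (dsChar (𝟙 (Red.DS S M))).comp (AddMonoidHom.toMultiplicative φ) := by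
    rw [← dsChar_DSmap, Category.id_comp]
  rw [h6]
  refine MonoidHom.ext fun m => ?_
  change dsChar (𝟙 (Red.DS S M)) (Multiplicative.ofAdd (φ (φ' (Multiplicative.toAdd m)))) = _
  rw [h4]
  rfl

section

variable {G Q : Over S} [GrpObj G] [GrpObj Q] (q : Q ⟶ G) [IsMonHom q]
  {B : Type u} [CommRing B] [IsLocalRing B] (I : Ideal B) (hI : I * I = ⊥)
  (x : Spec (CommRingCat.of B) ⟶ S) {M : Type} [AddCommGroup M]
  (hQ : Red.IsSplitTorusWith M (Red.bc x Q)) [IsSeparated G.hom]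

include hI hQ

/-- A point which centralizes the split torus `Q` modulo `I` can be corrected to a point
centralizing `Q`. -/
theorem cent_lift (g₁ : Over.mk x ⟶ G) (h₁ : redMap x I ≫ g₁ ∈ centPts q _) :
    ∃ w : Over.mk x ⟶ G, redMap x I ≫ w = 1 ∧ w⁻¹ * g₁ ∈ centPts q _ := by
  obtain ⟨e, he, ψ, hψ1, hψ2⟩ := exists_isIsoFamily x hQ
  let a : Red.DS S M ⊗ Over.mk x ⟶ G := (snd _ _ ≫ g₁) * (e ≫ q) * (snd _ _ ≫ g₁)⁻¹
  let b : Red.DS S M ⊗ Over.mk x ⟶ G := e ≫ q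
  have ha' : ∀ (T : Over S) (d : T ⟶ Red.DS S M) (t : T ⟶ Over.mk x),
      lift d t ≫ a = (t ≫ g₁) * (lift d t ≫ e ≫ q) * (t ≫ g₁)⁻¹ := by
    intro T d t
    simp only [a, MonObj.comp_mul, GrpObj.comp_inv, lift_snd_assoc]
  have hb' : ∀ (T : Over S) (d : T ⟶ Red.DS S M) (t : T ⟶ Over.mk x),
      lift d t ≫ b = lift d t ≫ e ≫ q := fun _ _ _ => rfl
  have hb : AutFam.IsHomFamily (Red.DS S M) G b := by
    intro T d₁ d₂ t
    rw [hb', hb', hb', ← Category.assoc, he, MonObj.mul_comp, Category.assoc, Category.assoc]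
  have ha : AutFam.IsHomFamily (Red.DS S M) G a := by
    intro T d₁ d₂ t
    have h3 := hb T d₁ d₂ t
    rw [hb' T (d₁ * d₂), hb' T d₁, hb' T d₂] at h3
    rw [ha', ha', ha', h3]
    group
  obtain ⟨w, hw1, hw2⟩ := infConj_family x G I hI (LocalLift.hasAffineUnitNhd_of_isLocalRing _) a b ha hb (by
    have h2 := h₁ (Red.DS S M ⊗ _) (snd _ _) ((Red.DS S M ◁ redMap x I) ≫ e)
    have h3 : (Red.DS S M ◁ redMap x I) ≫ a = (snd _ _ ≫ redMap x I ≫ g₁) *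
        (((Red.DS S M ◁ redMap x I) ≫ e) ≫ q) * (snd _ _ ≫ redMap x I ≫ g₁)⁻¹ := by
      simp only [a, MonObj.comp_mul, GrpObj.comp_inv, whiskerLeft_snd_assoc, Category.assoc]
    rw [h3, h2, mul_inv_cancel_right, Category.assoc])
  refine ⟨w, hw1, ?_⟩
  rw [mem_centPts]
  intro T t h
  have h4 := hw2 T (lift h t ≫ ψ) t
  rw [ha', hb', ← Category.assoc, hψ2] at h4
  rw [MonObj.comp_mul, GrpObj.comp_inv]
  rw [mul_inv_eq_iff_eq_mul] at h4
  rw [_root_.mul_assoc, h4]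
  group

/-- A point which normalizes the split torus `Q` modulo `I` can be corrected to a point
normalizing `Q`. -/
theorem norm_lift [Mono q] (g₁ : Over.mk x ⟶ G) (h₁ : redMap x I ≫ g₁ ∈ normPts q _) :
    ∃ w : Over.mk x ⟶ G, redMap x I ≫ w = 1 ∧ w⁻¹ * g₁ ∈ normPts q _ := by
  obtain ⟨e, he0⟩ := exists_isIsoFamily x hQ
  have hIne : I ≠ ⊤ := by
    rintro rfl
    rw [Ideal.top_mul] at hI
    exact top_ne_bot hI
  have : Nontrivial (B ⧸ I) := Ideal.Quotient.nontrivial_iff.mpr hIne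
  have : IsLocalRing (B ⧸ I) := IsLocalRing.of_surjective' (Ideal.Quotient.mk I) Ideal.Quotient.mk_surjective
  let x₀ : Spec (CommRingCat.of (B ⧸ I)) ⟶ S := Spec.map (CommRingCat.ofHom (Ideal.Quotient.mk I)) ≫ x
  let r : Over.mk x₀ ⟶ Over.mk x := redMap x I
  let g₀ : Over.mk x₀ ⟶ G := r ≫ g₁
  obtain ⟨φ, hφ⟩ := norm_step q x₀ r e he0 g₀ (fun T t k => (h₁ T t k).1)
  obtain ⟨φ', hφ'⟩ := norm_step q x₀ r e he0 g₀⁻¹ (fun T t k => by
    obtain ⟨k', hk'⟩ := (h₁ T t k).2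
    refine ⟨k', ?_⟩
    rw [GrpObj.comp_inv, _root_.inv_inv]
    exact hk')
  obtain ⟨he, ψ, hψ1, hψ2⟩ := he0
  have hinj : ∀ (T : Over S) (d d' : T ⟶ Red.DS S M) (t : T ⟶ Over.mk x),
      (lift d t ≫ e) ≫ q = (lift d' t ≫ e) ≫ q → d = d' := by
    intro T d d' t hd
    rw [cancel_mono] at hd
    rw [← hψ1 T d t, hd, hψ1]
  have hcomp : Red.DSmap S φ' ≫ Red.DSmap S φ = 𝟙 (Red.DS S M) := by
    refine DSmap_comp_eq_id x₀ φ' φ fun T d t => ?_
    apply hinj _ _ _ (t ≫ r)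
    rw [← hφ, ← hφ', GrpObj.comp_inv]
    group
  let a : Red.DS S M ⊗ Over.mk x ⟶ G := (snd _ _ ≫ g₁) * (e ≫ q) * (snd _ _ ≫ g₁)⁻¹
  let b : Red.DS S M ⊗ Over.mk x ⟶ G := (lift (fst _ _ ≫ Red.DSmap S φ) (snd _ _) ≫ e) ≫ q
  have ha' : ∀ (T : Over S) (d : T ⟶ Red.DS S M) (t : T ⟶ Over.mk x),
      lift d t ≫ a = (t ≫ g₁) * ((lift d t ≫ e) ≫ q) * (t ≫ g₁)⁻¹ := by
    intro T d t
    simp only [a, MonObj.comp_mul, GrpObj.comp_inv, lift_snd_assoc, Category.assoc]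
  have hb' : ∀ (T : Over S) (d : T ⟶ Red.DS S M) (t : T ⟶ Over.mk x),
      lift d t ≫ b = (lift (d ≫ Red.DSmap S φ) t ≫ e) ≫ q := by
    intro T d t
    simp only [b, ← Category.assoc, comp_lift, lift_fst, lift_snd]
  have hDS : IsMonHom (Red.DSmap S φ) := by
    refine isMonHom_of_mul _ fun T d d' => ?_
    apply (dsEquiv T M).symm.injective
    change dsChar _ = dsChar _
    rw [dsChar_DSmap, dsChar_mul, dsChar_mul, dsChar_DSmap, dsChar_DSmap]
    rfl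
  have hb : AutFam.IsHomFamily (Red.DS S M) G b := by
    intro T d₁ d₂ t
    rw [hb' T (d₁ * d₂), hb' T d₁, hb' T d₂]
    have h2 : (d₁ * d₂) ≫ Red.DSmap S φ = (d₁ ≫ Red.DSmap S φ) * (d₂ ≫ Red.DSmap S φ) :=
      MonObj.mul_comp _ _ _
    rw [h2, he, MonObj.mul_comp]
  have ha : AutFam.IsHomFamily (Red.DS S M) G a := by
    intro T d₁ d₂ t
    rw [ha', ha', ha', he, MonObj.mul_comp]
    group
  obtain ⟨w, hw1, hw2⟩ := infConj_family x G I hI (LocalLift.hasAffineUnitNhd_of_isLocalRing _) a b ha hb (by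
    have h2 := hφ (Red.DS S M ⊗ _) (fst _ _) (snd _ _)
    have h3 : (Red.DS S M ◁ r) = lift (fst _ _) (snd _ _ ≫ r) := by
      apply CartesianMonoidalCategory.hom_ext <;> simp
    change (Red.DS S M ◁ r) ≫ a = (Red.DS S M ◁ r) ≫ b
    rw [h3, ha', hb', ← h2, Category.assoc])
  have key : ∀ (T : Over S) (t : T ⟶ Over.mk x) (d : T ⟶ Red.DS S M),
      (t ≫ (w⁻¹ * g₁)) * ((lift d t ≫ e) ≫ q) * (t ≫ (w⁻¹ * g₁))⁻¹ =
        (lift (d ≫ Red.DSmap S φ) t ≫ e) ≫ q := by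
    intro T t d
    have h4 := hw2 T d t
    rw [ha', hb'] at h4
    have h5 := congrArg (fun z => (t ≫ w)⁻¹ * z * (t ≫ w)) h4
    rw [MonObj.comp_mul, GrpObj.comp_inv]
    convert! h5 using 1 <;> group
  refine ⟨w, hw1, ?_⟩
  rw [mem_normPts]
  intro T t h
  constructor
  · refine ⟨lift ((lift h t ≫ ψ) ≫ Red.DSmap S φ) t ≫ e, ?_⟩
    rw [← key, hψ2]
  · refine ⟨lift ((lift h t ≫ ψ) ≫ Red.DSmap S φ') t ≫ e, ?_⟩
    have h6 := key T t ((lift h t ≫ ψ) ≫ Red.DSmap S φ')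
    rw [Category.assoc _ (Red.DSmap S φ'), hcomp, Category.comp_id, hψ2] at h6
    rw [← h6]
    group

end

end Groth.Agent.Sga3B.CentLift
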