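import Groth.Agent.Sga3C.CWNorm
import Groth.Agent.Sga3C.SubGrp
import Groth.Agent.Sga3B.TorusIrr
import Groth.Agent.Sga3B.TorusAlgClosed
import Groth.Prelude.Def_Red2

/-!
Centralizers and normalizers of smooth subgroups with geometrically irreducible fibres (for example
of subtori) are closed subgroup schemes of finite presentation.
-/

set_option autoImplicit false

namespace Groth.Agent.Sga3B.CentNorm900

open CategoryTheory Limits MonoidalCategory CartesianMonoidalCategory MonObj GrpObj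
  AlgebraicGeometry Groth.Agent.Sga3C.CWFam

universe u

variable {S : Scheme.{u}} {G H : Over S} [GrpObj G] [GrpObj H]

/-- A subfunctor in groups represented by `n : N ⟶ G` is a subgroup. -/
theorem exists_grpObj {N : Over S} (n : N ⟶ G) [Mono n] (P : ∀ ⦃X : Over S⦄, (X ⟶ G) → Prop)
    (hP : ∀ (X : Over S) (g : X ⟶ G), (∃ z : X ⟶ N, z ≫ n = g) ↔ P g)
    (hmul : ∀ (X : Over S) (g h : X ⟶ G), P g → P h → P (g * h))
    (hone : ∀ (X : Over S), P (1 : X ⟶ G)) (hinv : ∀ (X : Over S) (g : X ⟶ G), P g → P g⁻¹) :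
    ∃ _ : GrpObj N, IsMonHom n := by
  have hn : P n := (hP _ n).1 ⟨𝟙 _, Category.id_comp _⟩
  refine Sga3C.SubGrp.exists_grpObj_of_mono n ?_ ?_ ?_
  · obtain ⟨m, hm⟩ := (hP _ ((fst N N ≫ n) * (snd N N ≫ n))).2 (hmul _ _ _
      ((hP _ _).1 ⟨fst N N, rfl⟩) ((hP _ _).1 ⟨snd N N, rfl⟩))
    refine ⟨m, ?_⟩
    rw [hm]
    have : (fst N N ≫ n) * (snd N N ≫ n) = lift (fst N N ≫ n) (snd N N ≫ n) ≫ μ[G] := rfl
    rw [this]
    congr 1
  · obtain ⟨e, he⟩ := (hP _ (1 : 𝟙_ (Over S) ⟶ G)).2 (hone _)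
    refine ⟨e, ?_⟩
    rw [he]
    exact (MonObj.one_eq_one (M := G)).symm
  · obtain ⟨v, hv⟩ := (hP _ n⁻¹).2 (hinv _ _ hn)
    refine ⟨v, ?_⟩
    rw [hv]
    rfl

/-- Existence of centralizers and normalizers as closed subgroup schemes, locally of finite
presentation. -/
theorem exists_centralizer_normalizer [LocallyOfFiniteType G.hom] [Smooth H.hom]
    [GeometricallyIrreducible H.hom] (i : H ⟶ G) [IsMonHom i] [Mono i] :
    (∃ (Z : Over S) (_ : GrpObj Z) (z : Z ⟶ G), Red.IsCentralizerOf i z ∧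
      IsClosedImmersion z.left ∧ LocallyOfFinitePresentation z.left) ∧
    (∃ (N : Over S) (_ : GrpObj N) (n : N ⟶ G), Red.IsNormalizerOf i n ∧
      IsClosedImmersion n.left ∧ LocallyOfFinitePresentation n.left) := by
  obtain ⟨⟨N, n, hn1, hn2, hn⟩, ⟨Z, z, hz1, hz2, hz⟩⟩ :=
    Sga3C.CWNorm.exists_normalizer_centralizer i
  have hmn : Mono n := by
    have : Mono n.left := inferInstance
    exact (Over.forget S).mono_of_mono_map this
  have hmz : Mono z := by
    have : Mono z.left := inferInstance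
    exact (Over.forget S).mono_of_mono_map this
  constructor
  · obtain ⟨_, hz'⟩ := exists_grpObj z (fun X g => ∀ (T' : Over S) (t : T' ⟶ X) (h : T' ⟶ H),
      (t ≫ g) * (h ≫ i) = (h ≫ i) * (t ≫ g)) hz
      (by
        intro X a b ha hb T' t h
        rw [comp_mul, _root_.mul_assoc, hb, ← _root_.mul_assoc, ha, _root_.mul_assoc])
      (by
        intro X T' t h
        rw [comp_one, _root_.one_mul, _root_.mul_one])
      (by
        intro X a ha T' t h
        rw [GrpObj.comp_inv, inv_mul_eq_iff_eq_mul, ← _root_.mul_assoc, ha, _root_.mul_assoc,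
          mul_inv_cancel, _root_.mul_one])
    exact ⟨Z, _, z, ⟨hz', hmz, hz⟩, hz1, hz2⟩
  · obtain ⟨_, hn'⟩ := exists_grpObj n (fun X g => ∀ (T' : Over S) (t : T' ⟶ X) (h : T' ⟶ H),
      (∃ h' : T' ⟶ H, (t ≫ g) * (h ≫ i) * (t ≫ g)⁻¹ = h' ≫ i) ∧
      (∃ h' : T' ⟶ H, (t ≫ g)⁻¹ * (h ≫ i) * (t ≫ g) = h' ≫ i)) hn
      (by
        intro X a b ha hb T' t h
        obtain ⟨h1, hh1⟩ := (hb T' t h).1
        obtain ⟨h2, hh2⟩ := (ha T' t h1).1
        obtain ⟨h3, hh3⟩ := (ha T' t h).2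
        obtain ⟨h4, hh4⟩ := (hb T' t h3).2
        refine ⟨⟨h2, ?_⟩, ⟨h4, ?_⟩⟩
        · rw [← hh2, ← hh1, comp_mul]
          group
        · rw [← hh4, ← hh3, comp_mul]
          group)
      (by
        intro X T' t h
        refine ⟨⟨h, ?_⟩, ⟨h, ?_⟩⟩
        · rw [comp_one]
          group
        · rw [comp_one]
          group)
      (by
        intro X a ha T' t h
        obtain ⟨⟨h1, hh1⟩, ⟨h2, hh2⟩⟩ := ha T' t h
        refine ⟨⟨h2, ?_⟩, ⟨h1, ?_⟩⟩
        · rw [← hh2, GrpObj.comp_inv, _root_.inv_inv]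
        · rw [← hh1, GrpObj.comp_inv, _root_.inv_inv])
    exact ⟨N, _, n, ⟨hn', hmn, hn⟩, hn1, hn2⟩

/-- Centralizers and normalizers of subtori. -/
theorem exists_centralizer_normalizer_torus [LocallyOfFiniteType G.hom] (hH : Red.IsTorus H)
    (i : H ⟶ G) [IsMonHom i] [Mono i] :
    (∃ (Z : Over S) (_ : GrpObj Z) (z : Z ⟶ G), Red.IsCentralizerOf i z ∧
      IsClosedImmersion z.left ∧ LocallyOfFinitePresentation z.left) ∧
    (∃ (N : Over S) (_ : GrpObj N) (n : N ⟶ G), Red.IsNormalizerOf i n ∧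
      IsClosedImmersion n.left ∧ LocallyOfFinitePresentation n.left) := by
  have := TorusAlgClosed.smooth_of_isTorus hH
  have := TorusIrr.geometricallyIrreducible_of_isTorus hH
  exact exists_centralizer_normalizer i

end Groth.Agent.Sga3B.CentNorm900
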