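import Groth.Agent.Sga3B.DSAffPts
import Groth.Agent.Sga3B.AdRep
import Mathlib.RingTheory.Filtration

/-!
# A torus acting trivially on the first infinitesimal neighbourhood of the unit is central
-/

set_option autoImplicit false

universe u

open CategoryTheory MonoidalCategory CartesianMonoidalCategory AlgebraicGeometry Limits MonObj

namespace Groth.Agent.Sga3B.CentralTorus

open FreeBC BcPts DSAffPts AdRep

section Alg

variable {A N : Type*} [CommRing A] [CommGroup N] (γ : A →+* MonoidAlgebra A N) (I : Ideal A)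

lemma coeff_mem (hI : ∀ a ∈ I, ∀ n, (γ a).coeff n ∈ I) (h2 : ∀ a n, n ≠ 1 → (γ a).coeff n ∈ I ^ 2)
    (hco : ∀ a n, (γ ((γ a).coeff n)).coeff n = (γ a).coeff n) (k : ℕ) :
    ∀ a n, n ≠ 1 → (γ a).coeff n ∈ I ^ (k + 2) := by
  classical
  induction k with
  | zero => exact h2
  | succ k ih =>
    have key : ∀ x ∈ I ^ 2, ∀ n, n ≠ 1 → (γ x).coeff n ∈ I ^ (k + 1 + 2) := by
      intro x hx n hn
      rw [pow_two] at hx
      refine Submodule.mul_induction_on hx ?_ ?_
      · intro a ha b hb
        rw [map_mul, MonoidAlgebra.coeff_mul]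
        refine Ideal.sum_mem _ fun i _ => Ideal.sum_mem _ fun j _ => ?_
        beta_reduce
        split_ifs with hij
        · by_cases hi : i = 1
          · have hj : j ≠ 1 := by
              rintro rfl
              apply hn
              rw [← hij, hi, _root_.one_mul]
            have h1 := Ideal.mul_mem_mul (hI a ha i) (ih b j hj)
            rw [← pow_succ'] at h1
            exact h1
          · have h1 := Ideal.mul_mem_mul (ih a i hi) (hI b hb j)
            rw [← pow_succ] at h1
            exact h1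
        · exact Ideal.zero_mem _
      · intro a b ha hb
        rw [map_add, MonoidAlgebra.coeff_add]
        exact Ideal.add_mem _ ha hb
    intro a n hn
    rw [← hco a n]
    exact key _ (h2 a n hn) n hn

lemma eq_zero [IsNoetherianRing A] [IsDomain A] (hI1 : I ≠ ⊤)
    (hI : ∀ a ∈ I, ∀ n, (γ a).coeff n ∈ I) (h2 : ∀ a n, n ≠ 1 → (γ a).coeff n ∈ I ^ 2)
    (hco : ∀ a n, (γ ((γ a).coeff n)).coeff n = (γ a).coeff n) (a : A) (n : N) (hn : n ≠ 1) :
    (γ a).coeff n = 0 := by
  have h := coeff_mem γ I hI h2 hco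
  have h3 : (γ a).coeff n ∈ (⨅ i : ℕ, I ^ i : Ideal A) := by
    rw [Ideal.mem_iInf]
    intro i
    exact Ideal.pow_le_pow_right (by omega) (h i a n hn)
  rw [Ideal.iInf_pow_eq_bot_of_isDomain I hI1] at h3
  simpa using h3

end Alg

section Hom

variable {K A R R₀ N : Type*} [CommRing K] [CommRing A] [Algebra K A] [CommRing R] [Algebra K R]
  [CommRing R₀] [Algebra K R₀] [CommGroup N]

/-- the map `A[N] → R` attached to an `A`-point and a character -/
noncomputable def hom (φ : A →ₐ[K] R) (χ : N →* R) : MonoidAlgebra A N →ₐ[K] R :=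
  MonoidAlgebra.liftNCAlgHom φ χ (fun _ _ => Commute.all _ _)

lemma hom_single (φ : A →ₐ[K] R) (χ : N →* R) (n : N) (a : A) :
    hom φ χ (MonoidAlgebra.single n a) = φ a * χ n := by
  simp [hom]

lemma coeff_hom (φ₀ : A →ₐ[K] R₀) (f : MonoidAlgebra A N) (n : N) :
    (hom ((MonoidAlgebra.singleOneAlgHom : R₀ →ₐ[K] MonoidAlgebra R₀ N).comp φ₀)
      (MonoidAlgebra.of R₀ N) f).coeff n = φ₀ (f.coeff n) := by
  classical
  induction f using MonoidAlgebra.induction_linear with
  | zero => simp
  | add x y hx hy => rw [map_add, MonoidAlgebra.coeff_add, Finsupp.add_apply, hx, hy,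
      MonoidAlgebra.coeff_add, Finsupp.add_apply, map_add]
  | single m r =>
    rw [hom_single]
    simp only [AlgHom.comp_apply, MonoidAlgebra.singleOneAlgHom_apply, MonoidAlgebra.of_apply,
      MonoidAlgebra.single_mul_single, _root_.one_mul, _root_.mul_one, MonoidAlgebra.coeff_single,
      Finsupp.single_apply]
    split_ifs
    · rfl
    · simp

lemma coeff_hom₂ (f : MonoidAlgebra A N) (n : N) :
    (hom (((MonoidAlgebra.singleOneAlgHom : MonoidAlgebra A N →ₐ[K] MonoidAlgebra (MonoidAlgebra A N) N)).comp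
        (MonoidAlgebra.singleOneAlgHom : A →ₐ[K] MonoidAlgebra A N))
      (MonoidAlgebra.of (MonoidAlgebra A N) N *
        (MonoidAlgebra.singleOneAlgHom : MonoidAlgebra A N →ₐ[K]
          MonoidAlgebra (MonoidAlgebra A N) N).toMonoidHom.comp (MonoidAlgebra.of A N)) f).coeff n =
      MonoidAlgebra.single n (f.coeff n) := by
  classical
  induction f using MonoidAlgebra.induction_linear with
  | zero => simp
  | add x y hx hy => rw [map_add, MonoidAlgebra.coeff_add, Finsupp.add_apply, hx, hy,
      MonoidAlgebra.coeff_add, Finsupp.add_apply, MonoidAlgebra.single_add]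
  | single m r =>
    rw [hom_single]
    simp only [AlgHom.comp_apply, MonoidAlgebra.singleOneAlgHom_apply, MonoidAlgebra.of_apply,
      MonoidAlgebra.coeff_single, Finsupp.single_apply, MonoidHom.mul_apply, MonoidHom.comp_apply]
    change ((MonoidAlgebra.single 1 (MonoidAlgebra.single 1 r) : MonoidAlgebra (MonoidAlgebra A N) N) *
      (MonoidAlgebra.single m 1 * MonoidAlgebra.single 1 (MonoidAlgebra.single m 1))).coeff n = _
    simp only [MonoidAlgebra.single_mul_single, _root_.one_mul, _root_.mul_one,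
      MonoidAlgebra.coeff_single, Finsupp.single_apply]
    split_ifs with h
    · rw [h]
    · simp

end Hom

section Aug

variable {K A : Type u} [CommRing K] [CommRing A] [Algebra K A]

lemma fn_sp {R R' : Type u} [CommRing R] [Algebra K R] [CommRing R'] [Algebra K R']
    (φ : R →ₐ[K] R') (a : R) : fn (sp φ) a = (Scheme.ΓSpecIso (CommRingCat.of R')).inv (φ a) := by
  have : (Scheme.ΓSpecIso (CommRingCat.of R)).inv ≫ (sp φ).left.appTop =
      CommRingCat.ofHom φ.toRingHom ≫ (Scheme.ΓSpecIso (CommRingCat.of R')).inv :=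
    (Scheme.ΓSpecIso_inv_naturality _).symm
  exact congr($(this).hom a)

instance isIso_toUnit : IsIso (toUnit (DE K K)) := by
  have h : (toUnit (DE K K)).left = (DE K K).hom := by
    have := Over.w (toUnit (DE K K))
    rw [← this]
    exact (Category.comp_id _).symm
  have h2 : IsIso (DE K K).hom := by
    have : CommRingCat.ofHom (algebraMap K K) = 𝟙 _ := rfl
    simp only [Over.mk_hom, this]
    infer_instance
  have : IsIso ((Over.forget _).map (toUnit (DE K K))) := by
    change IsIso (toUnit (DE K K)).left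
    rw [h]
    exact h2
  exact isIso_of_reflects_iso (toUnit (DE K K)) (Over.forget _)

lemma exists_augHom (eW : 𝟙_ (Over (Spec (CommRingCat.of K))) ⟶ DE K A) :
    ∃ ε : A →ₐ[K] K, sp ε = toUnit _ ≫ eW ∧ ∀ a, a ∈ augIdeal eW ↔ ε a = 0 := by
  obtain ⟨ε, hε⟩ := exists_sp (toUnit (DE K K) ≫ eW)
  refine ⟨ε, hε, fun a => ?_⟩
  have h2 : (toUnit (DE K K)).left.appTop (fn eW a) = 
      ((Scheme.ΓSpecIso (CommRingCat.of K)).inv (ε a)) := by
    rw [← fn_comp, ← hε, fn_sp]
  have hiso : IsIso (toUnit (DE K K)).left :=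
      inferInstanceAs (IsIso ((Over.forget _).map (toUnit (DE K K))))
  have hiso2 : IsIso (toUnit (DE K K)).left.appTop :=
    inferInstanceAs (IsIso ((toUnit (DE K K)).left.app ⊤))
  have hinj : Function.Injective (toUnit (DE K K)).left.appTop :=
    (ConcreteCategory.bijective_of_isIso _).1
  have hinj2 : Function.Injective (Scheme.ΓSpecIso (CommRingCat.of K)).inv :=
    (ConcreteCategory.bijective_of_isIso _).1
  change fn eW a = 0 ↔ _
  constructor
  · intro h
    apply hinj2
    rw [← h2, h, map_zero, map_zero]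
  · intro h
    apply hinj
    rw [h2, h, map_zero, map_zero]

end Aug

section Main

variable {K A : Type u} [Field K] [CommRing A] [Algebra K A] {G : Over (Spec (CommRingCat.of K))} [GrpObj G]
  (w : DE K A ⟶ G) [IsIso w] (eW : 𝟙_ (Over (Spec (CommRingCat.of K))) ⟶ DE K A) (heW : eW ≫ w = η)
  {T : Over (Spec (CommRingCat.of K))} [GrpObj T] (i : T ⟶ G) [IsMonHom i]

/-- conjugation by points of `T` -/
noncomputable def cj {X : Over (Spec (CommRingCat.of K))} (t : X ⟶ T) (g : X ⟶ DE K A) : X ⟶ DE K A :=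
  ((t ≫ i) * (g ≫ w) * (t ≫ i)⁻¹) ≫ inv w

lemma cj_w {X : Over (Spec (CommRingCat.of K))} (t : X ⟶ T) (g : X ⟶ DE K A) :
    cj w i t g ≫ w = (t ≫ i) * (g ≫ w) * (t ≫ i)⁻¹ := by
  rw [cj, Category.assoc, IsIso.inv_hom_id, Category.comp_id]

lemma comp_cj {X Y : Over (Spec (CommRingCat.of K))} (h : Y ⟶ X) (t : X ⟶ T) (g : X ⟶ DE K A) :
    h ≫ cj w i t g = cj w i (h ≫ t) (h ≫ g) := by
  rw [← cancel_mono w, Category.assoc, cj_w, cj_w, MonObj.comp_mul, MonObj.comp_mul, GrpObj.comp_inv,
    Category.assoc, Category.assoc]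

lemma cj_mul {X : Over (Spec (CommRingCat.of K))} (t t' : X ⟶ T) (g : X ⟶ DE K A) :
    cj w i (t * t') g = cj w i t (cj w i t' g) := by
  rw [← cancel_mono w, cj_w, cj_w, cj_w, MonObj.mul_comp]
  group

lemma cj_one {X : Over (Spec (CommRingCat.of K))} (g : X ⟶ DE K A) :
    cj w i (1 : X ⟶ T) g = g := by
  rw [← cancel_mono w, cj_w, MonObj.one_comp]
  group

include heW in
lemma cj_unit {X : Over (Spec (CommRingCat.of K))} (t : X ⟶ T) :
    cj w i t (toUnit X ≫ eW) = toUnit X ≫ eW := by
  rw [← cancel_mono w, cj_w, Category.assoc, heW]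
  have : toUnit X ≫ η[G] = (1 : X ⟶ G) := rfl
  rw [this, _root_.mul_one, mul_inv_cancel]

include heW in
/-- A homomorphism `D(M) → G` which commutes with the first infinitesimal neighbourhood of the unit is central
(`G` affine, integral and of finite type over a field). -/
theorem central_DS [IsNoetherianRing A] [IsDomain A] {M : Type} [AddCommGroup M]
    (i : Red.DS (Spec (CommRingCat.of K)) M ⟶ G) [IsMonHom i]
    (h : ∀ (X : Over (Spec (CommRingCat.of K))) (t : X ⟶ Red.DS (Spec (CommRingCat.of K)) M)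
      (d : X ⟶ DE K (A ⧸ augIdeal eW ^ 2)),
      (t ≫ i) * (d ≫ quotMap _ ≫ w) * (t ≫ i)⁻¹ = d ≫ quotMap _ ≫ w)
    {X : Over (Spec (CommRingCat.of K))} (t : X ⟶ Red.DS (Spec (CommRingCat.of K)) M) (g : X ⟶ G) :
    (t ≫ i) * g = g * (t ≫ i) := by
  obtain ⟨ε, hε, hεI⟩ := exists_augHom eW
  let N := Multiplicative M
  let s₁ : ∀ (R₀ : Type u) [CommRing R₀] [Algebra K R₀], R₀ →ₐ[K] MonoidAlgebra R₀ N :=
    fun R₀ _ _ => MonoidAlgebra.singleOneAlgHom
  obtain ⟨γ, hγ⟩ := exists_sp (K := K) (R := A) (R' := MonoidAlgebra A N)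
    (cj w i (dsPt M _ (MonoidAlgebra.of A N)) (sp (s₁ A)))
  have key : ∀ (R : Type u) [CommRing R] [Algebra K R] (φ : A →ₐ[K] R) (χ : N →* R),
      cj w i (dsPt M R χ) (sp φ) = sp ((hom φ χ).comp γ) := by
    intro R _ _ φ χ
    rw [← sp_comp, hγ, comp_cj, sp_dsPt, sp_comp]
    congr 2
    · congr 1
      refine MonoidHom.ext fun n => ?_
      change χ n = hom φ χ (MonoidAlgebra.single n 1)
      exact ((hom_single φ χ n 1).trans (by rw [map_one, _root_.one_mul])).symm
    · apply AlgHom.ext
      intro a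
      change φ a = hom φ χ (MonoidAlgebra.single 1 a)
      exact ((hom_single φ χ 1 a).trans (by rw [map_one, _root_.mul_one])).symm
  -- unit
  have f0 : ∀ a n, n ≠ 1 ∨ ε a = 0 → ε ((γ a).coeff n) = 0 := by
    intro a n hn
    have h1 := key (MonoidAlgebra K N) ((s₁ K).comp ε) (MonoidAlgebra.of K N)
    have h2 : sp ((s₁ K).comp ε) = toUnit _ ≫ eW := by
      rw [← sp_comp, hε, ← Category.assoc]
      congr 1
      exact toUnit_unique _ _
    rw [h2, cj_unit w eW heW i, ← h2] at h1
    have h3 := congr($(sp_injective h1) a)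
    have h4 := congr(($h3).coeff n)
    rw [AlgHom.comp_apply, AlgHom.comp_apply, coeff_hom] at h4
    rw [← h4]
    change (MonoidAlgebra.single 1 (ε a) : MonoidAlgebra K N).coeff n = 0
    rw [MonoidAlgebra.coeff_single]
    rcases hn with hn | hn
    · rw [Finsupp.single_eq_of_ne hn]
    · rw [hn]; simp
  -- infinitesimal neighbourhood
  have f2 : ∀ a n, n ≠ 1 → (γ a).coeff n ∈ augIdeal eW ^ 2 := by
    intro a n hn
    let Q := A ⧸ augIdeal eW ^ 2
    let π : A →ₐ[K] Q := Ideal.Quotient.mkₐ K _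
    have h1 := key (MonoidAlgebra Q N) ((s₁ Q).comp π) (MonoidAlgebra.of Q N)
    have h2 : sp ((s₁ Q).comp π) = sp (s₁ Q) ≫ quotMap (R := K) (augIdeal eW ^ 2) := by
      rw [← sp_comp]
      rfl
    have h3 : cj w i (dsPt M _ (MonoidAlgebra.of Q N)) (sp ((s₁ Q).comp π)) =
        sp ((s₁ Q).comp π) := by
      rw [← cancel_mono w, cj_w, h2, Category.assoc]
      exact h _ _ _
    rw [h3] at h1
    have h4 := congr($(sp_injective h1) a)
    have h5 := congr(($h4).coeff n)
    rw [AlgHom.comp_apply, AlgHom.comp_apply, coeff_hom] at h5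
    rw [← Ideal.Quotient.eq_zero_iff_mem]
    refine h5.symm.trans ?_
    change (MonoidAlgebra.single 1 (π a) : MonoidAlgebra Q N).coeff n = 0
    rw [MonoidAlgebra.coeff_single, Finsupp.single_eq_of_ne hn]
  -- action
  have f3 : ∀ a n, γ ((γ a).coeff n) = MonoidAlgebra.single n ((γ a).coeff n) := by
    intro a n
    let s₂ : MonoidAlgebra A N →ₐ[K] MonoidAlgebra (MonoidAlgebra A N) N := s₁ (MonoidAlgebra A N)
    let χ₁ : N →* MonoidAlgebra (MonoidAlgebra A N) N := MonoidAlgebra.of (MonoidAlgebra A N) N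
    let χ₂ : N →* MonoidAlgebra (MonoidAlgebra A N) N := s₂.toMonoidHom.comp (MonoidAlgebra.of A N)
    let φ : A →ₐ[K] MonoidAlgebra (MonoidAlgebra A N) N := s₂.comp (s₁ A)
    have h1 := key _ φ (χ₁ * χ₂)
    rw [map_mul, cj_mul, key _ φ χ₂] at h1
    have h2 : (hom φ χ₂).comp γ = s₂.comp γ := by
      apply AlgHom.ext
      intro b
      rw [AlgHom.comp_apply, AlgHom.comp_apply]
      generalize γ b = f
      induction f using MonoidAlgebra.induction_linear with
      | zero => simp
      | add x y hx hy => rw [map_add, hx, hy, map_add]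
      | single m r =>
        rw [hom_single]
        change (MonoidAlgebra.single 1 (MonoidAlgebra.single 1 r) : MonoidAlgebra (MonoidAlgebra A N) N) *
          MonoidAlgebra.single 1 (MonoidAlgebra.single m 1) =
          MonoidAlgebra.single 1 (MonoidAlgebra.single m r)
        simp only [MonoidAlgebra.single_mul_single, _root_.one_mul, _root_.mul_one]
    rw [h2, key _ (s₂.comp γ) χ₁] at h1
    have h3 := congr($(sp_injective h1) a)
    have h4 := congr(($h3).coeff n)
    rw [AlgHom.comp_apply, AlgHom.comp_apply, coeff_hom] at h4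
    rw [h4]
    exact coeff_hom₂ _ _
  have f1 : ∀ a n, n ≠ 1 → (γ a).coeff n = 0 := by
    intro a n hn
    refine eq_zero (γ : A →+* MonoidAlgebra A N) (augIdeal eW) ?_ ?_ f2 ?_ a n hn
    · intro htop
      have : (1 : A) ∈ augIdeal eW := by rw [htop]; trivial
      rw [hεI, map_one] at this
      exact one_ne_zero this
    · intro b hb m
      rw [hεI] at hb ⊢
      exact f0 b m (Or.inr hb)
    · intro b m
      change (γ ((γ b).coeff m)).coeff m = _
      rw [f3, MonoidAlgebra.coeff_single, Finsupp.single_eq_same]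
      rfl
  have f4 : γ = s₁ A := by
    apply AlgHom.ext
    intro a
    have e1 : γ a = MonoidAlgebra.single 1 ((γ a).coeff 1) := by
      ext n
      rw [MonoidAlgebra.coeff_single]
      by_cases hn : n = 1
      · rw [hn, Finsupp.single_eq_same]
      · rw [f1 a n hn, Finsupp.single_eq_of_ne hn]
    have h1 := key A (AlgHom.id K A) 1
    rw [map_one, cj_one] at h1
    have h2 := congr($(sp_injective h1) a)
    rw [AlgHom.comp_apply, e1, hom_single] at h2
    have h3 : a = (γ a).coeff 1 := by simpa using h2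
    rw [e1, ← h3]
    rfl
  -- affine points
  have f5 : ∀ (R : Type u) [CommRing R] [Algebra K R] (t : DE K R ⟶ Red.DS (Spec (CommRingCat.of K)) M)
      (g : DE K R ⟶ DE K A), cj w i t g = g := by
    intro R _ _ t g
    obtain ⟨φ, rfl⟩ := exists_sp g
    obtain ⟨χ, rfl⟩ := (dsPt M R).surjective t
    rw [key, f4]
    congr 1
    apply AlgHom.ext
    intro a
    change hom φ χ (MonoidAlgebra.single 1 a) = φ a
    exact (hom_single φ χ 1 a).trans (by rw [map_one, _root_.mul_one])
  -- the universal point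
  have a1 : IsAffine (Red.DS (Spec (CommRingCat.of K)) M ⊗ DE K A).left := by
    have h1 : IsAffineHom (Red.diag (ULift.{u} ℤ) M).hom := by
      change IsAffineHom (Spec.map _)
      infer_instance
    have h2 : IsAffineHom (Red.DS (Spec (CommRingCat.of K)) M).hom := by
      change IsAffineHom (Limits.pullback.snd _ _)
      infer_instance
    have h3 : IsAffine (Red.DS (Spec (CommRingCat.of K)) M).left :=
      isAffine_of_isAffineHom (Red.DS (Spec (CommRingCat.of K)) M).hom
    exact inferInstanceAs (IsAffine (pullback (Red.DS (Spec (CommRingCat.of K)) M).hom (DE K A).hom))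
  obtain ⟨R, _, _, ⟨e⟩⟩ := exists_iso_DE (Red.DS (Spec (CommRingCat.of K)) M ⊗ DE K A)
  have h6 : cj w i (fst (Red.DS (Spec (CommRingCat.of K)) M) (DE K A)) (snd _ _) = snd _ _ := by
    rw [← cancel_epi e.hom, comp_cj, f5]
  have h7 : cj w i t (g ≫ inv w) = g ≫ inv w := by
    have := congr(lift t (g ≫ inv w) ≫ $h6)
    rwa [comp_cj, lift_fst, lift_snd] at this
  have h8 := cj_w w i t (g ≫ inv w)
  rw [h7, Category.assoc, IsIso.inv_hom_id, Category.comp_id] at h8
  exact (eq_mul_inv_iff_mul_eq.mp h8).symm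

end Main

end Groth.Agent.Sga3B.CentralTorus
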