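import Groth.Agent.Sga3B.Chart
import Groth.Agent.Sga3B.IsomDefs

/-!
# Transport of a chart along a family of isomorphisms

`c` a chart of `G` over `s : Spec R ⟶ S` and `ψ : G ⊗ Over.mk s ⟶ G'` a family of isomorphisms: then the same
coordinate ring is a chart of `G'`.
-/

set_option autoImplicit false
universe u

open CategoryTheory MonoidalCategory CartesianMonoidalCategory MonObj GrpObj AlgebraicGeometry Limits
open Polynomial

namespace Groth.Agent.Sga3B.ChartFam

open Cell PinMod DSPts GaPts IsoFam IsomCore IsomDefs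

variable {S : Scheme.{u}} {G G' : Over S} [GrpObj G] [GrpObj G'] {R : Type u} [CommRing R]
  {s : Spec (CommRingCat.of R) ⟶ S}

/-- the structure map `tB s B ⟶ Over.mk s` -/
noncomputable def xB (s : Spec (CommRingCat.of R) ⟶ S) (B : Type u) [CommRing B] [Algebra R B] :
    tB s B ⟶ Over.mk s :=
  Over.homMk (Spec.map (CommRingCat.ofHom (algebraMap R B))) rfl

lemma tMap_xB {B C : Type u} [CommRing B] [Algebra R B] [CommRing C] [Algebra R C] (φ : B →ₐ[R] C) :
    tMap s φ ≫ xB s B = xB s C := by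
  ext1
  simp only [xB, Over.comp_left, Over.homMk_left, tMap_left]
  rw [← Spec.map_comp, ← CommRingCat.ofHom_comp, AlgHom.comp_algebraMap]

/-- the value of a family at a point of `G` -/
noncomputable def val (ψ : G ⊗ Over.mk s ⟶ G') (B : Type u) [CommRing B] [Algebra R B]
    (g : tB s B ⟶ G) : tB s B ⟶ G' := lift g (xB s B) ≫ ψ

omit [GrpObj G] [GrpObj G'] in
lemma tMap_val (ψ : G ⊗ Over.mk s ⟶ G') {B C : Type u} [CommRing B] [Algebra R B] [CommRing C]
    [Algebra R C] (φ : B →ₐ[R] C) (g : tB s B ⟶ G) :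
    tMap s φ ≫ val ψ B g = val ψ C (tMap s φ ≫ g) := by
  rw [val, ← Category.assoc, comp_lift, tMap_xB]
  rfl

/-- The points of the transported chart. -/
noncomputable def valEquiv {ψ : G ⊗ Over.mk s ⟶ G'} {χ : G' ⊗ Over.mk s ⟶ G}
    (h1 : AutFam.IsHomFamily G G' ψ)
    (h2 : ∀ (X : Over S) (g : X ⟶ G) (t : X ⟶ Over.mk s), lift (lift g t ≫ ψ) t ≫ χ = g)
    (h3 : ∀ (X : Over S) (g' : X ⟶ G') (t : X ⟶ Over.mk s), lift (lift g' t ≫ χ) t ≫ ψ = g')
    (B : Type u) [CommRing B] [Algebra R B] : (tB s B ⟶ G) ≃* (tB s B ⟶ G') where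
  toFun := val ψ B
  invFun := val χ B
  left_inv _ := h2 _ _ _
  right_inv _ := h3 _ _ _
  map_mul' _ _ := h1 _ _ _ _

lemma bcEquiv_fst' {X : Over (Spec (CommRingCat.of R))} (x : (Over.map s).obj X ⟶ G) :
    (BcPts.bcEquiv s X G x).left ≫ pullback.fst G.hom s = x.left := by
  have h : BcPts.bcEquiv s X G x = DSPts.bcEquiv s X G x := by
    rw [BcPts.bcEquiv, Adjunction.homEquiv_unit, DSPts.bcEquiv_apply]
  rw [h]
  exact DSPts.bcEquiv_fst _ _ _ _

/-- Transport of a chart along a family of isomorphisms. -/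
theorem exists_chart_fam (c : Chart G s) {ψ : G ⊗ Over.mk s ⟶ G'} (h : AutFam.IsIsoFamily G G' ψ) :
    ∃ (pts' : ∀ (B : Type u) [CommRing B] [Algebra R B], Pt R c.A B ≃* (tB s B ⟶ G'))
      (p' : Spec (CommRingCat.of c.A) ⟶ G'.left),
      (∀ (B : Type u) [CommRing B] [Algebra R B] (g : Pt R c.A B), pts' B g = val ψ B (c.pts B g)) ∧
      (∀ {B C : Type u} [CommRing B] [Algebra R B] [CommRing C] [Algebra R C] (φ : B →ₐ[R] C)
        (g : Pt R c.A B), tMap s φ ≫ pts' B g = pts' C (Pt.map φ g)) ∧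
      (∀ (B : Type u) [CommRing B] [Algebra R B] (g : Pt R c.A B),
        (pts' B g).left = Spec.map (CommRingCat.ofHom (g.hom : c.A →+* B)) ≫ p') ∧
      IsPullback p' (Spec.map (CommRingCat.ofHom (algebraMap R c.A))) G'.hom s := by
  obtain ⟨e, he⟩ := exists_iso_of_isIsoFamily (T := Over.mk s) h
  obtain ⟨h1, χ, h2, h3⟩ := h
  have hnat : ∀ {B C : Type u} [CommRing B] [Algebra R B] [CommRing C] [Algebra R C] (φ : B →ₐ[R] C)
      (g : Pt R c.A B), tMap s φ ≫ val ψ B (c.pts B g) = val ψ C (c.pts C (Pt.map φ g)) := by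
    intro B C _ _ _ _ φ g
    rw [tMap_val, c.pts_nat]
  refine ⟨fun B _ _ => (c.pts B).trans (valEquiv h1 h2 h3 B),
    (val ψ c.A (c.pts c.A (Pt.mk (AlgHom.id R c.A)))).left, fun B _ _ g => rfl, hnat, ?_, ?_⟩
  · intro B _ _ g
    have h4 := hnat g.hom (Pt.mk (AlgHom.id R c.A))
    have h5 : Pt.map g.hom (Pt.mk (AlgHom.id R c.A)) = g := rfl
    rw [h5] at h4
    change (val ψ B (c.pts B g)).left = _
    rw [← h4]
    rfl
  · let X : Over (Spec (CommRingCat.of R)) :=
      Over.mk (Spec.map (CommRingCat.ofHom (algebraMap R c.A)))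
    let g₀ : (Over.map s).obj X ⟶ G := c.pts c.A (Pt.mk (AlgHom.id R c.A))
    let q : X ⟶ Red.bc s G := BcPts.bcEquiv s X G g₀
    let E : (Red.bc s G).left ≅ (Red.bc s G').left :=
      (Over.forget _).mapIso ((Grp.forget _).mapIso e)
    have hE : E.hom = (unfam (T := Over.mk s) ψ).left := congrArg (fun k => Over.Hom.left k) he
    have hq1 : q.left ≫ pullback.fst G.hom s = c.p := by
      have h4 : q.left ≫ pullback.fst G.hom s = g₀.left := bcEquiv_fst' _
      rw [h4]
      change (c.pts c.A (Pt.mk (AlgHom.id R c.A))).left = _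
      rw [c.pts_left]
      exact (congrArg (· ≫ c.p) (Spec.map_id _)).trans (Category.id_comp _)
    have hq2 : q.left ≫ pullback.snd G.hom s = Spec.map (CommRingCat.ofHom (algebraMap R c.A)) :=
      Over.w q
    have hq : q.left = c.isPullback.isoPullback.hom := by
      apply pullback.hom_ext
      · rw [hq1, IsPullback.isoPullback_hom_fst]
      · rw [hq2, IsPullback.isoPullback_hom_snd]
    have h5 : (c.isPullback.isoPullback.hom ≫ E.hom) ≫ pullback.fst G'.hom s =
        (val ψ c.A (c.pts c.A (Pt.mk (AlgHom.id R c.A)))).left := by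
      have h6 := comp_unfam (T := Over.mk s) ψ q
      have h7 : (q ≫ unfam (T := Over.mk s) ψ).left ≫ pullback.fst G'.hom s =
          (lift ((BcPts.bcEquiv s X G).symm q) (st (T := Over.mk s) X) ≫ ψ).left := by
        rw [h6]
        exact bcEquiv_fst' _
      have h8 : (BcPts.bcEquiv s X G).symm q = g₀ := Equiv.symm_apply_apply _ _
      rw [h8] at h7
      rw [hE, ← hq]
      exact h7
    refine IsPullback.of_iso (IsPullback.of_hasPullback G'.hom s)
      (c.isPullback.isoPullback ≪≫ E).symm (Iso.refl _) (Iso.refl _) (Iso.refl _) ?_ ?_ ?_ ?_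
    · rw [Iso.refl_hom, Category.comp_id, Iso.symm_hom, Iso.eq_inv_comp]
      exact h5
    · rw [Iso.refl_hom, Category.comp_id, Iso.symm_hom, Iso.eq_inv_comp]
      rw [Iso.trans_hom, Category.assoc]
      have h9 : E.hom ≫ pullback.snd G'.hom s = pullback.snd G.hom s := by
        rw [hE]
        exact Over.w (unfam (T := Over.mk s) ψ)
      rw [h9, IsPullback.isoPullback_hom_snd]
    · simp
    · simp

/-- The transported chart. -/
noncomputable def chartFam (c : Chart G s) {ψ : G ⊗ Over.mk s ⟶ G'}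
    (h : AutFam.IsIsoFamily G G' ψ) : Chart G' s where
  A := c.A
  pts := (exists_chart_fam c h).choose
  pts_nat := (exists_chart_fam c h).choose_spec.choose_spec.2.1
  p := (exists_chart_fam c h).choose_spec.choose
  pts_left := (exists_chart_fam c h).choose_spec.choose_spec.2.2.1
  isPullback := (exists_chart_fam c h).choose_spec.choose_spec.2.2.2

lemma chartFam_pts (c : Chart G s) {ψ : G ⊗ Over.mk s ⟶ G'} (h : AutFam.IsIsoFamily G G' ψ)
    (B : Type u) [CommRing B] [Algebra R B] (g : Pt R c.A B) :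
    (chartFam c h).pts B g = val ψ B (c.pts B g) :=
  (exists_chart_fam c h).choose_spec.choose_spec.1 B g

end Groth.Agent.Sga3B.ChartFam
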