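import Groth.Agent.Sga3B.ChartEx
import Groth.Agent.Sga3B.ChartFib
import Groth.Agent.Sga3B.CellEt

/-!
# The datum of a splitting in an affine chart is good
-/

set_option autoImplicit false
open CategoryTheory MonoidalCategory CartesianMonoidalCategory MonObj GrpObj AlgebraicGeometry TensorProduct
universe u

namespace Groth.Agent.Sga3B.Chart

open Cell PinMod

variable {S : Scheme.{u}} {G : Over S} [GrpObj G] {R : Type u} [CommRing R] {s : Spec (CommRingCat.of R) ⟶ S}
  (c : Chart G s) (D : Red.SplitRed G)

include D in
theorem smooth848 : Algebra.Smooth R c.A :=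
  have : Smooth G.hom := D.reductive.2.1
  ChartFib.smooth_of_isPullback c.isPullback

include D in
theorem isDomain848 (K : Type u) [Field K] [Algebra R K] : IsDomain (K ⊗[R] c.A) :=
  ChartFib.isDomain D.reductive c.isPullback K

/-- The datum of a splitting in a chart is good. -/
theorem good848 : (c.datum D).Good := by
  have : Algebra.Smooth R c.A := c.smooth848 D
  apply Datum.good
  intro K _ _ _ _ _ _
  have h := ChartFib.finrank_eq D.reductive D.dim_fibre c.isPullback K
  rw [h, add_comm]
  rfl

end Groth.Agent.Sga3B.Chart
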