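import Groth.Agent.Sga3B.FreeBC
import Groth.Agent.Sga3B.BcPts

/-!
# Points of `D(M)` with values in algebras
-/

set_option autoImplicit false

universe u

open CategoryTheory MonoidalCategory CartesianMonoidalCategory AlgebraicGeometry Limits MonObj

namespace Groth.Agent.Sga3B.DSAffPts

open FreeBC BcPts

section Sp

variable {K : Type u} [CommRing K] {R R' R'' : Type u} [CommRing R] [Algebra K R] [CommRing R'] [Algebra K R']
  [CommRing R''] [Algebra K R'']

/-- `Spec` of an algebra map -/
noncomputable def sp (φ : R →ₐ[K] R') : DE K R' ⟶ DE K R :=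
  Over.homMk (Spec.map (CommRingCat.ofHom φ.toRingHom)) (by
    simp only [Over.mk_hom, ← Spec.map_comp, ← CommRingCat.ofHom_comp, AlgHom.toRingHom_eq_coe,
      AlgHom.comp_algebraMap])

lemma sp_comp (φ : R →ₐ[K] R') (ψ : R' →ₐ[K] R'') : sp ψ ≫ sp φ = sp (ψ.comp φ) := by
  ext1
  simp only [sp, Over.comp_left, Over.homMk_left, ← Spec.map_comp, ← CommRingCat.ofHom_comp]
  rfl

lemma sp_id : sp (AlgHom.id K R) = 𝟙 _ := by
  ext1
  simp only [sp, Over.homMk_left, Over.id_left]
  exact Spec.map_id _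

lemma sp_injective {φ ψ : R →ₐ[K] R'} (h : sp φ = sp ψ) : φ = ψ := by
  have h1 := congr(($h).left)
  simp only [sp, Over.homMk_left] at h1
  have h2 := Spec.map_injective h1
  ext x
  exact congr($(h2).hom x)

lemma exists_sp (f : DE K R' ⟶ DE K R) : ∃ φ : R →ₐ[K] R', sp φ = f := by
  let g : CommRingCat.of R ⟶ CommRingCat.of R' := Spec.preimage f.left
  have hg : Spec.map g = f.left := Spec.map_preimage _
  have h1 : CommRingCat.ofHom (algebraMap K R) ≫ g = CommRingCat.ofHom (algebraMap K R') := by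
    apply Spec.map_injective
    rw [Spec.map_comp, hg]
    exact Over.w f
  refine ⟨⟨g.hom, fun r => congr($(h1).hom r)⟩, ?_⟩
  ext1
  exact hg

/-- An affine object is of the form `DE K R`. -/
lemma exists_iso_DE (X : Over (Spec (CommRingCat.of K))) [IsAffine X.left] :
    ∃ (R : Type u) (_ : CommRing R) (_ : Algebra K R), Nonempty (DE K R ≅ X) := by
  let φ : CommRingCat.of K ⟶ Γ(X.left, ⊤) := (Scheme.ΓSpecIso (CommRingCat.of K)).inv ≫ X.hom.appTop
  refine ⟨Γ(X.left, ⊤), inferInstance, φ.hom.toAlgebra, ⟨Over.isoMk X.left.isoSpec.symm ?_⟩⟩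
  change X.left.isoSpec.inv ≫ X.hom = Spec.map φ
  rw [Iso.inv_comp_eq]
  simp only [φ, Spec.map_comp]
  rw [Scheme.isoSpec_hom, ← Scheme.toSpecΓ_naturality_assoc]
  simp

end Sp

section Diag

variable {k : Type u} [CommRing k] (M : Type) [AddCommGroup M]

/-- characters as points of the group algebra -/
noncomputable def algPt (R : Type u) [CommRing R] [Algebra k R] :
    (Multiplicative M →* R) ≃* WithConv (MonoidAlgebra k (Multiplicative M) →ₐ[k] R) where
  toFun χ := WithConv.toConv (MonoidAlgebra.lift k R (Multiplicative M) χ)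
  invFun φ := (MonoidAlgebra.lift k R (Multiplicative M)).symm φ.ofConv
  left_inv χ := by simp
  right_inv φ := by simp
  map_mul' χ χ' := by
    apply WithConv.ofConv_injective
    rw [WithConv.ofConv_toConv]
    refine MonoidAlgebra.algHom_ext (fun n => ?_) (Subsingleton.elim _ _)
    rw [AlgHom.convMul_def]
    simp

/-- characters as points of the diagonalisable group, over any affine base -/
noncomputable def diagPt (R : Type u) [CommRing R] [Algebra k R] :
    (Multiplicative M →* R) ≃* (DE k R ⟶ Red.diag k M) :=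
  (algPt M R).trans (Spec.mapMulEquiv (R := k) (S := MonoidAlgebra k (Multiplicative M)) (T := R))

lemma sp_diagPt {R R' : Type u} [CommRing R] [Algebra k R] [CommRing R'] [Algebra k R']
    (φ : R →ₐ[k] R') (χ : Multiplicative M →* R) :
    sp φ ≫ diagPt (k := k) M R χ = diagPt M R' (φ.toMonoidHom.comp χ) := by
  ext1
  simp only [diagPt, sp, Over.comp_left, Over.homMk_left]
  change Spec.map _ ≫ Spec.map _ = Spec.map _
  rw [← Spec.map_comp]
  congr 1
  rw [← CommRingCat.ofHom_comp]
  congr 1
  have : φ.comp (MonoidAlgebra.lift k R (Multiplicative M) χ) =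
      MonoidAlgebra.lift k R' (Multiplicative M) (φ.toMonoidHom.comp χ) := by
    refine MonoidAlgebra.algHom_ext (fun n => ?_) (Subsingleton.elim _ _)
    simp
  exact congrArg AlgHom.toRingHom this

end Diag

section DS

/-- every ring is a `ℤ`-algebra -/
@[reducible] noncomputable def algZ (R : Type u) [CommRing R] : Algebra (ULift.{u} ℤ) R :=
  ((algebraMap ℤ R).comp ULift.ringEquiv.toRingHom).toAlgebra

attribute [local instance 10] algZ

variable {K : Type u} [CommRing K] (M : Type) [AddCommGroup M]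

/-- the structure map to `Spec ℤ` -/
noncomputable abbrev toZ (K : Type u) [CommRing K] :
    Spec (CommRingCat.of K) ⟶ Spec (CommRingCat.of (ULift.{u} ℤ)) :=
  Limits.IsTerminal.from specULiftZIsTerminal _

/-- `Spec R` over `Spec ℤ` -/
noncomputable def zIso (R : Type u) [CommRing R] [Algebra K R] :
    (Over.map (toZ K)).obj (DE K R) ≅ DE (ULift.{u} ℤ) R :=
  Over.isoMk (Iso.refl _) (specULiftZIsTerminal.hom_ext _ _)

lemma zIso_naturality {R R' : Type u} [CommRing R] [Algebra K R] [CommRing R'] [Algebra K R']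
    (φ : R →ₐ[K] R') (φ' : R →ₐ[ULift.{u} ℤ] R') (h : ∀ r, φ r = φ' r) :
    (Over.map (toZ K)).map (sp φ) ≫ (zIso (K := K) R).hom = (zIso (K := K) R').hom ≫ sp φ' := by
  ext1
  simp only [zIso, sp, Over.comp_left, Over.homMk_left, Over.map_map_left, Over.isoMk_hom_left,
    Iso.refl_hom]
  have : φ.toRingHom = φ'.toRingHom := RingHom.ext h
  rw [this]
  erw [Category.comp_id]

/-- `R`-valued points of `D(M)` over `Spec K` are the characters `M → R` (`R` a `K`-algebra). -/
noncomputable def dsPt (R : Type u) [CommRing R] [Algebra K R] :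
    (Multiplicative M →* R) ≃* (DE K R ⟶ Red.DS (Spec (CommRingCat.of K)) M) where
  toFun χ := bcMulEquiv (toZ K) (DE K R) (Red.diag (ULift.{u} ℤ) M)
    ((zIso R).hom ≫ diagPt (k := ULift.{u} ℤ) M R χ)
  invFun x := (diagPt (k := ULift.{u} ℤ) M R).symm
    ((zIso R).inv ≫ (bcMulEquiv (toZ K) (DE K R) (Red.diag (ULift.{u} ℤ) M)).symm x)
  left_inv χ := by
    beta_reduce
    rw [MulEquiv.symm_apply_apply, Iso.inv_hom_id_assoc, MulEquiv.symm_apply_apply]
  right_inv x := by
    beta_reduce
    rw [MulEquiv.apply_symm_apply, Iso.hom_inv_id_assoc, MulEquiv.apply_symm_apply]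
  map_mul' χ χ' := by
    rw [map_mul (diagPt (k := ULift.{u} ℤ) M R), MonObj.comp_mul, map_mul]

lemma sp_dsPt {R R' : Type u} [CommRing R] [Algebra K R] [CommRing R'] [Algebra K R']
    (φ : R →ₐ[K] R') (χ : Multiplicative M →* R) :
    sp φ ≫ dsPt (K := K) M R χ = dsPt M R' (φ.toMonoidHom.comp χ) := by
  let φ' : R →ₐ[ULift.{u} ℤ] R' := ⟨φ.toRingHom, fun r => by
    have : (φ.toRingHom.comp (algebraMap (ULift.{u} ℤ) R)).comp ULift.ringEquiv.symm.toRingHom =
      (algebraMap (ULift.{u} ℤ) R').comp ULift.ringEquiv.symm.toRingHom := Subsingleton.elim _ _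
    exact congr($this r.down)⟩
  change sp φ ≫ bcEquiv _ _ _ _ = bcEquiv _ _ _ _
  rw [← comp_bcEquiv, ← Category.assoc, zIso_naturality φ φ' (fun _ => rfl), Category.assoc,
    sp_diagPt]

end DS

end Groth.Agent.Sga3B.DSAffPts
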