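import Mathlib.RingTheory.FiniteType
import Mathlib.RingTheory.TensorProduct.Basic
import Mathlib.RingTheory.Flat.Basic
import Mathlib.LinearAlgebra.TensorProduct.Finiteness
import Mathlib.RingTheory.TensorProduct.Maps
import Mathlib.RingTheory.Adjoin.FG
import Mathlib.RingTheory.Nullstellensatz
import Mathlib.FieldTheory.IsAlgClosed.Basic

set_option autoImplicit false
universe u

open scoped TensorProduct

namespace Groth.Agent.Sga3B.Fg

variable {K : Type u} [CommRing K] {A B Ω : Type u} [CommRing A] [CommRing B] [CommRing Ω]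
  [Algebra K A] [Algebra K B] [Algebra K Ω]

/-- The base change along the inclusion of a subalgebra. -/
noncomputable abbrev incl (A : Type u) [CommRing A] [Algebra K A] (R : Subalgebra K Ω) :
    A ⊗[K] R →ₐ[K] A ⊗[K] Ω :=
  Algebra.TensorProduct.map (AlgHom.id K A) R.val

lemma incl_injective [Module.Flat K A] (R : Subalgebra K Ω) : Function.Injective (incl A R) := by
  have := Module.Flat.lTensor_preserves_injective_linearMap (M := A) R.val.toLinearMap
    Subtype.val_injective
  exact this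

lemma exists_fg_mem_range (x : A ⊗[K] Ω) :
    ∃ R : Subalgebra K Ω, R.FG ∧ ∀ R' : Subalgebra K Ω, R ≤ R' → x ∈ (incl A R').range := by
  classical
  obtain ⟨s, hs⟩ := TensorProduct.exists_finset x
  refine ⟨Algebra.adjoin K (s.image Prod.snd : Set Ω), ⟨s.image Prod.snd, by simp⟩, ?_⟩
  intro R' hR'
  rw [hs]
  refine Subalgebra.sum_mem _ fun i hi => ?_
  have : i.2 ∈ R' := hR' (Algebra.subset_adjoin (by
    simp only [Finset.coe_image, Set.mem_image, Finset.mem_coe]
    exact ⟨i, hi, rfl⟩))
  exact ⟨i.1 ⊗ₜ ⟨i.2, this⟩, by simp⟩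

lemma exists_fg_factor [Module.Flat K A] [Algebra.FiniteType K B] (φ : B →ₐ[K] A ⊗[K] Ω) :
    ∃ R : Subalgebra K Ω, R.FG ∧ ∀ R' : Subalgebra K Ω, R ≤ R' →
      ∃ φ' : B →ₐ[K] A ⊗[K] R', (incl A R').comp φ' = φ := by
  classical
  obtain ⟨s, hs⟩ := (inferInstance : Algebra.FiniteType K B).out
  choose R hR hR' using fun b : B => exists_fg_mem_range (φ b)
  refine ⟨s.sup R, ?_, ?_⟩
  · clear hs
    induction s using Finset.induction_on with
    | empty => simpa using Subalgebra.fg_bot
    | insert a s ha ih =>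
      rw [Finset.sup_insert]
      exact (hR a).sup ih
  · intro R' h
    have hle : φ.range ≤ (incl A R').range := by
      rw [← Algebra.map_top, ← hs, AlgHom.map_adjoin, Algebra.adjoin_le_iff]
      rintro _ ⟨b, hb, rfl⟩
      exact hR' b R' ((Finset.le_sup hb).trans h)
    let e := AlgEquiv.ofInjective (incl A R') (incl_injective R')
    refine ⟨(e.symm : _ →ₐ[K] _).comp (φ.codRestrict _ fun b => hle ⟨b, rfl⟩), ?_⟩
    ext b
    have := e.apply_symm_apply ⟨φ b, hle ⟨b, rfl⟩⟩
    exact congrArg Subtype.val this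

lemma exists_point {K Ω : Type u} [Field K] [CommRing Ω] [Algebra K Ω] [IsAlgClosed K]
    [Nontrivial Ω] (R : Subalgebra K Ω) (hR : R.FG) :
    Nonempty (R →ₐ[K] K) := by
  have : Algebra.FiniteType K R := (Subalgebra.fg_iff_finiteType R).mp hR
  obtain ⟨m, hm⟩ := Ideal.exists_maximal R
  let := Ideal.Quotient.field m
  have : Algebra.FiniteType K (R ⧸ m) := .of_surjective (Ideal.Quotient.mkₐ K m)
    (Ideal.Quotient.mkₐ_surjective K m)
  have : Module.Finite K (R ⧸ m) := finite_of_finite_type_of_isJacobsonRing K (R ⧸ m)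
  have hb := IsAlgClosed.algebraMap_bijective_of_isIntegral (k := K) (K := R ⧸ m)
  exact ⟨((AlgEquiv.ofBijective (Algebra.ofId K (R ⧸ m)) hb).symm : _ →ₐ[K] _).comp
    (Ideal.Quotient.mkₐ K m)⟩

end Groth.Agent.Sga3B.Fg
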