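import Mathlib.AlgebraicGeometry.Group.Affine
import Mathlib.AlgebraicGeometry.Limits
import Mathlib.AlgebraicGeometry.Morphisms.Flat
import Groth.Agent.Sga3B.Fg
import Groth.Agent.Sga3B.Pts

set_option autoImplicit false
open CategoryTheory MonoidalCategory CartesianMonoidalCategory MonObj GrpObj AlgebraicGeometry Opposite
universe u

open scoped TensorProduct

namespace Groth.Agent.Sga3B.Desc

variable {R : CommRingCat.{u}}

variable (R) in
/-- `Spec A` as a scheme over `Spec R`. -/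
noncomputable abbrev sp (A : Type u) [CommRing A] [Algebra R A] : Over (Spec R) :=
  (algSpec R).obj (op (CommAlgCat.of R A))

/-- `Spec` of an algebra homomorphism. -/
noncomputable abbrev spMap {A B : Type u} [CommRing A] [CommRing B] [Algebra R A] [Algebra R B]
    (f : A →ₐ[R] B) : sp R B ⟶ sp R A :=
  (algSpec R).map (CommAlgCat.ofHom f).op

lemma spMap_injective {A B : Type u} [CommRing A] [CommRing B] [Algebra R A] [Algebra R B]
    {f g : A →ₐ[R] B} (h : spMap f = spMap g) : f = g := by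
  have := (algSpec R).map_injective h
  exact congrArg (fun t => t.unop.hom) this

lemma spMap_surjective {A B : Type u} [CommRing A] [CommRing B] [Algebra R A] [Algebra R B]
    (g : sp R B ⟶ sp R A) : ∃ f : A →ₐ[R] B, spMap f = g :=
  ⟨((algSpec R).preimage g).unop.hom, (algSpec R).map_preimage g⟩

lemma spMap_comp {A B C : Type u} [CommRing A] [CommRing B] [CommRing C] [Algebra R A] [Algebra R B]
    [Algebra R C] (f : A →ₐ[R] B) (g : B →ₐ[R] C) : spMap (g.comp f) = spMap g ≫ spMap f := by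
  rw [spMap, spMap, spMap, ← Functor.map_comp]
  rfl

lemma spMap_id {A : Type u} [CommRing A] [Algebra R A] : spMap (AlgHom.id R A) = 𝟙 (sp R A) :=
  (algSpec R).map_id _

/-- The product of two affine schemes. -/
noncomputable def prodIso (A B : Type u) [CommRing A] [CommRing B] [Algebra R A] [Algebra R B] :
    sp R A ⊗ sp R B ≅ sp R (A ⊗[R] B) :=
  Functor.Monoidal.μIso (algSpec R) (op (CommAlgCat.of R A)) (op (CommAlgCat.of R B)) 

lemma whiskerLeft_prodIso (A : Type u) {B C : Type u} [CommRing A] [CommRing B] [CommRing C] [Algebra R A]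
    [Algebra R B] [Algebra R C] (f : B →ₐ[R] C) :
    (sp R A ◁ spMap f) ≫ (prodIso A B).hom =
      (prodIso A C).hom ≫ spMap (Algebra.TensorProduct.map (AlgHom.id R A) f) :=
  Functor.LaxMonoidal.μ_natural_right (algSpec R) (op (CommAlgCat.of R A)) (CommAlgCat.ofHom f).op

/-- An affine scheme over `Spec R` is `Spec` of an `R`-algebra. -/
lemma exists_iso_sp (X : Over (Spec R)) [IsAffine X.left] :
    ∃ (A : Type u) (_ : CommRing A) (_ : Algebra R A), Nonempty (sp R A ≅ X) := by
  obtain ⟨A, ⟨e⟩⟩ := essImage_algSpec.mpr (inferInstance : IsAffine X.left)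
  exact ⟨A.unop, inferInstance, inferInstance, ⟨e⟩⟩

lemma finiteType_of_iso_sp (X : Over (Spec R)) [LocallyOfFiniteType X.hom] {A : Type u} [CommRing A] [Algebra R A]
    (e : sp R A ≅ X) : Algebra.FiniteType R A := by
  have h1 : LocallyOfFiniteType (sp R A).hom := by
    rw [← Over.w e.hom]
    infer_instance
  have h2 : LocallyOfFiniteType (Spec.map (CommRingCat.ofHom (algebraMap R A))) := h1
  rw [HasRingHomProperty.Spec_iff (P := @LocallyOfFiniteType)] at h2
  simpa [RingHom.finiteType_algebraMap] using h2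

lemma flat_of_iso_sp (X : Over (Spec R)) [Flat X.hom] {A : Type u} [CommRing A] [Algebra R A]
    (e : sp R A ≅ X) : Module.Flat R A := by
  have h1 : Flat (sp R A).hom := by
    rw [← Over.w e.hom]
    infer_instance
  have h2 : Flat (Spec.map (CommRingCat.ofHom (algebraMap R A))) := h1
  rw [HasRingHomProperty.Spec_iff (P := @Flat)] at h2
  simpa [RingHom.flat_algebraMap_iff] using h2

section
variable {Ω : Type u} [CommRing Ω] [Algebra R Ω] {X Y Z : Over (Spec R)}

/-- Morphisms from `X × Spec Ω` to an affine scheme of finite type descend to `X × Spec R'`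
for a finitely generated subalgebra `R'` of `Ω`. -/
lemma exists_descend [IsAffine X.left] [IsAffine Y.left] [LocallyOfFiniteType Y.hom] 
    [Flat X.hom] (ψ : X ⊗ sp R Ω ⟶ Y) :
    ∃ T : Subalgebra R Ω, T.FG ∧ ∀ T' : Subalgebra R Ω, T ≤ T' →
      ∃ ψ' : X ⊗ sp R T' ⟶ Y, (X ◁ spMap T'.val) ≫ ψ' = ψ := by
  obtain ⟨A, _, _, ⟨eX⟩⟩ := exists_iso_sp X
  obtain ⟨B, _, _, ⟨eY⟩⟩ := exists_iso_sp Y
  have : Algebra.FiniteType R B := finiteType_of_iso_sp Y eY
  have : Module.Flat R A := flat_of_iso_sp X eX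
  obtain ⟨φ, hφ⟩ := spMap_surjective ((prodIso A Ω).inv ≫ (eX.hom ▷ sp R Ω) ≫ ψ ≫ eY.inv)
  obtain ⟨T, hT, H⟩ := Fg.exists_fg_factor φ
  refine ⟨T, hT, fun T' hT' => ?_⟩
  obtain ⟨φ', hφ'⟩ := H T' hT'
  refine ⟨(eX.inv ▷ sp R T') ≫ (prodIso A T').hom ≫ spMap φ' ≫ eY.hom, ?_⟩
  rw [whisker_exchange_assoc, reassoc_of% (whiskerLeft_prodIso A T'.val)]
  rw [← hφ', spMap_comp] at hφ
  rw [reassoc_of% hφ]
  simp

/-- Cancellation of the dominant morphism `X × Spec Ω ⟶ X × Spec R'`. -/
lemma cancel_left {A' : Type u} [CommRing A'] [Algebra R A'] [IsAffine X.left] [IsAffine Y.left] [Flat X.hom]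
    (f : A' →ₐ[R] Ω) (hf : Function.Injective f)
    {h₁ h₂ : X ⊗ sp R A' ⟶ Y} (h : (X ◁ spMap f) ≫ h₁ = (X ◁ spMap f) ≫ h₂) : h₁ = h₂ := by
  obtain ⟨A, _, _, ⟨eX⟩⟩ := exists_iso_sp X
  obtain ⟨B, _, _, ⟨eY⟩⟩ := exists_iso_sp Y
  have : Module.Flat R A := flat_of_iso_sp X eX
  obtain ⟨φ₁, hφ₁⟩ := spMap_surjective ((prodIso A A').inv ≫ (eX.hom ▷ sp R A') ≫ h₁ ≫ eY.inv)
  obtain ⟨φ₂, hφ₂⟩ := spMap_surjective ((prodIso A A').inv ≫ (eX.hom ▷ sp R A') ≫ h₂ ≫ eY.inv)
  have key : φ₁ = φ₂ := by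
    have h3 : (Algebra.TensorProduct.map (AlgHom.id R A) f).comp φ₁ =
        (Algebra.TensorProduct.map (AlgHom.id R A) f).comp φ₂ := by
      apply spMap_injective
      rw [spMap_comp, spMap_comp, hφ₁, hφ₂, ← cancel_epi (prodIso A Ω).hom,
        ← reassoc_of% (whiskerLeft_prodIso A f), Iso.hom_inv_id_assoc,
        ← reassoc_of% (whiskerLeft_prodIso A f), Iso.hom_inv_id_assoc,
        whisker_exchange_assoc, whisker_exchange_assoc, reassoc_of% h]
    have hinj : Function.Injective (Algebra.TensorProduct.map (AlgHom.id R A) f) := by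
      have := Module.Flat.lTensor_preserves_injective_linearMap (M := A) f.toLinearMap hf
      exact this
    ext b
    exact hinj (DFunLike.congr_fun h3 b)
  have h4 := hφ₁.symm.trans ((congrArg spMap key).trans hφ₂)
  simp only [← Category.assoc, Iso.cancel_iso_inv_right] at h4
  simp only [Category.assoc, Iso.cancel_iso_inv_left] at h4
  rw [← cancel_epi (eX.hom ▷ sp R A')]
  exact h4

end

end Groth.Agent.Sga3B.Desc
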