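import Groth.Agent.Sga3B.PinModel

/-!
# Points of an affine group scheme over `S` with values in algebras over `s : Spec R ⟶ S`

`FA s G` = functions on the base change of `G` along `s : Spec R ⟶ S`, an `R`-algebra.
`ptEquiv s G B : Pt R (FA s G) B ≃ (tB s B ⟶ G)`, natural in `B` (`tMap_ptEquiv`) and in `G`
(`ptEquiv_comp`). For a group `G` this gives `PtGrp R (FA s G)`.
-/

set_option autoImplicit false
universe u

open CategoryTheory MonoidalCategory CartesianMonoidalCategory MonObj GrpObj AlgebraicGeometry Limits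

namespace Groth.Agent.Sga3B.Dict148

open Cell DSPts GaPts PinMod

section affine

variable {P : Scheme.{u}} {B : Type u} [CommRing B]

/-- the ring homomorphism of a point -/
noncomputable def toRing (h : Spec (CommRingCat.of B) ⟶ P) : Γ(P, ⊤) →+* B :=
  (h.appTop ≫ (Scheme.ΓSpecIso (CommRingCat.of B)).hom).hom

/-- the point of an affine scheme given by a ring homomorphism -/
noncomputable def toSch [IsAffine P] (f : Γ(P, ⊤) →+* B) : Spec (CommRingCat.of B) ⟶ P :=
  Spec.map (CommRingCat.ofHom f) ≫ P.isoSpec.inv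

lemma toRing_toSch [IsAffine P] (f : Γ(P, ⊤) →+* B) : toRing (toSch f) = f := by
  have h1 : P.isoSpec.inv.appTop ≫ (Scheme.ΓSpecIso Γ(P, ⊤)).hom = 𝟙 _ := by
    rw [← Scheme.toSpecΓ_appTop, ← Scheme.Hom.comp_appTop, Scheme.toSpecΓ_isoSpec_inv]
    rfl
  have h2 : (toSch f).appTop ≫ (Scheme.ΓSpecIso (CommRingCat.of B)).hom = CommRingCat.ofHom f := by
    rw [toSch, Scheme.Hom.comp_appTop, Category.assoc]
    have h3 := Scheme.ΓSpecIso_naturality (CommRingCat.ofHom f)
    exact (congrArg (fun z => P.isoSpec.inv.appTop ≫ z) h3).trans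
      ((Category.assoc _ _ _).symm.trans ((congrArg (fun z => z ≫ CommRingCat.ofHom f) h1).trans
        (Category.id_comp _)))
  exact congrArg CommRingCat.Hom.hom h2

lemma toRing_injective [IsAffine P] {h h' : Spec (CommRingCat.of B) ⟶ P}
    (e : toRing h = toRing h') : h = h' := by
  apply ext_of_isAffine
  rw [← cancel_mono (Scheme.ΓSpecIso (CommRingCat.of B)).hom]
  exact CommRingCat.hom_ext e

lemma toSch_toRing [IsAffine P] (h : Spec (CommRingCat.of B) ⟶ P) : toSch (toRing h) = h :=
  toRing_injective (toRing_toSch _)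

end affine

section FA

variable {S : Scheme.{u}} {R : Type u} [CommRing R] (s : Spec (CommRingCat.of R) ⟶ S) (G : Over S)

/-- Functions on the base change of `G` along `s : Spec R ⟶ S`. -/
def FA : Type u := Γ(pullback G.hom s, ⊤)

noncomputable instance : CommRing (FA s G) := inferInstanceAs (CommRing Γ(pullback G.hom s, ⊤))

noncomputable instance : Algebra R (FA s G) :=
  ((Scheme.ΓSpecIso (CommRingCat.of R)).inv ≫ (pullback.snd G.hom s).appTop).hom.toAlgebra

lemma algebraMap_FA : CommRingCat.ofHom (algebraMap R (FA s G)) =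
    (Scheme.ΓSpecIso (CommRingCat.of R)).inv ≫ (pullback.snd G.hom s).appTop := rfl

variable {B C : Type u} [CommRing B] [Algebra R B] [CommRing C] [Algebra R C]

omit [Algebra R B] in
lemma comp_algebraMap_FA (h : Spec (CommRingCat.of B) ⟶ pullback G.hom s) :
    (toRing h).comp (algebraMap R (FA s G)) = (((Scheme.ΓSpecIso (CommRingCat.of R)).inv ≫
      (h ≫ pullback.snd G.hom s).appTop ≫ (Scheme.ΓSpecIso (CommRingCat.of B)).hom).hom : R →+* B) := by
  rw [Scheme.Hom.comp_appTop, Category.assoc]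
  rfl

/-- the morphism to the base change given by a point -/
noncomputable def toP {s : Spec (CommRingCat.of R) ⟶ S} {G : Over S} (x : tB s B ⟶ G) :
    Spec (CommRingCat.of B) ⟶ pullback G.hom s :=
  pullback.lift x.left (Spec.map (CommRingCat.ofHom (algebraMap R B))) (Over.w x)

@[reassoc (attr := simp)]
lemma toP_fst {s : Spec (CommRingCat.of R) ⟶ S} {G : Over S} (x : tB s B ⟶ G) :
    toP x ≫ pullback.fst G.hom s = x.left := pullback.lift_fst _ _ _

@[reassoc (attr := simp)]
lemma toP_snd {s : Spec (CommRingCat.of R) ⟶ S} {G : Over S} (x : tB s B ⟶ G) :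
    toP x ≫ pullback.snd G.hom s = Spec.map (CommRingCat.ofHom (algebraMap R B)) :=
  pullback.lift_snd _ _ _

lemma toRing_toP_algebraMap {s : Spec (CommRingCat.of R) ⟶ S} {G : Over S} (x : tB s B ⟶ G) :
    (toRing (toP x)).comp (algebraMap R (FA s G)) = algebraMap R B := by
  rw [comp_algebraMap_FA, toP_snd]
  have h3 := Scheme.ΓSpecIso_naturality (CommRingCat.ofHom (algebraMap R B))
  rw [h3, Iso.inv_hom_id_assoc]
  rfl

/-- the point given by a morphism over `S` -/
noncomputable def ofHomPt {s : Spec (CommRingCat.of R) ⟶ S} {G : Over S} (x : tB s B ⟶ G) :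
    Pt R (FA s G) B :=
  Pt.mk { toRing (toP x) with commutes' := fun r => RingHom.congr_fun (toRing_toP_algebraMap x) r }

lemma ofHomPt_hom_apply {s : Spec (CommRingCat.of R) ⟶ S} {G : Over S} (x : tB s B ⟶ G)
    (a : FA s G) : (ofHomPt x).hom a = toRing (toP x) a := rfl

instance [IsAffineHom G.hom] : IsAffine (pullback G.hom s) :=
  isAffine_of_isAffineHom (pullback.snd G.hom s)

variable {s G} in
lemma toSch_snd [IsAffineHom G.hom] (f : Pt R (FA s G) B) :
    toSch (P := pullback G.hom s) (f.hom : FA s G →+* B) ≫ pullback.snd G.hom s =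
      Spec.map (CommRingCat.ofHom (algebraMap R B)) := by
  apply ext_of_isAffine
  rw [← cancel_mono (Scheme.ΓSpecIso (CommRingCat.of B)).hom,
    ← cancel_epi (Scheme.ΓSpecIso (CommRingCat.of R)).inv]
  have h1 := comp_algebraMap_FA (B := B) s G (toSch (P := pullback G.hom s) (f.hom : FA s G →+* B))
  have h2 : (toRing (toSch (P := pullback G.hom s) (f.hom : FA s G →+* B))).comp
      (algebraMap R (FA s G)) = algebraMap R B := by
    rw [toRing_toSch]
    exact f.hom.comp_algebraMap
  have h3 := Scheme.ΓSpecIso_naturality (CommRingCat.ofHom (algebraMap R B))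
  rw [h3, Iso.inv_hom_id_assoc]
  apply CommRingCat.hom_ext
  exact h1.symm.trans h2

/-- the morphism over `S` given by a point -/
noncomputable def toHomPt {s : Spec (CommRingCat.of R) ⟶ S} {G : Over S} [IsAffineHom G.hom]
    (f : Pt R (FA s G) B) : tB s B ⟶ G :=
  Over.homMk (toSch (P := pullback G.hom s) (f.hom : FA s G →+* B) ≫ pullback.fst G.hom s) (by
    simp only [Over.mk_left, Over.mk_hom]
    rw [Category.assoc, pullback.condition, ← Category.assoc, toSch_snd])

lemma toP_toHomPt {s : Spec (CommRingCat.of R) ⟶ S} {G : Over S} [IsAffineHom G.hom]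
    (f : Pt R (FA s G) B) :
    toP (toHomPt f) = toSch (P := pullback G.hom s) (f.hom : FA s G →+* B) := by
  apply pullback.hom_ext
  · rw [toP_fst]; rfl
  · rw [toP_snd, toSch_snd]

/-- **Points of `FA s G` are points of `G`.** -/
noncomputable def ptEquiv [IsAffineHom G.hom] (B : Type u) [CommRing B] [Algebra R B] :
    Pt R (FA s G) B ≃ (tB s B ⟶ G) where
  toFun := toHomPt
  invFun := ofHomPt
  left_inv f := by
    apply Pt.ext
    intro a
    rw [ofHomPt_hom_apply, toP_toHomPt, toRing_toSch]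
    rfl
  right_inv x := by
    ext1
    change toSch (toRing (toP x)) ≫ _ = _
    rw [toSch_toRing, toP_fst]

lemma ptEquiv_symm_hom_apply [IsAffineHom G.hom] (x : tB s B ⟶ G) (a : FA s G) :
    ((ptEquiv s G B).symm x).hom a = toRing (toP x) a := rfl

lemma toP_tMap {s : Spec (CommRingCat.of R) ⟶ S} {G : Over S} (φ : B →ₐ[R] C) (x : tB s B ⟶ G) :
    toP (tMap s φ ≫ x) = Spec.map (CommRingCat.ofHom (φ : B →+* C)) ≫ toP x := by
  apply pullback.hom_ext
  · rw [toP_fst, Category.assoc, toP_fst]; rfl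
  · rw [toP_snd, Category.assoc, toP_snd, ← Spec.map_comp, ← CommRingCat.ofHom_comp,
      AlgHom.comp_algebraMap]

lemma toRing_comp {P : Scheme.{u}} (φ : B →+* C) (h : Spec (CommRingCat.of B) ⟶ P) :
    toRing (Spec.map (CommRingCat.ofHom φ) ≫ h) = φ.comp (toRing h) := by
  have h3 := Scheme.ΓSpecIso_naturality (CommRingCat.ofHom φ)
  have : (Spec.map (CommRingCat.ofHom φ) ≫ h).appTop ≫ (Scheme.ΓSpecIso (CommRingCat.of C)).hom =
      (h.appTop ≫ (Scheme.ΓSpecIso (CommRingCat.of B)).hom) ≫ CommRingCat.ofHom φ := by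
    rw [Scheme.Hom.comp_appTop, Category.assoc, Category.assoc, h3]
  exact congrArg CommRingCat.Hom.hom this

/-- naturality in the algebra -/
lemma tMap_ptEquiv [IsAffineHom G.hom] (φ : B →ₐ[R] C) (f : Pt R (FA s G) B) :
    tMap s φ ≫ ptEquiv s G B f = ptEquiv s G C (Pt.map φ f) := by
  apply (ptEquiv s G C).symm.injective
  rw [Equiv.symm_apply_apply]
  apply Pt.ext
  intro a
  rw [ptEquiv_symm_hom_apply, toP_tMap, toRing_comp]
  change φ (((ptEquiv s G B).symm (ptEquiv s G B f)).hom a) = _
  rw [Equiv.symm_apply_apply]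
  rfl

lemma ptEquiv_symm_tMap [IsAffineHom G.hom] (φ : B →ₐ[R] C) (x : tB s B ⟶ G) :
    (ptEquiv s G C).symm (tMap s φ ≫ x) = Pt.map φ ((ptEquiv s G B).symm x) := by
  apply (ptEquiv s G C).injective
  rw [Equiv.apply_symm_apply, ← tMap_ptEquiv, Equiv.apply_symm_apply]

variable {G} {H : Over S}

/-- functoriality of `FA` in the scheme -/
noncomputable def FAmap (h : G ⟶ H) : FA s H →ₐ[R] FA s G :=
  { (pullback.map G.hom s H.hom s h.left (𝟙 _) (𝟙 _) (by simp) (by simp)).appTop.hom with
    commutes' := fun r => by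
      have h1 : (Scheme.ΓSpecIso (CommRingCat.of R)).inv ≫ (pullback.snd H.hom s).appTop ≫
          (pullback.map G.hom s H.hom s h.left (𝟙 _) (𝟙 _) (by simp) (by simp)).appTop =
          (Scheme.ΓSpecIso (CommRingCat.of R)).inv ≫ (pullback.snd G.hom s).appTop := by
        rw [← Scheme.Hom.comp_appTop]
        congr 2
        exact (pullback.lift_snd _ _ _).trans (Category.comp_id _)
      exact congr(CommRingCat.Hom.hom $h1 r) }

lemma FAmap_apply (h : G ⟶ H) (a : FA s H) : FAmap s h a =
    (pullback.map G.hom s H.hom s h.left (𝟙 _) (𝟙 _) (by simp) (by simp)).appTop.hom a := rfl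

/-- naturality in the scheme -/
lemma ptEquiv_symm_comp [IsAffineHom G.hom] [IsAffineHom H.hom] (x : tB s B ⟶ G) (h : G ⟶ H) :
    ((ptEquiv s H B).symm (x ≫ h)).hom = (((ptEquiv s G B).symm x).hom).comp (FAmap s h) := by
  apply AlgHom.ext
  intro a
  have h1 : toP (x ≫ h) = toP x ≫ pullback.map G.hom s H.hom s h.left (𝟙 _) (𝟙 _) (by simp) (by simp) := by
    apply pullback.hom_ext
    · rw [toP_fst, Category.assoc]
      refine Eq.trans ?_ (congrArg (fun z => toP x ≫ z) (pullback.lift_fst _ _ _).symm)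
      rw [toP_fst_assoc]
      rfl
    · rw [toP_snd, Category.assoc]
      refine Eq.trans ?_ (congrArg (fun z => toP x ≫ z) (pullback.lift_snd _ _ _).symm)
      rw [Category.comp_id, toP_snd]
  rw [ptEquiv_symm_hom_apply, h1]
  rfl

end FA

section grp

variable {S : Scheme.{u}} {R : Type u} [CommRing R] (s : Spec (CommRingCat.of R) ⟶ S) (G : Over S)
variable [IsAffineHom G.hom] [GrpObj G]

/-- The group structure on the points. -/
noncomputable instance ptGrp : PtGrp R (FA s G) where
  grp B _ _ := (ptEquiv s G B).group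
  map_mul' {B C} _ _ _ _ φ f g := by
    let _ : Group (Pt R (FA s G) B) := (ptEquiv s G B).group
    let _ : Group (Pt R (FA s G) C) := (ptEquiv s G C).group
    apply (ptEquiv s G C).injective
    change ptEquiv s G C (Pt.map φ ((ptEquiv s G B).symm (ptEquiv s G B f * ptEquiv s G B g))) =
      ptEquiv s G C ((ptEquiv s G C).symm (ptEquiv s G C (Pt.map φ f) * ptEquiv s G C (Pt.map φ g)))
    rw [Equiv.apply_symm_apply, ← tMap_ptEquiv, ← tMap_ptEquiv, ← tMap_ptEquiv,
      Equiv.apply_symm_apply, MonObj.comp_mul]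

/-- Points of `FA s G` are points of `G`, as groups. -/
noncomputable def pts (B : Type u) [CommRing B] [Algebra R B] : Pt R (FA s G) B ≃* (tB s B ⟶ G) where
  toEquiv := ptEquiv s G B
  map_mul' f g := by
    change ptEquiv s G B ((ptEquiv s G B).symm (ptEquiv s G B f * ptEquiv s G B g)) = _
    rw [Equiv.apply_symm_apply]
    rfl

variable {B C : Type u} [CommRing B] [Algebra R B] [CommRing C] [Algebra R C]

lemma pts_nat (φ : B →ₐ[R] C) (g : Pt R (FA s G) B) :
    tMap s φ ≫ pts s G B g = pts s G C (Pt.map φ g) := tMap_ptEquiv s G φ g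

lemma pts_symm_nat (φ : B →ₐ[R] C) (x : tB s B ⟶ G) :
    (pts s G C).symm (tMap s φ ≫ x) = Pt.map φ ((pts s G B).symm x) := ptEquiv_symm_tMap s G φ x

end grp

end Groth.Agent.Sga3B.Dict148
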