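import Groth.Agent.Sga3B.Dict148
import Groth.Prelude.Def_Red2
import Mathlib.AlgebraicGeometry.Morphisms.ClosedImmersion

/-!
# The datum of a split reductive group over `s : Spec R ⟶ S`
-/

set_option autoImplicit false
universe u

open CategoryTheory MonoidalCategory CartesianMonoidalCategory MonObj GrpObj AlgebraicGeometry Limits

namespace Groth.Agent.Sga3B.Dict148

open Cell DSPts GaPts PinMod

section basic

variable {S : Scheme.{u}} {R : Type u} [CommRing R] (s : Spec (CommRingCat.of R) ⟶ S)
variable {B C : Type u} [CommRing B] [Algebra R B] [CommRing C] [Algebra R C]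
variable {M : Type} [AddCommGroup M]

/-- composition with a homomorphism -/
def postHom {X Y : Over S} [GrpObj X] [GrpObj Y] (h : X ⟶ Y) [IsMonHom h] (T : Over S) :
    (T ⟶ X) →* (T ⟶ Y) where
  toFun x := x ≫ h
  map_one' := MonObj.one_comp h
  map_mul' x y := MonObj.mul_comp x y h

lemma postHom_apply {X Y : Over S} [GrpObj X] [GrpObj Y] (h : X ⟶ Y) [IsMonHom h] (T : Over S)
    (x : T ⟶ X) : postHom h T x = x ≫ h := rfl

/-- `chΓ` as a homomorphism -/
noncomputable def chHom (B : Type u) [CommRing B] [Algebra R B] (M : Type) [AddCommGroup M] :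
    TPt M B →* (Multiplicative M →* Γ((tB s B).left, ⊤)) where
  toFun t := chΓ s t
  map_one' := by
    apply MonoidHom.ext
    intro m
    exact map_one (Scheme.ΓSpecIso (CommRingCat.of B)).inv.hom
  map_mul' t t' := by
    apply MonoidHom.ext
    intro m
    exact map_mul (Scheme.ΓSpecIso (CommRingCat.of B)).inv.hom _ _

lemma ΓSpecIso_inv_injective : Function.Injective (Scheme.ΓSpecIso (CommRingCat.of B)).inv.hom := by
  intro x y h
  have h1 := congrArg (Scheme.ΓSpecIso (CommRingCat.of B)).hom.hom h
  have h2 : ∀ z : B, (Scheme.ΓSpecIso (CommRingCat.of B)).hom.hom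
      ((Scheme.ΓSpecIso (CommRingCat.of B)).inv.hom z) = z := fun z =>
    congr(CommRingCat.Hom.hom $((Scheme.ΓSpecIso (CommRingCat.of B)).inv_hom_id) z)
  rwa [h2, h2] at h1

lemma chΓ_injective : Function.Injective (chΓ s : TPt M B → _) := by
  intro t t' h
  apply MonoidHom.ext
  intro m
  apply Units.ext
  exact ΓSpecIso_inv_injective (DFunLike.congr_fun h m)

lemma appTop_fnOf (φ : B →ₐ[R] C) (x : B) : (tMap s φ).left.appTop (fnOf s x) = fnOf s (φ x) :=
  (congr(CommRingCat.Hom.hom $(Scheme.ΓSpecIso_inv_naturality (CommRingCat.ofHom (φ : B →+* C))) x)).symm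

lemma tMap_dsEquiv (φ : B →ₐ[R] C) (t : TPt M B) :
    tMap s φ ≫ dsEquiv (tB s B) M (chΓ s t) = dsEquiv (tB s C) M (chΓ s (TPt.map φ t)) := by
  rw [dsEquiv_naturality]
  congr 1
  apply MonoidHom.ext
  intro m
  exact appTop_fnOf s φ ((t m : Bˣ) : B)

lemma fnOf_add (x y : B) : fnOf s (x + y) = fnOf s x + fnOf s y :=
  map_add (Scheme.ΓSpecIso (CommRingCat.of B)).inv.hom x y

lemma fnOf_mul (x y : B) : fnOf s (x * y) = fnOf s x * fnOf s y :=
  map_mul (Scheme.ΓSpecIso (CommRingCat.of B)).inv.hom x y

lemma tMap_gaPt (φ : B →ₐ[R] C) (x : B) :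
    tMap s φ ≫ gaPt (tB s B) (fnOf s x) = gaPt (tB s C) (fnOf s (φ x)) := by
  rw [comp_gaPt, appTop_fnOf]

/-- the coordinate function on `Ga` over `R` -/
noncomputable def coordFA : FA s (Red.Ga S) := Red.gaFn (𝟙 (Red.Ga S)) |> fun f =>
  (pullback.fst (Red.Ga S).hom s).appTop f

lemma ptEquiv_symm_coord (x : tB s B ⟶ Red.Ga S) :
    toRing (toP x) (coordFA s) = (Scheme.ΓSpecIso (CommRingCat.of B)).hom (Red.gaFn x) := by
  have h1 : (toP x).appTop ((pullback.fst (Red.Ga S).hom s).appTop (Red.gaFn (𝟙 (Red.Ga S)))) =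
      Red.gaFn x := by
    have h2 : (toP x ≫ pullback.fst (Red.Ga S).hom s).appTop = x.left.appTop := by rw [toP_fst]
    rw [Scheme.Hom.comp_appTop] at h2
    have h3 := gaFn_comp x (𝟙 (Red.Ga S))
    rw [Category.comp_id] at h3
    rw [h3]
    exact congr(CommRingCat.Hom.hom $h2 (Red.gaFn (𝟙 (Red.Ga S))))
  change (Scheme.ΓSpecIso (CommRingCat.of B)).hom ((toP x).appTop
    ((pullback.fst (Red.Ga S).hom s).appTop (Red.gaFn (𝟙 (Red.Ga S))))) = _
  rw [h1]

instance : IsAffineHom (Red.Ga S).hom := by
  have h : IsAffineHom (Red.GaZ.{u}).hom := by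
    change IsAffineHom (Spec.map _)
    infer_instance
  exact MorphismProperty.pullback_snd (P := @IsAffineHom) _ _ h

lemma FAmap_surjective {G H : Over S} [IsAffineHom G.hom] [IsAffineHom H.hom] (h : H ⟶ G)
    [IsClosedImmersion h.left] : Function.Surjective (FAmap s h) := by
  have hci : IsClosedImmersion (pullback.map H.hom s G.hom s h.left (𝟙 _) (𝟙 _) (by simp) (by simp)) := by
    have h1 : IsClosedImmersion ((Over.pullback s).map h).left := by
      have h0 := (inferInstance : IsClosedImmersion h.left)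
      have sq1 : IsPullback (pullback.fst G.hom s) (pullback.snd G.hom s) G.hom s :=
        IsPullback.of_hasPullback _ _
      have sq2 : IsPullback (pullback.fst H.hom s) (pullback.snd H.hom s) (h.left ≫ G.hom) s := by
        rw [Over.w]; exact IsPullback.of_hasPullback _ _
      have e1 : ((Over.pullback s).map h).left ≫ pullback.fst G.hom s =
          pullback.fst H.hom s ≫ h.left := pullback.lift_fst _ _ _
      have e2 : ((Over.pullback s).map h).left ≫ pullback.snd G.hom s = pullback.snd H.hom s :=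
        pullback.lift_snd _ _ _
      have sq3 : IsPullback (((Over.pullback s).map h).left ≫ pullback.snd G.hom s)
          (pullback.fst H.hom s) s (h.left ≫ G.hom) := by
        rw [e2]
        exact sq2.flip
      have sq4 : IsPullback (pullback.fst H.hom s) ((Over.pullback s).map h).left h.left
          (pullback.fst G.hom s) := (IsPullback.of_right sq3 e1 sq1.flip).flip
      exact MorphismProperty.of_isPullback sq4 h0
    have h2 : ((Over.pullback s).map h).left =
        pullback.map H.hom s G.hom s h.left (𝟙 _) (𝟙 _) (by simp) (by simp) := by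
      apply pullback.hom_ext
      · exact (pullback.lift_fst _ _ _).trans (pullback.lift_fst _ _ _).symm
      · refine (pullback.lift_snd _ _ _).trans ?_
        exact ((pullback.lift_snd _ _ _).trans (Category.comp_id _)).symm
    rw [← h2]
    exact h1
  obtain ⟨-, h3⟩ := @IsClosedImmersion.isAffine_surjective_of_isAffine _ _ _ _ hci
  exact h3

open Polynomial in
lemma point_X_surjective : Function.Surjective
    ((ptEquiv s (Red.Ga S) R[X]).symm (gaPt (tB s R[X]) (fnOf s (X : R[X])))).hom := by
  have hX : (X : R[X]) ∈ (((ptEquiv s (Red.Ga S) R[X]).symm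
      (gaPt (tB s R[X]) (fnOf s (X : R[X])))).hom).range := by
    refine ⟨coordFA s, ?_⟩
    refine (ptEquiv_symm_coord s _).trans ?_
    rw [gaFn_gaPt]
    exact congr(CommRingCat.Hom.hom $((Scheme.ΓSpecIso (CommRingCat.of R[X])).inv_hom_id) X)
  have htop : (((ptEquiv s (Red.Ga S) R[X]).symm
      (gaPt (tB s R[X]) (fnOf s (X : R[X])))).hom).range = ⊤ := by
    rw [eq_top_iff, ← Polynomial.adjoin_X, Algebra.adjoin_le_iff]
    rintro _ rfl
    exact hX
  intro y
  have : y ∈ (((ptEquiv s (Red.Ga S) R[X]).symm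
      (gaPt (tB s R[X]) (fnOf s (X : R[X])))).hom).range := by rw [htop]; trivial
  exact this

end basic

section datum

variable {S : Scheme.{u}} {G : Over S} [GrpObj G] (D : Red.SplitRed G)

/-- the torus `D_S(M) ⟶ G` -/
noncomputable abbrev jT : Red.DS S D.M ⟶ G := D.split.inv.hom.hom ≫ D.i

lemma isMonHom_jT : IsMonHom (jT D) := by
  have := D.maximalTorus.1
  infer_instance

lemma mono_jT : Mono (jT D) := by
  have := D.maximalTorus.2.1
  have : IsIso D.split.inv.hom.hom := by
    have : IsIso D.split.inv := inferInstance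
    infer_instance
  infer_instance

include D in
lemma isAffineHom_of_split : IsAffineHom G.hom := D.reductive.1

variable {R : Type u} [CommRing R] (s : Spec (CommRingCat.of R) ⟶ S) [IsAffineHom G.hom]

/-- the torus on points -/
noncomputable def iPt (B : Type u) [CommRing B] [Algebra R B] : TPt D.M B →* Pt R (FA s G) B :=
  letI := isMonHom_jT D
  ((pts s G B).symm.toMonoidHom.comp (postHom (jT D) (tB s B))).comp
    ((dsEquiv (tB s B) D.M).toMonoidHom.comp (chHom s B D.M))

variable {B C : Type u} [CommRing B] [Algebra R B] [CommRing C] [Algebra R C]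

lemma pts_iPt (t : TPt D.M B) : pts s G B (iPt D s B t) = dsEquiv (tB s B) D.M (chΓ s t) ≫ jT D := by
  change pts s G B ((pts s G B).symm (dsEquiv (tB s B) D.M (chΓ s t) ≫ jT D)) = _
  rw [MulEquiv.apply_symm_apply]

/-- the root homomorphisms on points -/
noncomputable def uPt (a : D.idx) (B : Type u) [CommRing B] [Algebra R B] (x : B) :
    Pt R (FA s G) B :=
  (pts s G B).symm (gaPt (tB s B) (fnOf s x) ≫ D.u a)

lemma pts_uPt (a : D.idx) (x : B) : pts s G B (uPt D s a B x) = gaPt (tB s B) (fnOf s x) ≫ D.u a := by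
  rw [uPt, MulEquiv.apply_symm_apply]

/-- **The datum of a split reductive group over `s : Spec R ⟶ S`.** -/
noncomputable def datum : Datum R (FA s G) where
  M := D.M
  idx := D.idx
  root := D.P.root
  i B _ _ := iPt D s B
  i_nat {B C} _ _ _ _ φ t := by
    apply (pts s G C).injective
    rw [← pts_nat, pts_iPt, pts_iPt, ← Category.assoc, tMap_dsEquiv]
  i_inj B _ _ := by
    intro t t' h
    have h1 := congrArg (pts s G B) h
    simp only [pts_iPt] at h1
    have := mono_jT D
    rw [cancel_mono] at h1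
    exact chΓ_injective s ((dsEquiv (tB s B) D.M).injective h1)
  uu a B _ _ x := uPt D s a B x
  uu_add a {B} _ _ x y := by
    have := (D.rootHom a).1
    apply (pts s G B).injective
    rw [map_mul, pts_uPt, pts_uPt, pts_uPt, fnOf_add, gaPt_add, MonObj.mul_comp]
  uu_nat a {B C} _ _ _ _ φ x := by
    apply (pts s G C).injective
    rw [← pts_nat, pts_uPt, pts_uPt, ← Category.assoc, tMap_gaPt]
  uu_surj a := by
    have := (D.rootHom a).2.1
    have h1 := ptEquiv_symm_comp s (gaPt (tB s (Polynomial R)) (fnOf s (Polynomial.X : Polynomial R)))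
      (D.u a)
    change Function.Surjective ((ptEquiv s G (Polynomial R)).symm
      (gaPt (tB s (Polynomial R)) (fnOf s (Polynomial.X : Polynomial R)) ≫ D.u a)).hom
    rw [h1]
    exact (point_X_surjective s).comp (FAmap_surjective s (D.u a))
  rel a {B} _ _ t x := by
    obtain ⟨y, hy1, hy2⟩ := (D.rootHom a).2.2 (tB s B)
      (dsEquiv (tB s B) D.M (chΓ s t) ≫ D.split.inv.hom.hom) (gaPt (tB s B) (fnOf s x))
    have h3 : (dsEquiv (tB s B) D.M (chΓ s t) ≫ D.split.inv.hom.hom) ≫ D.split.hom.hom.hom ≫
        Red.chi S (D.P.root a) = dsEquiv (tB s B) D.M (chΓ s t) ≫ Red.chi S (D.P.root a) := by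
      have h4 : D.split.inv.hom.hom ≫ D.split.hom.hom.hom = 𝟙 _ := by
        have := congrArg (fun z => z.hom.hom) D.split.inv_hom_id
        exact this
      rw [Category.assoc, ← Category.assoc D.split.inv.hom.hom, h4, Category.id_comp]
    rw [h3, gmFn_chi, dsChar_dsEquiv, gaFn_gaPt] at hy2
    have h5 : y = gaPt (tB s B) (fnOf s (TPt.ch (D.P.root a) t * x)) := by
      apply gaFn_injective
      rw [hy2, gaFn_gaPt, fnOf_mul]
      rfl
    apply (pts s G B).injective
    rw [map_mul, map_mul, map_inv, pts_uPt, pts_uPt, pts_iPt]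
    rw [h5] at hy1
    rw [hy1]
    simp only [jT, Category.assoc]
  root_inj := D.P.root.injective
  root_ne a := D.P.ne_zero a

@[simp] lemma datum_M : (datum D s).M = D.M := rfl
@[simp] lemma datum_idx : (datum D s).idx = D.idx := rfl

lemma pts_i (t : TPt D.M B) :
    pts s G B ((datum D s).i B t) = dsEquiv (tB s B) D.M (chΓ s t) ≫ jT D := pts_iPt D s t

lemma pts_uu (a : D.idx) (x : B) :
    pts s G B ((datum D s).uu a B x) = gaPt (tB s B) (fnOf s x) ≫ D.u a := pts_uPt D s a x

end datum

end Groth.Agent.Sga3B.Dict148
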