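import Groth.Agent.Sga3B.PinModel
import Mathlib.AlgebraicGeometry.Morphisms.Affine

/-!
# The coordinate ring and the points of an affine group scheme over an affine base change

For `G : Over S` affine over `S` and `s : Spec R ⟶ S`: `GA G s = Γ(G ×_S Spec R, ⊤)`, an `R`-algebra
with a natural group structure on its points, and `pts : Pt R (GA G s) B ≃* (tB s B ⟶ G)`.
-/

set_option autoImplicit false
universe u

open CategoryTheory MonoidalCategory CartesianMonoidalCategory MonObj GrpObj AlgebraicGeometry
open Limits Polynomial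

namespace Groth.Agent.Sga3B.Dict

open Cell PinMod DSPts GaPts

variable {S : Scheme.{u}} {R : Type u} [CommRing R]

/-- the coordinate ring of the base change of `G` to `Spec R` -/
def GA (G : Over S) (s : Spec (CommRingCat.of R) ⟶ S) : Type u :=
  Γ(pullback G.hom s, ⊤)

noncomputable instance (G : Over S) (s : Spec (CommRingCat.of R) ⟶ S) : CommRing (GA G s) :=
  inferInstanceAs (CommRing Γ(pullback G.hom s, ⊤))

/-- the structure map of the coordinate ring -/
noncomputable def strGA (G : Over S) (s : Spec (CommRingCat.of R) ⟶ S) :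
    CommRingCat.of R ⟶ CommRingCat.of (GA G s) :=
  (Scheme.ΓSpecIso (CommRingCat.of R)).inv ≫ (pullback.snd G.hom s).appTop

noncomputable instance (G : Over S) (s : Spec (CommRingCat.of R) ⟶ S) : Algebra R (GA G s) :=
  (strGA G s).hom.toAlgebra

lemma algebraMap_GA (G : Over S) (s : Spec (CommRingCat.of R) ⟶ S) :
    algebraMap R (GA G s) = (strGA G s).hom := rfl

instance (G : Over S) [IsAffineHom G.hom] (s : Spec (CommRingCat.of R) ⟶ S) :
    IsAffine (pullback G.hom s) :=
  isAffine_of_isAffineHom (pullback.snd G.hom s)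

/-- `Spec (GA G s) ≅ G ×_S Spec R` -/
noncomputable def specGA (G : Over S) [IsAffineHom G.hom] (s : Spec (CommRingCat.of R) ⟶ S) :
    Spec (CommRingCat.of (GA G s)) ≅ pullback G.hom s :=
  (pullback G.hom s).isoSpec.symm

lemma specGA_snd (G : Over S) [IsAffineHom G.hom] (s : Spec (CommRingCat.of R) ⟶ S) :
    (specGA G s).hom ≫ pullback.snd G.hom s = Spec.map (strGA G s) := by
  change (pullback G.hom s).isoSpec.inv ≫ pullback.snd G.hom s = _
  rw [← Scheme.isoSpec_inv_naturality, Scheme.isoSpec_Spec_inv, ← Spec.map_comp]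
  rfl

variable (G : Over S) [IsAffineHom G.hom] (s : Spec (CommRingCat.of R) ⟶ S)
variable {B C : Type u} [CommRing B] [Algebra R B] [CommRing C] [Algebra R C]

/-- the point of `G ×_S Spec R` given by a point of the coordinate ring -/
noncomputable def ptLift (g : Pt R (GA G s) B) : Spec (CommRingCat.of B) ⟶ pullback G.hom s :=
  Spec.map (CommRingCat.ofHom (g.hom : GA G s →+* B)) ≫ (specGA G s).hom

lemma ptLift_snd (g : Pt R (GA G s) B) : ptLift G s g ≫ pullback.snd G.hom s =
    Spec.map (CommRingCat.ofHom (algebraMap R B)) := by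
  rw [ptLift, Category.assoc, specGA_snd, ← Spec.map_comp]
  congr 1
  ext r
  exact g.hom.commutes r

/-- points of the coordinate ring and points of `G` over `Spec B ⟶ Spec R ⟶ S` -/
noncomputable def ptsFun (g : Pt R (GA G s) B) : tB s B ⟶ G :=
  Over.homMk (ptLift G s g ≫ pullback.fst G.hom s) (by
    change (ptLift G s g ≫ pullback.fst G.hom s) ≫ G.hom = _ ≫ s
    rw [Category.assoc, pullback.condition, ← Category.assoc, ptLift_snd])

lemma ptsFun_left (g : Pt R (GA G s) B) :
    (ptsFun G s g).left = ptLift G s g ≫ pullback.fst G.hom s := rfl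

lemma ptsFun_bijective : Function.Bijective (ptsFun G s (B := B)) := by
  constructor
  · intro g h e
    have e1 : ptLift G s g = ptLift G s h := by
      apply pullback.hom_ext
      · exact congrArg (fun k => k.left) e
      · rw [ptLift_snd, ptLift_snd]
    have e2 : Spec.map (CommRingCat.ofHom (g.hom : GA G s →+* B)) =
        Spec.map (CommRingCat.ofHom (h.hom : GA G s →+* B)) := by
      rwa [ptLift, ptLift, cancel_mono] at e1
    have e3 := Spec.map_injective e2
    apply Pt.ext
    intro a
    exact congrArg (fun k => k.hom a) e3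
  · intro x
    let y : Spec (CommRingCat.of B) ⟶ pullback G.hom s :=
      pullback.lift x.left (Spec.map (CommRingCat.ofHom (algebraMap R B))) (Over.w x)
    let φ : CommRingCat.of (GA G s) ⟶ CommRingCat.of B := Spec.preimage (y ≫ (specGA G s).inv)
    have hφ : Spec.map φ ≫ (specGA G s).hom = y := by
      rw [Spec.map_preimage, Category.assoc, Iso.inv_hom_id, Category.comp_id]
    have hφ2 : strGA G s ≫ φ = CommRingCat.ofHom (algebraMap R B) := by
      apply Spec.map_injective
      rw [Spec.map_comp, ← specGA_snd, ← Category.assoc, hφ]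
      exact pullback.lift_snd _ _ _
    refine ⟨Pt.mk { φ.hom with commutes' := fun r => congrArg (fun k => k.hom r) hφ2 }, ?_⟩
    ext1
    rw [ptsFun_left]
    have : ptLift G s (Pt.mk { φ.hom with
        commutes' := fun r => congrArg (fun k => k.hom r) hφ2 } : Pt R (GA G s) B) = y := hφ
    rw [this]
    exact pullback.lift_fst _ _ _

/-- the equivalence on points -/
noncomputable def ptsEquiv (B : Type u) [CommRing B] [Algebra R B] :
    Pt R (GA G s) B ≃ (tB s B ⟶ G) := Equiv.ofBijective _ (ptsFun_bijective G s)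

lemma ptsEquiv_left (g : Pt R (GA G s) B) :
    (ptsEquiv G s B g).left = ptLift G s g ≫ pullback.fst G.hom s := rfl

lemma ptsEquiv_nat (φ : B →ₐ[R] C) (g : Pt R (GA G s) B) :
    tMap s φ ≫ ptsEquiv G s B g = ptsEquiv G s C (Pt.map φ g) := by
  ext1
  rw [Over.comp_left, ptsEquiv_left, ptsEquiv_left, tMap_left, ← Category.assoc]
  congr 1
  rw [ptLift, ptLift, ← Category.assoc, ← Spec.map_comp]
  rfl

/-- the projection of the chart -/
noncomputable def pGA : Spec (CommRingCat.of (GA G s)) ⟶ G.left :=
  (specGA G s).hom ≫ pullback.fst G.hom s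

lemma isPullback_GA : IsPullback (pGA G s)
    (Spec.map (CommRingCat.ofHom (algebraMap R (GA G s)))) G.hom s := by
  refine IsPullback.of_iso_pullback ⟨?_⟩ (specGA G s) rfl (specGA_snd G s)
  change ((specGA G s).hom ≫ pullback.fst G.hom s) ≫ G.hom = Spec.map (strGA G s) ≫ s
  rw [Category.assoc, pullback.condition, ← Category.assoc, specGA_snd]

variable [GrpObj G]

noncomputable instance : PtGrp R (GA G s) where
  grp B _ _ := (ptsEquiv G s B).group
  map_mul' {B C} _ _ _ _ φ f g := by
    let _ := (ptsEquiv G s B).group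
    let _ := (ptsEquiv G s C).group
    apply (ptsEquiv G s C).injective
    rw [← ptsEquiv_nat]
    have h1 : ptsEquiv G s B (f * g) = ptsEquiv G s B f * ptsEquiv G s B g :=
      (ptsEquiv G s B).apply_symm_apply _
    have h2 : ptsEquiv G s C (Pt.map φ f * Pt.map φ g) =
        ptsEquiv G s C (Pt.map φ f) * ptsEquiv G s C (Pt.map φ g) :=
      (ptsEquiv G s C).apply_symm_apply _
    rw [h1, h2, comp_mul, ptsEquiv_nat, ptsEquiv_nat]

/-- the group isomorphism on points -/
noncomputable def pts (B : Type u) [CommRing B] [Algebra R B] :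
    Pt R (GA G s) B ≃* (tB s B ⟶ G) :=
  letI := (ptsEquiv G s B).group
  { ptsEquiv G s B with map_mul' := fun _ _ => (ptsEquiv G s B).apply_symm_apply _ }

lemma pts_left (g : Pt R (GA G s) B) :
    (pts G s B g).left = ptLift G s g ≫ pullback.fst G.hom s := rfl

lemma pts_left' (g : Pt R (GA G s) B) :
    (pts G s B g).left = Spec.map (CommRingCat.ofHom (g.hom : GA G s →+* B)) ≫ pGA G s := by
  rw [pts_left, ptLift, pGA, Category.assoc]

lemma pts_nat (φ : B →ₐ[R] C) (g : Pt R (GA G s) B) :
    tMap s φ ≫ pts G s B g = pts G s C (Pt.map φ g) := ptsEquiv_nat G s φ g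

lemma pts_symm_nat (φ : B →ₐ[R] C) (x : tB s B ⟶ G) :
    Pt.map φ ((pts G s B).symm x) = (pts G s C).symm (tMap s φ ≫ x) := by
  apply (pts G s C).injective
  rw [← pts_nat, MulEquiv.apply_symm_apply, MulEquiv.apply_symm_apply]

end Groth.Agent.Sga3B.Dict
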