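import Groth.Agent.Sga3B.DimFib
import Groth.Agent.Sga3B.CellDim
import Mathlib.RingTheory.Kaehler.TensorProduct

/-!
# The rank of the cotangent space from the dimension of the geometric fibres (for S3004)
-/

set_option autoImplicit false
universe u

open CategoryTheory AlgebraicGeometry Limits TensorProduct

namespace Groth.Agent.Sga3B.DictRank884

/-- dimension of the base change to a field -/
theorem dim_pullback {S : Scheme.{u}} (X : Over S) [LocallyOfFiniteType X.hom] (N : WithBot ℕ∞)
    (hN : ∀ s : S, topologicalKrullDim ↥(Red.geomFibre s X).left = N)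
    {K : Type u} [Field K] (x : Spec (CommRingCat.of K) ⟶ S) {U : Scheme.{u}} (g : U ⟶ X.left)
    (h : U ⟶ Spec (CommRingCat.of K)) (sq : IsPullback g h X.hom x) :
    topologicalKrullDim U = N := by
  let s : S := x (IsLocalRing.closedPoint K)
  rw [← hN s, DimFib.topologicalKrullDim_geomFibre]
  have h1 : topologicalKrullDim (X.hom.fiber s) = topologicalKrullDim (X.hom ⁻¹' {s}) :=
    IsHomeomorph.topologicalKrullDim_eq (X.hom.fiberHomeo s) (X.hom.fiberHomeo s).isHomeomorph
  refine Eq.trans ?_ h1
  obtain ⟨b, hb⟩ : ∃ b : Spec (CommRingCat.of K) ⟶ Spec (S.residueField s),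
      b ≫ S.fromSpecResidueField s = x :=
    ⟨_, Scheme.descResidueField_stalkClosedPointTo_fromSpecResidueField K S x⟩
  have sq1 : IsPullback (pullback.fst X.hom (S.fromSpecResidueField s))
      (pullback.snd X.hom (S.fromSpecResidueField s)) X.hom (S.fromSpecResidueField s) :=
    IsPullback.of_hasPullback _ _
  have sq3 : IsPullback (sq1.lift g (h ≫ b) (by rw [Category.assoc, hb]; exact sq.w))
      h (pullback.snd X.hom (S.fromSpecResidueField s)) b := by
    refine IsPullback.of_right (t := sq1) ?_ (by simp)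
    rw [IsPullback.lift_fst, hb]
    exact sq
  have h0 : LocallyOfFiniteType (pullback.snd X.hom (S.fromSpecResidueField s)) := inferInstance
  exact @DimFib.topologicalKrullDim_baseChange_eq (S.residueField s)
    (CommRingCat.of K) (Field.toIsField _) (Field.toIsField _) _ _
    (pullback.snd X.hom (S.fromSpecResidueField s)) h0 b _ _ sq3

/-- the spectrum of `K ⊗[R] A` -/
theorem isPullback_tensor {R A K : Type u} [CommRing R] [CommRing A] [CommRing K] [Algebra R A]
    [Algebra R K] : IsPullback
      (Spec.map (CommRingCat.ofHom (Algebra.TensorProduct.includeRight : A →ₐ[R] K ⊗[R] A).toRingHom))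
      (Spec.map (CommRingCat.ofHom (Algebra.TensorProduct.includeLeftRingHom : K →+* K ⊗[R] A)))
      (Spec.map (CommRingCat.ofHom (algebraMap R A)))
      (Spec.map (CommRingCat.ofHom (algebraMap R K))) :=
  isPullback_SpecMap_of_isPushout _ _ _ _ (CommRingCat.isPushout_tensorProduct R K A).flip

/-- The Krull dimension of `K ⊗[R] A`. -/
theorem ringKrullDim_tensor {S : Scheme.{u}} (X : Over S) [LocallyOfFiniteType X.hom] (N : WithBot ℕ∞)
    (hN : ∀ s : S, topologicalKrullDim ↥(Red.geomFibre s X).left = N)
    {R A : Type u} [CommRing R] [CommRing A] [Algebra R A] (s : Spec (CommRingCat.of R) ⟶ S)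
    (p : Spec (CommRingCat.of A) ⟶ X.left)
    (sq : IsPullback p (Spec.map (CommRingCat.ofHom (algebraMap R A))) X.hom s)
    (K : Type u) [Field K] [Algebra R K] : ringKrullDim (K ⊗[R] A) = N := by
  rw [← PrimeSpectrum.topologicalKrullDim_eq_ringKrullDim]
  have h := (isPullback_tensor (R := R) (A := A) (K := K)).paste_horiz sq
  exact dim_pullback X N hN _ _ _ h

/-- the cotangent space of a base change -/
theorem finrank_aux {R A K B : Type u} [CommRing R] [CommRing A] [Algebra R A] [Algebra.Smooth R A]
    [Field K] [Algebra R K] [Algebra A K] [IsScalarTower R A K] [CommRing B] [Algebra R B]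
    [Algebra A B] [Algebra K B] [IsScalarTower R A B] [IsScalarTower R K B]
    [Algebra.IsPushout R K A B] [Algebra.Smooth K B] [IsDomain B] (e : B →ₐ[K] K)
    (he : ∀ a, e (algebraMap A B a) = algebraMap A K a) (N : ℕ) (hN : ringKrullDim B = N) :
    Module.finrank K (K ⊗[A] Ω[A⁄R]) = N := by
  have h1 := CellDim.finrank_cotangent e N hN
  let _ : Algebra B K := (e : B →+* K).toAlgebra
  have hT : IsScalarTower A B K := .of_algebraMap_eq fun a => (he a).symm
  have hT2 : IsScalarTower K B K := .of_algHom e
  rw [← h1]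
  have e1 := KaehlerDifferential.tensorKaehlerEquiv R K A B
  have e2 := TensorProduct.AlgebraTensorModule.cancelBaseChange A B K K Ω[A⁄R]
  have e3 := TensorProduct.AlgebraTensorModule.congr (LinearEquiv.refl K K) e1
  rw [← e2.finrank_eq]
  exact e3.finrank_eq

theorem finrank_aux' {R A : Type u} [CommRing R] [CommRing A] [Algebra R A] [Algebra.Smooth R A]
    (K : Type u) [Field K] [Algebra R K] (x : A →ₐ[R] K) [IsDomain (K ⊗[R] A)]
    (N : ℕ) (hN : ringKrullDim (K ⊗[R] A) = N) :
    letI := (x : A →+* K).toAlgebra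
    Module.finrank K (K ⊗[A] Ω[A⁄R]) = N := by
  let e : (K ⊗[R] A) →ₐ[K] K := Algebra.TensorProduct.lift (AlgHom.id K K) x
    (fun _ _ => Commute.all _ _)
  have he : ∀ a, e ((1 : K) ⊗ₜ[R] a) = x a := fun a => by
    refine (Algebra.TensorProduct.lift_tmul _ _ _ (1 : K) a).trans ?_
    rw [map_one, one_mul]
  let i : Algebra A (K ⊗[R] A) := Algebra.TensorProduct.rightAlgebra
  have hT' : IsScalarTower R A (K ⊗[R] A) := inferInstance
  have hpo : Algebra.IsPushout R K A (K ⊗[R] A) := inferInstance
  let j : Algebra A K := (x : A →+* K).toAlgebra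
  have hT : IsScalarTower R A K := .of_algHom x
  exact @finrank_aux R A K (K ⊗[R] A) _ _ _ _ _ _ j hT _ _ i _ hT' _ hpo _ _ e he N hN

/-- `RankOK` from the dimension of the geometric fibres. -/
theorem finrank_of_dim {S : Scheme.{u}} (X : Over S) [LocallyOfFiniteType X.hom] (N : ℕ)
    (hN : ∀ s : S, topologicalKrullDim ↥(Red.geomFibre s X).left = (N : WithBot ℕ∞))
    {R A : Type u} [CommRing R] [CommRing A] [Algebra R A] [Algebra.Smooth R A]
    (s : Spec (CommRingCat.of R) ⟶ S) (p : Spec (CommRingCat.of A) ⟶ X.left)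
    (sq : IsPullback p (Spec.map (CommRingCat.ofHom (algebraMap R A))) X.hom s)
    (K : Type u) [Field K] [Algebra R K] [j : Algebra A K] [hT : IsScalarTower R A K]
    [IsDomain (K ⊗[R] A)] : Module.finrank K (K ⊗[A] Ω[A⁄R]) = N := by
  have h := finrank_aux' K (IsScalarTower.toAlgHom R A K) N (ringKrullDim_tensor X N hN s p sq K)
  have hj : ((IsScalarTower.toAlgHom R A K : A →ₐ[R] K) : A →+* K).toAlgebra = j :=
    Algebra.algebra_ext _ _ fun r => rfl
  rw [hj] at h
  exact h

end Groth.Agent.Sga3B.DictRank884
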