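import Groth.Agent.Sga3B.RootCert
import Groth.Agent.Sga3B.CellDim
import Mathlib.LinearAlgebra.TensorProduct.Tower

/-!
# The cotangent space at the identity and the weights of a maximal torus

`finrank_cotangent_eq`: for `p : A →ₐc[K] K[M]` surjective with scheme-theoretic centralizer
equal to `D(M)` and one dimensional nonzero weight spaces,
`dim I / I ^ 2 = rank M + #(nonzero weights)`.
-/

set_option autoImplicit false

open TensorProduct WithConv
open Groth.Agent.Books.DynBasic (mapPt mapPt_apply)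
open Groth.Agent.Sga3B.RootCoact Groth.Agent.Sga3B.RootOrb Groth.Agent.Sga3B.RootGr
open Groth.Agent.Sga3B.RootGa Groth.Agent.Sga3B.RootCert

universe u

namespace Groth.Agent.Sga3B.DimWt879

section Tor

variable {K : Type u} [CommRing K] {M : Type} [AddCommGroup M]

variable (K M) in
/-- The derivation `K[M] → K ⊗ M`, `e^m ↦ 1 ⊗ m`. -/
noncomputable def DT : MonoidAlgebra K (Multiplicative M) →ₗ[K] K ⊗[ℤ] M where
  toFun f := f.coeff.sum fun m r => r • ((1 : K) ⊗ₜ[ℤ] (Multiplicative.toAdd m))
  map_add' f g := by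
    rw [MonoidAlgebra.coeff_add, Finsupp.sum_add_index']
    · intro m; simp
    · intro m a b; rw [add_smul]
  map_smul' r f := by
    rw [MonoidAlgebra.coeff_smul, Finsupp.sum_smul_index']
    · rw [RingHom.id_apply, Finsupp.smul_sum]
      refine Finset.sum_congr rfl fun m _ => ?_
      simp only
      rw [smul_eq_mul, mul_smul]
    · intro m; simp

lemma DT_single (m : Multiplicative M) (r : K) :
    DT K M (MonoidAlgebra.single m r) = r • ((1 : K) ⊗ₜ[ℤ] (Multiplicative.toAdd m)) := by
  change ((MonoidAlgebra.single m r).coeff.sum fun m r => r • ((1 : K) ⊗ₜ[ℤ] (Multiplicative.toAdd m))) = _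
  rw [MonoidAlgebra.coeff_single, Finsupp.sum_single_index]
  simp

lemma DT_one : DT K M 1 = 0 := by
  change DT K M (MonoidAlgebra.single 1 1) = 0
  rw [DT_single]
  simp

omit [AddCommGroup M] in
lemma counit_single' (m : Multiplicative M) (r : K) :
    Coalgebra.counit (R := K) (MonoidAlgebra.single m r : MonoidAlgebra K (Multiplicative M)) = r := by
  rw [MonoidAlgebra.counit_single]
  rfl

lemma DT_mul (f g : MonoidAlgebra K (Multiplicative M)) :
    DT K M (f * g) = Coalgebra.counit (R := K) f • DT K M g + Coalgebra.counit (R := K) g • DT K M f := by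
  induction f using MonoidAlgebra.induction_linear with
  | zero => simp
  | add x y hx hy => rw [add_mul, map_add, hx, hy, map_add, map_add, add_smul, smul_add]; abel
  | single m r =>
    induction g using MonoidAlgebra.induction_linear with
    | zero => simp
    | add x y hx hy => rw [mul_add, map_add, hx, hy, map_add, map_add, add_smul, smul_add]; abel
    | single n s =>
      rw [MonoidAlgebra.single_mul_single, DT_single, DT_single, DT_single, counit_single',
        counit_single', toAdd_mul, TensorProduct.tmul_add, smul_add, mul_smul, mul_smul, add_comm,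
        smul_comm s r]

lemma DT_sq {f : MonoidAlgebra K (Multiplicative M)} (hf : f ∈ aug K (MonoidAlgebra K (Multiplicative M)) ^ 2) :
    DT K M f = 0 := by
  rw [sq] at hf
  refine Submodule.mul_induction_on hf ?_ ?_
  · intro a ha b hb
    rw [mem_aug] at ha hb
    rw [DT_mul, ha, hb, zero_smul, zero_smul, add_zero]
  · intro a b ha hb
    rw [map_add, ha, hb, add_zero]

variable (K M) in
/-- `m ↦ e^m - 1` modulo the square of the augmentation ideal. -/
noncomputable def gT : M →+ MonoidAlgebra K (Multiplicative M) ⧸ (aug K (MonoidAlgebra K (Multiplicative M)) ^ 2) where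
  toFun m := Ideal.Quotient.mk _ (MonoidAlgebra.single (Multiplicative.ofAdd m) (1 : K) - 1)
  map_zero' := by
    rw [ofAdd_zero]
    change Ideal.Quotient.mk _ ((1 : MonoidAlgebra K (Multiplicative M)) - 1) = 0
    rw [sub_self, map_zero]
  map_add' m n := by
    have hm : ∀ m : M, (MonoidAlgebra.single (Multiplicative.ofAdd m) (1 : K) - 1 :
        MonoidAlgebra K (Multiplicative M)) ∈ aug K (MonoidAlgebra K (Multiplicative M)) := by
      intro m
      rw [mem_aug, map_sub, counit_single', Bialgebra.counit_one, sub_self]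
    have h1 := Ideal.mul_mem_mul (hm m) (hm n)
    rw [← sq] at h1
    rw [← map_add, ← sub_eq_zero, ← map_sub, Ideal.Quotient.eq_zero_iff_mem]
    have : (MonoidAlgebra.single (Multiplicative.ofAdd (m + n)) (1 : K) : MonoidAlgebra K (Multiplicative M)) =
        MonoidAlgebra.single (Multiplicative.ofAdd m) (1 : K) *
          MonoidAlgebra.single (Multiplicative.ofAdd n) (1 : K) := by
      rw [MonoidAlgebra.single_mul_single, one_mul, ofAdd_add]
    rw [this]
    convert h1 using 1
    ring

/-- the inverse of `DT` -/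
lemma gT_DT (f : MonoidAlgebra K (Multiplicative M)) :
    LinearMap.liftBaseChange K (gT K M).toIntLinearMap (DT K M f) =
      Ideal.Quotient.mk _ (f - algebraMap K _ (Coalgebra.counit (R := K) f)) := by
  induction f using MonoidAlgebra.induction_linear with
  | zero => simp
  | add x y hx hy =>
    rw [map_add, map_add, hx, hy, map_add, map_add, ← map_add]
    congr 1
    ring
  | single m r =>
    rw [DT_single, map_smul, LinearMap.liftBaseChange_tmul, one_smul, counit_single']
    change r • (Ideal.Quotient.mk _ (MonoidAlgebra.single m (1 : K) - 1)) = _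
    change (Ideal.Quotient.mk _ (r • (MonoidAlgebra.single m (1 : K) - 1))) = _
    congr 1
    rw [smul_sub, MonoidAlgebra.smul_single, smul_eq_mul, mul_one, Algebra.algebraMap_eq_smul_one]

lemma mem_sq_of_DT {f : MonoidAlgebra K (Multiplicative M)}
    (hf : f ∈ aug K (MonoidAlgebra K (Multiplicative M))) (h : DT K M f = 0) :
    f ∈ aug K (MonoidAlgebra K (Multiplicative M)) ^ 2 := by
  have h1 := gT_DT f
  rw [h, map_zero, (mem_aug).1 hf, map_zero, sub_zero] at h1
  exact Ideal.Quotient.eq_zero_iff_mem.1 h1.symm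

lemma DT_surjective (z : K ⊗[ℤ] M) :
    ∃ f ∈ aug K (MonoidAlgebra K (Multiplicative M)), DT K M f = z := by
  induction z using TensorProduct.induction_on with
  | zero => exact ⟨0, zero_mem _, map_zero _⟩
  | add x y hx hy =>
    obtain ⟨f, hf, rfl⟩ := hx
    obtain ⟨g, hg, rfl⟩ := hy
    exact ⟨f + g, add_mem hf hg, map_add _ _ _⟩
  | tmul r m =>
    refine ⟨MonoidAlgebra.single (Multiplicative.ofAdd m) r - algebraMap K _ r, ?_, ?_⟩
    · rw [mem_aug, map_sub, counit_single', Bialgebra.counit_algebraMap, sub_self]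
    · rw [map_sub, DT_single, Algebra.algebraMap_eq_smul_one, map_smul, DT_one, smul_zero, sub_zero,
        TensorProduct.smul_tmul', smul_eq_mul, mul_one]
      rfl

end Tor

section

variable {K : Type u} [Field K] {A : Type u} [CommRing A] [HopfAlgebra K A]
variable {M : Type} [AddCommGroup M]
variable (p : A →ₐc[K] MonoidAlgebra K (Multiplicative M))

/-- `p` kills the nonzero weight spaces. -/
lemma p_gr {m : M} (hm : m ≠ 0) {a : A} (ha : a ∈ gr (conjCoact p) m) : p a = 0 := by
  have h1 : torPt p (tau M K) = toConv (p : A →ₐ[K] MonoidAlgebra K (Multiplicative M)) := by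
    apply WithConv.ofConv_injective
    change (evT K (tau M K)).comp _ = _
    have : evT K (tau M K) = AlgHom.id K _ := by
      apply algHom_ext_single
      intro m
      rw [evT_single, one_smul]; rfl
    rw [this]; rfl
  have h2 : orbU p p (torPt p (tau M K)) = mapPt (cst K M _) (torPt p (tau M K)) := by
    rw [orbU, orb, mapPt_torPt, ← map_mul, ← map_inv, ← map_mul]
    congr 1
    refine MonoidHom.ext fun m => ?_
    rw [MonoidHom.mul_apply, MonoidHom.mul_apply, MonoidHom.inv_apply, mul_comm, inv_mul_cancel_left]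
  have h3 := (fixed_iff p p _).1 h2 m hm a ha
  rw [h1] at h3
  exact h3

/-- the degree zero part of an element of the ideal of the centralizer. -/
lemma pr_zero_JP {y : A} (hy : y ∈ JP p (⊥ : AddSubmonoid M)) :
    pr (conjCoact p) 0 y ∈ aug K A ^ 2 := by
  have key : ∀ a : A, pr (conjCoact p) 0 (a * y) ∈ aug K A ^ 2 := by
    refine Submodule.span_induction (p := fun y _ => ∀ a : A, pr (conjCoact p) 0 (a * y) ∈ aug K A ^ 2)
      ?_ ?_ ?_ ?_ hy
    · rintro x ⟨m, hm, hx⟩ a
      have hm' : m ≠ 0 := fun h => hm (by rw [h]; exact zero_mem _)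
      induction a using induction_gr (conjCoact p) with
      | h0 => rw [zero_mul, map_zero]; exact zero_mem _
      | hadd a b ha hb => rw [add_mul, map_add]; exact add_mem ha hb
      | h n a ha =>
        have h1 := mul_mem_gr _ ha hx
        by_cases h : n + m = 0
        · rw [h] at h1
          rw [pr_of_mem_same _ h1, sq]
          refine Ideal.mul_mem_mul ?_ ?_
          · refine (mem_aug).2 (counit_gr p ?_ ha)
            rintro rfl
            rw [zero_add] at h
            exact hm' h
          · exact (mem_aug).2 (counit_gr p hm' hx)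
        · rw [pr_of_mem_ne _ h1 h]
          exact zero_mem _
    · intro a; rw [mul_zero, map_zero]; exact zero_mem _
    · intro x y _ _ hx hy a
      rw [mul_add, map_add]; exact add_mem (hx a) (hy a)
    · intro a x _ hx b
      rw [smul_eq_mul, ← mul_assoc]
      exact hx _
  simpa using key 1

/-- the coordinate on a weight space modulo `I ^ 2`. -/
lemma exists_coord (a : M) (x : A) (hx2 : x ∉ aug K A ^ 2)
    (h1 : ∀ y ∈ gr (conjCoact p) a, ∃ r : K, y - r • x ∈ aug K A ^ 2) :
    ∃ c : A →ₗ[K] K, ∀ y, pr (conjCoact p) a y - c y • x ∈ aug K A ^ 2 := by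
  choose! r hr using h1
  have huniq : ∀ s t : K, ∀ y : A, y - s • x ∈ aug K A ^ 2 → y - t • x ∈ aug K A ^ 2 → s = t := by
    intro s t y hs ht
    by_contra hst
    apply hx2
    have h2 : (t - s) • x ∈ aug K A ^ 2 := by
      have := sub_mem hs ht
      rw [sub_sub_sub_cancel_left] at this
      rwa [sub_smul]
    have h3 : (t - s)⁻¹ • ((t - s) • x) ∈ aug K A ^ 2 := by
      rw [Algebra.smul_def]
      exact Ideal.mul_mem_left _ _ h2
    rwa [inv_smul_smul₀ (sub_ne_zero.2 (Ne.symm hst))] at h3
  refine ⟨{ toFun := fun y => r (pr (conjCoact p) a y), map_add' := ?_, map_smul' := ?_ },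
    fun y => hr _ (pr_mem_gr _ _ _)⟩
  · intro y z
    apply huniq _ _ (pr (conjCoact p) a (y + z)) (hr _ (pr_mem_gr _ _ _))
    have := add_mem (hr _ (pr_mem_gr _ a y)) (hr _ (pr_mem_gr _ a z))
    rw [map_add, add_smul]
    convert this using 1
    ring
  · intro s y
    apply huniq _ _ (pr (conjCoact p) a (s • y)) (hr _ (pr_mem_gr _ _ _))
    have h2 : s • (pr (conjCoact p) a y - r (pr (conjCoact p) a y) • x) ∈ aug K A ^ 2 := by
      rw [Algebra.smul_def]
      exact Ideal.mul_mem_left _ _ (hr _ (pr_mem_gr _ a y))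
    rw [map_smul, RingHom.id_apply, smul_eq_mul, mul_smul, ← smul_sub]
    exact h2

/-- **The dimension of the cotangent space at the identity.** -/
theorem finrank_cotangent_eq [Module.Finite ℤ M] [Module.Free ℤ M] (hsurj : Function.Surjective p)
    (hcent : ∀ y : A, p y = 0 → y ∈ JP p (⊥ : AddSubmonoid M))
    (hone : ∀ m : M, m ≠ 0 → ∀ x ∈ gr (conjCoact p) m, x ∉ aug K A ^ 2 →
      ∀ y ∈ gr (conjCoact p) m, ∃ r : K, y - r • x ∈ aug K A ^ 2)
    (Φ : Finset M) (hΦ : ∀ a, a ∈ Φ ↔ a ≠ 0 ∧ IsWt p a) :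
    Module.finrank K (aug K A).Cotangent = Module.finrank ℤ M + Φ.card := by
  classical
  have hΦ0 : ∀ a : {a // a ∈ Φ}, (a : M) ≠ 0 := fun a => ((hΦ a).1 a.2).1
  have hx : ∀ a : {a // a ∈ Φ}, ∃ x ∈ gr (conjCoact p) (a : M), x ∈ aug K A ∧ x ∉ aug K A ^ 2 :=
    fun a => ((hΦ a).1 a.2).2
  choose x hx1 hx2 hx3 using hx
  have hc := fun a : {a // a ∈ Φ} => exists_coord p (a : M) (x a) (hx3 a)
    (hone a (hΦ0 a) (x a) (hx1 a) (hx3 a))
  choose c hc using hc
  have hpε : ∀ y : A, Coalgebra.counit (R := K) (p y) = Coalgebra.counit (R := K) y :=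
    fun y => CoalgHomClass.counit_comp_apply p y
  have hpsq : ∀ y : A, y ∈ aug K A ^ 2 → p y ∈ aug K (MonoidAlgebra K (Multiplicative M)) ^ 2 := by
    intro y hy
    rw [sq] at hy
    refine Submodule.mul_induction_on hy ?_ ?_
    · intro a ha b hb
      rw [map_mul, sq]
      refine Ideal.mul_mem_mul ?_ ?_
      · rw [mem_aug, hpε]; exact ha
      · rw [mem_aug, hpε]; exact hb
    · intro a b ha hb
      rw [map_add]; exact add_mem ha hb
  let pl : A →ₗ[K] MonoidAlgebra K (Multiplicative M) :=
    ((p : A →ₐ[K] MonoidAlgebra K (Multiplicative M)) : A →ₗ[K] _)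
  have hpl : ∀ y, pl y = p y := fun y => rfl
  let θ : A →ₗ[K] (K ⊗[ℤ] M) × ({a // a ∈ Φ} → K) :=
    ((DT K M).comp pl).prod (LinearMap.pi c)
  have hθ : ∀ y, θ y = (DT K M (p y), fun a => c a y) := fun y => rfl
  -- values on weight spaces
  have hc_sq : ∀ a y, y ∈ aug K A ^ 2 → c a y = 0 := by
    intro a y hy
    by_contra hne
    apply hx3 a
    have h1 := sub_mem (pr_mem_sq p (a : M) hy) (hc a y)
    rw [sub_sub_cancel] at h1
    have h3 : (c a y)⁻¹ • (c a y • x a) ∈ aug K A ^ 2 := by
      rw [Algebra.smul_def]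
      exact Ideal.mul_mem_left _ _ h1
    rwa [inv_smul_smul₀ hne] at h3
  have hc_pr : ∀ a y, c a (pr (conjCoact p) (a : M) y) = c a y := by
    intro a y
    by_contra hne
    apply hx3 a
    have h1 := sub_mem (hc a y) (hc a (pr (conjCoact p) (a : M) y))
    rw [pr_of_mem_same _ (pr_mem_gr _ _ _), sub_sub_sub_cancel_left, ← sub_smul] at h1
    have h3 : (c a (pr (conjCoact p) (a : M) y) - c a y)⁻¹ •
        ((c a (pr (conjCoact p) (a : M) y) - c a y) • x a) ∈ aug K A ^ 2 := by
      rw [Algebra.smul_def]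
      exact Ideal.mul_mem_left _ _ h1
    rwa [inv_smul_smul₀ (sub_ne_zero.2 hne)] at h3
  have hc_ne : ∀ (a : {a // a ∈ Φ}) (m : M) (y : A), y ∈ gr (conjCoact p) m → m ≠ a → c a y = 0 := by
    intro a m y hy hm
    rw [← hc_pr, pr_of_mem_ne _ hy hm, map_zero]
  have hc_self : ∀ a, c a (x a) = 1 := by
    intro a
    by_contra hne
    apply hx3 a
    have h1 := hc a (x a)
    rw [pr_of_mem_same _ (hx1 a)] at h1
    have h2 : (1 - c a (x a)) • x a ∈ aug K A ^ 2 := by rwa [sub_smul, one_smul]
    have h3 : (1 - c a (x a))⁻¹ • ((1 - c a (x a)) • x a) ∈ aug K A ^ 2 := by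
      rw [Algebra.smul_def]
      exact Ideal.mul_mem_left _ _ h2
    rwa [inv_smul_smul₀ (sub_ne_zero.2 (Ne.symm hne))] at h3
  -- the kernel
  have hker : ∀ y ∈ aug K A, θ y = 0 ↔ y ∈ aug K A ^ 2 := by
    intro y hy
    constructor
    · intro h
      rw [hθ, Prod.mk_eq_zero] at h
      obtain ⟨h1, h2⟩ := h
      have h3 : p y ∈ aug K (MonoidAlgebra K (Multiplicative M)) ^ 2 :=
        mem_sq_of_DT (by rw [mem_aug, hpε]; exact hy) h1
      -- lift to an element of `I ^ 2`
      have h4 : ∀ f ∈ aug K (MonoidAlgebra K (Multiplicative M)) ^ 2, ∃ z ∈ aug K A ^ 2, p z = f := by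
        intro f hf
        rw [sq] at hf
        refine Submodule.mul_induction_on hf ?_ ?_
        · intro a ha b hb
          obtain ⟨a', rfl⟩ := hsurj a
          obtain ⟨b', rfl⟩ := hsurj b
          rw [mem_aug, hpε] at ha hb
          exact ⟨a' * b', by rw [sq]; exact Ideal.mul_mem_mul ha hb, map_mul _ _ _⟩
        · rintro a b ⟨a', ha', rfl⟩ ⟨b', hb', rfl⟩
          exact ⟨a' + b', add_mem ha' hb', map_add _ _ _⟩
      obtain ⟨z, hz, hz'⟩ := h4 _ h3
      have h5 : pr (conjCoact p) 0 (y - z) ∈ aug K A ^ 2 :=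
        pr_zero_JP p (hcent _ (by rw [map_sub, hz', sub_self]))
      have h6 : pr (conjCoact p) 0 y ∈ aug K A ^ 2 := by
        have := add_mem h5 (pr_mem_sq p (0 : M) hz)
        rwa [← map_add, sub_add_cancel] at this
      rw [← sum_pr (conjCoact p) y]
      refine Ideal.sum_mem _ fun m _ => ?_
      by_cases hm : m = 0
      · rw [hm]; exact h6
      · by_cases hmΦ : m ∈ Φ
        · have h7 := hc ⟨m, hmΦ⟩ y
          have h8 : c ⟨m, hmΦ⟩ y = 0 := congrFun h2 _
          rw [h8, zero_smul, sub_zero] at h7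
          exact h7
        · by_contra hne
          exact hmΦ ((hΦ m).2 ⟨hm, _, pr_mem_gr _ m y, pr_mem_aug p m hy, hne⟩)
    · intro h
      rw [hθ, Prod.mk_eq_zero]
      refine ⟨DT_sq (hpsq y h), ?_⟩
      ext a
      exact hc_sq a y h
  -- surjectivity
  have hθs : ∀ w, ∃ y ∈ aug K A, θ y = w := by
    rintro ⟨z, w⟩
    obtain ⟨f, hf, rfl⟩ := DT_surjective z
    obtain ⟨y, rfl⟩ := hsurj f
    rw [mem_aug, hpε] at hf
    refine ⟨y + ∑ a : {a // a ∈ Φ}, (w a - c a y) • x a, add_mem hf (Ideal.sum_mem _ fun a _ => ?_), ?_⟩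
    · rw [Algebra.smul_def]
      exact Ideal.mul_mem_left _ _ (hx2 a)
    · rw [hθ, Prod.mk.injEq]
      constructor
      · rw [map_add, map_sum]
        have : ∀ a : {a // a ∈ Φ}, p ((w a - c a y) • x a) = 0 := fun a => by
          have h1 : ((w a - c a y) • x a) ∈ gr (conjCoact p) (a : M) := Submodule.smul_mem _ _ (hx1 a)
          exact p_gr p (hΦ0 a) h1
        rw [Finset.sum_eq_zero fun a _ => this a, add_zero]
      · ext b
        rw [map_add, map_sum, Finset.sum_eq_single b]
        · rw [map_smul, hc_self, smul_eq_mul, mul_one]; ring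
        · intro a _ hab
          rw [map_smul, hc_ne b a (x a) (hx1 a) (fun h => hab (Subtype.ext h)), smul_zero]
        · intro h; exact absurd (Finset.mem_univ _) h
  -- conclusion
  let θI : (aug K A) →ₗ[K] (K ⊗[ℤ] M) × ({a // a ∈ Φ} → K) :=
    θ.comp ((aug K A).subtype.restrictScalars K)
  have hθI : Function.Surjective θI := by
    intro w
    obtain ⟨y, hy, hyw⟩ := hθs w
    exact ⟨⟨y, hy⟩, hyw⟩
  let tc : (aug K A) →ₗ[K] (aug K A).Cotangent := (aug K A).toCotangent.restrictScalars K
  have htc : Function.Surjective tc := Ideal.toCotangent_surjective _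
  have hkk : LinearMap.ker tc = LinearMap.ker θI := by
    ext ⟨y, hy⟩
    rw [LinearMap.mem_ker, LinearMap.mem_ker]
    change (aug K A).toCotangent ⟨y, hy⟩ = 0 ↔ θ y = 0
    rw [Ideal.toCotangent_eq_zero, hker y hy]
  let e : (aug K A).Cotangent ≃ₗ[K] (K ⊗[ℤ] M) × ({a // a ∈ Φ} → K) :=
    (tc.quotKerEquivOfSurjective htc).symm.trans ((Submodule.quotEquivOfEq _ _ hkk).trans
      (θI.quotKerEquivOfSurjective hθI))
  have hfin : Module.Finite K (K ⊗[ℤ] M) := inferInstance
  rw [e.finrank_eq, Module.finrank_prod, Module.finrank_baseChange, Module.finrank_pi, Fintype.card_coe]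

end

end Groth.Agent.Sga3B.DimWt879
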