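import Mathlib.RingTheory.Etale.Locus
import Mathlib.RingTheory.MvPolynomial.Localization
import Groth.Agent.Sga3A.MTQuasi

/-!
# Étale algebras over a local ring of `R` come from étale algebras over `R` (near a prime)

* `exists_fp_descent`: a finitely presented algebra over a localization of `R` is a localization of a finitely
  presented `R`-algebra.
* `exists_etale_descent`: an étale algebra `T` over a localization of `R`, `q` a prime of `T`: there are an
  étale `R`-algebra `B`, a prime `q₀` of `B` over the same prime of `R`, and an `R`-algebra map `T → B_{q₀}`.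
-/

set_option autoImplicit false

open TensorProduct

namespace Groth.Agent.Sga3B.EtDesc920

universe u

attribute [local instance] MvPolynomial.algebraMvPolynomial in
/-- Finitely presented algebras over a localization are localizations of finitely presented algebras. -/
theorem exists_fp_descent {R : Type u} [CommRing R] (W : Submonoid R) (L : Type u) [CommRing L] [Algebra R L]
    [IsLocalization W L] (T : Type u) [CommRing T] [Algebra L T] [Algebra.FinitePresentation L T] :
    ∃ (B : Type u) (_ : CommRing B) (_ : Algebra R B) (_ : Algebra B T),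
      Algebra.FinitePresentation R B ∧
      (algebraMap B T).comp (algebraMap R B) = (algebraMap L T).comp (algebraMap R L) ∧
      IsLocalization (Algebra.algebraMapSubmonoid B W) T := by
  classical
  obtain ⟨n, I, e, s, hs⟩ := Algebra.FinitePresentation.iff.mp (‹Algebra.FinitePresentation L T›)
  let P := MvPolynomial (Fin n) R
  let PL := MvPolynomial (Fin n) L
  let WP : Submonoid P := W.map (MvPolynomial.C (σ := Fin n))
  have hloc : IsLocalization WP PL := MvPolynomial.isLocalization W L
  have hg : ∀ g : PL, ∃ (h : P) (c : WP), g * algebraMap P PL c = algebraMap P PL h := by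
    intro g
    obtain ⟨⟨h, c⟩, hc⟩ := IsLocalization.surj WP g
    exact ⟨h, c, hc⟩
  choose h c hc using hg
  let J : Ideal P := Ideal.span (Set.range fun g : s => h g.1)
  have hJ : J.map (algebraMap P PL) = I := by
    apply le_antisymm
    · rw [Ideal.map_span, Ideal.span_le]
      rintro _ ⟨_, ⟨g, rfl⟩, rfl⟩
      rw [← hc g.1]
      exact I.mul_mem_right _ (hs ▸ Ideal.subset_span g.2)
    · rw [← hs, Ideal.span_le]
      intro g hgs
      have h1 : algebraMap P PL (h g) ∈ J.map (algebraMap P PL) :=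
        Ideal.mem_map_of_mem _ (Ideal.subset_span ⟨⟨g, hgs⟩, rfl⟩)
      rw [← hc g] at h1
      exact (Ideal.mul_unit_mem_iff_mem _ (IsLocalization.map_units PL (c g))).mp h1
  subst hJ
  have hfg : J.FG := ⟨s.attach.image fun g => h g.1, by
    congr 1
    ext x
    simp⟩
  have hlocQ : IsLocalization (Algebra.algebraMapSubmonoid (P ⧸ J) WP) (PL ⧸ J.map (algebraMap P PL)) :=
    inferInstance
  let algT : Algebra (P ⧸ J) T := ((e : _ →+* T).comp (algebraMap (P ⧸ J) (PL ⧸ J.map (algebraMap P PL)))).toAlgebra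
  have hW : Algebra.algebraMapSubmonoid (P ⧸ J) WP = Algebra.algebraMapSubmonoid (P ⧸ J) W := by
    ext x
    constructor
    · rintro ⟨_, ⟨w, hw, rfl⟩, rfl⟩
      exact ⟨w, hw, rfl⟩
    · rintro ⟨w, hw, rfl⟩
      exact ⟨_, ⟨w, hw, rfl⟩, rfl⟩
  refine ⟨P ⧸ J, inferInstance, inferInstance, algT, Algebra.FinitePresentation.quotient hfg, ?_, ?_⟩
  · ext r
    change e (algebraMap (P ⧸ J) (PL ⧸ J.map (algebraMap P PL)) (algebraMap R (P ⧸ J) r)) = algebraMap L T (algebraMap R L r)
    rw [← e.commutes]
    congr 1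
    change Ideal.Quotient.mk _ (algebraMap P PL (MvPolynomial.C r)) = Ideal.Quotient.mk _ (MvPolynomial.C (algebraMap R L r))
    rw [MvPolynomial.algebraMap_def, MvPolynomial.map_C]
  · rw [hW] at hlocQ
    let e' : (PL ⧸ J.map (algebraMap P PL)) ≃ₐ[P ⧸ J] T := AlgEquiv.ofRingEquiv (f := e.toRingEquiv) (fun x => rfl)
    exact IsLocalization.isLocalization_of_algEquiv _ e'

/-- Étale algebras over a localization come, locally around a prime, from étale algebras. -/
theorem exists_etale_descent {R : Type u} [CommRing R] (W : Submonoid R) (L : Type u) [CommRing L] [Algebra R L]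
    [IsLocalization W L] (T : Type u) [CommRing T] [Algebra L T] [Algebra.Etale L T] [Algebra R T]
    [IsScalarTower R L T] (q : Ideal T) [q.IsPrime] :
    ∃ (B : Type u) (_ : CommRing B) (_ : Algebra R B) (_ : Algebra.Etale R B) (q₀ : Ideal B) (_ : q₀.IsPrime)
      (_ : T →ₐ[R] Localization.AtPrime q₀),
      q₀.comap (algebraMap R B) = q.comap (algebraMap R T) := by
  obtain ⟨B₀, i1, i2, i3, hfp, hcomp, hloc⟩ := exists_fp_descent W L T
  have : IsScalarTower R B₀ T := by
    apply IsScalarTower.of_algebraMap_eq'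
    rw [hcomp, ← IsScalarTower.algebraMap_eq R L T]
  let Q : Ideal B₀ := q.comap (algebraMap B₀ T)
  have hQ : Q.IsPrime := Ideal.comap_isPrime _ _
  let BQ := Localization.AtPrime Q
  let W' := Algebra.algebraMapSubmonoid B₀ W
  -- `BQ` is the localization of `T` at `q`
  have hW' : W' ≤ Q.primeCompl := by
    rintro _ ⟨w, hw, rfl⟩ hwQ
    have h1 : IsUnit (algebraMap B₀ T (algebraMap R B₀ w)) := by
      rw [← IsScalarTower.algebraMap_apply, IsScalarTower.algebraMap_apply R L T]
      exact (IsLocalization.map_units L ⟨w, hw⟩).map _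
    exact Ideal.IsPrime.ne_top (I := q) inferInstance (Ideal.eq_top_of_isUnit_mem _ hwQ h1)
  let ψ₀ : T →+* BQ := IsLocalization.lift (M := W') (g := algebraMap B₀ BQ)
    (fun y => IsLocalization.map_units BQ ⟨y.1, hW' y.2⟩)
  have hψ₀ : ψ₀.comp (algebraMap B₀ T) = algebraMap B₀ BQ := IsLocalization.lift_comp _
  let _ : Algebra T BQ := ψ₀.toAlgebra
  have htw : IsScalarTower B₀ T BQ := IsScalarTower.of_algebraMap_eq' hψ₀.symm
  have htwR : IsScalarTower R T BQ := by
    apply IsScalarTower.of_algebraMap_eq'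
    rw [IsScalarTower.algebraMap_eq R B₀ BQ, IsScalarTower.algebraMap_eq B₀ T BQ, RingHom.comp_assoc,
      ← IsScalarTower.algebraMap_eq R B₀ T]
  have hlocT : IsLocalization (Algebra.algebraMapSubmonoid T Q.primeCompl) BQ := by
    exact IsLocalization.isLocalization_of_submonoid_le T BQ W' Q.primeCompl hW'
  have het1 : Algebra.FormallyEtale T BQ :=
    Algebra.FormallyEtale.of_isLocalization (Algebra.algebraMapSubmonoid T Q.primeCompl)
  have het2 : Algebra.FormallyEtale R L := Algebra.FormallyEtale.of_isLocalization W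
  have het3 : Algebra.FormallyEtale R T := Algebra.FormallyEtale.comp R L T
  have het4 : Algebra.FormallyEtale R BQ := Algebra.FormallyEtale.comp R T BQ
  have het5 : Algebra.IsEtaleAt R Q := het4
  obtain ⟨g, hg, hetg⟩ := Algebra.exists_etale_of_isEtaleAt (R := R) Q
  let B := Localization.Away g
  have hdisj : Disjoint (Submonoid.powers g : Set B₀) Q := by
    rw [Set.disjoint_left]
    rintro _ ⟨n, rfl⟩ hn
    exact hg (hQ.mem_of_pow_mem n hn)
  let q₀ : Ideal B := Q.map (algebraMap B₀ B)
  have hq₀ : q₀.IsPrime := IsLocalization.isPrime_of_isPrime_disjoint (Submonoid.powers g) B Q hQ hdisj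
  have hq₀c : q₀.comap (algebraMap B₀ B) = Q :=
    IsLocalization.under_map_of_isPrime_disjoint (Submonoid.powers g) B hQ hdisj
  have hu : ∀ y : Q.primeCompl, IsUnit (algebraMap B (Localization.AtPrime q₀) (algebraMap B₀ B y)) := by
    intro y
    refine IsLocalization.map_units (Localization.AtPrime q₀) (⟨algebraMap B₀ B y, fun hy => ?_⟩ : q₀.primeCompl)
    have : (y : B₀) ∈ q₀.comap (algebraMap B₀ B) := hy
    rw [hq₀c] at this
    exact y.2 this
  let θ : BQ →+* Localization.AtPrime q₀ :=
    IsLocalization.lift (M := Q.primeCompl) (g := (algebraMap B (Localization.AtPrime q₀)).comp (algebraMap B₀ B)) hu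
  have hθ : θ.comp (algebraMap B₀ BQ) = (algebraMap B (Localization.AtPrime q₀)).comp (algebraMap B₀ B) :=
    IsLocalization.lift_comp _
  refine ⟨B, inferInstance, inferInstance, hetg, q₀, hq₀, ⟨θ.comp ψ₀, fun r => ?_⟩, ?_⟩
  · change θ (ψ₀ (algebraMap R T r)) = _
    rw [IsScalarTower.algebraMap_apply R B₀ T, show ψ₀ (algebraMap B₀ T (algebraMap R B₀ r)) =
      algebraMap B₀ BQ (algebraMap R B₀ r) from congr($hψ₀ _), show θ (algebraMap B₀ BQ (algebraMap R B₀ r)) =
      algebraMap B (Localization.AtPrime q₀) (algebraMap B₀ B (algebraMap R B₀ r)) from congr($hθ _),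
      ← IsScalarTower.algebraMap_apply R B₀ B, ← IsScalarTower.algebraMap_apply]
  · rw [IsScalarTower.algebraMap_eq R B₀ B, ← Ideal.comap_comap, hq₀c, Ideal.comap_comap,
      ← IsScalarTower.algebraMap_eq]

open Groth.Agent.Sga3A Groth.Agent.Sga3A.MTBasis in
/-- A Hopf algebra of finite presentation which is diagonalisable over a faithfully flat algebra over `R_p` is
diagonalisable over an étale `R`-algebra whose spectrum meets the fibre over `p`. -/
theorem exists_gbasis_etale {R A : Type u} [CommRing R] [CommRing A] [HopfAlgebra R A]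
    [Algebra.FinitePresentation R A] (p : Ideal R) [p.IsPrime] (S₁ : Type u) [CommRing S₁] [Algebra R S₁]
    [Algebra (Localization.AtPrime p) S₁] [IsScalarTower R (Localization.AtPrime p) S₁]
    [Module.FaithfullyFlat (Localization.AtPrime p) S₁] {M : Type u} [CommGroup M] [Group.FG M]
    (g : GBasis S₁ (S₁ ⊗[R] A) M) :
    ∃ (B : Type u) (_ : CommRing B) (_ : Algebra R B) (_ : Algebra.Etale R B) (q : Ideal B),
      q.IsPrime ∧ q.comap (algebraMap R B) = p ∧ Nonempty (GBasis B (B ⊗[R] A) M) := by
  let L := Localization.AtPrime p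
  obtain ⟨T, i1, i2, i3, i4, i5, hT⟩ := MTQuasi.exists_etale_local' (g.map (cancelBC R L S₁ A).symm)
  obtain ⟨q, hq⟩ := PrimeSpectrum.comap_surjective_of_faithfullyFlat (A := L) (B := T)
    (IsLocalRing.closedPoint L)
  obtain ⟨w, hw, ⟨g₁⟩⟩ := hT q
  let Tw := Localization.Away w
  have i6 : Algebra.Etale T Tw := Algebra.Etale.of_isLocalizationAway w
  have i7 : Algebra.Etale L Tw := Algebra.Etale.comp L T Tw
  have hdisj : Disjoint (Submonoid.powers w : Set T) q.asIdeal := by
    rw [Set.disjoint_left]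
    rintro _ ⟨n, rfl⟩ hn
    exact hw (q.2.mem_of_pow_mem n hn)
  let q₁ : Ideal Tw := q.asIdeal.map (algebraMap T Tw)
  have hq₁ : q₁.IsPrime := IsLocalization.isPrime_of_isPrime_disjoint (Submonoid.powers w) Tw q.asIdeal q.2 hdisj
  have hq₁c : q₁.comap (algebraMap T Tw) = q.asIdeal :=
    IsLocalization.under_map_of_isPrime_disjoint (Submonoid.powers w) Tw q.2 hdisj
  let _ : Algebra R Tw := ((algebraMap L Tw).comp (algebraMap R L)).toAlgebra
  have : IsScalarTower R L Tw := IsScalarTower.of_algebraMap_eq' rfl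
  have hq₁p : q₁.comap (algebraMap R Tw) = p := by
    rw [IsScalarTower.algebraMap_eq R L Tw, IsScalarTower.algebraMap_eq L T Tw, ← Ideal.comap_comap,
      ← Ideal.comap_comap, hq₁c]
    have h1 : q.asIdeal.comap (algebraMap L T) = IsLocalRing.maximalIdeal L := by
      rw [← PrimeSpectrum.comap_asIdeal, hq]
      rfl
    rw [h1]
    exact Localization.AtPrime.under_maximalIdeal
  obtain ⟨B, j1, j2, j3, q₀, hq₀, ψ, hqψ⟩ := exists_etale_descent p.primeCompl L Tw q₁
  let g₂ : GBasis Tw (Tw ⊗[R] A) M := g₁.map (cancelBC R L Tw A)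
  let g₃ : GBasis (Localization.AtPrime q₀) (Localization.AtPrime q₀ ⊗[R] A) M := g₂.bc ψ
  obtain ⟨v, hv, ⟨g₄⟩⟩ := MTSpread.exists_gbasis_away q₀.primeCompl (B ⊗[R] A) M
    (g₃.map (cancelBC R B (Localization.AtPrime q₀) A).symm)
  let Bv := Localization.Away v
  have j4 : Algebra.Etale B Bv := Algebra.Etale.of_isLocalizationAway v
  have j5 : Algebra.Etale R Bv := Algebra.Etale.comp R B Bv
  have hdisj' : Disjoint (Submonoid.powers v : Set B) q₀ := by
    rw [Set.disjoint_left]
    rintro _ ⟨n, rfl⟩ hn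
    exact hv (hq₀.mem_of_pow_mem n hn)
  refine ⟨Bv, inferInstance, inferInstance, j5, q₀.map (algebraMap B Bv),
    IsLocalization.isPrime_of_isPrime_disjoint (Submonoid.powers v) Bv q₀ hq₀ hdisj', ?_,
    ⟨g₄.map (cancelBC R B Bv A)⟩⟩
  rw [IsScalarTower.algebraMap_eq R B Bv, ← Ideal.comap_comap]
  have h2 : (q₀.map (algebraMap B Bv)).comap (algebraMap B Bv) = q₀ :=
    IsLocalization.under_map_of_isPrime_disjoint (Submonoid.powers v) Bv hq₀ hdisj'
  rw [h2, hqψ, hq₁p]

end Groth.Agent.Sga3B.EtDesc920
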