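import Mathlib.RingTheory.LocalRing.Module
import Mathlib.RingTheory.LocalRing.ResidueField.Ideal
import Mathlib.RingTheory.Support
import Mathlib.RingTheory.Flat.FaithfullyFlat.Basic
import Mathlib.LinearAlgebra.TensorProduct.RightExactness
import Mathlib.LinearAlgebra.Dimension.Finrank
import Mathlib.LinearAlgebra.Dimension.Constructions
import Mathlib.LinearAlgebra.Dimension.DivisionRing

/-!
# Nakayama at a point with values in a field
-/

set_option autoImplicit false

open TensorProduct

namespace Groth.Agent.Sga3B.FibreNak

variable {P : Type*} [CommRing P] {K : Type*} [Field K] [Algebra P K]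
variable {M : Type*} [AddCommGroup M] [Module P M]

theorem exists_smul_eq_zero [Module.Finite P M] (h : Subsingleton (K ⊗[P] M)) :
    ∃ a : P, algebraMap P K a ≠ 0 ∧ ∀ m : M, a • m = 0 := by
  have hq : (RingHom.ker (algebraMap P K)).IsPrime := RingHom.ker_isPrime _
  set q := RingHom.ker (algebraMap P K) with hqdef
  by_contra hcon
  push Not at hcon
  have hle : Module.annihilator P M ≤ q := by
    intro a ha
    by_contra haq
    rw [hqdef, RingHom.mem_ker] at haq
    obtain ⟨m, hm⟩ := hcon a haq
    exact hm (Module.mem_annihilator.1 ha m)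
  have hs : (⟨q, hq⟩ : PrimeSpectrum P) ∈ Module.support P M :=
    Module.mem_support_iff_of_finite.2 hle
  rw [Module.mem_support_iff_nontrivial_residueField_tensorProduct] at hs
  have hs' : Nontrivial (q.ResidueField ⊗[P] M) := hs
  let φ : q.ResidueField →ₐ[P] K := Ideal.ResidueField.liftₐ (R := P) q (Algebra.ofId P K) (by rw [hqdef]; rfl)
    (by
      intro x hx
      rw [Submonoid.mem_comap]
      refine IsUnit.mem_submonoid_iff _ |>.2 (isUnit_iff_ne_zero.2 ?_)
      intro h0
      exact hx (by rw [hqdef]; exact h0))
  let : Algebra q.ResidueField K := φ.toRingHom.toAlgebra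
  have : IsScalarTower P q.ResidueField K := IsScalarTower.of_algebraMap_eq fun x => (φ.commutes x).symm
  let e := AlgebraTensorModule.cancelBaseChange P q.ResidueField K K M
  have h2 : Subsingleton (K ⊗[q.ResidueField] (q.ResidueField ⊗[P] M)) := e.toEquiv.subsingleton
  have h3 : Nontrivial (K ⊗[q.ResidueField] (q.ResidueField ⊗[P] M)) := inferInstance
  exact not_subsingleton _ h2

/-- If `M` is a finite module whose fibre at a field-valued point has dimension `≤ r`, then after inverting an element
not vanishing at the point `M` is generated by `r` elements. -/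
theorem exists_generators [Module.Finite P M] {r : ℕ} (h : Module.finrank K (K ⊗[P] M) ≤ r) :
    ∃ (a : P) (m : Fin r → M), algebraMap P K a ≠ 0 ∧ ∀ x : M, a • x ∈ Submodule.span P (Set.range m) := by
  classical
  -- the fibre is spanned by pure tensors `1 ⊗ m`
  have hspan : Submodule.span K (Set.range fun m : M => (1 : K) ⊗ₜ[P] m) = ⊤ := by
    rw [eq_top_iff]
    intro z _
    induction z using TensorProduct.induction_on with
    | zero => exact Submodule.zero_mem _
    | tmul k m =>
      have : k ⊗ₜ[P] m = k • ((1 : K) ⊗ₜ[P] m) := by rw [TensorProduct.smul_tmul', smul_eq_mul, mul_one]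
      rw [this]
      exact Submodule.smul_mem _ _ (Submodule.subset_span ⟨m, rfl⟩)
    | add a b ha hb => exact Submodule.add_mem _ (ha trivial) (hb trivial)
  have : Module.Finite K (K ⊗[P] M) := inferInstance
  obtain ⟨b, hb1, hb2, hb3⟩ := exists_linearIndependent K (Set.range fun m : M => (1 : K) ⊗ₜ[P] m)
  rw [hspan] at hb2
  have hfin : b.Finite := hb3.setFinite
  have hcard : hfin.toFinset.card ≤ r := by
    have : Module.finrank K (K ⊗[P] M) = hfin.toFinset.card := by
      have := hfin.fintype
      have hB := Module.finrank_eq_card_basis (Module.Basis.mk hb3 (by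
        rw [Subtype.range_coe, hb2]))
      rw [hB, ← Set.toFinset_card]
      congr 1
      ext; simp
    omega
  -- choose representatives
  choose f hf using fun x : b => hb1 x.2
  obtain ⟨s, hs⟩ : ∃ s : Fin r → M, Set.range f ⊆ insert 0 (Set.range s) := by
    have hrf : (Set.range f).Finite := by
      have := hfin.to_subtype
      exact Set.finite_range f
    have hc : hrf.toFinset.card ≤ r := by
      refine le_trans ?_ hcard
      have := hfin.fintype
      have h5 : hrf.toFinset = Finset.univ.image f := by ext; simp
      rw [h5]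
      refine le_trans Finset.card_image_le ?_
      rw [Finset.card_univ, ← Set.toFinset_card]
      refine le_of_eq ?_
      congr 1
      ext; simp
    let L := hrf.toFinset
    let eL := L.equivFin
    refine ⟨fun i => if hi : (i : ℕ) < L.card then (eL.symm ⟨i, hi⟩ : M) else 0, ?_⟩
    rintro _ ⟨x, rfl⟩
    right
    have hx : f x ∈ L := by simp [L]
    refine ⟨⟨eL ⟨f x, hx⟩, lt_of_lt_of_le (eL ⟨f x, hx⟩).2 hc⟩, ?_⟩
    simp
  let N := Submodule.span P (Set.range s)
  have hsub : Subsingleton (K ⊗[P] (M ⧸ N)) := by
    rw [subsingleton_iff_forall_eq 0]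
    intro z
    obtain ⟨w, rfl⟩ := LinearMap.lTensor_surjective K (Submodule.mkQ_surjective N) z
    have hw : w ∈ Submodule.span K b := by rw [hb2]; trivial
    induction hw using Submodule.span_induction with
    | mem x hx =>
      have h1 := hf ⟨x, hx⟩
      have h2 : f ⟨x, hx⟩ ∈ N := by
        rcases hs ⟨⟨x, hx⟩, rfl⟩ with h0 | h0
        · rw [h0]; exact Submodule.zero_mem _
        · exact Submodule.subset_span h0
      have h3 : x = (1 : K) ⊗ₜ[P] f ⟨x, hx⟩ := h1.symm
      rw [h3, LinearMap.lTensor_tmul, (Submodule.Quotient.mk_eq_zero N).2 h2 |> (fun h => (show N.mkQ (f ⟨x, hx⟩) = 0 from h)),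
        TensorProduct.tmul_zero]
    | zero => simp
    | add x y _ _ hx hy => rw [map_add, hx, hy, add_zero]
    | smul a x _ hx =>
      have : (LinearMap.lTensor K N.mkQ) (a • x) = a • (LinearMap.lTensor K N.mkQ) x := by
        exact (TensorProduct.AlgebraTensorModule.lTensor K K N.mkQ).map_smul a x
      rw [this, hx, smul_zero]
  obtain ⟨a, ha, ha'⟩ := exists_smul_eq_zero hsub
  refine ⟨a, s, ha, fun x => ?_⟩
  have := ha' (Submodule.Quotient.mk x)
  rwa [← Submodule.Quotient.mk_smul, Submodule.Quotient.mk_eq_zero] at this

end Groth.Agent.Sga3B.FibreNak
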