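import Groth.Agent.Sga3B.MaxTorusCrit
import Mathlib.FieldTheory.IsAlgClosed.Basic

/-!
# Maximal tori over an algebraically closed field, and self-centralising ones
-/

set_option autoImplicit false

open CategoryTheory MonoidalCategory CartesianMonoidalCategory AlgebraicGeometry Limits Opposite
open TensorProduct WithConv
open scoped MonObj
open Groth.Agent.Sga3B.HaarDef Groth.Agent.Sga3B.AffTest Groth.Agent.Sga3B.PtData Groth.Agent.Sga3B.TorusLie
open Groth.Agent.Sga3B.TorusWt Groth.Agent.Sga3B.PtMor Groth.Agent.Sga3B.PtProp Groth.Agent.Sga3B.TorusRk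
open Groth.Agent.Sga3B.MaxTorusCrit

namespace Groth.Agent.Sga3B.FibreTorus

noncomputable section

universe u

section Alg

variable {R : Type u} [CommRing R] {N : Type} [CommGroup N]
variable {C : Type u} [CommRing C] [HopfAlgebra R C]
variable {X Y : Type u} [CommRing X] [Algebra R X] [CommRing Y] [Algebra R Y]

lemma amono_map {F : WithConv (C →ₐ[R] MonoidAlgebra R N ⊗[R] X)} (h : AMono F) (g : X →ₐ[R] Y) :
    AMono (pushG (HaarDef.T (MonoidAlgebra R N) g) F) := by
  intro A _ _ f χ χ' hχ
  have key : ∀ χ : N →* A, pushG (pt f χ) (pushG (HaarDef.T (MonoidAlgebra R N) g) F) = pushG (pt (f.comp g) χ) F := by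
    intro χ
    apply lin_injective
    rw [lin_pushG_pt, lin_pushG_pt, Phi_T]
  rw [key, key] at hχ
  exact h A (f.comp g) χ χ' hχ

lemma isHom_one : IsHom (1 : WithConv (C →ₐ[R] MonoidAlgebra R N ⊗[R] X)) := by
  unfold IsHom
  simp only [map_one, mul_one]

lemma amono_one [Subsingleton N] : AMono (1 : WithConv (C →ₐ[R] MonoidAlgebra R N ⊗[R] X)) := by
  intro A _ _ f χ χ' _
  ext n
  rw [Subsingleton.elim n 1, map_one, map_one]

end Alg

/-- The geometric residue field of a point of the spectrum of a field. -/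
lemma exists_retraction {R K : Type u} [CommRing R] [Field K] [IsAlgClosed K] [Algebra R K]
    (s : Spec (CommRingCat.of K)) [Algebra R (AlgebraicClosure ((Spec (CommRingCat.of K)).residueField s))]
    (f : K →ₐ[R] AlgebraicClosure ((Spec (CommRingCat.of K)).residueField s))
    (hf : Spec.map (CommRingCat.ofHom f.toRingHom) = Red.geomPt s) :
    Nonempty (AlgebraicClosure ((Spec (CommRingCat.of K)).residueField s) →ₐ[R] K) := by
  let κ := (Spec (CommRingCat.of K)).residueField s
  let ψ : K →+* κ := (Scheme.Spec.residueFieldIso (CommRingCat.of K) s).inv.hom.comp (algebraMap K s.asIdeal.ResidueField)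
  have h1 : f.toRingHom = (algebraMap κ (AlgebraicClosure κ)).comp ψ := by
    have h2 : CommRingCat.ofHom f.toRingHom = CommRingCat.ofHom ((algebraMap κ (AlgebraicClosure κ)).comp ψ) := by
      apply Spec.map_injective
      rw [hf]
      show Spec.map _ ≫ (Spec (CommRingCat.of K)).fromSpecResidueField s = _
      rw [← Scheme.Spec.map_residueFieldIso_inv_eq_fromSpecResidueField, ← Spec.map_comp, ← Spec.map_comp]
      rfl
    exact congrArg CommRingCat.Hom.hom h2
  have hmax : s.asIdeal.IsMaximal := by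
    have : s.asIdeal = ⊥ := (Ideal.eq_bot_or_top s.asIdeal).resolve_right s.2.ne_top
    rw [this]
    exact Ideal.bot_isMaximal
  have hψ : Function.Surjective ψ := by
    intro y
    obtain ⟨z, hz⟩ := (Scheme.Spec.residueFieldIso (CommRingCat.of K) s).symm.commRingCatIsoToRingEquiv.surjective y
    obtain ⟨w, hw⟩ := s.asIdeal.algebraMap_residueField_surjective z
    exact ⟨w, (congrArg (Scheme.Spec.residueFieldIso (CommRingCat.of K) s).inv.hom hw).trans hz⟩
  have hint : f.toRingHom.IsIntegral := by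
    rw [h1]
    refine RingHom.IsIntegral.trans _ _ (RingHom.isIntegral_of_surjective _ hψ) ?_
    exact algebraMap_isIntegral_iff.2 (AlgebraicClosure.isAlgebraic κ).isIntegral
  let : Algebra K (AlgebraicClosure κ) := f.toRingHom.toAlgebra
  have : IsScalarTower R K (AlgebraicClosure κ) := IsScalarTower.of_algebraMap_eq fun x => (f.commutes x).symm
  have : Algebra.IsIntegral K (AlgebraicClosure κ) := ⟨hint⟩
  let g : AlgebraicClosure κ →ₐ[K] K := IsAlgClosed.lift
  exact ⟨g.restrictScalars R⟩

/-- Existence of maximal tori over an algebraically closed field. -/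
theorem exists_maximalTorus {R C K : Type u} [CommRing R] [CommRing C] [HopfAlgebra R C] [Algebra.FiniteType R C]
    [Field K] [IsAlgClosed K] [Algebra R K]
    {G : Over (Spec (CommRingCat.of K))} [GrpObj G] [IsAffine G.left] (PG : PtStr R C K G) :
    ∃ (r : ℕ) (F : WithConv (C →ₐ[R] MonoidAlgebra R (Multiplicative (Fin r → ℤ)) ⊗[R] K))
      (i : Red.DS (Spec (CommRingCat.of K)) (Fin r → ℤ) ⟶ G), IsHom F ∧ AMono F ∧
      Corr (dsStr R K (Fin r → ℤ)) PG i F ∧ Red.IsMaximalTorus i := by
  obtain ⟨t, ht⟩ := (inferInstance : Algebra.FiniteType R C).out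
  have hx : Algebra.adjoin R (Set.range (Subtype.val : t → C)) = ⊤ := by
    rw [Subtype.range_coe]
    exact ht
  let S : Set ℕ := {r | ∃ F : WithConv (C →ₐ[R] MonoidAlgebra R (Multiplicative (Fin r → ℤ)) ⊗[R] K),
    IsHom F ∧ AMono F}
  have hS1 : S.Nonempty := ⟨0, 1, isHom_one, amono_one⟩
  have hS2 : BddAbove S := by
    refine ⟨Fintype.card t, ?_⟩
    rintro r ⟨F, hF, hm⟩
    exact rank_le_of_adjoin _ hx hF hm
  obtain ⟨F, hF, hm⟩ := Nat.sSup_mem hS1 hS2
  have : IsAffine (Red.DS (Spec (CommRingCat.of K)) (Fin (sSup S) → ℤ)).left := isAffine_left_of_isAffineHom _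
  obtain ⟨i, hi⟩ := exists_mor (dsStr R K (Fin (sSup S) → ℤ)) PG F
  refine ⟨sSup S, F, i, hF, hm, hi, isMaximalTorus_of_corr PG hi hF hm ?_⟩
  intro s _ f hf r' F' χ hF' hm' _
  obtain ⟨g⟩ := exists_retraction s f hf
  exact le_csSup hS2 ⟨_, hF'.map g, amono_map hm' g⟩

end

end Groth.Agent.Sga3B.FibreTorus
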