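import Mathlib.AlgebraicGeometry.AffineSpace
import Mathlib.AlgebraicGeometry.Morphisms.FiniteType
import Mathlib.AlgebraicGeometry.Group.Affine
import Mathlib.CategoryTheory.Monoidal.Cartesian.Over
import Mathlib.CategoryTheory.Monoidal.Cartesian.Grp
import Mathlib.LinearAlgebra.Matrix.GeneralLinearGroup.Defs

/-!
# The general linear group as a group scheme over any base

`GLS m S : Over S` represents `T ↦ GL m Γ(T, ⊤)`.
-/

set_option autoImplicit false

universe u

open CategoryTheory MonoidalCategory CartesianMonoidalCategory AlgebraicGeometry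

namespace Groth.Agent.Sga3B.GLn

lemma isUnit_of_basicOpen_eq {X : Scheme.{u}} {U : X.Opens} (f : Γ(X, U)) (h : X.basicOpen f = U) :
    IsUnit f := by
  refine RingedSpace.isUnit_of_isUnit_germ X.toRingedSpace U f fun x hx => ?_
  have hx' : x ∈ X.basicOpen f := by rw [h]; exact hx
  exact (X.toRingedSpace.mem_basicOpen f x hx).mp hx'

variable (m : Type u) [Fintype m] [DecidableEq m] (S : Scheme.{u})

/-- the generic matrix over affine space -/
noncomputable def genMat : Matrix m m Γ(𝔸(m × m; S), ⊤) :=
  Matrix.of fun i j => AffineSpace.coord S (i, j)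

/-- the open subscheme where the generic matrix is invertible -/
noncomputable def opn : (𝔸(m × m; S)).Opens := (𝔸(m × m; S)).basicOpen (genMat m S).det

/-- The general linear group over S. -/
noncomputable def GLS : Over S := Over.mk ((opn m S).ι ≫ (𝔸(m × m; S) ↘ S))

/-- the embedding in affine space -/
noncomputable def toAff : (GLS m S).left ⟶ 𝔸(m × m; S) := (opn m S).ι

instance : IsOpenImmersion (toAff m S) := inferInstanceAs (IsOpenImmersion (opn m S).ι)

@[reassoc (attr := simp)]
lemma toAff_over : toAff m S ≫ (𝔸(m × m; S) ↘ S) = (GLS m S).hom := rfl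

lemma opensRange_toAff : (toAff m S).opensRange = opn m S := (opn m S).opensRange_ι

/-- pull back a matrix of functions -/
noncomputable def pull {X Y : Scheme.{u}} (f : X ⟶ Y) : Matrix m m Γ(Y, ⊤) →+* Matrix m m Γ(X, ⊤) :=
  f.appTop.hom.mapMatrix

variable {m S}

@[simp]
lemma pull_apply {X Y : Scheme.{u}} (f : X ⟶ Y) (M : Matrix m m Γ(Y, ⊤)) (i j : m) :
    pull m f M i j = f.appTop (M i j) := rfl

lemma pull_comp {X Y Z : Scheme.{u}} (f : X ⟶ Y) (g : Y ⟶ Z) (M : Matrix m m Γ(Z, ⊤)) :
    pull m (f ≫ g) M = pull m f (pull m g M) := by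
  ext i j
  rw [pull_apply, Scheme.Hom.comp_appTop]
  rfl

lemma det_pull {X Y : Scheme.{u}} (f : X ⟶ Y) (M : Matrix m m Γ(Y, ⊤)) :
    (pull m f M).det = f.appTop M.det :=
  (RingHom.map_det f.appTop.hom M).symm

lemma isUnit_det_genMat : IsUnit (pull m (toAff m S) (genMat m S)).det := by
  rw [det_pull]
  apply isUnit_of_basicOpen_eq
  have h := Scheme.preimage_basicOpen (toAff m S) (U := ⊤) (genMat m S).det
  have h3 : toAff m S ⁻¹ᵁ (𝔸(m × m; S)).basicOpen (genMat m S).det = ⊤ := by
    have : (𝔸(m × m; S)).basicOpen (genMat m S).det = (toAff m S).opensRange := by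
      rw [opensRange_toAff]; rfl
    rw [this]
    exact Scheme.Hom.preimage_opensRange _
  exact h.symm.trans h3

/-- The matrix of a point. -/
noncomputable def mat {T : Over S} (f : T ⟶ GLS m S) : Matrix m m Γ(T.left, ⊤) :=
  pull m (f.left ≫ toAff m S) (genMat m S)

lemma mat_comp {T T' : Over S} (g : T' ⟶ T) (f : T ⟶ GLS m S) :
    mat (g ≫ f) = pull m g.left (mat f) := by
  rw [mat, mat, ← pull_comp, Over.comp_left, Category.assoc]

lemma isUnit_det_mat {T : Over S} (f : T ⟶ GLS m S) : IsUnit (mat f).det := by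
  rw [mat, pull_comp, det_pull]
  exact isUnit_det_genMat.map f.left.appTop.hom

lemma toAff_aux {T : Over S} (M : Matrix m m Γ(T.left, ⊤)) (hM : IsUnit M.det) :
    Set.range (AffineSpace.homOfVector (S := S) (n := m × m) T.hom fun p => M p.1 p.2) ⊆
      Set.range (toAff m S) := by
      have hr : Set.range (toAff m S) = (opn m S : Set (𝔸(m × m; S))) := by
        rw [← opensRange_toAff]; rfl
      rw [hr]
      rintro _ ⟨x, rfl⟩
      have h := Scheme.preimage_basicOpen
        (AffineSpace.homOfVector (S := S) (n := m × m) T.hom fun p => M p.1 p.2) (U := ⊤)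
          (genMat m S).det
      have h2 : (AffineSpace.homOfVector (S := S) (n := m × m) T.hom fun p => M p.1 p.2).appTop
          (genMat m S).det = M.det := by
        rw [← det_pull]
        congr 1
        ext i j
        simp [genMat]
      have h3 : T.left.basicOpen ((AffineSpace.homOfVector (S := S) (n := m × m) T.hom
          fun p => M p.1 p.2).appTop (genMat m S).det) = ⊤ := by
        rw [h2]
        exact Scheme.basicOpen_of_isUnit _ hM
      have h4 := h.trans h3
      have : x ∈ (⊤ : T.left.Opens) := trivial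
      rw [← h4] at this
      exact this

/-- The point attached to an invertible matrix. -/
noncomputable def ofMat {T : Over S} (M : Matrix m m Γ(T.left, ⊤)) (hM : IsUnit M.det) :
    T ⟶ GLS m S :=
  Over.homMk (IsOpenImmersion.lift (toAff m S)
    (AffineSpace.homOfVector T.hom fun p => M p.1 p.2) (toAff_aux M hM))
    (by
      rw [← toAff_over, IsOpenImmersion.lift_fac_assoc]
      simp)

@[simp]
lemma ofMat_toAff {T : Over S} (M : Matrix m m Γ(T.left, ⊤)) (hM : IsUnit M.det) :
    (ofMat M hM).left ≫ toAff m S = AffineSpace.homOfVector T.hom fun p => M p.1 p.2 := by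
  simp [ofMat, IsOpenImmersion.lift_fac]

@[simp]
lemma mat_ofMat {T : Over S} (M : Matrix m m Γ(T.left, ⊤)) (hM : IsUnit M.det) :
    mat (ofMat M hM) = M := by
  ext i j
  simp [mat, genMat]

lemma mat_injective {T : Over S} {f g : T ⟶ GLS m S} (h : mat f = mat g) : f = g := by
  ext1
  rw [← cancel_mono (toAff m S)]
  apply AffineSpace.hom_ext
  · simp
  · rintro ⟨i, j⟩
    exact congrFun (congrFun h i) j

variable (m S)

/-- The functor `T ↦ GL m Γ(T, ⊤)`. -/
noncomputable def fGL : (Over S)ᵒᵖ ⥤ GrpCat.{u} where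
  obj T := GrpCat.of (Matrix m m Γ(T.unop.left, ⊤))ˣ
  map f := GrpCat.ofHom (Units.map (pull m f.unop.left).toMonoidHom)
  map_id T := by
    ext M i j
    simp [pull]
  map_comp f g := by
    ext M i j
    exact congrFun (congrFun (pull_comp (m := m) g.unop.left f.unop.left M.val) i) j

/-- `GLS` represents `fGL`. -/
noncomputable def repr : (fGL m S ⋙ forget _).RepresentableBy (GLS m S) where
  homEquiv {T} :=
    { toFun f := ((Matrix.isUnit_iff_isUnit_det (mat f)).mpr (isUnit_det_mat f)).unit
      invFun M := ofMat M.val ((Matrix.isUnit_iff_isUnit_det _).mp M.isUnit)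
      left_inv f := by
        apply mat_injective
        simp
      right_inv M := by
        apply Units.ext
        exact mat_ofMat _ _ }
  homEquiv_comp f g := by
    apply Units.ext
    exact mat_comp f g

noncomputable instance : GrpObj (GLS m S) := GrpObj.ofRepresentableBy _ _ (repr m S)

open MonObj

variable {m S}

lemma mat_mul {T : Over S} (f g : T ⟶ GLS m S) : mat (f * g) = mat f * mat g := by
  have h := ((yonedaGrpObjIsoOfRepresentableBy (GLS m S) (fGL m S) (repr m S)).hom.app
    (Opposite.op T)).hom.map_mul f g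
  exact congrArg Units.val h

lemma mat_one {T : Over S} : mat (1 : T ⟶ GLS m S) = 1 := by
  have h := ((yonedaGrpObjIsoOfRepresentableBy (GLS m S) (fGL m S) (repr m S)).hom.app
    (Opposite.op T)).hom.map_one
  exact congrArg Units.val h

/-- A morphism to `GLS` is a homomorphism when it is multiplicative on the universal pair of points. -/
lemma isMonHom_of_mat {G : Over S} [MonObj G] (f : G ⟶ GLS m S)
    (h : ∀ (T : Over S) (x y : T ⟶ G), mat ((x * y) ≫ f) = mat (x ≫ f) * mat (y ≫ f)) : IsMonHom f := by
  have hm : ∀ (T : Over S) (x y : T ⟶ G), (x * y) ≫ f = (x ≫ f) * (y ≫ f) := by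
    intro T x y
    apply mat_injective
    rw [h, mat_mul]
  have h1 : (1 : 𝟙_ (Over S) ⟶ G) ≫ f = 1 := by
    have := hm _ (1 : 𝟙_ (Over S) ⟶ G) 1
    rw [_root_.mul_one] at this
    exact left_eq_mul.mp this
  refine ⟨?_, ?_⟩
  · rw [one_eq_one, h1, one_eq_one]
  · rw [mul_eq_mul, hm, mul_eq_mul, MonObj.comp_mul, tensorHom_fst, tensorHom_snd]

instance : IsAffineHom (toAff m S) :=
  inferInstanceAs (IsAffineHom ((𝔸(m × m; S)).basicOpen (genMat m S).det).ι)

instance : IsAffineHom (GLS m S).hom := by
  rw [← toAff_over]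
  infer_instance

instance : LocallyOfFinitePresentation (GLS m S).hom := by
  rw [← toAff_over]
  infer_instance

end Groth.Agent.Sga3B.GLn
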