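import Mathlib.RingTheory.GradedAlgebra.Basic
import Mathlib.RingTheory.Smooth.Basic
import Mathlib.Algebra.MonoidAlgebra.Basic
import Mathlib.RingTheory.FinitePresentation

/-!
# The dynamic method for a graded algebra (an affine scheme with an action of a diagonalizable group)

`𝒜 : M → Submodule k A` a grading of the commutative `k`-algebra `A` by an abelian group `M` and
`S` a submonoid of `M`.  The ideal `JS 𝒜 S` is generated by the `𝒜 m`, `m ∉ S`.
If `A` is formally smooth (smooth and finitely presented) over `k`, so is `A ⧸ JS 𝒜 S`.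
-/

set_option autoImplicit false
set_option linter.unusedSectionVars false

universe u v

namespace Groth.Agent.Sga3B.GrDynAlg678

open DirectSum

section Basic

variable {k : Type*} [CommRing k] {A : Type*} [CommRing A] [Algebra k A]
variable {M : Type*} [AddCommGroup M] [DecidableEq M] (𝒜 : M → Submodule k A) [GradedAlgebra 𝒜]
variable {R : Type*} [CommRing R] [Algebra k R]

/-- the homogeneous component of degree `m` -/
noncomputable abbrev pr (m : M) : A →ₗ[k] A := GradedAlgebra.proj 𝒜 m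

lemma pr_mem (m : M) (a : A) : pr 𝒜 m a ∈ 𝒜 m := (decompose 𝒜 a m).2

lemma pr_same {m : M} {a : A} (ha : a ∈ 𝒜 m) : pr 𝒜 m a = a := by
  rw [GradedAlgebra.proj_apply, decompose_of_mem_same 𝒜 ha]

lemma pr_ne {m n : M} {a : A} (ha : a ∈ 𝒜 m) (h : m ≠ n) : pr 𝒜 n a = 0 := by
  rw [GradedAlgebra.proj_apply, decompose_of_mem_ne 𝒜 ha h]

/-- the support of an element -/
noncomputable def supp (a : A) : Finset M := by
  classical exact (decompose 𝒜 a).support

lemma pr_eq_zero_of_notMem {a : A} {m : M} (h : m ∉ supp 𝒜 a) : pr 𝒜 m a = 0 := by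
  classical
  rw [supp, DFinsupp.notMem_support_iff] at h
  rw [GradedAlgebra.proj_apply, h]
  rfl

lemma sum_pr (a : A) : ∑ m ∈ supp 𝒜 a, pr 𝒜 m a = a := by
  classical
  exact sum_support_decompose 𝒜 a

lemma linearMap_ext {N : Type*} [AddCommMonoid N] [Module k N] {f g : A →ₗ[k] N}
    (h : ∀ m a, a ∈ 𝒜 m → f a = g a) : f = g := by
  ext a
  rw [← sum_pr 𝒜 a, map_sum, map_sum]
  exact Finset.sum_congr rfl fun m _ => h m _ (pr_mem 𝒜 m a)

lemma algHom_ext {R : Type*} [Semiring R] [Algebra k R] {f g : A →ₐ[k] R}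
    (h : ∀ m a, a ∈ 𝒜 m → f a = g a) : f = g :=
  AlgHom.toLinearMap_injective (linearMap_ext 𝒜 h)

/-- glue an algebra map from its restrictions to the homogeneous pieces -/
lemma exists_algHom {R : Type*} [Semiring R] [Algebra k R] (F : M → A →ₗ[k] R) (hone : F 0 1 = 1)
    (hmul : ∀ i j a b, a ∈ 𝒜 i → b ∈ 𝒜 j → F (i + j) (a * b) = F i a * F j b) :
    ∃ g : A →ₐ[k] R, ∀ i a, a ∈ 𝒜 i → g a = F i a := by
  let G : DirectSum M (fun i => 𝒜 i) →ₐ[k] R :=
    DirectSum.toAlgebra k (fun i => 𝒜 i) (fun i => (F i).comp (Submodule.subtype _))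
    hone (fun {i j} a b => hmul i j a b a.2 b.2)
  have hG : ∀ i (a : 𝒜 i), G (DirectSum.of (fun i => 𝒜 i) i a) = F i a := by
    intro i a
    exact DirectSum.toSemiring_of (A := fun i => 𝒜 i)
      (fun i => ((F i).comp (Submodule.subtype (𝒜 i))).toAddMonoidHom) hone
      (fun {i j} a b => hmul i j a b a.2 b.2) i a
  refine ⟨G.comp (DirectSum.decomposeAlgEquiv 𝒜).toAlgHom, ?_⟩
  intro i a ha
  change G (DirectSum.decompose 𝒜 a) = _
  rw [DirectSum.decompose_of_mem 𝒜 ha, hG]

/-- extracting the diagonal coefficients -/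
lemma exists_diag (I : Ideal R) (hI : ∀ x ∈ I, ∀ y ∈ I, x * y = 0)
    (H : A →ₐ[k] AddMonoidAlgebra R M)
    (hH : ∀ i a, a ∈ 𝒜 i → ∀ m, m ≠ i → (H a).coeff m ∈ I) :
    ∃ g : A →ₐ[k] R, ∀ i a, a ∈ 𝒜 i → g a = (H a).coeff i := by
  classical
  refine exists_algHom 𝒜 (fun i =>
    { toFun := fun a => (H a).coeff i
      map_add' := fun a b => by simp
      map_smul' := fun c a => by simp }) ?_ ?_
  · simp
  · intro i j a b ha hb
    simp only [LinearMap.coe_mk, AddHom.coe_mk, map_mul]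
    rw [AddMonoidAlgebra.coeff_mul, Finsupp.sum, Finset.sum_eq_single i]
    · rw [Finsupp.sum, Finset.sum_eq_single j]
      · rw [if_pos rfl]
      · intro m _ hm
        rw [if_neg]
        intro h
        exact hm (add_left_cancel h)
      · intro hj
        rw [Finsupp.notMem_support_iff] at hj
        rw [if_pos rfl, hj, mul_zero]
    · intro m _ hm
      rw [Finsupp.sum]
      apply Finset.sum_eq_zero
      intro n _
      split_ifs with hmn
      · refine hI _ (hH i a ha m hm) _ (hH j b hb n ?_)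
        rintro rfl
        exact hm (add_right_cancel hmn)
      · rfl
    · intro hi
      rw [Finsupp.notMem_support_iff] at hi
      rw [hi, Finsupp.sum]
      apply Finset.sum_eq_zero
      intro n _
      simp

variable {𝒜} in
/-- the orbit map of a point, restricted to degrees in the submonoid `S`. -/
lemma exists_orb (S : AddSubmonoid M) (g : A →ₐ[k] R) (hg : ∀ m ∉ S, ∀ a ∈ 𝒜 m, g a = 0) :
    ∃ h : A →ₐ[k] AddMonoidAlgebra R S, (∀ (m : M) (hm : m ∈ S) (a : A), a ∈ 𝒜 m →
      h a = AddMonoidAlgebra.single ⟨m, hm⟩ (g a)) ∧ ∀ m ∉ S, ∀ a ∈ 𝒜 m, h a = 0 := by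
  classical
  obtain ⟨h, hh⟩ := exists_algHom 𝒜 (R := AddMonoidAlgebra R S) (fun m =>
    { toFun := fun a => if hm : m ∈ S then AddMonoidAlgebra.single ⟨m, hm⟩ (g a) else 0
      map_add' := fun a b => by
        split_ifs
        · rw [map_add, AddMonoidAlgebra.single_add]
        · simp
      map_smul' := fun c a => by
        split_ifs
        · simp
        · simp }) (by simp [AddMonoidAlgebra.one_def]; rfl) (by
      intro i j a b ha hb
      simp only [LinearMap.coe_mk, AddHom.coe_mk, map_mul]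
      by_cases hi : i ∈ S
      · by_cases hj : j ∈ S
        · rw [dif_pos hi, dif_pos hj, dif_pos (S.add_mem hi hj),
            AddMonoidAlgebra.single_mul_single]
          rfl
        · rw [dif_neg hj, hg j hj b hb]
          simp
      · rw [dif_neg hi, hg i hi a ha]
        simp)
  refine ⟨h, fun m hm a ha => ?_, fun m hm a ha => ?_⟩
  · rw [hh m a ha]
    simp [hm]
  · rw [hh m a ha]
    simp [hm]

lemma mapAlgHom_surjective {R' : Type*} [CommRing R'] [Algebra k R'] {N : Type*} [AddMonoid N]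
    (φ : R →ₐ[k] R') (hφ : Function.Surjective φ) :
    Function.Surjective (AddMonoidAlgebra.mapAlgHom N φ) := by
  intro f
  induction f using AddMonoidAlgebra.induction_linear with
  | zero => exact ⟨0, map_zero _⟩
  | add f g hf hg =>
    obtain ⟨f', rfl⟩ := hf
    obtain ⟨g', rfl⟩ := hg
    exact ⟨f' + g', map_add _ _ _⟩
  | single n r =>
    obtain ⟨r', rfl⟩ := hφ r
    exact ⟨AddMonoidAlgebra.single n r', AddMonoidAlgebra.mapAlgHom_single _ _ _⟩

lemma isNilpotent_ker_mapAlgHom {N : Type*} [AddCommMonoid N] (I : Ideal R) (hI : I ^ 2 = ⊥) :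
    IsNilpotent (RingHom.ker (AddMonoidAlgebra.mapAlgHom N (Ideal.Quotient.mkₐ k I) :
      AddMonoidAlgebra R N →+* AddMonoidAlgebra (R ⧸ I) N)) := by
  classical
  refine ⟨2, ?_⟩
  have hmem : ∀ x ∈ RingHom.ker (AddMonoidAlgebra.mapAlgHom N (Ideal.Quotient.mkₐ k I) :
      AddMonoidAlgebra R N →+* AddMonoidAlgebra (R ⧸ I) N), ∀ n, x.coeff n ∈ I := by
    intro x hx n
    have h0 : AddMonoidAlgebra.mapAlgHom N (Ideal.Quotient.mkₐ k I) x = 0 := hx
    have h1 := congrArg (fun f => f.coeff n) h0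
    simp only [AddMonoidAlgebra.coeff_mapAlgHom] at h1
    exact Ideal.Quotient.eq_zero_iff_mem.1 h1
  rw [pow_two, Ideal.zero_eq_bot, eq_bot_iff, Ideal.mul_le]
  intro x hx y hy
  rw [Ideal.mem_bot]
  ext n
  rw [AddMonoidAlgebra.coeff_mul, Finsupp.sum]
  apply Finset.sum_eq_zero
  intro i _
  rw [Finsupp.sum]
  apply Finset.sum_eq_zero
  intro j _
  split_ifs
  · have h1 := Ideal.mul_mem_mul (hmem x hx i) (hmem y hy j)
    rw [← pow_two, hI] at h1
    exact h1
  · rfl

/-- lifting of points of `Spec (A ⧸ JS 𝒜 S)` along square-zero extensions. -/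
theorem exists_lift [Algebra.FormallySmooth k A] (S : AddSubmonoid M) (I : Ideal R)
    (hI : I ^ 2 = ⊥) (g : A →ₐ[k] R ⧸ I) (hg : ∀ m ∉ S, ∀ a ∈ 𝒜 m, g a = 0) :
    ∃ g' : A →ₐ[k] R, (∀ m ∉ S, ∀ a ∈ 𝒜 m, g' a = 0) ∧ (Ideal.Quotient.mkₐ k I).comp g' = g := by
  classical
  have hII : ∀ x ∈ I, ∀ y ∈ I, x * y = 0 := by
    intro x hx y hy
    have h1 := Ideal.mul_mem_mul hx hy
    rw [← pow_two, hI] at h1
    exact h1
  obtain ⟨h, hh, hh0⟩ := exists_orb (𝒜 := 𝒜) S g hg
  let q : AddMonoidAlgebra R S →ₐ[k] AddMonoidAlgebra (R ⧸ I) S :=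
    AddMonoidAlgebra.mapAlgHom S (Ideal.Quotient.mkₐ k I)
  have hq : Function.Surjective q := mapAlgHom_surjective _ Ideal.Quotient.mk_surjective
  have hker := isNilpotent_ker_mapAlgHom (k := k) (N := S) I hI
  let h' : A →ₐ[k] AddMonoidAlgebra R S := Algebra.FormallySmooth.liftOfSurjective h q hq hker
  have hqh' : ∀ a, q (h' a) = h a := fun a =>
    Algebra.FormallySmooth.liftOfSurjective_apply h q hq hker a
  let e : AddMonoidAlgebra R S →ₐ[k] AddMonoidAlgebra R M :=
    AddMonoidAlgebra.mapDomainAlgHom k R S.subtype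
  have he : ∀ (f : AddMonoidAlgebra R S) (m : S), (e f).coeff m = f.coeff m := by
    intro f m
    exact Finsupp.mapDomain_apply Subtype.val_injective f.coeff m
  have he0 : ∀ (f : AddMonoidAlgebra R S) (m : M), m ∉ S → (e f).coeff m = 0 := by
    intro f m hm
    exact Finsupp.mapDomain_of_notMem_range _ _ (by
      rintro ⟨m', rfl⟩
      exact hm m'.2)
  have hcoeff : ∀ a (m : S), Ideal.Quotient.mk I ((h' a).coeff m) = (h a).coeff m := by
    intro a m
    rw [← hqh']
    exact (AddMonoidAlgebra.coeff_mapAlgHom (Ideal.Quotient.mkₐ k I) (h' a) m).symm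
  obtain ⟨g', hg'⟩ := exists_diag 𝒜 I hII (e.comp h') (by
    intro i a ha m hm
    rw [AlgHom.comp_apply]
    by_cases hmS : m ∈ S
    · have h1 := he (h' a) ⟨m, hmS⟩
      change (e (h' a)).coeff m = _ at h1
      rw [h1]
      apply Ideal.Quotient.eq_zero_iff_mem.1
      rw [hcoeff]
      by_cases hi : i ∈ S
      · rw [hh i hi a ha, AddMonoidAlgebra.coeff_single, Finsupp.single_eq_of_ne]
        intro h
        exact hm (congrArg Subtype.val h)
      · rw [hh0 i hi a ha]
        rfl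
    · rw [he0 _ _ hmS]
      exact I.zero_mem)
  refine ⟨g', ?_, ?_⟩
  · intro m hm a ha
    rw [hg' m a ha, AlgHom.comp_apply, he0 _ _ hm]
  · apply algHom_ext 𝒜
    intro i a ha
    rw [AlgHom.comp_apply, hg' i a ha, AlgHom.comp_apply]
    by_cases hi : i ∈ S
    · have h1 := he (h' a) ⟨i, hi⟩
      change (e (h' a)).coeff i = _ at h1
      rw [h1]
      change Ideal.Quotient.mk I _ = _
      rw [hcoeff, hh i hi a ha, AddMonoidAlgebra.coeff_single, Finsupp.single_eq_same]
    · rw [he0 _ _ hi, map_zero, hg i hi a ha]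

end Basic

section Quot

variable {k : Type u} [CommRing k] {A : Type v} [CommRing A] [Algebra k A]
variable {M : Type*} [AddCommGroup M] [DecidableEq M] (𝒜 : M → Submodule k A) [GradedAlgebra 𝒜]

/-- the ideal of the closed subscheme of `Spec A` of points with limits along `S` -/
def JS (S : AddSubmonoid M) : Ideal A := Ideal.span {a | ∃ m ∉ S, a ∈ 𝒜 m}

variable {R : Type*} [CommRing R] [Algebra k R]

lemma mem_JS {S : AddSubmonoid M} {m : M} (hm : m ∉ S) {a : A} (ha : a ∈ 𝒜 m) : a ∈ JS 𝒜 S :=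
  Ideal.subset_span ⟨m, hm, ha⟩

lemma vanish_JS_iff (S : AddSubmonoid M) (g : A →ₐ[k] R) :
    (∀ a ∈ JS 𝒜 S, g a = 0) ↔ ∀ m ∉ S, ∀ a ∈ 𝒜 m, g a = 0 := by
  constructor
  · intro h m hm a ha
    exact h a (mem_JS 𝒜 hm ha)
  · intro h a ha
    have : JS 𝒜 S ≤ RingHom.ker g := by
      rw [JS, Ideal.span_le]
      rintro x ⟨m, hm, hx⟩
      exact h m hm x hx
    exact this ha

/-- a quotient whose points lift along square-zero extensions is formally smooth. -/
lemma formallySmooth_quotient (J : Ideal A)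
    (H : ∀ (B : Type (max u v)) [CommRing B] [Algebra k B] (I : Ideal B), I ^ 2 = ⊥ →
      ∀ g : A →ₐ[k] B ⧸ I, (∀ a ∈ J, g a = 0) →
        ∃ g' : A →ₐ[k] B, (∀ a ∈ J, g' a = 0) ∧
          (Ideal.Quotient.mkₐ k I).comp g' = g) : Algebra.FormallySmooth k (A ⧸ J) := by
  apply Algebra.FormallySmooth.of_comp_surjective
  intro B _ _ I hI f
  obtain ⟨g', hg', hgg⟩ := H B I hI (f.comp (Ideal.Quotient.mkₐ k J)) (by
    intro a ha
    change f (Ideal.Quotient.mk J a) = 0
    rw [Ideal.Quotient.eq_zero_iff_mem.2 ha, map_zero])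
  refine ⟨Ideal.Quotient.liftₐ J g' hg', ?_⟩
  apply Ideal.Quotient.algHom_ext
  ext a
  exact DFunLike.congr_fun hgg a

instance formallySmooth_JS [Algebra.FormallySmooth k A] (S : AddSubmonoid M) :
    Algebra.FormallySmooth k (A ⧸ JS 𝒜 S) := by
  apply formallySmooth_quotient
  intro B _ _ I hI g hg
  rw [vanish_JS_iff] at hg
  obtain ⟨g', hg', h⟩ := exists_lift 𝒜 S I hI g hg
  exact ⟨g', (vanish_JS_iff 𝒜 S g').2 hg', h⟩

/-- the elements on which `g` vanishes in all degrees outside `S` form a subalgebra -/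
def vanSub (S : AddSubmonoid M) (g : A →ₐ[k] R) : Subalgebra k A where
  carrier := {a | ∀ m ∉ S, g (pr 𝒜 m a) = 0}
  mul_mem' := by
    classical
    intro a b ha hb m hm
    rw [GradedAlgebra.proj_apply, DirectSum.decompose_mul, DirectSum.coe_mul_apply, map_sum]
    apply Finset.sum_eq_zero
    rintro ⟨i, j⟩ hij
    rw [Finset.mem_filter] at hij
    obtain ⟨-, hij⟩ := hij
    rw [map_mul]
    by_cases hi : i ∈ S
    · have hj : j ∉ S := by
        intro hj
        apply hm
        rw [← hij]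
        exact S.add_mem hi hj
      have := hb j hj
      rw [GradedAlgebra.proj_apply] at this
      simp only
      rw [this, mul_zero]
    · have := ha i hi
      rw [GradedAlgebra.proj_apply] at this
      simp only
      rw [this, zero_mul]
  add_mem' := by
    intro a b ha hb m hm
    rw [map_add, map_add, ha m hm, hb m hm, add_zero]
  algebraMap_mem' := by
    intro c m hm
    have h0 : algebraMap k A c ∈ 𝒜 0 := SetLike.algebraMap_mem_graded 𝒜 c
    rw [pr_ne 𝒜 h0, map_zero]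
    rintro rfl
    exact hm S.zero_mem

lemma mem_vanSub {S : AddSubmonoid M} {g : A →ₐ[k] R} {a : A} :
    a ∈ vanSub 𝒜 S g ↔ ∀ m ∉ S, g (pr 𝒜 m a) = 0 := Iff.rfl

/-- to check that `g` vanishes in degrees outside `S` it suffices to look at generators -/
lemma vanish_of_gen (S : AddSubmonoid M) {s : Set A} (hs : Algebra.adjoin k s = ⊤)
    (g : A →ₐ[k] R) (hg : ∀ a ∈ s, ∀ m ∉ S, g (pr 𝒜 m a) = 0) :
    ∀ m ∉ S, ∀ a ∈ 𝒜 m, g a = 0 := by
  have h1 : (⊤ : Subalgebra k A) ≤ vanSub 𝒜 S g := by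
    rw [← hs, Algebra.adjoin_le_iff]
    intro a ha m hm
    exact hg a ha m hm
  intro m hm a ha
  rw [← pr_same 𝒜 ha]
  exact h1 (Algebra.mem_top (x := a)) m hm

open Classical in
/-- a finite set of generators of `JS` -/
noncomputable def comps (S : AddSubmonoid M) (s : Finset A) : Finset A :=
  s.biUnion fun a => ((supp 𝒜 a).filter (· ∉ S)).image fun m => pr 𝒜 m a

lemma mem_comps {S : AddSubmonoid M} {s : Finset A} {a : A} (ha : a ∈ s) {m : M} (hm : m ∉ S) :
    pr 𝒜 m a ∈ Ideal.span (comps 𝒜 S s : Set A) := by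
  classical
  by_cases h : m ∈ supp 𝒜 a
  · apply Ideal.subset_span
    rw [comps, Finset.mem_coe, Finset.mem_biUnion]
    exact ⟨a, ha, Finset.mem_image.2 ⟨m, Finset.mem_filter.2 ⟨h, hm⟩, rfl⟩⟩
  · rw [pr_eq_zero_of_notMem 𝒜 h]
    exact zero_mem _

lemma JS_eq_span (S : AddSubmonoid M) {s : Finset A} (hs : Algebra.adjoin k (s : Set A) = ⊤) :
    JS 𝒜 S = Ideal.span (comps 𝒜 S s : Set A) := by
  classical
  apply le_antisymm
  · intro a ha
    have h1 := (vanish_JS_iff 𝒜 S (Ideal.Quotient.mkₐ k (Ideal.span (comps 𝒜 S s : Set A)))).2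
      (vanish_of_gen 𝒜 S hs _ fun a ha m hm =>
        Ideal.Quotient.eq_zero_iff_mem.2 (mem_comps 𝒜 ha hm)) a ha
    exact Ideal.Quotient.eq_zero_iff_mem.1 h1
  · rw [Ideal.span_le]
    intro x hx
    rw [comps, Finset.mem_coe, Finset.mem_biUnion] at hx
    obtain ⟨a, ha, hx⟩ := hx
    obtain ⟨m, hm, rfl⟩ := Finset.mem_image.1 hx
    exact mem_JS 𝒜 (Finset.mem_filter.1 hm).2 (pr_mem 𝒜 m a)

lemma fg_JS [hft : Algebra.FiniteType k A] (S : AddSubmonoid M) : (JS 𝒜 S).FG := by
  obtain ⟨s, hs⟩ := hft.out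
  rw [JS_eq_span 𝒜 S hs]
  exact ⟨_, rfl⟩

instance finitePresentation_JS [Algebra.FinitePresentation k A] (S : AddSubmonoid M) :
    Algebra.FinitePresentation k (A ⧸ JS 𝒜 S) :=
  Algebra.FinitePresentation.quotient (fg_JS 𝒜 S)

instance smooth_JS [Algebra.Smooth k A] (S : AddSubmonoid M) :
    Algebra.Smooth k (A ⧸ JS 𝒜 S) :=
  haveI : Algebra.FinitePresentation k A := Algebra.Smooth.finitePresentation
  ⟨inferInstance, inferInstance⟩

end Quot

end Groth.Agent.Sga3B.GrDynAlg678
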