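import Groth.Agent.Sga3B.GrDynAlg678
import Groth.Agent.Books.DynBasic
import Groth.Agent.Books.DynLim

/-!
# The dynamic method for a graded Hopf algebra (outer action of a diagonalizable group)

`A` a commutative Hopf algebra over `k` with a grading `𝒜` by an abelian group `M` compatible with
the Hopf structure.  For a submonoid `S` of `M` the ideal `JS 𝒜 S` is a Hopf ideal (the subgroup
`P_S`); for a face `S'` of `S` the kernel of the limit map `P_S → P_{S'}` is the subgroup `U_{S,S'}`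
defined by the Hopf ideal `JU 𝒜 S S'`.
-/

set_option autoImplicit false
set_option linter.unusedSectionVars false

universe u v

open LaurentPolynomial TensorProduct WithConv

namespace Groth.Agent.Sga3B.GrDynHopf678

open Groth.Agent.Sga3B.GrDynAlg678 Groth.Agent.Books.DynBasic Groth.Agent.Books.DynLim

section Defs

variable {k : Type u} [CommRing k] {A : Type u} [CommRing A] [HopfAlgebra k A]
variable {M : Type v} [AddCommGroup M]

/-- compatibility of a grading with the Hopf algebra structure -/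
structure IsHopfGrading (𝒜 : M → Submodule k A) : Prop where
  counit_zero : ∀ m ≠ 0, ∀ a ∈ 𝒜 m, Coalgebra.counit (R := k) a = 0
  comul_mem : ∀ m, ∀ a ∈ 𝒜 m, Coalgebra.comul (R := k) a ∈
    ⨆ i : M, LinearMap.range (TensorProduct.map (𝒜 i).subtype (𝒜 (m - i)).subtype)
  antipode_mem : ∀ m, ∀ a ∈ 𝒜 m, HopfAlgebra.antipodeAlgHom k A a ∈ 𝒜 m

lemma ne_zero_of_notMem {S : AddSubmonoid M} {m : M} (hm : m ∉ S) : m ≠ 0 := by
  rintro rfl
  exact hm S.zero_mem

/-- `S'` is a face of the submonoid `S` -/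
structure IsFace (S S' : AddSubmonoid M) : Prop where
  le : S' ≤ S
  left_mem : ∀ i ∈ S, ∀ j ∈ S, i + j ∈ S' → i ∈ S'

lemma IsFace.right_mem {S S' : AddSubmonoid M} (h : IsFace S S') {i j : M} (hi : i ∈ S)
    (hj : j ∈ S) (hij : i + j ∈ S') : j ∈ S' :=
  h.left_mem j hj i hi (by rwa [add_comm])

end Defs

section Conv

variable {k : Type u} [CommRing k] {A : Type u} [CommRing A] [HopfAlgebra k A]
variable {M : Type v} [AddCommGroup M] {𝒜 : M → Submodule k A}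
variable {R : Type u} [CommRing R] [Algebra k R]

lemma conv_congr (h𝒜 : IsHopfGrading 𝒜) {m : M} {a : A} (ha : a ∈ 𝒜 m) (f g f' g' : A →ₗ[k] R)
    (H : ∀ i, ∀ x ∈ 𝒜 i, ∀ y ∈ 𝒜 (m - i), f x * g y = f' x * g' y) :
    LinearMap.mul' k R (TensorProduct.map f g (Coalgebra.comul (R := k) a)) =
      LinearMap.mul' k R (TensorProduct.map f' g' (Coalgebra.comul (R := k) a)) := by
  have h1 : ⨆ i : M, LinearMap.range (TensorProduct.map (𝒜 i).subtype (𝒜 (m - i)).subtype) ≤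
      LinearMap.ker ((LinearMap.mul' k R).comp (TensorProduct.map f g) -
        (LinearMap.mul' k R).comp (TensorProduct.map f' g')) := by
    apply iSup_le
    rintro i _ ⟨t, rfl⟩
    rw [LinearMap.mem_ker]
    induction t using TensorProduct.induction_on with
    | zero => simp
    | tmul x y =>
      rw [TensorProduct.map_tmul, LinearMap.sub_apply, LinearMap.comp_apply, LinearMap.comp_apply,
        TensorProduct.map_tmul, TensorProduct.map_tmul, LinearMap.mul'_apply, LinearMap.mul'_apply,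
        sub_eq_zero]
      exact H i x x.2 y y.2
    | add x y hx hy => rw [map_add, map_add, hx, hy, add_zero]
  have h2 := h1 (h𝒜.comul_mem m a ha)
  rw [LinearMap.mem_ker, LinearMap.sub_apply, sub_eq_zero] at h2
  exact h2

lemma mul_apply (g h : WithConv (A →ₐ[k] R)) (a : A) :
    (g * h).ofConv a = LinearMap.mul' k R (TensorProduct.map g.ofConv.toLinearMap
      h.ofConv.toLinearMap (Coalgebra.comul (R := k) a)) := by
  have h2 := AlgHom.toLinearMap_convMul g h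
  exact DFunLike.congr_fun (congrArg WithConv.ofConv h2) a

lemma one_apply (a : A) : (1 : WithConv (A →ₐ[k] R)).ofConv a =
    algebraMap k R (Coalgebra.counit (R := k) a) := rfl

lemma inv_apply (g : WithConv (A →ₐ[k] R)) (a : A) :
    (g⁻¹).ofConv a = g.ofConv (HopfAlgebra.antipodeAlgHom k A a) := rfl

lemma counit_antipode (a : A) : Coalgebra.counit (R := k) (HopfAlgebra.antipodeAlgHom k A a) =
    Coalgebra.counit (R := k) a := by
  have h := inv_one (G := WithConv (A →ₐ[k] k))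
  exact DFunLike.congr_fun (congrArg WithConv.ofConv h) a

variable (R) in
/-- the subgroup `P_S` on points -/
def PS (h𝒜 : IsHopfGrading 𝒜) (S : AddSubmonoid M) : Subgroup (WithConv (A →ₐ[k] R)) where
  carrier := {g | ∀ m ∉ S, ∀ a ∈ 𝒜 m, g.ofConv a = 0}
  mul_mem' := by
    intro g h hg hh m hm a ha
    rw [mul_apply]
    refine (conv_congr h𝒜 ha _ _ 0 0 ?_).trans (by simp)
    intro i x hx y hy
    by_cases hi : i ∈ S
    · have hj : m - i ∉ S := fun hj => hm (by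
        have := S.add_mem hi hj
        rwa [add_sub_cancel] at this)
      change g.ofConv x * h.ofConv y = _
      rw [hh _ hj y hy]
      simp
    · change g.ofConv x * h.ofConv y = _
      rw [hg _ hi x hx]
      simp
  one_mem' := by
    intro m hm a ha
    rw [one_apply, h𝒜.counit_zero m (ne_zero_of_notMem hm) a ha, map_zero]
  inv_mem' := by
    intro g hg m hm a ha
    rw [inv_apply]
    exact hg m hm _ (h𝒜.antipode_mem m a ha)

lemma mem_PS (h𝒜 : IsHopfGrading 𝒜) {S : AddSubmonoid M} {g : WithConv (A →ₐ[k] R)} :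
    g ∈ PS R h𝒜 S ↔ ∀ m ∉ S, ∀ a ∈ 𝒜 m, g.ofConv a = 0 := Iff.rfl

variable (R) in
/-- the subgroup `U_{S,S'}` on points -/
def US (h𝒜 : IsHopfGrading 𝒜) {S S' : AddSubmonoid M} (hS : IsFace S S') :
    Subgroup (WithConv (A →ₐ[k] R)) where
  carrier := {g | g ∈ PS R h𝒜 S ∧ ∀ m ∈ S', ∀ a ∈ 𝒜 m,
    g.ofConv a = algebraMap k R (Coalgebra.counit (R := k) a)}
  mul_mem' := by
    rintro g h ⟨hg, hg'⟩ ⟨hh, hh'⟩
    refine ⟨mul_mem hg hh, fun m hm a ha => ?_⟩
    have h1 := conv_congr h𝒜 ha g.ofConv.toLinearMap h.ofConv.toLinearMap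
      (1 : WithConv (A →ₐ[k] R)).ofConv.toLinearMap
      (1 : WithConv (A →ₐ[k] R)).ofConv.toLinearMap (by
      intro i x hx y hy
      change g.ofConv x * h.ofConv y = algebraMap k R (Coalgebra.counit (R := k) x) *
        algebraMap k R (Coalgebra.counit (R := k) y)
      by_cases hi : i ∈ S
      · by_cases hj : m - i ∈ S
        · have hi' : i ∈ S' := hS.left_mem i hi _ hj (by rwa [add_sub_cancel])
          have hj' : m - i ∈ S' := hS.right_mem hi hj (by rwa [add_sub_cancel])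
          rw [hg' i hi' x hx, hh' _ hj' y hy]
        · rw [hh _ hj y hy, h𝒜.counit_zero _ (ne_zero_of_notMem hj) y hy]
          simp
      · rw [hg _ hi x hx, h𝒜.counit_zero _ (ne_zero_of_notMem hi) x hx]
        simp)
    rw [mul_apply, h1, ← mul_apply, one_mul]
    rfl
  one_mem' := ⟨one_mem _, fun m _ a _ => one_apply a⟩
  inv_mem' := by
    rintro g ⟨hg, hg'⟩
    refine ⟨inv_mem hg, fun m hm a ha => ?_⟩
    rw [inv_apply, hg' m hm _ (h𝒜.antipode_mem m a ha), counit_antipode]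

lemma mem_US (h𝒜 : IsHopfGrading 𝒜) {S S' : AddSubmonoid M} (hS : IsFace S S')
    {g : WithConv (A →ₐ[k] R)} :
    g ∈ US R h𝒜 hS ↔ (∀ m ∉ S, ∀ a ∈ 𝒜 m, g.ofConv a = 0) ∧ ∀ m ∈ S', ∀ a ∈ 𝒜 m,
      g.ofConv a = algebraMap k R (Coalgebra.counit (R := k) a) := Iff.rfl

lemma US_le_PS (h𝒜 : IsHopfGrading 𝒜) {S S' : AddSubmonoid M} (hS : IsFace S S') :
    US R h𝒜 hS ≤ PS R h𝒜 S := fun _ h => h.1

lemma PS_mono (h𝒜 : IsHopfGrading 𝒜) {S S' : AddSubmonoid M} (h : S' ≤ S) :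
    PS R h𝒜 S' ≤ PS R h𝒜 S := fun _ hg m hm => hg m (fun h' => hm (h h'))

variable {R' : Type u} [CommRing R'] [Algebra k R']

lemma mapPt_mem_PS (h𝒜 : IsHopfGrading 𝒜) {S : AddSubmonoid M} (φ : R →ₐ[k] R')
    {g : WithConv (A →ₐ[k] R)} (hg : g ∈ PS R h𝒜 S) : mapPt φ g ∈ PS R' h𝒜 S := by
  intro m hm a ha
  rw [mapPt_apply, hg m hm a ha, map_zero]

lemma mapPt_mem_US (h𝒜 : IsHopfGrading 𝒜) {S S' : AddSubmonoid M} (hS : IsFace S S')
    (φ : R →ₐ[k] R') {g : WithConv (A →ₐ[k] R)} (hg : g ∈ US R h𝒜 hS) :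
    mapPt φ g ∈ US R' h𝒜 hS := by
  refine ⟨mapPt_mem_PS h𝒜 φ hg.1, fun m hm a ha => ?_⟩
  rw [mapPt_apply, hg.2 m hm a ha, AlgHom.commutes]

end Conv

section Lim

variable {k : Type u} [CommRing k] {A : Type u} [CommRing A] [HopfAlgebra k A]
variable {M : Type v} [AddCommGroup M] [DecidableEq M] {𝒜 : M → Submodule k A} [GradedAlgebra 𝒜]
variable {R : Type u} [CommRing R] [Algebra k R]

lemma pt_ext {g h : WithConv (A →ₐ[k] R)} (H : ∀ m, ∀ a ∈ 𝒜 m, g.ofConv a = h.ofConv a) :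
    g = h := by
  apply WithConv.ofConv_injective
  exact algHom_ext 𝒜 H

open Classical in
lemma exists_lim {S S' : AddSubmonoid M} (hS : IsFace S S') (g : WithConv (A →ₐ[k] R))
    (hg : ∀ m ∉ S, ∀ a ∈ 𝒜 m, g.ofConv a = 0) :
    ∃ z : WithConv (A →ₐ[k] R), ∀ m, ∀ a ∈ 𝒜 m, z.ofConv a = if m ∈ S' then g.ofConv a else 0 := by
  obtain ⟨z, hz⟩ := exists_algHom 𝒜 (R := R) (fun m =>
    if m ∈ S' then g.ofConv.toLinearMap else 0) (by simp) (by
      intro i j a b ha hb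
      have h1 : ∀ (m : M) (c : A), ((if m ∈ S' then g.ofConv.toLinearMap else 0 : A →ₗ[k] R)) c =
        if m ∈ S' then g.ofConv c else 0 := by
        intro i c
        split_ifs <;> rfl
      rw [h1, h1, h1, map_mul]
      by_cases hi : i ∈ S'
      · by_cases hj : j ∈ S'
        · rw [if_pos hi, if_pos hj, if_pos (S'.add_mem hi hj)]
        · rw [if_neg hj, mul_zero]
          split_ifs with hij
          · by_cases hjS : j ∈ S
            · exact absurd (hS.right_mem (hS.le hi) hjS hij) hj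
            · rw [hg j hjS b hb, mul_zero]
          · rfl
      · rw [if_neg hi, zero_mul]
        split_ifs with hij
        · by_cases hiS : i ∈ S
          · by_cases hjS : j ∈ S
            · exact absurd (hS.left_mem i hiS j hjS hij) hi
            · rw [hg j hjS b hb, mul_zero]
          · rw [hg i hiS a ha, zero_mul]
        · rfl)
  refine ⟨toConv z, fun m a ha => ?_⟩
  change z a = _
  rw [hz m a ha]
  split_ifs <;> rfl

/-- the limit of a point of `P_S` along the face `S'` -/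
noncomputable def lim (h𝒜 : IsHopfGrading 𝒜) {S S' : AddSubmonoid M} (hS : IsFace S S')
    (g : PS R h𝒜 S) : WithConv (A →ₐ[k] R) := (exists_lim hS g.1 g.2).choose

open Classical in
lemma lim_apply (h𝒜 : IsHopfGrading 𝒜) {S S' : AddSubmonoid M} (hS : IsFace S S')
    (g : PS R h𝒜 S) {m : M} {a : A} (ha : a ∈ 𝒜 m) :
    (lim h𝒜 hS g).ofConv a = if m ∈ S' then g.1.ofConv a else 0 :=
  (exists_lim hS g.1 g.2).choose_spec m a ha

lemma lim_mem (h𝒜 : IsHopfGrading 𝒜) {S S' : AddSubmonoid M} (hS : IsFace S S')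
    (g : PS R h𝒜 S) : lim h𝒜 hS g ∈ PS R h𝒜 S' := by
  intro m hm a ha
  rw [lim_apply h𝒜 hS g ha, if_neg hm]

/-- the limit map as a group homomorphism -/
noncomputable def limHom (h𝒜 : IsHopfGrading 𝒜) {S S' : AddSubmonoid M} (hS : IsFace S S') :
    PS R h𝒜 S →* PS R h𝒜 S' where
  toFun g := ⟨lim h𝒜 hS g, lim_mem h𝒜 hS g⟩
  map_one' := by
    apply Subtype.ext
    apply pt_ext (𝒜 := 𝒜)
    intro m a ha
    rw [lim_apply h𝒜 hS _ ha]
    split_ifs with h
    · rfl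
    · exact (one_mem (PS R h𝒜 S') m h a ha).symm
  map_mul' g h := by
    apply Subtype.ext
    apply pt_ext (𝒜 := 𝒜)
    intro m a ha
    change (lim h𝒜 hS (g * h)).ofConv a = (lim h𝒜 hS g * lim h𝒜 hS h).ofConv a
    rw [lim_apply h𝒜 hS _ ha]
    split_ifs with hm
    · change (g.1 * h.1).ofConv a = _
      rw [mul_apply, mul_apply]
      apply conv_congr h𝒜 ha
      intro i x hx y hy
      change g.1.ofConv x * h.1.ofConv y = (lim h𝒜 hS g).ofConv x * (lim h𝒜 hS h).ofConv y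
      rw [lim_apply h𝒜 hS g hx, lim_apply h𝒜 hS h hy]
      by_cases hi : i ∈ S
      · by_cases hj : m - i ∈ S
        · have hi' : i ∈ S' := hS.left_mem i hi _ hj (by rwa [add_sub_cancel])
          have hj' : m - i ∈ S' := hS.right_mem hi hj (by rwa [add_sub_cancel])
          rw [if_pos hi', if_pos hj']
        · rw [if_neg (fun h => hj (hS.le h)), h.2 _ hj y hy, mul_zero, mul_zero]
      · rw [if_neg (fun h => hi (hS.le h)), g.2 _ hi x hx, zero_mul, zero_mul]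
    · exact (mul_mem (lim_mem h𝒜 hS g) (lim_mem h𝒜 hS h) m hm a ha).symm

@[simp] lemma coe_limHom (h𝒜 : IsHopfGrading 𝒜) {S S' : AddSubmonoid M} (hS : IsFace S S')
    (g : PS R h𝒜 S) : (limHom h𝒜 hS g : WithConv (A →ₐ[k] R)) = lim h𝒜 hS g := rfl

/-- the limit map is the identity on `P_{S'}` -/
lemma lim_of_mem (h𝒜 : IsHopfGrading 𝒜) {S S' : AddSubmonoid M} (hS : IsFace S S')
    (g : PS R h𝒜 S) (hg : g.1 ∈ PS R h𝒜 S') : lim h𝒜 hS g = g.1 := by
  apply pt_ext (𝒜 := 𝒜)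
  intro m a ha
  rw [lim_apply h𝒜 hS _ ha]
  split_ifs with h
  · rfl
  · exact (hg m h a ha).symm

/-- `U_{S,S'}` is the kernel of the limit map -/
lemma limHom_eq_one_iff (h𝒜 : IsHopfGrading 𝒜) {S S' : AddSubmonoid M} (hS : IsFace S S')
    (g : PS R h𝒜 S) : limHom h𝒜 hS g = 1 ↔ g.1 ∈ US R h𝒜 hS := by
  constructor
  · intro h
    refine ⟨g.2, fun m hm a ha => ?_⟩
    have h1 := congrArg (fun z => z.1.ofConv a) h
    simp only [coe_limHom] at h1
    rw [lim_apply h𝒜 hS _ ha, if_pos hm] at h1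
    exact h1
  · intro h
    apply Subtype.ext
    apply pt_ext (𝒜 := 𝒜)
    intro m a ha
    change (lim h𝒜 hS g).ofConv a = _
    rw [lim_apply h𝒜 hS _ ha]
    split_ifs with hm
    · exact h.2 m hm a ha
    · exact (one_mem (PS R h𝒜 S') m hm a ha).symm

/-- Levi decomposition of points of `P_S` -/
lemma levi (h𝒜 : IsHopfGrading 𝒜) {S S' : AddSubmonoid M} (hS : IsFace S S')
    (g : WithConv (A →ₐ[k] R)) (hg : g ∈ PS R h𝒜 S) :
    ∃ z ∈ PS R h𝒜 S', ∃ u ∈ US R h𝒜 hS, z * u = g ∧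
      ∀ z' ∈ PS R h𝒜 S', ∀ u' ∈ US R h𝒜 hS, z' * u' = g → z' = z ∧ u' = u := by
  have hmono := PS_mono (R := R) h𝒜 hS.le
  refine ⟨lim h𝒜 hS ⟨g, hg⟩, lim_mem _ _ _, (lim h𝒜 hS ⟨g, hg⟩)⁻¹ * g, ?_, by simp, ?_⟩
  · have h1 : (lim h𝒜 hS ⟨g, hg⟩)⁻¹ * g =
      ((⟨lim h𝒜 hS ⟨g, hg⟩, hmono (lim_mem _ _ _)⟩ : PS R h𝒜 S)⁻¹ * ⟨g, hg⟩ : PS R h𝒜 S).1 := rfl
    rw [h1, ← limHom_eq_one_iff h𝒜 hS, map_mul, map_inv, inv_mul_eq_one]
    apply Subtype.ext
    rw [coe_limHom, coe_limHom]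
    exact lim_of_mem h𝒜 hS _ (lim_mem h𝒜 hS _)
  · intro z' hz' u' hu' h
    have h1 : (⟨g, hg⟩ : PS R h𝒜 S) = ⟨z', hmono hz'⟩ * ⟨u', hu'.1⟩ := Subtype.ext h.symm
    have h2 : lim h𝒜 hS ⟨g, hg⟩ = z' := by
      rw [h1, ← coe_limHom, map_mul, (limHom_eq_one_iff h𝒜 hS ⟨u', hu'.1⟩).2 hu', mul_one,
        coe_limHom]
      exact lim_of_mem h𝒜 hS _ hz'
    refine ⟨h2.symm, ?_⟩
    rw [h2, ← h]; simp

/-- `P_S` normalizes `U_{S,S'}` -/
lemma conj_mem_US (h𝒜 : IsHopfGrading 𝒜) {S S' : AddSubmonoid M} (hS : IsFace S S')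
    {p u : WithConv (A →ₐ[k] R)} (hp : p ∈ PS R h𝒜 S) (hu : u ∈ US R h𝒜 hS) :
    p * u * p⁻¹ ∈ US R h𝒜 hS := by
  have h1 : p * u * p⁻¹ = ((⟨p, hp⟩ * ⟨u, hu.1⟩ * (⟨p, hp⟩ : PS R h𝒜 S)⁻¹ : PS R h𝒜 S)).1 := rfl
  rw [h1, ← limHom_eq_one_iff h𝒜 hS, map_mul, map_mul, map_inv,
    (limHom_eq_one_iff h𝒜 hS ⟨u, hu.1⟩).2 hu, mul_one, mul_inv_cancel]

end Lim

section Ideals

variable {k : Type u} [CommRing k] {A : Type u} [CommRing A] [HopfAlgebra k A]
variable {M : Type v} [AddCommGroup M] [DecidableEq M] {𝒜 : M → Submodule k A} [GradedAlgebra 𝒜]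
variable {R : Type u} [CommRing R] [Algebra k R]

lemma vanish_JS_iff_mem (h𝒜 : IsHopfGrading 𝒜) {S : AddSubmonoid M} (g : WithConv (A →ₐ[k] R)) :
    (∀ a ∈ JS 𝒜 S, g.ofConv a = 0) ↔ g ∈ PS R h𝒜 S := vanish_JS_iff 𝒜 S g.ofConv

lemma isHopfIdeal_JS (h𝒜 : IsHopfGrading 𝒜) (S : AddSubmonoid M) : (JS 𝒜 S).IsHopfIdeal k := by
  apply isHopfIdeal_of_points
  · have := (vanish_JS_iff_mem h𝒜 (S := S) (1 : WithConv (A →ₐ[k] k))).2 (one_mem _)
    intro a ha
    exact this a ha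
  · intro R _ _ g h hg hh
    rw [vanish_JS_iff_mem h𝒜] at hg hh ⊢
    exact mul_mem hg hh
  · intro R _ _ g hg
    rw [vanish_JS_iff_mem h𝒜] at hg ⊢
    exact inv_mem hg

variable (𝒜) in
/-- the ideal of the subgroup `U_{S,S'}` -/
def JU (S S' : AddSubmonoid M) : Ideal A :=
  JS 𝒜 S ⊔ Ideal.span {a | ∃ m ∈ S', ∃ b ∈ 𝒜 m,
    a = b - algebraMap k A (Coalgebra.counit (R := k) b)}

lemma JS_le_JU (S S' : AddSubmonoid M) : JS 𝒜 S ≤ JU 𝒜 S S' := le_sup_left

lemma vanish_JU_iff_mem (h𝒜 : IsHopfGrading 𝒜) {S S' : AddSubmonoid M} (hS : IsFace S S')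
    (g : WithConv (A →ₐ[k] R)) :
    (∀ a ∈ JU 𝒜 S S', g.ofConv a = 0) ↔ g ∈ US R h𝒜 hS := by
  constructor
  · intro h
    refine ⟨(vanish_JS_iff_mem h𝒜 g).1 fun a ha => h a (JS_le_JU _ _ ha), fun m hm a ha => ?_⟩
    have h1 := h _ (Ideal.mem_sup_right (Ideal.subset_span ⟨m, hm, a, ha, rfl⟩))
    rw [map_sub, AlgHom.commutes, sub_eq_zero] at h1
    exact h1
  · rintro ⟨h1, h2⟩ a ha
    have : JU 𝒜 S S' ≤ RingHom.ker g.ofConv := by
      rw [JU, sup_le_iff]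
      constructor
      · intro x hx
        exact (vanish_JS_iff_mem h𝒜 g).2 h1 x hx
      · rw [Ideal.span_le]
        rintro x ⟨m, hm, b, hb, rfl⟩
        change g.ofConv _ = 0
        rw [map_sub, AlgHom.commutes, h2 m hm b hb, sub_self]
    exact this ha

lemma isHopfIdeal_JU (h𝒜 : IsHopfGrading 𝒜) {S S' : AddSubmonoid M} (hS : IsFace S S') :
    (JU 𝒜 S S').IsHopfIdeal k := by
  apply isHopfIdeal_of_points
  · have := (vanish_JU_iff_mem h𝒜 hS (1 : WithConv (A →ₐ[k] k))).2 (one_mem _)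
    intro a ha
    exact this a ha
  · intro R _ _ g h hg hh
    rw [vanish_JU_iff_mem h𝒜 hS] at hg hh ⊢
    exact mul_mem hg hh
  · intro R _ _ g hg
    rw [vanish_JU_iff_mem h𝒜 hS] at hg ⊢
    exact inv_mem hg

/-- lifting points of `P_S` -/
lemma exists_lift_PS [Algebra.FormallySmooth k A] (h𝒜 : IsHopfGrading 𝒜) {S : AddSubmonoid M}
    (I : Ideal R) (hI : I ^ 2 = ⊥) (g : WithConv (A →ₐ[k] R ⧸ I)) (hg : g ∈ PS (R ⧸ I) h𝒜 S) :
    ∃ g' ∈ PS R h𝒜 S, mapPt (Ideal.Quotient.mkₐ k I) g' = g := by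
  obtain ⟨g', h1, h2⟩ := exists_lift 𝒜 S I hI g.ofConv hg
  exact ⟨toConv g', h1, WithConv.ofConv_injective h2⟩

/-- lifting points of `U_{S,S'}` -/
lemma exists_lift_US [Algebra.FormallySmooth k A] (h𝒜 : IsHopfGrading 𝒜) {S S' : AddSubmonoid M}
    (hS : IsFace S S')
    (I : Ideal R) (hI : I ^ 2 = ⊥) (g : WithConv (A →ₐ[k] R ⧸ I)) (hg : g ∈ US (R ⧸ I) h𝒜 hS) :
    ∃ g' ∈ US R h𝒜 hS, mapPt (Ideal.Quotient.mkₐ k I) g' = g := by
  obtain ⟨g', hg', hgg⟩ := exists_lift_PS h𝒜 I hI g hg.1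
  obtain ⟨z, hz, u, hu, hzu, -⟩ := levi h𝒜 hS g' hg'
  obtain ⟨z₀, -, u₀, -, -, huniq⟩ := levi h𝒜 hS g hg.1
  refine ⟨u, hu, ?_⟩
  have h1 := huniq 1 (one_mem _) g hg (one_mul g)
  have h2 := huniq _ (mapPt_mem_PS h𝒜 (Ideal.Quotient.mkₐ k I) hz)
    _ (mapPt_mem_US h𝒜 hS (Ideal.Quotient.mkₐ k I) hu) (by rw [← map_mul, hzu, hgg])
  rw [h2.2, h1.2]

lemma formallySmooth_JU [Algebra.FormallySmooth k A] (h𝒜 : IsHopfGrading 𝒜)
    {S S' : AddSubmonoid M} (hS : IsFace S S') : Algebra.FormallySmooth k (A ⧸ JU 𝒜 S S') := by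
  apply formallySmooth_quotient
  intro B _ _ I hI g hg
  obtain ⟨g', hg', h⟩ := exists_lift_US h𝒜 hS I hI (toConv g)
    ((vanish_JU_iff_mem h𝒜 hS (toConv g)).1 hg)
  exact ⟨g'.ofConv, (vanish_JU_iff_mem h𝒜 hS g').2 hg', congrArg WithConv.ofConv h⟩

open Classical in
/-- finitely many extra equations for `JU` -/
noncomputable def compsU (S' : AddSubmonoid M) (s : Finset A) : Finset A :=
  s.biUnion fun a => ((supp 𝒜 a).filter (· ∈ S')).image fun m =>
    pr 𝒜 m a - algebraMap k A (Coalgebra.counit (R := k) (pr 𝒜 m a))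

lemma mem_compsU {S' : AddSubmonoid M} {s : Finset A} {a : A} (ha : a ∈ s) {m : M} (hm : m ∈ S') :
    pr 𝒜 m a - algebraMap k A (Coalgebra.counit (R := k) (pr 𝒜 m a)) ∈
      Ideal.span (compsU (𝒜 := 𝒜) S' s : Set A) := by
  classical
  by_cases h : m ∈ supp 𝒜 a
  · apply Ideal.subset_span
    rw [compsU, Finset.mem_coe, Finset.mem_biUnion]
    exact ⟨a, ha, Finset.mem_image.2 ⟨m, Finset.mem_filter.2 ⟨h, hm⟩, rfl⟩⟩
  · rw [pr_eq_zero_of_notMem 𝒜 h]
    simp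

lemma JU_eq_span (h𝒜 : IsHopfGrading 𝒜) {S S' : AddSubmonoid M} (hS : IsFace S S')
    {s : Finset A} (hs : Algebra.adjoin k (s : Set A) = ⊤) :
    JU 𝒜 S S' = Ideal.span (comps 𝒜 S s : Set A) ⊔
      Ideal.span (compsU (𝒜 := 𝒜) S' s : Set A) := by
  classical
  apply le_antisymm
  · set J := Ideal.span (comps 𝒜 S s : Set A) ⊔ Ideal.span (compsU (𝒜 := 𝒜) S' s : Set A) with hJ
    -- the universal point
    let g : WithConv (A →ₐ[k] A ⧸ J) := toConv (Ideal.Quotient.mkₐ k J)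
    have hg : g ∈ PS (A ⧸ J) h𝒜 S := vanish_of_gen 𝒜 S hs g.ofConv fun a ha m hm =>
      Ideal.Quotient.eq_zero_iff_mem.2 (Ideal.mem_sup_left (mem_comps 𝒜 ha hm))
    have hlim : lim h𝒜 hS ⟨g, hg⟩ = 1 := by
      apply WithConv.ofConv_injective
      apply AlgHom.ext_of_adjoin_eq_top hs
      intro a ha
      change (lim h𝒜 hS ⟨g, hg⟩).ofConv a = algebraMap k _ (Coalgebra.counit (R := k) a)
      conv_lhs => rw [← sum_pr 𝒜 a]
      conv_rhs => rw [← sum_pr 𝒜 a]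
      rw [map_sum, map_sum, map_sum]
      apply Finset.sum_congr rfl
      intro m _
      rw [lim_apply h𝒜 hS _ (pr_mem 𝒜 m a)]
      split_ifs with hm
      · have h1 : g.ofConv (pr 𝒜 m a - algebraMap k A (Coalgebra.counit (R := k) (pr 𝒜 m a))) = 0 :=
          Ideal.Quotient.eq_zero_iff_mem.2 (Ideal.mem_sup_right (mem_compsU ha hm))
        rw [map_sub, AlgHom.commutes, sub_eq_zero] at h1
        exact h1
      · rw [h𝒜.counit_zero m (ne_zero_of_notMem hm) _ (pr_mem 𝒜 m a), map_zero]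
    have hU : g ∈ US (A ⧸ J) h𝒜 hS := by
      rw [← limHom_eq_one_iff h𝒜 hS ⟨g, hg⟩]
      apply Subtype.ext
      rw [coe_limHom, hlim]
      rfl
    intro a ha
    exact Ideal.Quotient.eq_zero_iff_mem.1 ((vanish_JU_iff_mem h𝒜 hS g).2 hU a ha)
  · rw [JU]
    apply sup_le_sup
    · rw [JS_eq_span 𝒜 S hs]
    · rw [Ideal.span_le]
      intro x hx
      rw [compsU, Finset.mem_coe, Finset.mem_biUnion] at hx
      obtain ⟨a, ha, hx⟩ := hx
      obtain ⟨m, hm, rfl⟩ := Finset.mem_image.1 hx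
      exact Ideal.subset_span ⟨m, (Finset.mem_filter.1 hm).2, _, pr_mem 𝒜 m a, rfl⟩

lemma fg_JU [hft : Algebra.FiniteType k A] (h𝒜 : IsHopfGrading 𝒜) {S S' : AddSubmonoid M}
    (hS : IsFace S S') : (JU 𝒜 S S').FG := by
  obtain ⟨s, hs⟩ := hft.out
  rw [JU_eq_span h𝒜 hS hs]
  exact Submodule.FG.sup ⟨_, rfl⟩ ⟨_, rfl⟩

lemma finitePresentation_JU [Algebra.FinitePresentation k A] (h𝒜 : IsHopfGrading 𝒜)
    {S S' : AddSubmonoid M} (hS : IsFace S S') :
    Algebra.FinitePresentation k (A ⧸ JU 𝒜 S S') :=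
  Algebra.FinitePresentation.quotient (fg_JU h𝒜 hS)

lemma smooth_JU [Algebra.Smooth k A] (h𝒜 : IsHopfGrading 𝒜)
    {S S' : AddSubmonoid M} (hS : IsFace S S') : Algebra.Smooth k (A ⧸ JU 𝒜 S S') :=
  haveI : Algebra.FinitePresentation k A := Algebra.Smooth.finitePresentation
  ⟨formallySmooth_JU h𝒜 hS, finitePresentation_JU h𝒜 hS⟩

end Ideals

end Groth.Agent.Sga3B.GrDynHopf678
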