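import Groth.Agent.Sga3B.GrDynQ678
import Groth.Agent.Sga3B.GrDynHopf678
import Mathlib.RingTheory.GradedAlgebra.TensorProduct
import Mathlib.RingTheory.Smooth.Flat

/-!
# Cotangent weights and the dynamic subgroups

* `JS_baseChange`, `JU_baseChange`: the dynamic ideals commute with base change.
* `JS_eq_bot`, `JU_eq_bot`: a smooth graded group whose geometric fibres are integral with
  cotangent weights in `S` (resp. in `S` and outside `S'`) is equal to `P_S` (resp. `U_{S,S'}`).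
* `JS_eq_bot_of_fibres`, `JU_eq_bot_of_fibres`: `P_S` and `U_{S,S'}` are everything as soon as
  they are on the geometric fibres.
-/

set_option autoImplicit false
set_option linter.unusedSectionVars false
set_option linter.style.haveILetI false

universe u v w

open TensorProduct

namespace Groth.Agent.Sga3B.GrDynCot678

open Groth.Agent.Sga3B.GrDynAlg678 Groth.Agent.Sga3B.GrDynHopf678 Groth.Agent.Sga3B.GrDynQ678

section Alg

variable {k : Type u} [CommRing k] {A : Type v} [CommRing A] [Algebra k A]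
variable {M : Type*} [AddCommGroup M] [DecidableEq M] (𝒜 : M → Submodule k A) [GradedAlgebra 𝒜]

variable (K : Type w) [CommRing K] [Algebra k K]

lemma tmul_mem_baseChange {m : M} {a : A} (c : K) (ha : a ∈ 𝒜 m) :
    c ⊗ₜ[k] a ∈ (𝒜 m).baseChange K :=
  Submodule.tmul_mem_baseChange_of_mem c ha

lemma JS_baseChange (S : AddSubmonoid M) :
    JS (fun m => (𝒜 m).baseChange K) S =
      (JS 𝒜 S).map (Algebra.TensorProduct.includeRight : A →ₐ[k] K ⊗[k] A) := by
  apply le_antisymm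
  · rw [JS, Ideal.span_le]
    rintro x ⟨m, hm, hx⟩
    have h1 : (𝒜 m).baseChange K ≤ ((JS 𝒜 S).map
        (Algebra.TensorProduct.includeRight : A →ₐ[k] K ⊗[k] A)).restrictScalars K := by
      rw [Submodule.baseChange_eq_span, Submodule.span_le]
      rintro _ ⟨a, ha, rfl⟩
      exact Ideal.mem_map_of_mem
        (Algebra.TensorProduct.includeRight : A →ₐ[k] K ⊗[k] A) (mem_JS 𝒜 hm ha)
    exact h1 hx
  · rw [JS, Ideal.map_span, Ideal.span_le]
    rintro _ ⟨a, ⟨m, hm, ha⟩, rfl⟩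
    exact Ideal.subset_span ⟨m, hm, tmul_mem_baseChange 𝒜 K 1 ha⟩

variable {K}

/-- an ideal inclusion after base change, checked on homogeneous elements -/
lemma map_JS_le (S : AddSubmonoid M) (I : Ideal (K ⊗[k] A))
    (h : ∀ m ∉ S, ∀ a ∈ 𝒜 m, (1 : K) ⊗ₜ[k] a ∈ I) :
    (JS 𝒜 S).map (Algebra.TensorProduct.includeRight : A →ₐ[k] K ⊗[k] A) ≤ I := by
  rw [JS, Ideal.map_span, Ideal.span_le]
  rintro _ ⟨a, ⟨m, hm, ha⟩, rfl⟩
  exact h m hm a ha

end Alg

section D0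

variable {k : Type u} [CommRing k] {A : Type v} [CommRing A] [Algebra k A]
variable {M : Type*} [AddCommGroup M] [DecidableEq M] (𝒜 : M → Submodule k A) [GradedAlgebra 𝒜]

/-- `P_S` is everything as soon as this is true on the geometric fibres. -/
theorem JS_eq_bot_of_fibres [Algebra.Smooth k A] (S : AddSubmonoid M)
    (H : ∀ p : PrimeSpectrum k, ∃ (K : Type w) (_ : Field K) (_ : Algebra k K),
      RingHom.ker (algebraMap k K) = p.asIdeal ∧ ∀ m ∉ S, ∀ a ∈ 𝒜 m, (1 : K) ⊗ₜ[k] a = 0) :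
    JS 𝒜 S = ⊥ := by
  haveI : Algebra.FinitePresentation k A := Algebra.Smooth.finitePresentation
  refine eq_bot_of_fibres (k := k) _ (fg_JS 𝒜 S) fun p => ?_
  obtain ⟨K, _, _, hker, hK⟩ := H p
  exact ⟨K, inferInstance, inferInstance, hker, eq_bot_iff.2 (map_JS_le 𝒜 S ⊥ hK)⟩

/-- **(D0)** if `A` is smooth with integral geometric fibres and the weights of the cotangent space
of the geometric fibres along the section `ε` are in `S`, then `JS 𝒜 S = ⊥`. -/
theorem JS_eq_bot [Algebra.Smooth k A] (ε : A →ₐ[k] k) (S : AddSubmonoid M)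
    (H : ∀ p : PrimeSpectrum k, ∃ (K : Type w) (_ : Field K) (_ : Algebra k K),
      RingHom.ker (algebraMap k K) = p.asIdeal ∧ IsDomain (K ⊗[k] A) ∧
      ∀ m ∉ S, ∀ a ∈ 𝒜 m, (1 : K) ⊗ₜ[k] a ∈
        ((RingHom.ker ε).map (Algebra.TensorProduct.includeRight : A →ₐ[k] K ⊗[k] A)) ^ 2) :
    JS 𝒜 S = ⊥ := by
  haveI : Algebra.FinitePresentation k A := Algebra.Smooth.finitePresentation
  refine eq_bot_of_le_sq (k := k) ε _ (fg_JS 𝒜 S) fun p => ?_
  obtain ⟨K, _, _, hker, hdom, hK⟩ := H p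
  exact ⟨K, inferInstance, inferInstance, hker, hdom, map_JS_le 𝒜 S _ hK⟩

end D0

section Hopf

variable {k : Type u} [CommRing k] {A : Type u} [CommRing A] [HopfAlgebra k A]
variable {M : Type v} [AddCommGroup M] [DecidableEq M] {𝒜 : M → Submodule k A} [GradedAlgebra 𝒜]

/-- an ideal inclusion after base change, checked on homogeneous elements -/
lemma map_JU_le {K : Type w} [CommRing K] [Algebra k K] (S S' : AddSubmonoid M)
    (I : Ideal (K ⊗[k] A)) (h : ∀ m ∉ S, ∀ a ∈ 𝒜 m, (1 : K) ⊗ₜ[k] a ∈ I)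
    (h' : ∀ m ∈ S', ∀ a ∈ 𝒜 m, (1 : K) ⊗ₜ[k] a -
      algebraMap k (K ⊗[k] A) (Coalgebra.counit (R := k) a) ∈ I) :
    (JU 𝒜 S S').map (Algebra.TensorProduct.includeRight : A →ₐ[k] K ⊗[k] A) ≤ I := by
  rw [JU, Ideal.map_sup, sup_le_iff]
  refine ⟨map_JS_le 𝒜 S I h, ?_⟩
  rw [Ideal.map_span, Ideal.span_le]
  rintro _ ⟨_, ⟨m, hm, a, ha, rfl⟩, rfl⟩
  rw [map_sub, AlgHom.commutes]
  exact h' m hm a ha

/-- `U_{S,S'}` is everything as soon as this is true on the geometric fibres. -/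
theorem JU_eq_bot_of_fibres [Algebra.Smooth k A] (h𝒜 : IsHopfGrading 𝒜) {S S' : AddSubmonoid M}
    (hS : IsFace S S')
    (H : ∀ p : PrimeSpectrum k, ∃ (K : Type w) (_ : Field K) (_ : Algebra k K),
      RingHom.ker (algebraMap k K) = p.asIdeal ∧ (∀ m ∉ S, ∀ a ∈ 𝒜 m, (1 : K) ⊗ₜ[k] a = 0) ∧
      ∀ m ∈ S', ∀ a ∈ 𝒜 m, (1 : K) ⊗ₜ[k] a =
        algebraMap k (K ⊗[k] A) (Coalgebra.counit (R := k) a)) :
    JU 𝒜 S S' = ⊥ := by
  haveI : Algebra.FinitePresentation k A := Algebra.Smooth.finitePresentation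
  haveI := smooth_JU h𝒜 hS
  refine eq_bot_of_fibres (k := k) _ (fg_JU h𝒜 hS) fun p => ?_
  obtain ⟨K, _, _, hker, hK, hK'⟩ := H p
  refine ⟨K, inferInstance, inferInstance, hker, eq_bot_iff.2 (map_JU_le S S' ⊥ hK ?_)⟩
  intro m hm a ha
  rw [Ideal.mem_bot, sub_eq_zero]
  exact hK' m hm a ha

/-- **(D0) for `U`**: the weights of the cotangent space are in `S` but not in `S'`. -/
theorem JU_eq_bot [Algebra.Smooth k A] (h𝒜 : IsHopfGrading 𝒜) {S S' : AddSubmonoid M}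
    (hS : IsFace S S')
    (H : ∀ p : PrimeSpectrum k, ∃ (K : Type w) (_ : Field K) (_ : Algebra k K),
      RingHom.ker (algebraMap k K) = p.asIdeal ∧ IsDomain (K ⊗[k] A) ∧
      (∀ m ∉ S, ∀ a ∈ 𝒜 m, (1 : K) ⊗ₜ[k] a ∈ ((RingHom.ker (Bialgebra.counitAlgHom k A)).map
        (Algebra.TensorProduct.includeRight : A →ₐ[k] K ⊗[k] A)) ^ 2) ∧
      ∀ m ∈ S', ∀ a ∈ 𝒜 m, (1 : K) ⊗ₜ[k] a -
        algebraMap k (K ⊗[k] A) (Coalgebra.counit (R := k) a) ∈
        ((RingHom.ker (Bialgebra.counitAlgHom k A)).map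
        (Algebra.TensorProduct.includeRight : A →ₐ[k] K ⊗[k] A)) ^ 2) :
    JU 𝒜 S S' = ⊥ := by
  haveI : Algebra.FinitePresentation k A := Algebra.Smooth.finitePresentation
  haveI := smooth_JU h𝒜 hS
  refine eq_bot_of_le_sq (k := k) (Bialgebra.counitAlgHom k A) _ (fg_JU h𝒜 hS) fun p => ?_
  obtain ⟨K, _, _, hker, hdom, hK, hK'⟩ := H p
  exact ⟨K, inferInstance, inferInstance, hker, hdom, map_JU_le S S' _ hK hK'⟩

end Hopf

end Groth.Agent.Sga3B.GrDynCot678
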