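import Mathlib.RingTheory.Smooth.Basic
import Mathlib.RingTheory.Filtration
import Mathlib.RingTheory.LocalRing.Module
import Mathlib.RingTheory.TensorProduct.Quotient
import Mathlib.RingTheory.Flat.FaithfullyFlat.Basic
import Mathlib.RingTheory.FiniteStability
import Mathlib.RingTheory.Flat.Equalizer
import Mathlib.RingTheory.FiniteType
import Mathlib.RingTheory.Spectrum.Prime.RingHom
import Mathlib.RingTheory.Spectrum.Prime.Topology

/-!
# Smooth closed subschemes with the same cotangent space along a section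

* `le_pow_of_le_sq`: `J ≤ I ^ 2` and `A ⧸ J` formally smooth imply `J ≤ I ^ n` for all `n`
  (`I` the kernel of a retraction `ε : A → R`).
* `eq_bot_of_fibres`: a finitely generated ideal `J` with `A ⧸ J` flat over `k` which is zero on
  every fibre is zero.
* `eq_bot_of_le_sq`: combination of both for fibres which are domains.
-/

set_option autoImplicit false
set_option linter.style.haveILetI false

universe u v w

open TensorProduct

namespace Groth.Agent.Sga3B.GrDynQ678

section Sq

variable {R : Type u} {A : Type v} [CommRing R] [CommRing A] [Algebra R A]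

lemma le_pow_succ (ε : A →ₐ[R] R) (J : Ideal A) (hJ : J ≤ RingHom.ker ε ^ 2)
    [Algebra.FormallySmooth R (A ⧸ J)] (n : ℕ) (hn : J ≤ RingHom.ker ε ^ (n + 1)) :
    J ≤ RingHom.ker ε ^ (n + 2) := by
  set I : Ideal A := RingHom.ker ε with hI
  let Q := A ⧸ I ^ (n + 2)
  let q : A →ₐ[R] Q := Ideal.Quotient.mkₐ R _
  have hq0 : ∀ a ∈ I ^ (n + 2), q a = 0 := fun a ha => Ideal.Quotient.eq_zero_iff_mem.2 ha
  let N : Ideal Q := J.map (Ideal.Quotient.mk (I ^ (n + 2)))
  have hN : N ^ 2 = ⊥ := by
    rw [← Ideal.map_pow, eq_bot_iff, Ideal.map_le_iff_le_comap]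
    intro x hx
    have h1 : J ^ 2 ≤ I ^ (n + 2) := by
      calc J ^ 2 ≤ (I ^ (n + 1)) ^ 2 := Ideal.pow_right_mono hn 2
        _ = I ^ ((n + 1) * 2) := by rw [pow_mul]
        _ ≤ I ^ (n + 2) := Ideal.pow_le_pow_right (by omega)
    rw [Ideal.mem_comap, Ideal.mem_bot]
    exact hq0 x (h1 hx)
  let f₀ : (A ⧸ J) →ₐ[R] Q ⧸ N := Ideal.Quotient.liftₐ J ((Ideal.Quotient.mkₐ R N).comp q) (by
    intro a ha
    exact Ideal.Quotient.eq_zero_iff_mem.2 (Ideal.mem_map_of_mem _ ha))
  obtain ⟨σ, hσ⟩ := Algebra.FormallySmooth.comp_surjective R (A ⧸ J) N hN f₀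
  let D : A →ₗ[R] Q := (σ.comp (Ideal.Quotient.mkₐ R J)).toLinearMap - q.toLinearMap
  have hD : ∀ a, σ (Ideal.Quotient.mk J a) = q a + D a := by
    intro a
    change _ = q a + (σ (Ideal.Quotient.mk J a) - q a)
    ring
  have hDN : ∀ a, D a ∈ N := by
    intro a
    have h1 : Ideal.Quotient.mk N (σ (Ideal.Quotient.mk J a)) = Ideal.Quotient.mk N (q a) :=
      DFunLike.congr_fun hσ (Ideal.Quotient.mk J a)
    rw [hD a, map_add, add_eq_left] at h1
    exact Ideal.Quotient.eq_zero_iff_mem.1 h1
  -- `N` is contained in the image of `I ^ (n + 1)`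
  have hIN : ∀ a ∈ I, ∀ x ∈ N, q a * x = 0 := by
    intro a ha x hx
    have hx' : x ∈ (I ^ (n + 1)).map (Ideal.Quotient.mk (I ^ (n + 2))) := Ideal.map_mono hn hx
    obtain ⟨y, hy, rfl⟩ := (Ideal.mem_map_iff_of_surjective _ Ideal.Quotient.mk_surjective).1 hx'
    change Ideal.Quotient.mk _ a * Ideal.Quotient.mk _ y = 0
    rw [← map_mul, Ideal.Quotient.eq_zero_iff_mem, pow_succ' I (n + 1)]
    exact Ideal.mul_mem_mul ha hy
  have hNN : ∀ x ∈ N, ∀ y ∈ N, x * y = 0 := by
    intro x hx y hy
    have h1 := Ideal.mul_mem_mul hx hy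
    rw [← pow_two, hN] at h1
    exact h1
  have hDmul : ∀ a ∈ I, ∀ b ∈ I, D (a * b) = 0 := by
    intro a ha b hb
    have h1 := hD (a * b)
    rw [map_mul, map_mul, map_mul, hD a, hD b] at h1
    have h2 := hIN a ha _ (hDN b)
    have h3 := hIN b hb _ (hDN a)
    have h4 := hNN _ (hDN a) _ (hDN b)
    linear_combination (-1 : Q) * h1 + h2 + h3 + h4
  have hDsq : ∀ x ∈ I ^ 2, D x = 0 := by
    intro x hx
    rw [pow_two] at hx
    refine Submodule.mul_induction_on hx hDmul ?_
    intro x y hx hy
    rw [map_add, hx, hy, add_zero]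
  intro j hj
  have h1 := hD j
  rw [hDsq j (hJ hj), add_zero, Ideal.Quotient.eq_zero_iff_mem.2 hj, map_zero] at h1
  exact Ideal.Quotient.eq_zero_iff_mem.1 h1.symm

theorem le_pow_of_le_sq (ε : A →ₐ[R] R) (J : Ideal A) (hJ : J ≤ RingHom.ker ε ^ 2)
    [Algebra.FormallySmooth R (A ⧸ J)] (n : ℕ) : J ≤ RingHom.ker ε ^ n := by
  match n with
  | 0 => simp
  | 1 => exact hJ.trans (Ideal.pow_le_pow_right (by norm_num))
  | n + 2 =>
    exact le_pow_succ ε J hJ n (le_pow_of_le_sq ε J hJ (n + 1))

theorem eq_bot_of_isDomain [Nontrivial R] [IsDomain A] [IsNoetherianRing A] (ε : A →ₐ[R] R)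
    (J : Ideal A) (hJ : J ≤ RingHom.ker ε ^ 2) [Algebra.FormallySmooth R (A ⧸ J)] : J = ⊥ := by
  rw [eq_bot_iff, ← Ideal.iInf_pow_eq_bot_of_isDomain (RingHom.ker ε) (RingHom.ker_ne_top ε)]
  exact le_iInf fun n => le_pow_of_le_sq ε J hJ n

end Sq

section Fibres

variable {k : Type u} {A : Type v} [CommRing k] [CommRing A] [Algebra k A]

lemma subsingleton_fibre (J : Ideal A) [Module.Flat k (A ⧸ J)] (K : Type w) [Field K] [Algebra k K]
    (hK : J.map (Algebra.TensorProduct.includeRight : A →ₐ[k] K ⊗[k] A) = ⊥) :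
    Subsingleton (K ⊗[k] J) := by
  let i : J →ₗ[k] A := J.subtype.restrictScalars k
  have hinj : Function.Injective (i.lTensor K) := by
    refine LinearMap.lTensor_injective_of_exact_of_flat (Ideal.Quotient.mkₐ k J).toLinearMap
      Ideal.Quotient.mk_surjective i Subtype.val_injective ?_ K
    intro x
    constructor
    · intro hx
      exact ⟨⟨x, Ideal.Quotient.eq_zero_iff_mem.1 hx⟩, rfl⟩
    · rintro ⟨y, rfl⟩
      exact Ideal.Quotient.eq_zero_iff_mem.2 y.2
  have h0 : ∀ x : K ⊗[k] J, i.lTensor K x = 0 := by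
    intro x
    induction x using TensorProduct.induction_on with
    | zero => simp
    | tmul c j =>
      have h1 : (1 : K) ⊗ₜ[k] (j : A) = 0 := by
        have h2 : (Algebra.TensorProduct.includeRight : A →ₐ[k] K ⊗[k] A) j ∈
          J.map (Algebra.TensorProduct.includeRight : A →ₐ[k] K ⊗[k] A) :=
          Ideal.mem_map_of_mem _ j.2
        rw [hK] at h2
        exact h2
      change c ⊗ₜ[k] (j : A) = 0
      have h2 : c ⊗ₜ[k] (j : A) = (c ⊗ₜ[k] (1 : A)) * ((1 : K) ⊗ₜ[k] (j : A)) := by
        rw [Algebra.TensorProduct.tmul_mul_tmul, mul_one, one_mul]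
      rw [h2, h1, mul_zero]
    | add x y hx hy => rw [map_add, hx, hy, add_zero]
  exact ⟨fun x y => hinj (by rw [h0, h0])⟩

theorem eq_bot_of_fibres (J : Ideal A) (hJ : J.FG) [Module.Flat k (A ⧸ J)]
    (H : ∀ p : PrimeSpectrum k, ∃ (K : Type w) (_ : Field K) (_ : Algebra k K),
      RingHom.ker (algebraMap k K) = p.asIdeal ∧
      J.map (Algebra.TensorProduct.includeRight : A →ₐ[k] K ⊗[k] A) = ⊥) : J = ⊥ := by
  haveI : Module.Finite A J := Module.Finite.iff_fg.2 hJ
  have hsupp : Module.support A J = ∅ := by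
    rw [Set.eq_empty_iff_forall_notMem]
    intro q hq
    rw [Module.mem_support_iff_nontrivial_residueField_tensorProduct] at hq
    obtain ⟨K, _, _, hker, hK⟩ := H (PrimeSpectrum.comap (algebraMap k A) q)
    have h1 := subsingleton_fibre J K hK
    set p : Ideal k := (PrimeSpectrum.comap (algebraMap k A) q).asIdeal with hp
    have hpq : p = q.asIdeal.comap (algebraMap k A) := rfl
    -- the map of residue fields
    let φ : p.ResidueField →+* K := Ideal.ResidueField.lift p (algebraMap k K) hker.ge (by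
      intro x hx
      change IsUnit (algebraMap k K x)
      rw [isUnit_iff_ne_zero]
      intro h0
      exact hx (hker.le h0))
    letI : Algebra p.ResidueField K := φ.toAlgebra
    haveI : IsScalarTower k p.ResidueField K := IsScalarTower.of_algebraMap_eq fun x =>
      (Ideal.ResidueField.lift_algebraMap p (algebraMap k K) _ _ x).symm
    have h2 : Subsingleton (p.ResidueField ⊗[k] J) := by
      have e := TensorProduct.AlgebraTensorModule.cancelBaseChange k p.ResidueField K K J
      have h3 : Subsingleton (K ⊗[p.ResidueField] (p.ResidueField ⊗[k] J)) := e.toEquiv.subsingleton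
      exact (Module.FaithfullyFlat.subsingleton_tensorProduct_iff_right p.ResidueField K).1 h3
    let ψ : p.ResidueField →+* q.asIdeal.ResidueField :=
      Ideal.ResidueField.lift p (algebraMap k q.asIdeal.ResidueField) (by
        intro x hx
        rw [RingHom.mem_ker, IsScalarTower.algebraMap_apply k A q.asIdeal.ResidueField]
        exact Ideal.algebraMap_residueField_eq_zero.2 hx) (by
      intro x hx
      change IsUnit (algebraMap k _ x)
      rw [isUnit_iff_ne_zero]
      intro h0
      rw [IsScalarTower.algebraMap_apply k A q.asIdeal.ResidueField] at h0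
      have h01 : algebraMap k A x ∈ q.asIdeal := Ideal.algebraMap_residueField_eq_zero.1 h0
      exact hx h01)
    letI : Algebra p.ResidueField q.asIdeal.ResidueField := ψ.toAlgebra
    haveI : IsScalarTower k p.ResidueField q.asIdeal.ResidueField :=
      IsScalarTower.of_algebraMap_eq fun x => (Ideal.ResidueField.lift_algebraMap p
        (algebraMap k q.asIdeal.ResidueField) _ _ x).symm
    have h4 : Subsingleton (q.asIdeal.ResidueField ⊗[k] J) := by
      have e := TensorProduct.AlgebraTensorModule.cancelBaseChange k p.ResidueField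
        q.asIdeal.ResidueField q.asIdeal.ResidueField J
      exact e.symm.toEquiv.subsingleton
    have h5 : Subsingleton (q.asIdeal.ResidueField ⊗[A] J) :=
      (TensorProduct.mapOfCompatibleSMul_surjective A k k q.asIdeal.ResidueField J).subsingleton
    exact not_subsingleton _ h5
  rw [Module.support_eq_empty_iff] at hsupp
  exact (Submodule.subsingleton_iff_eq_bot).1 hsupp

variable (ε : A →ₐ[k] k) (K : Type w) [Field K] [Algebra k K]

/-- the base change of a retraction -/
noncomputable def bcRet (ε : A →ₐ[k] k) (K : Type w) [CommRing K] [Algebra k K] :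
    K ⊗[k] A →ₐ[K] K :=
  Algebra.TensorProduct.lift (AlgHom.id K K) ((Algebra.ofId k K).comp ε) fun _ _ => .all _ _

lemma bcRet_tmul (ε : A →ₐ[k] k) (K : Type w) [CommRing K] [Algebra k K] (c : K) (a : A) :
    bcRet ε K (c ⊗ₜ a) = c * algebraMap k K (ε a) := by
  rw [bcRet, Algebra.TensorProduct.lift_tmul]
  rfl

/-- the kernel of any retraction of `K ⊗ A` extending `ε` is generated by the kernel of `ε` -/
lemma ker_eq_map (ε : A →ₐ[k] k) {K : Type w} [CommRing K] [Algebra k K] (η : K ⊗[k] A →ₐ[K] K)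
    (hη : ∀ a, η ((1 : K) ⊗ₜ a) = algebraMap k K (ε a)) :
    RingHom.ker η = (RingHom.ker ε).map (Algebra.TensorProduct.includeRight : A →ₐ[k] K ⊗[k] A) := by
  apply le_antisymm
  · have key : ∀ x : K ⊗[k] A, x - algebraMap K _ (η x) ∈
        (RingHom.ker ε).map (Algebra.TensorProduct.includeRight : A →ₐ[k] K ⊗[k] A) := by
      intro x
      induction x using TensorProduct.induction_on with
      | zero => simp
      | tmul c a =>
        have h1 : η (c ⊗ₜ[k] a) = c * algebraMap k K (ε a) := by
          have h2 : c ⊗ₜ[k] a = c • ((1 : K) ⊗ₜ[k] a) := by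
            rw [TensorProduct.smul_tmul', smul_eq_mul, mul_one]
          rw [h2, map_smul, hη, smul_eq_mul]
        have h3 : c ⊗ₜ[k] a - algebraMap K _ (η (c ⊗ₜ[k] a)) =
            (c ⊗ₜ[k] (1 : A)) * ((1 : K) ⊗ₜ[k] (a - algebraMap k A (ε a))) := by
          rw [h1, Algebra.TensorProduct.tmul_mul_tmul, mul_one, one_mul, TensorProduct.tmul_sub,
            Algebra.TensorProduct.algebraMap_apply, Algebra.algebraMap_eq_smul_one (A := A) (ε a),
            ← TensorProduct.smul_tmul, Algebra.smul_def (ε a) c, mul_comm c]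
          rfl
        rw [h3]
        apply Ideal.mul_mem_left
        exact Ideal.mem_map_of_mem
          (Algebra.TensorProduct.includeRight : A →ₐ[k] K ⊗[k] A) (by
          rw [RingHom.mem_ker]
          change ε (a - algebraMap k A (ε a)) = 0
          rw [map_sub, AlgHom.commutes]
          exact sub_self _)
      | add x y hx hy =>
        rw [map_add, map_add, add_sub_add_comm]
        exact add_mem hx hy
    intro x hx
    have h1 := key x
    rw [RingHom.mem_ker.1 hx, map_zero, sub_zero] at h1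
    exact h1
  · rw [Ideal.map_le_iff_le_comap]
    intro a ha
    rw [Ideal.mem_comap, RingHom.mem_ker]
    change η ((1 : K) ⊗ₜ a) = 0
    rw [hη, RingHom.mem_ker.1 ha, map_zero]

lemma ker_bcRet (ε : A →ₐ[k] k) (K : Type w) [CommRing K] [Algebra k K] :
    RingHom.ker (bcRet ε K) =
      (RingHom.ker ε).map (Algebra.TensorProduct.includeRight : A →ₐ[k] K ⊗[k] A) :=
  ker_eq_map ε (bcRet ε K) fun a => by rw [bcRet_tmul, one_mul]

/-- **(Q2)** a smooth closed subscheme with the same cotangent space along a section of a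
scheme of finite type whose geometric fibres are integral is everything. -/
theorem eq_bot_of_le_sq (ε : A →ₐ[k] k) (J : Ideal A) (hJ : J.FG) [Algebra.FiniteType k A]
    [Module.Flat k (A ⧸ J)] [Algebra.FormallySmooth k (A ⧸ J)]
    (H : ∀ p : PrimeSpectrum k, ∃ (K : Type w) (_ : Field K) (_ : Algebra k K),
      RingHom.ker (algebraMap k K) = p.asIdeal ∧ IsDomain (K ⊗[k] A) ∧
      J.map (Algebra.TensorProduct.includeRight : A →ₐ[k] K ⊗[k] A) ≤
        ((RingHom.ker ε).map (Algebra.TensorProduct.includeRight : A →ₐ[k] K ⊗[k] A)) ^ 2) :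
    J = ⊥ := by
  refine eq_bot_of_fibres (k := k) J hJ fun p => ?_
  obtain ⟨K, _, _, hker, hdom, hK⟩ := H p
  refine ⟨K, inferInstance, inferInstance, hker, ?_⟩
  haveI : Algebra.FormallySmooth K ((K ⊗[k] A) ⧸
      J.map (Algebra.TensorProduct.includeRight : A →ₐ[k] K ⊗[k] A)) :=
    Algebra.FormallySmooth.of_equiv
      (Algebra.TensorProduct.tensorQuotientEquiv (R := k) K A K J)
  haveI : IsNoetherianRing (K ⊗[k] A) := Algebra.FiniteType.isNoetherianRing K _
  rw [← ker_bcRet ε K] at hK
  exact eq_bot_of_isDomain (bcRet ε K) _ hK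

end Fibres

end Groth.Agent.Sga3B.GrDynQ678
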