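import Mathlib.RingTheory.HopfAlgebra.Convolution
import Mathlib.RingTheory.Smooth.Basic
import Mathlib.RingTheory.Bialgebra.MonoidAlgebra
import Mathlib.LinearAlgebra.TensorProduct.RightExactness
import Mathlib.Tactic.NoncommRing
import Mathlib.Tactic.Group
import Mathlib.Tactic.LinearCombination

/-!
# Deformation theory of homomorphisms out of a linearly reductive (diagonalisable) group

`C` is a commutative Hopf algebra over `R` (the group `G = Spec C`), `D` a commutative bialgebra over `R`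
with a normalised invariant integral (e.g. the group algebra of an abelian group, `H = Spec D`).
A homomorphism `H_A → G_A` is an algebra map `f : C →ₐ[R] D ⊗[R] A` with `f(t₁) f(t₂) = f(t₁ t₂)`
in the group `G(D ⊗ (D ⊗ A))` (`IsHom`).

* `exists_lift_isHom` : if `C` is formally smooth over `R` and `I ^ 2 = 0`, homomorphisms over `A ⧸ I` lift to `A`
  (vanishing of `H²`).
* `exists_conj_isHom` : two homomorphisms over `A` which agree mod `I` are conjugate by a point of
  `ker (G(A) → G(A ⧸ I))` (vanishing of `H¹`).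
-/

set_option autoImplicit false

open TensorProduct Coalgebra Bialgebra WithConv

namespace Groth.Agent.Sga3B.HaarDef

noncomputable section

variable {R : Type*} [CommRing R]

section Conv

variable {C : Type*} [CommRing C] [HopfAlgebra R C]
variable {X Y Z : Type*} [CommRing X] [Algebra R X] [CommRing Y] [Algebra R Y] [CommRing Z] [Algebra R Z]

/-- Postcomposition with a linear map on the convolution algebra. -/
def pushL (h : X →ₗ[R] Y) : WithConv (C →ₗ[R] X) →+ WithConv (C →ₗ[R] Y) where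
  toFun φ := toConv (h ∘ₗ φ.ofConv)
  map_zero' := by
    ext c; simp
  map_add' a b := by
    ext c; simp

@[simp] lemma pushL_apply (h : X →ₗ[R] Y) (φ : WithConv (C →ₗ[R] X)) (c : C) :
    (pushL h φ) c = h (φ c) := rfl

/-- Postcomposition with an algebra map on the convolution algebra, a ring homomorphism. -/
def push (h : X →ₐ[R] Y) : WithConv (C →ₗ[R] X) →+* WithConv (C →ₗ[R] Y) where
  toFun φ := toConv (h.toLinearMap ∘ₗ φ.ofConv)
  map_zero' := by
    ext c; simp
  map_add' a b := by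
    ext c; simp
  map_one' := by
    ext c; simp
  map_mul' a b := by
    apply WithConv.ofConv_injective
    exact LinearMap.algHom_comp_convMul_distrib h a b

@[simp] lemma push_apply (h : X →ₐ[R] Y) (φ : WithConv (C →ₗ[R] X)) (c : C) :
    (push h φ) c = h (φ c) := rfl

/-- The inclusion of the group of points into the convolution algebra. -/
def lin : WithConv (C →ₐ[R] X) →* WithConv (C →ₗ[R] X) where
  toFun φ := toConv φ.ofConv.toLinearMap
  map_one' := rfl
  map_mul' _ _ := rfl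

@[simp] lemma lin_apply (φ : WithConv (C →ₐ[R] X)) (c : C) : (lin φ) c = φ c := rfl

lemma lin_injective : Function.Injective (lin : WithConv (C →ₐ[R] X) →* WithConv (C →ₗ[R] X)) := by
  intro a b h
  apply WithConv.ofConv_injective
  apply AlgHom.toLinearMap_injective
  exact WithConv.toConv_injective h

/-- The group structure on `X`-valued points (Mathlib only has it when `X` is itself a bialgebra). -/
scoped instance ptGroup : Group (WithConv (C →ₐ[R] X)) where
  inv f := toConv (f.ofConv.comp (HopfAlgebra.antipodeAlgHom R C))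
  inv_mul_cancel f := by
    apply lin_injective
    ext c
    have h : (lin (toConv (f.ofConv.comp (HopfAlgebra.antipodeAlgHom R C)) * f)) c =
        ∑ i ∈ (ℛ R c).index, f (HopfAlgebra.antipode R ((ℛ R c).left i)) * f ((ℛ R c).right i) := by
      rw [map_mul]
      exact (ℛ R c).convMul_apply _ _
    refine h.trans ?_
    have h2 : ∑ i ∈ (ℛ R c).index, f (HopfAlgebra.antipode R ((ℛ R c).left i)) * f ((ℛ R c).right i) =
        f.ofConv (∑ i ∈ (ℛ R c).index, HopfAlgebra.antipode R ((ℛ R c).left i) * ((ℛ R c).right i)) := by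
      rw [map_sum]
      exact Finset.sum_congr rfl fun i _ => (map_mul f.ofConv _ _).symm
    rw [h2, HopfAlgebra.sum_antipode_mul_eq_algebraMap_counit (ℛ R c)]
    simp

/-- Postcomposition with an algebra map on groups of points. -/
def pushG (h : X →ₐ[R] Y) : WithConv (C →ₐ[R] X) →* WithConv (C →ₐ[R] Y) where
  toFun φ := toConv (h.comp φ.ofConv)
  map_one' := by
    apply lin_injective
    ext c; simp
  map_mul' a b := by
    apply WithConv.ofConv_injective
    exact AlgHom.comp_convMul_distrib h a b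

@[simp] lemma pushG_apply (h : X →ₐ[R] Y) (φ : WithConv (C →ₐ[R] X)) (c : C) :
    (pushG h φ) c = h (φ c) := rfl

lemma pushG_comp (h : X →ₐ[R] Y) (k : Y →ₐ[R] Z) (φ : WithConv (C →ₐ[R] X)) :
    pushG k (pushG h φ) = pushG (k.comp h) φ := rfl

lemma push_lin (h : X →ₐ[R] Y) (φ : WithConv (C →ₐ[R] X)) : push h (lin φ) = lin (pushG h φ) := rfl

lemma push_push (h : X →ₐ[R] Y) (k : Y →ₐ[R] Z) (φ : WithConv (C →ₗ[R] X)) :
    push k (push h φ) = push (k.comp h) φ := rfl

lemma conv_ext {φ ψ : WithConv (C →ₗ[R] X)} (h : ∀ c, φ c = ψ c) : φ = ψ := by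
  ext c; exact h c

lemma convMul_repr (φ ψ : WithConv (C →ₗ[R] X)) (c : C) :
    (φ * ψ) c = ∑ i ∈ (ℛ R c).index, φ ((ℛ R c).left i) * ψ ((ℛ R c).right i) :=
  (ℛ R c).convMul_apply φ ψ

/-- elements of the convolution algebra with values in an ideal -/
def InIdeal (K : Ideal X) (φ : WithConv (C →ₗ[R] X)) : Prop := ∀ c, φ c ∈ K

lemma InIdeal.mul_left {K : Ideal X} {φ : WithConv (C →ₗ[R] X)} (h : InIdeal K φ)
    (ψ : WithConv (C →ₗ[R] X)) : InIdeal K (ψ * φ) := by
  intro c
  rw [convMul_repr]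
  exact Ideal.sum_mem _ fun i _ => Ideal.mul_mem_left _ _ (h _)

lemma InIdeal.mul_right {K : Ideal X} {φ : WithConv (C →ₗ[R] X)} (h : InIdeal K φ)
    (ψ : WithConv (C →ₗ[R] X)) : InIdeal K (φ * ψ) := by
  intro c
  rw [convMul_repr]
  exact Ideal.sum_mem _ fun i _ => Ideal.mul_mem_right _ _ (h _)

lemma InIdeal.add {K : Ideal X} {φ ψ : WithConv (C →ₗ[R] X)} (h : InIdeal K φ) (h' : InIdeal K ψ) :
    InIdeal K (φ + ψ) := fun c => Ideal.add_mem _ (h c) (h' c)

lemma InIdeal.neg {K : Ideal X} {φ : WithConv (C →ₗ[R] X)} (h : InIdeal K φ) :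
    InIdeal K (-φ) := fun c => Submodule.neg_mem _ (h c)

lemma InIdeal.sub {K : Ideal X} {φ ψ : WithConv (C →ₗ[R] X)} (h : InIdeal K φ) (h' : InIdeal K ψ) :
    InIdeal K (φ - ψ) := fun c => Submodule.sub_mem _ (h c) (h' c)

lemma InIdeal.mul_eq_zero {K : Ideal X} (hK : K ^ 2 = ⊥) {φ ψ : WithConv (C →ₗ[R] X)}
    (h : InIdeal K φ) (h' : InIdeal K ψ) : φ * ψ = 0 := by
  apply conv_ext
  intro c
  rw [convMul_repr]
  apply Finset.sum_eq_zero
  intro i _
  have : φ ((ℛ R c).left i) * ψ ((ℛ R c).right i) ∈ K ^ 2 := by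
    rw [pow_two]; exact Ideal.mul_mem_mul (h _) (h' _)
  rw [hK] at this
  simpa using this

/-- `φ` is a derivation at the counit. -/
def IsDer (φ : WithConv (C →ₗ[R] X)) : Prop :=
  ∀ x y : C, φ (x * y) = counit (R := R) x • φ y + counit (R := R) y • φ x

/-- A derivation at the counit with values in a square zero ideal gives an infinitesimal point. -/
def expPt {K : Ideal X} (hK : K ^ 2 = ⊥) (φ : WithConv (C →ₗ[R] X)) (h : InIdeal K φ) (hd : IsDer φ) :
    WithConv (C →ₐ[R] X) :=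
  toConv (AlgHom.ofLinearMap (1 + φ).ofConv
    (by
      have h1 : φ (1 : C) = 0 := by
        have := hd 1 1
        simpa using this
      show (1 : WithConv (C →ₗ[R] X)) (1 : C) + φ (1 : C) = 1
      rw [h1]
      simp)
    (by
      intro x y
      show (1 : WithConv (C →ₗ[R] X)) (x * y) + φ (x * y) =
        ((1 : WithConv (C →ₗ[R] X)) x + φ x) * ((1 : WithConv (C →ₗ[R] X)) y + φ y)
      rw [hd]
      have h0 : φ x * φ y = 0 := by
        have : φ x * φ y ∈ K ^ 2 := by
          rw [pow_two]; exact Ideal.mul_mem_mul (h _) (h _)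
        rw [hK] at this
        simpa using this
      simp only [LinearMap.convOne_apply, Bialgebra.counit_mul, map_mul, Algebra.smul_def]
      linear_combination (-1 : X) * h0))

@[simp] lemma lin_expPt {K : Ideal X} (hK : K ^ 2 = ⊥) (φ : WithConv (C →ₗ[R] X)) (h : InIdeal K φ)
    (hd : IsDer φ) : lin (expPt hK φ h hd) = 1 + φ := rfl

/-- A point congruent to `1` mod a square-zero ideal is `1 + derivation`. -/
lemma isDer_of_pt {K : Ideal X} (hK : K ^ 2 = ⊥) (g : WithConv (C →ₐ[R] X))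
    (h : InIdeal K (lin g - 1)) : IsDer (lin g - 1) := by
  intro x y
  have h0 : (lin g - 1) x * (lin g - 1) y = 0 := by
    have : (lin g - 1) x * (lin g - 1) y ∈ K ^ 2 := by
      rw [pow_two]; exact Ideal.mul_mem_mul (h _) (h _)
    rw [hK] at this
    simpa using this
  have e : ∀ z, (lin g - 1) z = g z - algebraMap R X (counit (R := R) z) := fun z => rfl
  rw [e, e] at h0
  rw [e, e, e]
  have hm : g (x * y) = g x * g y := map_mul g.ofConv x y
  rw [hm]
  simp only [Bialgebra.counit_mul, map_mul, Algebra.smul_def]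
  linear_combination h0


/-! ### The abstract averaging arguments -/

lemma InIdeal.push {h : X →ₐ[R] Y} {K : Ideal X} {L : Ideal Y} (hKL : ∀ x ∈ K, h x ∈ L)
    {φ : WithConv (C →ₗ[R] X)} (hφ : InIdeal K φ) : InIdeal L (HaarDef.push h φ) :=
  fun c => hKL _ (hφ c)

lemma pushL_mul_right {X Y : Type*} [CommRing X] [Algebra R X] [CommRing Y] [Algebra R Y]
    (J : Y →ₗ[R] X) (p : X →ₐ[R] Y) (hJ : ∀ x z, J (p x * z) = x * J z)
    (g : WithConv (C →ₗ[R] Y)) (a : WithConv (C →ₗ[R] X)) :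
    pushL J (g * push p a) = pushL J g * a := by
  apply conv_ext
  intro c
  rw [pushL_apply, convMul_repr, convMul_repr, map_sum]
  refine Finset.sum_congr rfl fun i _ => ?_
  rw [push_apply, mul_comm, hJ, mul_comm]
  rfl

lemma pushL_mul_left {X Y : Type*} [CommRing X] [Algebra R X] [CommRing Y] [Algebra R Y]
    (J : Y →ₗ[R] X) (p : X →ₐ[R] Y) (hJ : ∀ x z, J (p x * z) = x * J z)
    (a : WithConv (C →ₗ[R] X)) (g : WithConv (C →ₗ[R] Y)) :
    pushL J (push p a * g) = a * pushL J g := by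
  apply conv_ext
  intro c
  rw [pushL_apply, convMul_repr, convMul_repr, map_sum]
  refine Finset.sum_congr rfl fun i _ => ?_
  rw [push_apply, hJ]
  rfl

lemma inIdeal_of_pushG_eq_one {h : X →ₐ[R] Y} {g : WithConv (C →ₐ[R] X)} (hg : pushG h g = 1) :
    InIdeal (RingHom.ker h) (lin g - 1) := by
  intro c
  rw [RingHom.mem_ker]
  have e : (lin g - 1) c = g c - algebraMap R X (counit (R := R) c) := rfl
  rw [e, map_sub, AlgHom.commutes]
  have := congrArg (fun q : WithConv (C →ₐ[R] Y) => q c) hg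
  simp only [pushG_apply, AlgHom.convOne_apply] at this
  rw [this, sub_self]

lemma pushG_eq_one_of_inIdeal {h : X →ₐ[R] Y} {g : WithConv (C →ₐ[R] X)}
    (hg : InIdeal (RingHom.ker h) (lin g - 1)) : pushG h g = 1 := by
  apply lin_injective
  apply conv_ext
  intro c
  have e : (lin g - 1) c = g c - algebraMap R X (counit (R := R) c) := rfl
  have h1 := hg c
  rw [RingHom.mem_ker, e, map_sub, AlgHom.commutes, sub_eq_zero] at h1
  exact h1

lemma IsDer.pushL {φ : WithConv (C →ₗ[R] X)} (hφ : IsDer φ) (J : X →ₗ[R] Y) : IsDer (HaarDef.pushL J φ) := by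
  intro x y
  rw [pushL_apply, hφ, map_add, map_smul, map_smul]
  rfl

lemma IsDer.neg {φ : WithConv (C →ₗ[R] X)} (hφ : IsDer φ) : IsDer (-φ) := by
  intro x y
  show -(φ (x * y)) = _
  rw [hφ x y, neg_add, ← smul_neg, ← smul_neg]
  rfl

lemma exists_algHom_lift [Algebra.FormallySmooth R C] {h : X →ₐ[R] Y} (hh : Function.Surjective h)
    (hK : (RingHom.ker h) ^ 2 = ⊥) (f : C →ₐ[R] Y) : ∃ g : C →ₐ[R] X, h.comp g = f :=
  ⟨Algebra.FormallySmooth.liftOfSurjective f h hh ⟨2, hK⟩,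
    Algebra.FormallySmooth.comp_liftOfSurjective _ _ _ _⟩

section Abstract

variable {X0 X1 X2 X3 : Type*} [CommRing X0] [Algebra R X0] [CommRing X1] [Algebra R X1]
  [CommRing X2] [Algebra R X2] [CommRing X3] [Algebra R X3]

/-- Abstract form of `H¹ = 0`. -/
theorem exists_conj_abstract
    (i0 : X0 →ₐ[R] X1) (p1 p2 m : X1 →ₐ[R] X2) (J0 : X1 →ₗ[R] X0) (J1 : X2 →ₗ[R] X1)
    (hJl : ∀ x z, J1 (p2 x * z) = x * J1 z) (hJ2 : ∀ x, J1 (p2 x) = x)
    (hJ1 : ∀ x, J1 (p1 x) = i0 (J0 x)) (hJm : ∀ x, J1 (m x) = i0 (J0 x))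
    (K0 : Ideal X0) (K1 : Ideal X1) (K2 : Ideal X2) (hK0 : K0 ^ 2 = ⊥) (hK1 : K1 ^ 2 = ⊥) (hK2 : K2 ^ 2 = ⊥)
    (hi0 : ∀ x ∈ K0, i0 x ∈ K1) (hp1 : ∀ x ∈ K1, p1 x ∈ K2) (hp2 : ∀ x ∈ K1, p2 x ∈ K2)
    (hJ0 : ∀ x ∈ K1, J0 x ∈ K0)
    (F F' : WithConv (C →ₐ[R] X1)) (hF : pushG p1 F * pushG p2 F = pushG m F)
    (hF' : pushG p1 F' * pushG p2 F' = pushG m F') (hFF : InIdeal K1 (lin (F⁻¹ * F') - 1)) :
    ∃ g : WithConv (C →ₐ[R] X0), InIdeal K0 (lin g - 1) ∧ F' = pushG i0 g * F * (pushG i0 g)⁻¹ := by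
  set c : WithConv (C →ₐ[R] X1) := F⁻¹ * F' with hc
  set γ : WithConv (C →ₗ[R] X1) := lin c - 1 with hγ
  have hcγ : lin c = 1 + γ := by rw [hγ]; abel
  have hγd : IsDer γ := isDer_of_pt hK1 c hFF
  set Φ2 := lin (pushG p2 F) with hΦ2
  set Φ2' := lin (pushG p2 F)⁻¹ with hΦ2'
  have hΦΦ : Φ2' * Φ2 = 1 := by rw [hΦ2, hΦ2', ← map_mul, inv_mul_cancel, map_one]
  have e1 : pushG m c = (pushG p2 F)⁻¹ * pushG p1 c * pushG p2 F * pushG p2 c := by
    rw [hc, map_mul, map_inv, ← hF, ← hF']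
    simp only [map_mul, map_inv]
    group
  have hγ1 : InIdeal K2 (push p1 γ) := hFF.push hp1
  have hγ2 : InIdeal K2 (push p2 γ) := hFF.push hp2
  have e2 : push m γ = Φ2' * push p1 γ * Φ2 + push p2 γ := by
    have := congrArg lin e1
    simp only [map_mul] at this
    rw [← push_lin, ← push_lin p1, ← push_lin p2 c, hcγ, map_add, map_add, map_add, map_one, map_one,
      map_one] at this
    have h0 : (Φ2' * push p1 γ * Φ2) * push p2 γ = 0 :=
      ((hγ1.mul_left Φ2').mul_right Φ2).mul_eq_zero hK2 hγ2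
    have h3 : Φ2' * (1 + push p1 γ) * Φ2 = 1 + Φ2' * push p1 γ * Φ2 := by
      rw [mul_add, add_mul, mul_one, hΦΦ]
    rw [h3, mul_add, mul_one, add_mul, one_mul, h0, add_zero, add_assoc] at this
    exact add_left_cancel this
  set ξ : WithConv (C →ₗ[R] X0) := pushL J0 γ with hξ
  have hξK : InIdeal K0 ξ := fun x => hJ0 _ (hFF x)
  have hξd : IsDer ξ := hγd.pushL J0
  set ζ := push i0 ξ with hζ
  have hζK : InIdeal K1 ζ := hξK.push hi0
  set Φ := lin F with hΦ
  set Φ' := lin F⁻¹ with hΦ'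
  have hΦ1 : Φ * Φ' = 1 := by rw [hΦ, hΦ', ← map_mul, mul_inv_cancel, map_one]
  have e3 : ζ = Φ' * ζ * Φ + γ := by
    have h4 := congrArg (pushL J1) e2
    rw [map_add] at h4
    have h5 : pushL J1 (push m γ) = ζ := by
      apply conv_ext
      intro x
      rw [pushL_apply, push_apply, hJm]
      rfl
    have h6 : pushL J1 (push p2 γ) = γ := by
      apply conv_ext
      intro x
      rw [pushL_apply, push_apply, hJ2]
    have h7 : pushL J1 (push p1 γ) = ζ := by
      apply conv_ext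
      intro x
      rw [pushL_apply, push_apply, hJ1]
      rfl
    have h8 : Φ2 = push p2 Φ := rfl
    have h9 : Φ2' = push p2 Φ' := by rw [hΦ2', hΦ', push_lin, map_inv (pushG p2) F]
    rw [h8, h9, pushL_mul_right J1 p2 hJl, pushL_mul_left J1 p2 hJl, h5, h6, h7] at h4
    exact h4
  refine ⟨expPt hK0 (-ξ) hξK.neg hξd.neg, ?_, ?_⟩
  · rw [lin_expPt, add_sub_cancel_left]; exact hξK.neg
  · rw [eq_mul_inv_iff_mul_eq]
    apply lin_injective
    rw [map_mul, map_mul, ← push_lin, lin_expPt, map_add, map_one]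
    have h10 : lin F' = Φ * (1 + γ) := by
      rw [← hcγ, hΦ, ← map_mul, hc, mul_inv_cancel_left]
    have h11 : push i0 (-ξ) = -ζ := map_neg _ _
    rw [h10, h11]
    have h12 : γ = ζ - Φ' * ζ * Φ := by
      rw [eq_sub_iff_add_eq, add_comm]; exact e3.symm
    have h13 : γ * ζ = 0 := hFF.mul_eq_zero hK1 hζK
    have h14 : Φ * γ = Φ * ζ - ζ * Φ := by
      rw [h12, mul_sub, ← mul_assoc, ← mul_assoc, hΦ1, one_mul]
    calc Φ * (1 + γ) * (1 + -ζ) = Φ + Φ * γ - Φ * ζ - Φ * (γ * ζ) := by noncomm_ring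
      _ = Φ - ζ * Φ := by rw [h13, h14]; noncomm_ring
      _ = (1 + -ζ) * Φ := by noncomm_ring

/-- Abstract form of `H² = 0`. -/
theorem exists_hom_abstract
    (p1 p2 m : X1 →ₐ[R] X2) (q1 q2 q3 q4 : X2 →ₐ[R] X3) (J1 : X2 →ₗ[R] X1) (J2 : X3 →ₗ[R] X2)
    (c1 : q1.comp m = q3.comp m) (c2 : q1.comp p1 = q4.comp p1) (c3 : q1.comp p2 = q2.comp m)
    (c4 : q3.comp p1 = q4.comp m) (c5 : q3.comp p2 = q2.comp p2) (c6 : q4.comp p2 = q2.comp p1)
    (hJl : ∀ x z, J2 (q2 x * z) = x * J2 z) (hJ2 : ∀ x, J2 (q2 x) = x)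
    (hJ1 : ∀ x, J2 (q1 x) = m (J1 x)) (hJ3 : ∀ x, J2 (q3 x) = p2 (J1 x))
    (hJ4 : ∀ x, J2 (q4 x) = p1 (J1 x))
    (K1 : Ideal X1) (K2 : Ideal X2) (K3 : Ideal X3) (hK1 : K1 ^ 2 = ⊥) (hK2 : K2 ^ 2 = ⊥) (hK3 : K3 ^ 2 = ⊥)
    (hp1 : ∀ x ∈ K1, p1 x ∈ K2) (hp2 : ∀ x ∈ K1, p2 x ∈ K2)
    (hq1 : ∀ x ∈ K2, q1 x ∈ K3) (hq2 : ∀ x ∈ K2, q2 x ∈ K3) (hq3 : ∀ x ∈ K2, q3 x ∈ K3)
    (hq4 : ∀ x ∈ K2, q4 x ∈ K3) (hJK : ∀ x ∈ K2, J1 x ∈ K1)
    (φ : WithConv (C →ₐ[R] X1))
    (hφ : InIdeal K2 (lin ((pushG m φ)⁻¹ * pushG p1 φ * pushG p2 φ) - 1)) :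
    ∃ b : WithConv (C →ₐ[R] X1), InIdeal K1 (lin b - 1) ∧
      pushG p1 (φ * b) * pushG p2 (φ * b) = pushG m (φ * b) := by
  set Φ1 := pushG p1 φ with hΦ1
  set Φ2 := pushG p2 φ with hΦ2
  set Φ12 := pushG m φ with hΦ12
  set c : WithConv (C →ₐ[R] X2) := Φ12⁻¹ * Φ1 * Φ2 with hc
  set γ : WithConv (C →ₗ[R] X2) := lin c - 1 with hγ
  have hcγ : lin c = 1 + γ := by rw [hγ]; abel
  have hγd : IsDer γ := isDer_of_pt hK2 c hφ
  set φ3 : WithConv (C →ₐ[R] X3) := pushG q2 Φ2 with hφ3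
  have a1 : pushG q1 Φ12 = pushG q3 Φ12 := by rw [hΦ12, pushG_comp, pushG_comp, c1]
  have a2 : pushG q1 Φ1 = pushG q4 Φ1 := by rw [hΦ1, pushG_comp, pushG_comp, c2]
  have a3 : pushG q1 Φ2 = pushG q2 Φ12 := by rw [hΦ2, hΦ12, pushG_comp, pushG_comp, c3]
  have a4 : pushG q3 Φ1 = pushG q4 Φ12 := by rw [hΦ1, hΦ12, pushG_comp, pushG_comp, c4]
  have a5 : pushG q3 Φ2 = φ3 := by rw [hφ3, hΦ2, pushG_comp, pushG_comp, c5]
  have a6 : pushG q4 Φ2 = pushG q2 Φ1 := by rw [hΦ1, hΦ2, pushG_comp, pushG_comp, c6]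
  have e1 : pushG q1 c * pushG q2 c = pushG q3 c * (φ3⁻¹ * pushG q4 c * φ3) := by
    rw [hc]
    simp only [map_mul, map_inv]
    rw [a1, a2, a3, a4, a5, a6, ← hφ3]
    group
  set P3 := lin φ3 with hP3
  set P3' := lin φ3⁻¹ with hP3'
  have hP1 : P3' * P3 = 1 := by rw [hP3, hP3', ← map_mul, inv_mul_cancel, map_one]
  have k1 : InIdeal K3 (push q1 γ) := hφ.push hq1
  have k2 : InIdeal K3 (push q2 γ) := hφ.push hq2
  have k3 : InIdeal K3 (push q3 γ) := hφ.push hq3
  have k4 : InIdeal K3 (push q4 γ) := hφ.push hq4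
  have e2 : push q1 γ + push q2 γ = push q3 γ + P3' * push q4 γ * P3 := by
    have h := congrArg lin e1
    simp only [map_mul] at h
    rw [← push_lin, ← push_lin, ← push_lin q3, ← push_lin q4, hcγ,
      map_add, map_add, map_add, map_add, map_one, map_one, map_one, map_one] at h
    have h0 : push q1 γ * push q2 γ = 0 := k1.mul_eq_zero hK3 k2
    have h0' : push q3 γ * (P3' * push q4 γ * P3) = 0 :=
      k3.mul_eq_zero hK3 ((k4.mul_left P3').mul_right P3)
    have h3 : P3' * (1 + push q4 γ) * P3 = 1 + P3' * push q4 γ * P3 := by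
      rw [mul_add, add_mul, mul_one, hP1]
    rw [h3] at h
    set d := P3' * push q4 γ * P3 with hd
    calc push q1 γ + push q2 γ = (1 + push q1 γ) * (1 + push q2 γ) - 1 - push q1 γ * push q2 γ := by
          noncomm_ring
      _ = (1 + push q3 γ) * (1 + d) - 1 := by rw [h, h0, sub_zero]
      _ = push q3 γ + d + push q3 γ * d := by noncomm_ring
      _ = push q3 γ + d := by rw [h0', add_zero]
  set b : WithConv (C →ₗ[R] X1) := pushL J1 γ with hb
  have hbK : InIdeal K1 b := fun x => hJK _ (hφ x)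
  have hbd : IsDer b := hγd.pushL J1
  set Q2 := lin Φ2 with hQ2
  set Q2' := lin Φ2⁻¹ with hQ2'
  have hQ : Q2 * Q2' = 1 := by rw [hQ2, hQ2', ← map_mul, mul_inv_cancel, map_one]
  have e3 : push m b + γ = push p2 b + Q2' * push p1 b * Q2 := by
    have h4 := congrArg (pushL J2) e2
    rw [map_add, map_add] at h4
    have h5 : pushL J2 (push q1 γ) = push m b := by
      apply conv_ext
      intro x
      rw [pushL_apply, push_apply, hJ1]
      rfl
    have h6 : pushL J2 (push q2 γ) = γ := by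
      apply conv_ext
      intro x
      rw [pushL_apply, push_apply, hJ2]
    have h7 : pushL J2 (push q3 γ) = push p2 b := by
      apply conv_ext
      intro x
      rw [pushL_apply, push_apply, hJ3]
      rfl
    have h7' : pushL J2 (push q4 γ) = push p1 b := by
      apply conv_ext
      intro x
      rw [pushL_apply, push_apply, hJ4]
      rfl
    have h8 : P3 = push q2 Q2 := rfl
    have h9 : P3' = push q2 Q2' := by rw [hP3', hQ2', push_lin, map_inv (pushG q2) Φ2]
    rw [h8, h9, pushL_mul_right J2 q2 hJl, pushL_mul_left J2 q2 hJl, h5, h6, h7, h7'] at h4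
    exact h4
  refine ⟨expPt hK1 (-b) hbK.neg hbd.neg, ?_, ?_⟩
  · rw [lin_expPt, add_sub_cancel_left]; exact hbK.neg
  set ε := expPt hK1 (-b) hbK.neg hbd.neg with hε
  rw [map_mul, map_mul, map_mul, ← hΦ1, ← hΦ2, ← hΦ12]
  have hΦ : Φ1 * Φ2 = Φ12 * c := by rw [hc]; group
  apply lin_injective
  have lε : lin ε = 1 + -b := lin_expPt _ _ _ _
  simp only [map_mul, ← push_lin, lε]
  rw [map_add, map_add, map_add, map_one, map_one, map_one]
  simp only [map_neg]
  set b1 := push p1 b with hb1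
  set b2 := push p2 b with hb2
  set b12 := push m b with hb12
  have m1 : InIdeal K2 b1 := hbK.push hp1
  have m2 : InIdeal K2 b2 := hbK.push hp2
  have hlin : lin Φ1 * Q2 = lin Φ12 * (1 + γ) := by
    rw [← hcγ, hQ2, ← map_mul, hΦ, map_mul]
  have z1 : γ * (Q2' * b1 * Q2) = 0 := hφ.mul_eq_zero hK2 ((m1.mul_left Q2').mul_right Q2)
  have z2 : γ * b2 = 0 := hφ.mul_eq_zero hK2 m2
  have z3 : (Q2' * b1 * Q2) * b2 = 0 := ((m1.mul_left Q2').mul_right Q2).mul_eq_zero hK2 m2
  calc lin Φ1 * (1 + -b1) * (Q2 * (1 + -b2))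
      = (lin Φ1 * Q2 - lin Φ1 * (1 * b1 * Q2)) * (1 + -b2) := by noncomm_ring
    _ = (lin Φ1 * Q2 - lin Φ1 * ((Q2 * Q2') * b1 * Q2)) * (1 + -b2) := by rw [hQ]
    _ = (lin Φ1 * Q2) * ((1 - Q2' * b1 * Q2) * (1 + -b2)) := by noncomm_ring
    _ = lin Φ12 * ((1 + γ) * ((1 - Q2' * b1 * Q2) * (1 + -b2))) := by rw [hlin, mul_assoc]
    _ = lin Φ12 * (1 + γ - Q2' * b1 * Q2 - b2 - γ * (Q2' * b1 * Q2) - γ * b2 +
          (Q2' * b1 * Q2) * b2 + (γ * (Q2' * b1 * Q2)) * b2) := by noncomm_ring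
    _ = lin Φ12 * (1 + γ - Q2' * b1 * Q2 - b2) := by rw [z1, z2, z3]; noncomm_ring
    _ = lin Φ12 * (1 + -b12) := by
        congr 1
        have : γ = b2 + Q2' * b1 * Q2 - b12 := by rw [← e3]; abel
        rw [this]; abel

end Abstract

end Conv

/-! ### Invariant integrals -/

section Haar

variable (R) in
/-- A normalised invariant integral on a bialgebra. -/
structure Haar (D : Type*) [CommRing D] [Bialgebra R D] where
  /-- the integral -/
  int : D →ₗ[R] R
  int_one : int 1 = 1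
  inv : ∀ d : D, TensorProduct.lid R D (int.rTensor D (comul (R := R) d)) = algebraMap R D (int d)

variable {C : Type*} [CommRing C] [HopfAlgebra R C]
variable {D : Type*} [CommRing D] [Bialgebra R D]
variable {X Y Z : Type*} [CommRing X] [Algebra R X] [CommRing Y] [Algebra R Y] [CommRing Z] [Algebra R Z]

/-- integration over the first variable -/
def Haar.J (μ : Haar R D) (X : Type*) [CommRing X] [Algebra R X] : D ⊗[R] X →ₗ[R] X :=
  (TensorProduct.lid R X).toLinearMap ∘ₗ μ.int.rTensor X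

@[simp] lemma Haar.J_tmul (μ : Haar R D) (d : D) (x : X) : μ.J X (d ⊗ₜ x) = μ.int d • x := by
  simp [Haar.J]

variable (R D) in
/-- pull back along the second projection -/
def ι (X : Type*) [CommRing X] [Algebra R X] : X →ₐ[R] D ⊗[R] X := Algebra.TensorProduct.includeRight

@[simp] lemma ι_apply (x : X) : ι R D X x = 1 ⊗ₜ[R] x := rfl

variable (R D) in
/-- pull back along multiplication of the first two variables -/
def δ (X : Type*) [CommRing X] [Algebra R X] : D ⊗[R] X →ₐ[R] D ⊗[R] (D ⊗[R] X) :=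
  (Algebra.TensorProduct.assoc R R R D D X).toAlgHom.comp
    (Algebra.TensorProduct.map (comulAlgHom R D) (AlgHom.id R X))

lemma δ_tmul (d : D) (x : X) :
    δ R D X (d ⊗ₜ x) = Algebra.TensorProduct.assoc R R R D D X (comul (R := R) d ⊗ₜ x) := rfl

variable (D) in
/-- functoriality in the second variable -/
def T (h : X →ₐ[R] Y) : D ⊗[R] X →ₐ[R] D ⊗[R] Y := Algebra.TensorProduct.map (AlgHom.id R D) h

@[simp] lemma T_tmul (h : X →ₐ[R] Y) (d : D) (x : X) : T D h (d ⊗ₜ x) = d ⊗ₜ h x := rfl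

lemma T_comp (h : X →ₐ[R] Y) (k : Y →ₐ[R] Z) : (T D k).comp (T D h) = T D (k.comp h) := by
  ext x
  · simp
  · simp

lemma T_comp_ι (h : X →ₐ[R] Y) : (T D h).comp (ι R D X) = (ι R D Y).comp h := by
  ext x; simp

lemma δ_comp_ι : (δ R D X).comp (ι R D X) = (ι R D (D ⊗[R] X)).comp (ι R D X) := by
  ext x
  simp [δ_tmul, Algebra.TensorProduct.one_def]

lemma δ_comp_T (h : X →ₐ[R] Y) : (δ R D Y).comp (T D h) = (T D (T D h)).comp (δ R D X) := by
  apply AlgHom.toLinearMap_injective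
  ext d x
  simp only [AlgebraTensorModule.curry_apply, LinearMap.restrictScalars_self, curry_apply,
    AlgHom.toLinearMap_apply, AlgHom.comp_apply, T_tmul, δ_tmul]
  induction (comul (R := R) d) using TensorProduct.induction_on with
  | zero => simp
  | tmul a b => simp
  | add a b ha hb => rw [TensorProduct.add_tmul, TensorProduct.add_tmul, map_add, map_add, map_add, ha, hb]

lemma δ_coassoc : (T D (δ R D X)).comp (δ R D X) = (δ R D (D ⊗[R] X)).comp (δ R D X) := by
  apply AlgHom.toLinearMap_injective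
  ext d x
  simp only [AlgebraTensorModule.curry_apply, LinearMap.restrictScalars_self, curry_apply,
    AlgHom.toLinearMap_apply, AlgHom.comp_apply, δ_tmul]
  have h1 : ∀ z : D ⊗[R] D, (T D (δ R D X)) (Algebra.TensorProduct.assoc R R R D D X (z ⊗ₜ x)) =
      (TensorProduct.map LinearMap.id (TensorProduct.assoc R D D X).toLinearMap)
      ((TensorProduct.assoc R D (D ⊗[R] D) X) ((comul (R := R)).lTensor D z ⊗ₜ x)) := by
    intro z
    induction z using TensorProduct.induction_on with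
    | zero => simp
    | tmul a b =>
      simp [δ_tmul]
      rfl
    | add a b ha hb =>
      rw [TensorProduct.add_tmul, map_add, map_add, ha, hb, map_add, TensorProduct.add_tmul, map_add, map_add]
  have h2 : ∀ z : D ⊗[R] D, (δ R D (D ⊗[R] X)) (Algebra.TensorProduct.assoc R R R D D X (z ⊗ₜ x)) =
      (TensorProduct.map LinearMap.id (TensorProduct.assoc R D D X).toLinearMap)
      ((TensorProduct.assoc R D (D ⊗[R] D) X)
        (TensorProduct.assoc R D D D ((comul (R := R)).rTensor D z) ⊗ₜ x)) := by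
    intro z
    induction z using TensorProduct.induction_on with
    | zero => simp
    | tmul a b =>
      simp only [Algebra.TensorProduct.assoc_tmul, δ_tmul, LinearMap.rTensor_tmul]
      induction (comul (R := R) a) using TensorProduct.induction_on with
      | zero => simp
      | tmul a b => simp
      | add a b ha hb =>
        simp only [TensorProduct.add_tmul, map_add, ha, hb]
    | add a b ha hb =>
      rw [TensorProduct.add_tmul, map_add, map_add, ha, hb, map_add, map_add, TensorProduct.add_tmul,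
        map_add, map_add]
  rw [h1, h2, Coalgebra.coassoc_apply]

lemma Haar.J_comp_ι (μ : Haar R D) (x : X) : μ.J X (ι R D X x) = x := by
  simp [μ.int_one]

lemma Haar.J_comp_T (μ : Haar R D) (h : X →ₐ[R] Y) (z : D ⊗[R] X) :
    μ.J Y (T D h z) = h (μ.J X z) := by
  induction z using TensorProduct.induction_on with
  | zero => simp
  | tmul a b => simp
  | add a b ha hb => simp only [map_add, ha, hb]

lemma Haar.J_comp_δ (μ : Haar R D) (z : D ⊗[R] X) :
    μ.J (D ⊗[R] X) (δ R D X z) = ι R D X (μ.J X z) := by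
  induction z using TensorProduct.induction_on with
  | zero => simp
  | tmul d x =>
    rw [δ_tmul]
    have h1 : ∀ w : D ⊗[R] D, μ.J (D ⊗[R] X) (Algebra.TensorProduct.assoc R R R D D X (w ⊗ₜ x)) =
        (TensorProduct.lid R D (μ.int.rTensor D w)) ⊗ₜ x := by
      intro w
      induction w using TensorProduct.induction_on with
      | zero => simp
      | tmul a b => simp [TensorProduct.smul_tmul']
      | add a b ha hb => simp only [TensorProduct.add_tmul, map_add, ha, hb]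
    rw [h1, μ.inv]
    simp [Algebra.algebraMap_eq_smul_one, TensorProduct.smul_tmul']
  | add a b ha hb => simp only [map_add, ha, hb]

lemma Haar.J_mul_left (μ : Haar R D) (x : X) (z : D ⊗[R] X) :
    μ.J X (ι R D X x * z) = x * μ.J X z := by
  induction z using TensorProduct.induction_on with
  | zero => simp
  | tmul a b => simp
  | add a b ha hb => simp only [mul_add, map_add, ha, hb]

lemma Haar.J_mul_right (μ : Haar R D) (x : X) (z : D ⊗[R] X) :
    μ.J X (z * ι R D X x) = μ.J X z * x := by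
  rw [mul_comm, J_mul_left, mul_comm]

lemma T_surjective {h : X →ₐ[R] Y} (hh : Function.Surjective h) : Function.Surjective (T D h) := by
  have := LinearMap.lTensor_surjective (R := R) D (g := h.toLinearMap) hh
  exact this

lemma ker_T_sq {h : X →ₐ[R] Y} (hh : Function.Surjective h) (hK : (RingHom.ker h) ^ 2 = ⊥) :
    (RingHom.ker (T D h)) ^ 2 = ⊥ := by
  have h1 : RingHom.ker (T D h) = Ideal.map (Algebra.TensorProduct.includeRight : X →ₐ[R] D ⊗[R] X)
      (RingHom.ker h) := Algebra.TensorProduct.lTensor_ker h hh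
  rw [h1, ← Ideal.map_pow, hK, Ideal.map_bot]

/-- `F` is a homomorphism from `Spec D` to `Spec C` over `X`: `F(t₁) F(t₂) = F(t₁ t₂)`. -/
def IsHom (F : WithConv (C →ₐ[R] D ⊗[R] X)) : Prop :=
  pushG (T D (ι R D X)) F * pushG (ι R D (D ⊗[R] X)) F = pushG (δ R D X) F

lemma IsHom.map {F : WithConv (C →ₐ[R] D ⊗[R] X)} (hF : IsHom F) (h : X →ₐ[R] Y) :
    IsHom (pushG (T D h) F) := by
  have := congrArg (pushG (T D (T D h))) hF
  rw [map_mul] at this
  unfold IsHom
  simp only [pushG_comp] at this ⊢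
  rw [T_comp, ← T_comp_ι, ← T_comp_ι, δ_comp_T]
  rw [T_comp] at this
  exact this


lemma mem_ker_T_of {h : X →ₐ[R] Y} {x : D ⊗[R] X} (hx : T D h x = 0) : x ∈ RingHom.ker (T D h) :=
  (RingHom.mem_ker).2 hx

/-- **Infinitesimal conjugacy** (`H¹ = 0`). Two homomorphisms over `X` which agree over a quotient of `X` by a
square-zero ideal are conjugate by a point of `G(X)` which is trivial over the quotient. -/
theorem exists_conj_isHom (μ : Haar R D) {π : X →ₐ[R] Y} (hπ : Function.Surjective π)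
    (hK : (RingHom.ker π) ^ 2 = ⊥) {F F' : WithConv (C →ₐ[R] D ⊗[R] X)} (hF : IsHom F) (hF' : IsHom F')
    (h : pushG (T D π) F = pushG (T D π) F') :
    ∃ g : WithConv (C →ₐ[R] X), pushG π g = 1 ∧
      F' = pushG (ι R D X) g * F * (pushG (ι R D X) g)⁻¹ := by
  have hK1 : (RingHom.ker (T D π)) ^ 2 = ⊥ := ker_T_sq hπ hK
  have hK2 : (RingHom.ker (T D (T D π))) ^ 2 = ⊥ := ker_T_sq (T_surjective hπ) hK1
  have r1 : ∀ x, T D π (ι R D X x) = ι R D Y (π x) := fun x => AlgHom.congr_fun (T_comp_ι π) x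
  have r2 : ∀ x, T D (T D π) (T D (ι R D X) x) = T D (ι R D Y) (T D π x) := by
    intro x
    have := AlgHom.congr_fun ((T_comp (D := D) (ι R D X) (T D π)).trans (congrArg (T D) (T_comp_ι π))) x
    rw [← T_comp] at this
    exact this
  have r3 : ∀ x, T D (T D π) (ι R D (D ⊗[R] X) x) = ι R D (D ⊗[R] Y) (T D π x) :=
    fun x => AlgHom.congr_fun (T_comp_ι (T D π)) x
  obtain ⟨g, hg1, hg2⟩ := exists_conj_abstract (C := C) (ι R D X) (T D (ι R D X)) (ι R D (D ⊗[R] X)) (δ R D X)
    (μ.J X) (μ.J (D ⊗[R] X)) (fun x z => μ.J_mul_left x z) (fun x => μ.J_comp_ι x)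
    (fun x => μ.J_comp_T _ x) (fun x => μ.J_comp_δ x) (RingHom.ker π) (RingHom.ker (T D π))
    (RingHom.ker (T D (T D π))) hK hK1 hK2
    (fun x hx => by
      rw [RingHom.mem_ker] at hx ⊢
      rw [r1, hx, map_zero])
    (fun x hx => by
      rw [RingHom.mem_ker] at hx ⊢
      rw [r2, hx, map_zero])
    (fun x hx => by
      rw [RingHom.mem_ker] at hx ⊢
      rw [r3, hx, map_zero])
    (fun x hx => by
      rw [RingHom.mem_ker] at hx ⊢
      rw [← μ.J_comp_T, hx, map_zero])
    F F' hF hF'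
    (inIdeal_of_pushG_eq_one (by rw [map_mul, map_inv, h, inv_mul_cancel]))
  exact ⟨g, pushG_eq_one_of_inIdeal hg1, hg2⟩

/-- **Lifting of homomorphisms** (`H² = 0`). If `C` is formally smooth, homomorphisms `Spec D → Spec C` lift
along square-zero thickenings of the base. -/
theorem exists_lift_isHom [Algebra.FormallySmooth R C] (μ : Haar R D) {π : X →ₐ[R] Y}
    (hπ : Function.Surjective π) (hK : (RingHom.ker π) ^ 2 = ⊥) {F₀ : WithConv (C →ₐ[R] D ⊗[R] Y)}
    (hF₀ : IsHom F₀) :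
    ∃ F : WithConv (C →ₐ[R] D ⊗[R] X), IsHom F ∧ pushG (T D π) F = F₀ := by
  have hK1 : (RingHom.ker (T D π)) ^ 2 = ⊥ := ker_T_sq hπ hK
  have hK2 : (RingHom.ker (T D (T D π))) ^ 2 = ⊥ := ker_T_sq (T_surjective hπ) hK1
  have hK3 : (RingHom.ker (T D (T D (T D π)))) ^ 2 = ⊥ := ker_T_sq (T_surjective (T_surjective hπ)) hK2
  obtain ⟨φ, hφ⟩ : ∃ φ : WithConv (C →ₐ[R] D ⊗[R] X), pushG (T D π) φ = F₀ := by
    obtain ⟨g, hg⟩ := exists_algHom_lift (C := C) (T_surjective (D := D) hπ) hK1 F₀.ofConv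
    exact ⟨toConv g, WithConv.ofConv_injective hg⟩
  have hc1 : pushG (T D (T D π)) ((pushG (δ R D X) φ)⁻¹ * pushG (T D (ι R D X)) φ *
      pushG (ι R D (D ⊗[R] X)) φ) = 1 := by
    have h1 : pushG (T D (T D π)) (pushG (T D (ι R D X)) φ) = pushG (T D (ι R D Y)) F₀ := by
      rw [pushG_comp, T_comp, T_comp_ι, ← T_comp, ← hφ, pushG_comp]
    have h2 : pushG (T D (T D π)) (pushG (ι R D (D ⊗[R] X)) φ) = pushG (ι R D (D ⊗[R] Y)) F₀ := by
      rw [pushG_comp, T_comp_ι, ← hφ, pushG_comp]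
    have h3 : pushG (T D (T D π)) (pushG (δ R D X) φ) = pushG (δ R D Y) F₀ := by
      rw [pushG_comp, ← δ_comp_T, ← hφ, pushG_comp]
    rw [map_mul, map_mul, map_inv, h1, h2, h3, ← hF₀, mul_assoc, inv_mul_cancel]
  have s1 : ∀ x, T D (T D π) (T D (ι R D X) x) = T D (ι R D Y) (T D π x) := by
    intro x
    have := AlgHom.congr_fun ((T_comp (D := D) (ι R D X) (T D π)).trans (congrArg (T D) (T_comp_ι π))) x
    rw [← T_comp] at this
    exact this
  have s2 : ∀ x, T D (T D π) (ι R D (D ⊗[R] X) x) = ι R D (D ⊗[R] Y) (T D π x) :=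
    fun x => AlgHom.congr_fun (T_comp_ι (T D π)) x
  have t1 : ∀ x, T D (T D (T D π)) (T D (δ R D X) x) = T D (δ R D Y) (T D (T D π) x) := by
    intro x
    have := AlgHom.congr_fun (show (T D (T D (T D π))).comp (T D (δ R D X)) =
      (T D (δ R D Y)).comp (T D (T D π)) by rw [T_comp, T_comp, δ_comp_T]) x
    exact this
  have t2 : ∀ x, T D (T D (T D π)) (ι R D (D ⊗[R] (D ⊗[R] X)) x) =
      ι R D (D ⊗[R] (D ⊗[R] Y)) (T D (T D π) x) :=
    fun x => AlgHom.congr_fun (T_comp_ι (T D (T D π))) x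
  have t3 : ∀ x, T D (T D (T D π)) (δ R D (D ⊗[R] X) x) = δ R D (D ⊗[R] Y) (T D (T D π) x) := by
    intro x
    exact (AlgHom.congr_fun (δ_comp_T (T D π)) x).symm
  have t4 : ∀ x, T D (T D (T D π)) (T D (T D (ι R D X)) x) = T D (T D (ι R D Y)) (T D (T D π) x) := by
    intro x
    have := AlgHom.congr_fun (show (T D (T D (T D π))).comp (T D (T D (ι R D X))) =
      (T D (T D (ι R D Y))).comp (T D (T D π)) by rw [T_comp, T_comp, T_comp, T_comp, T_comp_ι]) x
    exact this
  obtain ⟨b, hb1, hb2⟩ := exists_hom_abstract (C := C) (T D (ι R D X)) (ι R D (D ⊗[R] X)) (δ R D X)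
    (T D (δ R D X)) (ι R D (D ⊗[R] (D ⊗[R] X))) (δ R D (D ⊗[R] X)) (T D (T D (ι R D X)))
    (μ.J (D ⊗[R] X)) (μ.J (D ⊗[R] (D ⊗[R] X)))
    δ_coassoc (by rw [T_comp, T_comp, δ_comp_ι, T_comp_ι]) (by rw [T_comp_ι])
    (by rw [δ_comp_T]) (by rw [δ_comp_ι]) (by rw [T_comp_ι])
    (fun x z => μ.J_mul_left x z) (fun x => μ.J_comp_ι x)
    (fun x => μ.J_comp_T _ x) (fun x => μ.J_comp_δ x) (fun x => μ.J_comp_T _ x)
    (RingHom.ker (T D π)) (RingHom.ker (T D (T D π))) (RingHom.ker (T D (T D (T D π)))) hK1 hK2 hK3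
    (fun x hx => by
      rw [RingHom.mem_ker] at hx ⊢
      rw [s1, hx, map_zero])
    (fun x hx => by
      rw [RingHom.mem_ker] at hx ⊢
      rw [s2, hx, map_zero])
    (fun x hx => by
      rw [RingHom.mem_ker] at hx ⊢
      rw [t1, hx, map_zero])
    (fun x hx => by
      rw [RingHom.mem_ker] at hx ⊢
      rw [t2, hx, map_zero])
    (fun x hx => by
      rw [RingHom.mem_ker] at hx ⊢
      rw [t3, hx, map_zero])
    (fun x hx => by
      rw [RingHom.mem_ker] at hx ⊢
      rw [t4, hx, map_zero])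
    (fun x hx => by
      rw [RingHom.mem_ker] at hx ⊢
      rw [← μ.J_comp_T, hx, map_zero])
    φ (inIdeal_of_pushG_eq_one hc1)
  refine ⟨φ * b, hb2, ?_⟩
  rw [map_mul, hφ, pushG_eq_one_of_inIdeal hb1, mul_one]

end Haar

/-! ### The group algebra -/

section MonoidAlgebra

variable (N : Type*) [CommGroup N]

/-- The invariant integral on the group algebra: the coefficient of `1`. -/
def haarMonoidAlgebra : Haar R (MonoidAlgebra R N) where
  int := Finsupp.lapply (1 : N) ∘ₗ (MonoidAlgebra.coeffLinearEquiv R).toLinearMap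
  int_one := by
    simp [MonoidAlgebra.one_def]
  inv d := by
    classical
    induction d using MonoidAlgebra.induction_linear with
    | zero => simp
    | add f g hf hg => simp only [map_add, hf, hg]
    | single n r =>
      rw [MonoidAlgebra.comul_single]
      simp only [CommSemiring.comul_apply, TensorProduct.map_tmul, LinearMap.rTensor_tmul,
        TensorProduct.lid_tmul, MonoidAlgebra.lsingle_apply, LinearMap.comp_apply]
      by_cases hn : n = 1
      · subst hn
        simp [MonoidAlgebra.algebraMap_def, MonoidAlgebra.smul_single]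
      · simp [hn, MonoidAlgebra.coeff_single]

end MonoidAlgebra

end

end Groth.Agent.Sga3B.HaarDef
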