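import Groth.Agent.Sga3C.SchemImage
import Groth.Agent.Sga3B.IsoFam
import Groth.Agent.Picfga.OverRep
import Groth.Prelude.Def_AutFam

/-!
# The functor of families of homomorphisms is a Zariski sheaf

* `homFun H G : (Over S)ᵒᵖ ⥤ Type u`, `T ↦ {φ : H ⊗ T ⟶ G // AutFam.IsHomFamily H G φ}`;
* `isZarSheaf_homFun`;
* `representsHom_of_universal`, `representsHom_of_iso`.
-/

set_option autoImplicit false
open CategoryTheory MonoidalCategory CartesianMonoidalCategory AlgebraicGeometry Opposite Limits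
universe u

namespace Groth.Agent.Sga3B.HomFun898
open Groth.Agent.Picfga.OverRep Groth.Agent.Sga3C

variable {S : Scheme.{u}} (H G : Over S) [GrpObj H] [GrpObj G]

/-- The presheaf of families of homomorphisms. -/
noncomputable def homFun : (Over S)ᵒᵖ ⥤ Type u where
  obj T := {φ : H ⊗ T.unop ⟶ G // AutFam.IsHomFamily H G φ}
  map g := ↾(fun φ => ⟨(H ◁ g.unop) ≫ φ.1, IsoFam.isHomFamily_pull φ.2 _⟩)
  map_id T := by
    apply ConcreteCategory.hom_ext
    intro φ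
    apply Subtype.ext
    simp
  map_comp a b := by
    apply ConcreteCategory.hom_ext
    intro φ
    apply Subtype.ext
    simp

variable {H G}

lemma homFun_map_val {T T' : Over S} (g : T' ⟶ T) (φ : (homFun H G).obj (op T)) :
    ((homFun H G).map g.op φ).1 = (H ◁ g) ≫ φ.1 := rfl

/-- Pullback of a covering to the product with `H`. -/
noncomputable def covProd (H : Over S) {T : Over S} (𝒰 : Cov T) : Cov (H ⊗ T) where
  ι := 𝒰.ι
  V i := H ⊗ 𝒰.V i
  j i := H ◁ 𝒰.j i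
  isOpen i := MorphismProperty.of_isPullback (SchemImage.isPullback_whiskerLeft_left (𝒰.j i) H).flip
    (𝒰.isOpen i)
  covers z := by
    obtain ⟨i, v, hv⟩ := 𝒰.covers ((snd H T).left z)
    obtain ⟨w, hw, -⟩ := Scheme.exists_preimage_of_isPullback
      (SchemImage.isPullback_whiskerLeft_left (𝒰.j i) H) z v hv.symm
    exact ⟨i, w, hw⟩

/-- Pullback of a covering along a morphism. -/
noncomputable def covPull {X T : Over S} (t : X ⟶ T) (𝒰 : Cov T) : Cov X where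
  ι := 𝒰.ι
  V i := Over.mk (pullback.fst t.left (𝒰.j i).left ≫ X.hom)
  j i := Over.homMk (pullback.fst t.left (𝒰.j i).left) rfl
  isOpen i := inferInstanceAs (IsOpenImmersion (pullback.fst t.left (𝒰.j i).left))
  covers x := by
    obtain ⟨i, v, hv⟩ := 𝒰.covers (t.left x)
    obtain ⟨w, hw, -⟩ := Scheme.Pullback.exists_preimage_pullback (f := t.left) (g := (𝒰.j i).left) x v hv.symm
    exact ⟨i, w, hw⟩

/-- The projection of the pullback of a covering. -/
noncomputable def covPullSnd {X T : Over S} (t : X ⟶ T) (𝒰 : Cov T) (i : 𝒰.ι) :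
    (covPull t 𝒰).V i ⟶ 𝒰.V i :=
  Over.homMk (pullback.snd t.left (𝒰.j i).left) (by
    show pullback.snd t.left (𝒰.j i).left ≫ (𝒰.V i).hom = pullback.fst t.left (𝒰.j i).left ≫ X.hom
    rw [← Over.w (𝒰.j i), ← Over.w t, pullback.condition_assoc])

lemma covPull_w {X T : Over S} (t : X ⟶ T) (𝒰 : Cov T) (i : 𝒰.ι) :
    (covPull t 𝒰).j i ≫ t = covPullSnd t 𝒰 i ≫ 𝒰.j i := by
  ext1
  exact pullback.condition

lemma comp_lift_whisker {H T T' : Over S} {Z : Over S} (X : Over S) (g : X ⟶ H) (t : X ⟶ T') (a : T' ⟶ T)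
    (φ : H ⊗ T ⟶ Z) : lift g (t ≫ a) ≫ φ = lift g t ≫ (H ◁ a) ≫ φ := by
  rw [← Category.assoc, lift_whiskerLeft]

theorem isZarSheaf_homFun : IsZarSheaf (homFun H G) := by
  intro T 𝒰 x hx
  have h4 : ∀ (W : Over S) (l : 𝒰.ι) (c : W ⟶ H ⊗ 𝒰.V l),
      lift (c ≫ fst _ _) (𝟙 W) ≫ (H ◁ (c ≫ snd _ _)) = c := by
    intro W l c
    rw [lift_whiskerLeft, Category.id_comp]
    apply CartesianMonoidalCategory.hom_ext <;> simp
  have compat : ∀ (i k : 𝒰.ι) (W : Over S) (a : W ⟶ H ⊗ 𝒰.V i) (b : W ⟶ H ⊗ 𝒰.V k),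
      a ≫ (H ◁ 𝒰.j i) = b ≫ (H ◁ 𝒰.j k) → a ≫ (x i).1 = b ≫ (x k).1 := by
    intro i k W a b hab
    have h1 : (a ≫ snd H (𝒰.V i)) ≫ 𝒰.j i = (b ≫ snd H (𝒰.V k)) ≫ 𝒰.j k := by
      have := congrArg (fun f => f ≫ snd H T) hab
      simpa using this
    have h2 := congrArg Subtype.val (hx i k W _ _ h1)
    rw [homFun_map_val, homFun_map_val] at h2
    have h3 : a ≫ fst H (𝒰.V i) = b ≫ fst H (𝒰.V k) := by
      have := congrArg (fun f => f ≫ fst H T) hab
      simpa using this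
    have h5 := congrArg (fun f => lift (a ≫ fst _ _) (𝟙 W) ≫ f) h2
    simp only [← Category.assoc] at h5
    rw [h4, h3, h4] at h5
    exact h5
  obtain ⟨φ, hφ⟩ := glue_hom (H ⊗ T) G (covProd H 𝒰) (fun i => (x i).1) compat
  have hfam : AutFam.IsHomFamily H G φ := by
    intro X g₁ g₂ t
    apply hom_ext_cover X G (covPull t 𝒰)
    intro i
    have h1 : ∀ g : X ⟶ H, (covPull t 𝒰).j i ≫ lift g t ≫ φ =
        lift ((covPull t 𝒰).j i ≫ g) (covPullSnd t 𝒰 i) ≫ (x i).1 := by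
      intro g
      rw [← Category.assoc, comp_lift, covPull_w, comp_lift_whisker]
      congr 1
      exact hφ i
    rw [MonObj.comp_mul, h1, h1, h1, MonObj.comp_mul]
    exact (x i).2 _ _ _ _
  refine ⟨⟨φ, hfam⟩, fun i => Subtype.ext (hφ i), ?_⟩
  intro y hy
  apply Subtype.ext
  apply hom_ext_cover (H ⊗ T) G (covProd H 𝒰)
  intro i
  exact (congrArg Subtype.val (hy i)).trans (hφ i).symm

/-- A universal element of `homFun` represents the functor of homomorphisms. -/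
theorem representsHom_of_universal (A : Over S) (υ : (homFun H G).obj (op A))
    (h : ∀ (T : Over S) (x : (homFun H G).obj (op T)), ∃! g : T ⟶ A, (homFun H G).map g.op υ = x) :
    AutFam.RepresentsHom H G A υ.1 := by
  refine ⟨υ.2, fun T φ hφ => ?_⟩
  obtain ⟨g, hg, hg'⟩ := h T ⟨φ, hφ⟩
  exact ⟨g, congrArg Subtype.val hg, fun g' h' => hg' g' (Subtype.ext h')⟩

/-- Transport of a representing object along isomorphisms of groups. -/
theorem representsHom_of_iso {H' G' : Over S} [GrpObj H'] [GrpObj G'] (e : H ≅ H') [IsMonHom e.hom]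
    (e' : G ≅ G') [IsMonHom e'.hom] {A : Over S} {υ : H' ⊗ A ⟶ G'} (h : AutFam.RepresentsHom H' G' A υ) :
    AutFam.RepresentsHom H G A ((e.hom ▷ A) ≫ υ ≫ e'.inv) := by
  have hinv : IsMonHom e.inv := inferInstance
  have hinv' : IsMonHom e'.inv := inferInstance
  have aux : ∀ {K K' L L' : Over S} [GrpObj K] [GrpObj K'] [GrpObj L] [GrpObj L'] (a : K ⟶ K') [IsMonHom a]
      (b : L' ⟶ L) [IsMonHom b] (T : Over S) (φ : K' ⊗ T ⟶ L'), AutFam.IsHomFamily K' L' φ →
      AutFam.IsHomFamily K L ((a ▷ T) ≫ φ ≫ b) := by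
    intro K K' L L' _ _ _ _ a _ b _ T φ hφ X g₁ g₂ t
    have h1 : ∀ g : X ⟶ K, lift g t ≫ (a ▷ T) ≫ φ ≫ b = (lift (g ≫ a) t ≫ φ) ≫ b := by
      intro g
      rw [← Category.assoc, lift_whiskerRight, Category.assoc]
    rw [h1, h1, h1, MonObj.mul_comp, hφ, MonObj.mul_comp]
  refine ⟨aux e.hom e'.inv A υ h.1, fun T φ hφ => ?_⟩
  obtain ⟨a, ha, ha'⟩ := h.2 T ((e.inv ▷ T) ≫ φ ≫ e'.hom) (aux e.inv e'.hom T φ hφ)
  refine ⟨a, ?_, fun b hb => ha' b ?_⟩
  · show H ◁ a ≫ (e.hom ▷ A) ≫ υ ≫ e'.inv = φ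
    rw [← Category.assoc, whisker_exchange, Category.assoc, ← Category.assoc (H' ◁ a), ha]
    simp
  · rw [← hb]
    have h2 : H ◁ b ≫ (e.hom ▷ A) ≫ υ ≫ e'.inv = (e.hom ▷ T) ≫ (H' ◁ b) ≫ υ ≫ e'.inv := by
      rw [← Category.assoc, whisker_exchange, Category.assoc]
    rw [h2]
    simp

end Groth.Agent.Sga3B.HomFun898
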