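import Groth.Agent.Sga3B.HomFun898
import Groth.Agent.Sga3B.HaarDef
import Groth.Agent.Sga3B.AffPts

/-!
# Families of homomorphisms between affine groups, parametrised by an affine scheme

For Hopf algebras `D`, `C` over `R` and an `R`-algebra `A`:
`famOf : WithConv (C →ₐ[R] D ⊗[R] A) → (SpecOver R D ⊗ SpecOver R A ⟶ SpecOver R C)` is bijective, natural in `A`, and
`AutFam.IsHomFamily (famOf F) ↔ HaarDef.IsHom F`.
-/

set_option autoImplicit false
open CategoryTheory MonoidalCategory CartesianMonoidalCategory MonObj AlgebraicGeometry Opposite Limits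
open scoped TensorProduct
universe u

namespace Groth.Agent.Sga3B.HomFunAff898
open Groth.Agent.Books.AffBridge Groth.Agent.Sga3B.HaarDef Groth.Agent.Sga3B.HomFun898

variable {R : Type u} [CommRing R]

section prod
variable (R) (D A : Type u) [CommRing D] [Algebra R D] [CommRing A] [Algebra R A]

/-- `Spec (D ⊗ A) ⟶ Spec D × Spec A` -/
noncomputable def prodTo : SpecOver R (D ⊗[R] A) ⟶ SpecOver R D ⊗ SpecOver R A :=
  lift (specMap R Algebra.TensorProduct.includeLeft) (specMap R Algebra.TensorProduct.includeRight)

@[reassoc (attr := simp)] lemma prodTo_fst :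
    prodTo R D A ≫ fst _ _ = specMap R Algebra.TensorProduct.includeLeft := by simp [prodTo]

@[reassoc (attr := simp)] lemma prodTo_snd :
    prodTo R D A ≫ snd _ _ = specMap R Algebra.TensorProduct.includeRight := by simp [prodTo]

instance : IsIso (prodTo R D A) := by
  have h : (prodTo R D A).left = (pullbackSpecIso R D A).inv := by
    apply pullback.hom_ext
    · exact (congrArg (fun f => f.left) (prodTo_fst R D A)).trans (pullbackSpecIso_inv_fst R D A).symm
    · exact (congrArg (fun f => f.left) (prodTo_snd R D A)).trans (pullbackSpecIso_inv_snd R D A).symm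
  have h2 : IsIso ((Over.forget _).map (prodTo R D A)) := by
    show IsIso (prodTo R D A).left
    rw [h]
    infer_instance
  exact isIso_of_reflects_iso _ (Over.forget _)

lemma prodTo_natural {A' : Type u} [CommRing A'] [Algebra R A'] (h : A →ₐ[R] A') :
    specMap R (Algebra.TensorProduct.map (AlgHom.id R D) h) ≫ prodTo R D A =
      prodTo R D A' ≫ (SpecOver R D ◁ specMap R h) := by
  apply CartesianMonoidalCategory.hom_ext
  · simp only [Category.assoc, prodTo_fst, whiskerLeft_fst, ← specMap_comp]
    congr 1
    ext x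
    simp
  · simp only [Category.assoc, prodTo_snd, whiskerLeft_snd, prodTo_snd_assoc, ← specMap_comp]
    congr 1

end prod

section fam
variable {D C : Type u} [CommRing D] [HopfAlgebra R D] [CommRing C] [HopfAlgebra R C]
variable {A : Type u} [CommRing A] [Algebra R A]

/-- The family given by an algebra map. -/
noncomputable def famOf (F : WithConv (C →ₐ[R] D ⊗[R] A)) :
    SpecOver R D ⊗ SpecOver R A ⟶ SpecOver R C :=
  inv (prodTo R D A) ≫ specMap R F.ofConv

@[reassoc] lemma prodTo_famOf (F : WithConv (C →ₐ[R] D ⊗[R] A)) :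
    prodTo R D A ≫ famOf F = specMap R F.ofConv := by simp [famOf]

lemma famOf_injective : Function.Injective
    (famOf : WithConv (C →ₐ[R] D ⊗[R] A) → _) := by
  intro F F' h
  have h1 := congrArg (fun f => prodTo R D A ≫ f) h
  simp only [prodTo_famOf] at h1
  exact WithConv.ofConv_injective (specMap_injective R h1)

lemma exists_famOf (φ : SpecOver R D ⊗ SpecOver R A ⟶ SpecOver R C) :
    ∃ F : WithConv (C →ₐ[R] D ⊗[R] A), famOf F = φ :=
  ⟨WithConv.toConv (specPreimage R (prodTo R D A ≫ φ)), by
    rw [famOf]
    simp⟩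

/-- naturality in the parameter -/
lemma whisker_famOf {A' : Type u} [CommRing A'] [Algebra R A'] (h : A →ₐ[R] A')
    (F : WithConv (C →ₐ[R] D ⊗[R] A)) :
    (SpecOver R D ◁ specMap R h) ≫ famOf F = famOf (pushG (T D h) F) := by
  rw [← cancel_epi (prodTo R D A'), prodTo_famOf, ← Category.assoc, ← prodTo_natural, Category.assoc,
    prodTo_famOf, ← specMap_comp]
  rfl

/-- The dictionary for homomorphisms. -/
theorem isHomFamily_famOf_iff (F : WithConv (C →ₐ[R] D ⊗[R] A)) :
    AutFam.IsHomFamily (SpecOver R D) (SpecOver R C) (famOf F) ↔ IsHom F := by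
  let q : SpecOver R (D ⊗[R] (D ⊗[R] A)) ⟶ SpecOver R D ⊗ (SpecOver R D ⊗ SpecOver R A) :=
    prodTo R D (D ⊗[R] A) ≫ (SpecOver R D ◁ prodTo R D A)
  let g₁ : SpecOver R (D ⊗[R] (D ⊗[R] A)) ⟶ SpecOver R D := specMap R Algebra.TensorProduct.includeLeft
  let g₂ : SpecOver R (D ⊗[R] (D ⊗[R] A)) ⟶ SpecOver R D :=
    specMap R (Algebra.TensorProduct.includeRight.comp Algebra.TensorProduct.includeLeft)
  let t : SpecOver R (D ⊗[R] (D ⊗[R] A)) ⟶ SpecOver R A :=
    specMap R (Algebra.TensorProduct.includeRight.comp Algebra.TensorProduct.includeRight)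
  have hq : q = lift g₁ (lift g₂ t) := by
    simp only [q, g₁, g₂, t]
    apply CartesianMonoidalCategory.hom_ext
    · simp
    · rw [lift_snd, Category.assoc, whiskerLeft_snd, prodTo_snd_assoc]
      apply CartesianMonoidalCategory.hom_ext
      · simp only [Category.assoc, prodTo_fst, lift_fst, specMap_comp]
      · simp only [Category.assoc, prodTo_snd, lift_snd, specMap_comp]
  have h1 : lift g₁ t = specMap R (T D (HaarDef.ι R D A)) ≫ prodTo R D A := by
    apply CartesianMonoidalCategory.hom_ext
    · simp only [lift_fst, Category.assoc, prodTo_fst, ← specMap_comp, g₁]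
      congr 1
    · simp only [lift_snd, Category.assoc, prodTo_snd, ← specMap_comp, t]
      congr 1
  have h2 : lift g₂ t = specMap R (HaarDef.ι R D (D ⊗[R] A)) ≫ prodTo R D A := by
    apply CartesianMonoidalCategory.hom_ext
    · simp only [lift_fst, Category.assoc, prodTo_fst, ← specMap_comp, g₂]
      congr 1
    · simp only [lift_snd, Category.assoc, prodTo_snd, ← specMap_comp, t]
      congr 1
  have h3 : lift (g₁ * g₂) t = specMap R (δ R D A) ≫ prodTo R D A := by
    apply CartesianMonoidalCategory.hom_ext
    · simp only [lift_fst, Category.assoc, prodTo_fst, ← specMap_comp]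
      have h4 := specMap_mul R (A := D) (R := D ⊗[R] (D ⊗[R] A)) (WithConv.toConv Algebra.TensorProduct.includeLeft)
        (WithConv.toConv (Algebra.TensorProduct.includeRight.comp Algebra.TensorProduct.includeLeft))
      refine h4.symm.trans ?_
      congr 1
      ext x
      rw [AlgHom.convMul_def]
      simp only [δ, AlgHom.comp_apply, Algebra.TensorProduct.includeLeft_apply, Algebra.TensorProduct.map_tmul]
      have key : ∀ z : D ⊗[R] D, (Algebra.TensorProduct.lmul' R)
          ((Algebra.TensorProduct.map (Algebra.TensorProduct.includeLeft : D →ₐ[R] D ⊗[R] (D ⊗[R] A))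
          (Algebra.TensorProduct.includeRight.comp Algebra.TensorProduct.includeLeft)) z) =
          (Algebra.TensorProduct.assoc R R R D D A) (z ⊗ₜ[R] (1 : A)) := by
        intro z
        induction z using TensorProduct.induction_on with
        | zero => simp
        | tmul a b => simp
        | add a b ha hb => rw [map_add, map_add, ha, hb, TensorProduct.add_tmul, map_add]
      exact key _
    · simp only [lift_snd, Category.assoc, prodTo_snd, ← specMap_comp, t]
      congr 1
      ext x
      simp [δ_tmul, Algebra.TensorProduct.one_def]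
  have huniv : AutFam.IsHomFamily (SpecOver R D) (SpecOver R C) (famOf F) ↔
      lift (g₁ * g₂) t ≫ famOf F = (lift g₁ t ≫ famOf F) * (lift g₂ t ≫ famOf F) := by
    refine ⟨fun h => h _ _ _ _, fun h X x₁ x₂ y => ?_⟩
    have : IsIso q := inferInstance
    let v : X ⟶ SpecOver R (D ⊗[R] (D ⊗[R] A)) := lift x₁ (lift x₂ y) ≫ inv q
    have hv : v ≫ lift g₁ (lift g₂ t) = lift x₁ (lift x₂ y) := by
      rw [← hq]
      simp [v]
    have hv1 : v ≫ g₁ = x₁ := by
      have := congrArg (fun f => f ≫ fst _ _) hv
      simpa using this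
    have hv2 : v ≫ g₂ = x₂ := by
      have := congrArg (fun f => f ≫ snd _ _ ≫ fst _ _) hv
      simpa using this
    have hv3 : v ≫ t = y := by
      have := congrArg (fun f => f ≫ snd _ _ ≫ snd _ _) hv
      simpa using this
    clear_value v
    subst hv1 hv2 hv3
    rw [← MonObj.comp_mul, ← comp_lift, ← comp_lift, ← comp_lift, Category.assoc,
      Category.assoc, Category.assoc, h, MonObj.comp_mul]
  rw [huniv, h1, h2, h3, Category.assoc, Category.assoc, Category.assoc, prodTo_famOf, ← specMap_comp,
    ← specMap_comp, ← specMap_comp]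
  have h5 := specMap_mul R (A := C) (R := D ⊗[R] (D ⊗[R] A)) (pushG (T D (HaarDef.ι R D A)) F)
    (pushG (HaarDef.ι R D (D ⊗[R] A)) F)
  constructor
  · intro h
    apply WithConv.ofConv_injective
    apply specMap_injective R
    rw [h5]
    exact h.symm
  · intro h
    have h6 : specMap R (pushG (T D (HaarDef.ι R D A)) F * pushG (HaarDef.ι R D (D ⊗[R] A)) F).ofConv =
        specMap R (pushG (δ R D A) F).ofConv := by rw [h]
    rw [h5] at h6
    exact h6.symm

end fam

end Groth.Agent.Sga3B.HomFunAff898
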