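import Groth.Agent.Sga3B.DSPts

set_option autoImplicit false
universe u
open CategoryTheory MonoidalCategory CartesianMonoidalCategory MonObj GrpObj AlgebraicGeometry Limits

namespace Groth.Agent.Sga3B.InfConj
open Groth.Agent.Sga3B.DSPts

section ring
variable {C : Type u} [CommRing C] {B : Type u} [CommRing B] [Algebra C B]

/-- The subalgebra `C + J` of `B`. -/
def avgSub (J : Ideal B) : Subalgebra C B where
  carrier := {b | ∃ c : C, b - algebraMap C B c ∈ J}
  mul_mem' := by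
    rintro a b ⟨c, hc⟩ ⟨d, hd⟩
    refine ⟨c * d, ?_⟩
    have : a * b - algebraMap C B (c * d) = a * (b - algebraMap C B d) + algebraMap C B d * (a - algebraMap C B c) := by
      rw [map_mul]; ring
    rw [this]
    exact J.add_mem (J.mul_mem_left _ hd) (J.mul_mem_left _ hc)
  add_mem' := by
    rintro a b ⟨c, hc⟩ ⟨d, hd⟩
    refine ⟨c + d, ?_⟩
    have : a + b - algebraMap C B (c + d) = (b - algebraMap C B d) + (a - algebraMap C B c) := by
      rw [map_add]; ring
    rw [this]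
    exact J.add_mem hd hc
  algebraMap_mem' r := ⟨r, by simp⟩

lemma mem_avgSub (J : Ideal B) (b : B) : b ∈ avgSub (C := C) J ↔ ∃ c : C, b - algebraMap C B c ∈ J := Iff.rfl

/-- Averaging: a `C`-linear map `L : B → C` with `L 1 = 1`, `L J ⊆ I` restricts to a ring homomorphism
`C + J → C` if `I * I = ⊥` and `J * J = ⊥`. -/
def avgHom (J : Ideal B) (I : Ideal C) (hI : I * I = ⊥) (hJ : J * J = ⊥) (L : B →ₗ[C] C) (hL1 : L 1 = 1)
    (hLJ : ∀ j ∈ J, L j ∈ I) : avgSub (C := C) J →ₐ[C] C :=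
  AlgHom.ofLinearMap (L.comp (avgSub (C := C) J).val.toLinearMap) (by simpa using hL1) (by
    rintro ⟨a, c, hc⟩ ⟨b, d, hd⟩
    set x := a - algebraMap C B c
    set y := b - algebraMap C B d
    have ha : a = c • 1 + x := by simp [x, Algebra.smul_def]
    have hb : b = d • 1 + y := by simp [y, Algebra.smul_def]
    have hxy : x * y = 0 := by
      have := Ideal.mul_mem_mul hc hd
      rw [hJ] at this
      simpa using this
    have hLxy : L x * L y = 0 := by
      have := Ideal.mul_mem_mul (hLJ _ hc) (hLJ _ hd)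
      rw [hI] at this
      simpa using this
    have hab : a * b = (c * d) • 1 + c • y + d • x := by
      rw [ha, hb]
      simp only [Algebra.smul_def, map_mul]
      linear_combination hxy
    simp only [LinearMap.coe_comp, Function.comp_apply]
    change L (a * b) = L a * L b
    rw [hab, ha, hb]
    simp only [map_add, map_smul, hL1, smul_eq_mul]
    linear_combination - hLxy)

lemma avgHom_apply (J : Ideal B) (I : Ideal C) (hI : I * I = ⊥) (hJ : J * J = ⊥) (L : B →ₗ[C] C) (hL1 : L 1 = 1)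
    (hLJ : ∀ j ∈ J, L j ∈ I) (x : avgSub (C := C) J) : avgHom J I hI hJ L hL1 hLJ x = L x.1 := rfl

end ring

section gpAlg

variable (C : Type u) [CommRing C] (Γ : Type) [CommGroup Γ]

/-- coefficient of 1 -/
noncomputable def coeffOne : MonoidAlgebra C Γ →ₗ[C] C where
  toFun f := f.coeff 1
  map_add' f g := by simp
  map_smul' r f := by simp

lemma coeffOne_apply (f : MonoidAlgebra C Γ) : coeffOne C Γ f = f.coeff 1 := rfl

open Classical in
lemma coeffOne_single (γ : Γ) (c : C) : coeffOne C Γ (MonoidAlgebra.single γ c) = if γ = 1 then c else 0 := by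
  simp [coeffOne_apply, Finsupp.single_apply]

@[simp]
lemma coeffOne_one : coeffOne C Γ 1 = 1 := by
  classical
  simp [MonoidAlgebra.one_def, coeffOne_single]

/-- extended ideal -/
noncomputable def extIdeal {C : Type u} [CommRing C] (Γ : Type) [CommGroup Γ] (I : Ideal C) : Ideal (MonoidAlgebra C Γ) := 
  I.map (algebraMap C (MonoidAlgebra C Γ))

lemma extIdeal_mul (I : Ideal C) (hI : I * I = ⊥) : extIdeal Γ I * extIdeal Γ I = ⊥ := by
  rw [extIdeal, ← Ideal.map_mul, hI, Ideal.map_bot]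

lemma coeffOne_mem (I : Ideal C) (j : MonoidAlgebra C Γ) (hj : j ∈ extIdeal Γ I) : coeffOne C Γ j ∈ I := by
  have hj' : j ∈ (I • ⊤ : Submodule C (MonoidAlgebra C Γ)) := by
    rw [Ideal.smul_top_eq_map]; exact hj
  refine Submodule.smul_induction_on hj' ?_ ?_
  · intro r hr n _
    rw [map_smul]
    exact I.mul_mem_right _ hr
  · intro x y hx hy
    rw [map_add]; exact I.add_mem hx hy

/-- The averaging ring hom `C + I[Γ] → C`. -/
noncomputable def avg (I : Ideal C) (hI : I * I = ⊥) : avgSub (C := C) (extIdeal Γ I) →ₐ[C] C :=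
  avgHom (extIdeal Γ I) I hI (extIdeal_mul C Γ I hI) (coeffOne C Γ) (coeffOne_one C Γ) 
    (coeffOne_mem C Γ I)

/-- second variable inclusion `C[Γ] → C[Γ][Γ]` -/
noncomputable def inc₂ : MonoidAlgebra C Γ →ₐ[C] MonoidAlgebra (MonoidAlgebra C Γ) Γ :=
  MonoidAlgebra.lift C _ Γ (MonoidAlgebra.of _ _)

/-- first variable inclusion `C[Γ] → C[Γ][Γ]` -/
noncomputable def inc₁ : MonoidAlgebra C Γ →ₐ[C] MonoidAlgebra (MonoidAlgebra C Γ) Γ :=
  IsScalarTower.toAlgHom _ _ _

/-- diagonal `C[Γ] → C[Γ][Γ]` -/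
noncomputable def dg : MonoidAlgebra C Γ →ₐ[C] MonoidAlgebra (MonoidAlgebra C Γ) Γ :=
  MonoidAlgebra.lift C _ Γ 
   { toFun := fun γ => MonoidAlgebra.single γ (MonoidAlgebra.single γ 1)
     map_one' := by simp [MonoidAlgebra.one_def]
     map_mul' := by intro x y; simp [MonoidAlgebra.single_mul_single] }

@[simp]
lemma inc₂_single (γ : Γ) : inc₂ C Γ (MonoidAlgebra.single γ 1) = MonoidAlgebra.single γ 1 := by
  simp [inc₂]

@[simp]
lemma inc₁_single (γ : Γ) : inc₁ C Γ (MonoidAlgebra.single γ 1) = MonoidAlgebra.single 1 (MonoidAlgebra.single γ 1) := by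
  simp [inc₁]

@[simp]
lemma dg_single (γ : Γ) : dg C Γ (MonoidAlgebra.single γ 1) = MonoidAlgebra.single γ (MonoidAlgebra.single γ 1) := by
  simp [dg]

lemma coeffOne_inc₂ (f : MonoidAlgebra C Γ) : coeffOne _ Γ (inc₂ C Γ f) = algebraMap C _ (coeffOne C Γ f) := by
  classical
  have : ((coeffOne (MonoidAlgebra C Γ) Γ).restrictScalars C).comp (inc₂ C Γ).toLinearMap = 
      (Algebra.linearMap C _).comp (coeffOne C Γ) := by
    ext γ 
    simp [coeffOne_single]
  exact congr($this f)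

lemma coeffOne_dg (f : MonoidAlgebra C Γ) : coeffOne _ Γ (dg C Γ f) = algebraMap C _ (coeffOne C Γ f) := by
  classical
  have : ((coeffOne (MonoidAlgebra C Γ) Γ).restrictScalars C).comp (dg C Γ).toLinearMap = 
      (Algebra.linearMap C _).comp (coeffOne C Γ) := by
    ext γ 
    simp [coeffOne_single]
    by_cases h : γ = 1
    · subst h; simp [MonoidAlgebra.one_def]
    · simp [h]
  exact congr($this f)

variable {C Γ}
variable {I : Ideal C} 

lemma extIdeal_algebraMap_mem {c : C} (hc : algebraMap C (MonoidAlgebra C Γ) c ∈ extIdeal Γ I) : c ∈ I := by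
  have := coeffOne_mem C Γ I _ hc
  rwa [Algebra.algebraMap_eq_smul_one, map_smul, coeffOne_one, smul_eq_mul, _root_.mul_one] at this

lemma inc₂_mem {j : MonoidAlgebra C Γ} (hj : j ∈ extIdeal Γ I) : inc₂ C Γ j ∈ extIdeal Γ (extIdeal Γ I) := by
  have : extIdeal Γ I ≤ (extIdeal Γ (extIdeal Γ I)).comap (inc₂ C Γ) := by
    refine Ideal.map_le_iff_le_comap.mpr ?_
    intro i hi
    rw [Ideal.mem_comap, Ideal.mem_comap, AlgHom.commutes, IsScalarTower.algebraMap_apply C (MonoidAlgebra C Γ)]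
    exact Ideal.mem_map_of_mem _ (Ideal.mem_map_of_mem _ hi)
  exact this hj

lemma dg_mem {j : MonoidAlgebra C Γ} (hj : j ∈ extIdeal Γ I) : dg C Γ j ∈ extIdeal Γ (extIdeal Γ I) := by
  have : extIdeal Γ I ≤ (extIdeal Γ (extIdeal Γ I)).comap (dg C Γ) := by
    refine Ideal.map_le_iff_le_comap.mpr ?_
    intro i hi
    rw [Ideal.mem_comap, Ideal.mem_comap, AlgHom.commutes, IsScalarTower.algebraMap_apply C (MonoidAlgebra C Γ)]
    exact Ideal.mem_map_of_mem _ (Ideal.mem_map_of_mem _ hi)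
  exact this hj

variable (I)

/-- the subalgebra `C[Γ] + I[Γ × Γ]` seen as a `C`-algebra -/
noncomputable abbrev A₂ (I : Ideal C) : Subalgebra (MonoidAlgebra C Γ) (MonoidAlgebra (MonoidAlgebra C Γ) Γ) :=
  avgSub (C := MonoidAlgebra C Γ) (extIdeal Γ (extIdeal Γ I))

/-- the subalgebra `C + I[Γ]` -/
noncomputable abbrev A₁ (I : Ideal C) : Subalgebra C (MonoidAlgebra C Γ) :=
  avgSub (C := C) (extIdeal Γ I)

noncomputable def inc₂A : A₁ (Γ := Γ) I →ₐ[C] A₂ (Γ := Γ) I where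
  toFun x := ⟨inc₂ C Γ x.1, by
    obtain ⟨c, hc⟩ := x.2
    refine ⟨algebraMap C _ c, ?_⟩
    have := inc₂_mem hc
    rwa [map_sub, AlgHom.commutes, IsScalarTower.algebraMap_apply C (MonoidAlgebra C Γ)] at this⟩
  map_one' := by ext1; simp
  map_mul' x y := by ext1; simp
  map_zero' := by ext1; simp
  map_add' x y := by ext1; simp
  commutes' r := by 
    ext1
    exact (inc₂ C Γ).commutes r

noncomputable def dgA : A₁ (Γ := Γ) I →ₐ[C] A₂ (Γ := Γ) I where
  toFun x := ⟨dg C Γ x.1, by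
    obtain ⟨c, hc⟩ := x.2
    refine ⟨algebraMap C _ c, ?_⟩
    have := dg_mem hc
    rwa [map_sub, AlgHom.commutes, IsScalarTower.algebraMap_apply C (MonoidAlgebra C Γ)] at this⟩
  map_one' := by ext1; simp
  map_mul' x y := by ext1; simp
  map_zero' := by ext1; simp
  map_add' x y := by ext1; simp
  commutes' r := by 
    ext1
    exact (dg C Γ).commutes r

/-- `C[Γ] → A₂` -/
noncomputable def inc₁A : MonoidAlgebra C Γ →ₐ[C] A₂ (Γ := Γ) I := IsScalarTower.toAlgHom _ _ _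

/-- the inclusion `A₂ → C[Γ][Γ]` over `C` -/
noncomputable def valA₂ : A₂ (Γ := Γ) I →ₐ[C] MonoidAlgebra (MonoidAlgebra C Γ) Γ :=
  (A₂ (Γ := Γ) I).val.restrictScalars C

/-- the averaging hom `A₂ → C[Γ]` -/
noncomputable def avg₂ (hI : I * I = ⊥) : A₂ (Γ := Γ) I →ₐ[C] MonoidAlgebra C Γ :=
  (avg (MonoidAlgebra C Γ) Γ (extIdeal Γ I) (extIdeal_mul C Γ I hI)).restrictScalars C

lemma avg₂_dgA (hI : I * I = ⊥) (x : A₁ (Γ := Γ) I) : 
    avg₂ I hI (dgA I x) = algebraMap C _ (avg C Γ I hI x) := coeffOne_dg C Γ x.1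

lemma avg₂_inc₂A (hI : I * I = ⊥) (x : A₁ (Γ := Γ) I) : 
    avg₂ I hI (inc₂A I x) = algebraMap C _ (avg C Γ I hI x) := coeffOne_inc₂ C Γ x.1

lemma avg₂_inc₁A (hI : I * I = ⊥) (x : MonoidAlgebra C Γ) : 
    avg₂ I hI (inc₁A I x) = x := by
  change coeffOne _ Γ (algebraMap _ (MonoidAlgebra (MonoidAlgebra C Γ) Γ) x) = x
  rw [Algebra.algebraMap_eq_smul_one, map_smul, coeffOne_one, smul_eq_mul, _root_.mul_one]

/-- reduction `C + I[Γ] → C/I` : the composite of averaging and the quotient map -/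
lemma avg_sub_mem (hI : I * I = ⊥) (x : A₁ (Γ := Γ) I) (c : C) (h : x.1 - algebraMap C _ c ∈ extIdeal Γ I) :
   avg C Γ I hI x - c ∈ I := by
  have := coeffOne_mem C Γ I _ h
  rw [map_sub, Algebra.algebraMap_eq_smul_one, map_smul, coeffOne_one, smul_eq_mul, _root_.mul_one] at this
  exact this

end gpAlg

section geom

variable (C : Type u) [CommRing C]

/-- `Spec E` over `Spec C`. -/
noncomputable abbrev pt (E : Type u) [CommRing E] [Algebra C E] : Over (Spec (CommRingCat.of C)) :=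
  Over.mk (Spec.map (CommRingCat.ofHom (algebraMap C E)))

variable {C}

noncomputable def ptMap {E E' : Type u} [CommRing E] [CommRing E'] [Algebra C E] [Algebra C E'] 
    (φ : E →ₐ[C] E') : pt C E' ⟶ pt C E :=
  Over.homMk (Spec.map (CommRingCat.ofHom φ.toRingHom)) (by 
    simp [← Spec.map_comp, ← CommRingCat.ofHom_comp])

lemma ptMap_left {E E' : Type u} [CommRing E] [CommRing E'] [Algebra C E] [Algebra C E'] 
    (φ : E →ₐ[C] E') : (ptMap φ).left = Spec.map (CommRingCat.ofHom φ.toRingHom) := rfl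

@[reassoc]
lemma ptMap_comp {E E' E'' : Type u} [CommRing E] [CommRing E'] [CommRing E''] [Algebra C E] [Algebra C E'] 
    [Algebra C E''] (φ : E →ₐ[C] E') (ψ : E' →ₐ[C] E'') : ptMap ψ ≫ ptMap φ = ptMap (ψ.comp φ) := by
  ext1
  simp only [Over.comp_left, ptMap_left, ← Spec.map_comp, ← CommRingCat.ofHom_comp]
  rfl

@[simp]
lemma ptMap_id (E : Type u) [CommRing E] [Algebra C E] : ptMap (AlgHom.id C E) = 𝟙 _ := by
  ext1
  simp only [ptMap_left]
  exact Spec.map_id _

/-- global functions on `pt C E` -/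
noncomputable def gPt (C : Type u) [CommRing C] (E : Type u) [CommRing E] [Algebra C E] : 
    E →+* Γ((pt C E).left, ⊤) :=
  (Scheme.ΓSpecIso (.of E)).inv.hom

lemma gPt_naturality {E E' : Type u} [CommRing E] [CommRing E'] [Algebra C E] [Algebra C E'] 
    (φ : E →ₐ[C] E') (e : E) : (ptMap φ).left.appTop.hom (gPt C E e) = gPt C E' (φ e) := 
  congr($(Scheme.ΓSpecIso_inv_naturality (CommRingCat.ofHom φ.toRingHom)) e).symm

/-- the point of `D(M)` with values in a `C`-algebra `E` given by a character -/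
noncomputable def charPt {M : Type} [AddCommGroup M] {E : Type u} [CommRing E] [Algebra C E] 
    (χ : Multiplicative M →* E) : pt C E ⟶ Red.DS (Spec (.of C)) M :=
  dsEquiv (pt C E) M ((gPt C E).toMonoidHom.comp χ)

lemma charPt_mul {M : Type} [AddCommGroup M] {E : Type u} [CommRing E] [Algebra C E] 
    (χ χ' : Multiplicative M →* E) : charPt (C := C) (χ * χ') = charPt χ * charPt χ' := by
  unfold charPt
  rw [← map_mul]
  congr 1
  ext m
  simp

lemma ptMap_charPt {M : Type} [AddCommGroup M] {E E' : Type u} [CommRing E] [CommRing E'] [Algebra C E] 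
    [Algebra C E'] (φ : E →ₐ[C] E') (χ : Multiplicative M →* E) :
    ptMap φ ≫ charPt χ = charPt (C := C) ((φ : E →* E').comp χ) := by
  unfold charPt
  rw [dsEquiv_naturality]
  congr 1
  ext m
  exact gPt_naturality _ _

lemma toSpecΓ_SpecMap_eq {X : Scheme.{u}} (f : X ⟶ Spec (.of C)) :
    X.toSpecΓ ≫ Spec.map ((Scheme.ΓSpecIso (.of C)).inv ≫ f.appTop) = f := by
  rw [Spec.map_comp, ← Scheme.toSpecΓ_naturality_assoc]
  simp

lemma ΓSpecIso_inv_comp_appTop (X : Scheme.{u}) {A : CommRingCat.{u}} (f : A ⟶ Γ(X, ⊤)) :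
    (Scheme.ΓSpecIso A).inv ≫ (X.toSpecΓ ≫ Spec.map f).appTop = f := by
  rw [Scheme.Hom.comp_appTop, ← Scheme.ΓSpecIso_inv_naturality_assoc]
  simp

/-- the universal point -/
noncomputable def univPt (C : Type u) [CommRing C] (M : Type) [AddCommGroup M] : 
    pt C (MonoidAlgebra C (Multiplicative M)) ⟶ Red.DS (Spec (.of C)) M :=
  charPt (MonoidAlgebra.of C (Multiplicative M))

/-- every point of `D(M)` comes from the universal one. -/
lemma exists_eq_comp_charPt {M : Type} [AddCommGroup M] {T : Over (Spec (.of C))} (q : T ⟶ Red.DS (Spec (.of C)) M) :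
    ∃ h : T ⟶ pt C (MonoidAlgebra C (Multiplicative M)), q = h ≫ univPt C M := by
  let α : C →+* Γ(T.left, ⊤) := ((Scheme.ΓSpecIso (.of C)).inv ≫ T.hom.appTop).hom
  let _ : Algebra C Γ(T.left, ⊤) := α.toAlgebra
  let ρ : MonoidAlgebra C (Multiplicative M) →ₐ[C] Γ(T.left, ⊤) := 
    MonoidAlgebra.lift C _ (Multiplicative M) (dsChar q)
  let h : T ⟶ pt C (MonoidAlgebra C (Multiplicative M)) := 
    Over.homMk (T.left.toSpecΓ ≫ Spec.map (CommRingCat.ofHom ρ.toRingHom)) (by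
      simp only [Over.mk_hom, Over.mk_left, Category.assoc, ← Spec.map_comp, ← CommRingCat.ofHom_comp]
      have : ρ.toRingHom.comp (algebraMap C _) = α := by
        ext c
        exact ρ.commutes c
      rw [this]
      exact toSpecΓ_SpecMap_eq _)
  refine ⟨h, ?_⟩
  apply (dsEquiv T M).symm.injective
  change dsChar q = dsChar (h ≫ dsEquiv _ M _)
  rw [dsChar_comp, dsChar_dsEquiv]
  ext m
  change dsChar q m = h.left.appTop.hom (gPt C _ (MonoidAlgebra.single m 1))
  have h1 : h.left.appTop.hom (gPt C _ (MonoidAlgebra.single m 1)) = ρ (MonoidAlgebra.single m 1) := by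
    exact congr($(ΓSpecIso_inv_comp_appTop T.left (CommRingCat.ofHom ρ.toRingHom)) (MonoidAlgebra.single m 1))
  rw [h1]
  exact ((MonoidAlgebra.lift_single _ _ _).trans (one_smul _ _)).symm

lemma ext_of_ker_eq_bot {Z X Y W : Scheme.{u}} {f g : X ⟶ Y} (s : Y ⟶ Z) [IsSeparated s] (h : f ≫ s = g ≫ s)
    (i : W ⟶ X) (hi : i.ker = ⊥) (hU : i ≫ f = i ≫ g) : f = g := by
  let X' : Over Z := Over.mk (f ≫ s)
  let Y' : Over Z := Over.mk s
  let U' : Over Z := Over.mk (i ≫ f ≫ s)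
  let f' : X' ⟶ Y' := Over.homMk f
  let g' : X' ⟶ Y' := Over.homMk g
  let i' : U' ⟶ X' := Over.homMk i
  have : IsSeparated Y'.hom := ‹_›
  have h1 : (equalizer.ι f' g').left.ker = ⊥ := by
    rw [eq_bot_iff, ← hi]
    have : i = (equalizer.lift i' (by ext1; exact hU)).left ≫ (equalizer.ι f' g').left := by
      rw [← Over.comp_left, equalizer.lift_ι]
      rfl
    rw [this]
    exact Scheme.Hom.le_ker_comp _ _
  have := IsClosedImmersion.isIso_iff_ker_eq_bot.mpr h1
  rw [← cancel_epi (equalizer.ι f' g').left]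
  exact congr($(equalizer.condition f' g').left)

lemma ker_specMap {A B : Type u} [CommRing A] [CommRing B] (φ : A →+* B) (hφ : Function.Injective φ) :
    (Spec.map (CommRingCat.ofHom φ)).ker = ⊥ := by
  apply Scheme.IdealSheafData.ext_of_isAffine
  rw [Scheme.Hom.ker_apply]
  simp only [Scheme.IdealSheafData.ideal_bot, Pi.bot_apply]
  rw [← RingHom.injective_iff_ker_eq_bot]
  have h := Scheme.ΓSpecIso_inv_naturality (CommRingCat.ofHom φ)
  have h2 : (Spec.map (CommRingCat.ofHom φ)).appTop = (Scheme.ΓSpecIso (.of A)).hom ≫ CommRingCat.ofHom φ ≫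
    (Scheme.ΓSpecIso (.of B)).inv := by rw [h]; simp
  change Function.Injective (Spec.map (CommRingCat.ofHom φ)).appTop.hom
  rw [h2]
  simp only [CommRingCat.hom_comp, RingHom.coe_comp]
  refine ((ConcreteCategory.bijective_of_isIso (Scheme.ΓSpecIso (.of B)).inv).1.comp ?_).comp 
    (ConcreteCategory.bijective_of_isIso (Scheme.ΓSpecIso (.of A)).hom).1
  exact hφ

/-- the coordinate form of the unit section in an affine neighbourhood -/
lemma exists_unit_ringHom (G : Over (Spec (CommRingCat.of C))) [GrpObj G] (D : CommRingCat.{u}) (j : Spec D ⟶ G.left)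
    [IsOpenImmersion j] (hj : Set.range η[G].left ⊆ Set.range j) :
    ∃ ε : D ⟶ CommRingCat.of C, η[G].left = Spec.map ε ≫ j := by
  let l : Spec (CommRingCat.of C) ⟶ Spec D := IsOpenImmersion.lift j η[G].left hj
  refine ⟨Spec.preimage l, ?_⟩
  rw [Spec.map_preimage]
  exact (IsOpenImmersion.lift_fac j η[G].left hj).symm

lemma specMap_quotient_surjective {E : Type u} [CommRing E] (J : Ideal E) (hJ : J * J = ⊥) :
    Function.Surjective (Spec.map (CommRingCat.ofHom (Ideal.Quotient.mk J))) := by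
  intro p
  have h1 : p ∈ Set.range (PrimeSpectrum.comap (Ideal.Quotient.mk J)) := by
    rw [range_comap_of_surjective _ _ Ideal.Quotient.mk_surjective]
    intro x hx
    rw [Ideal.mk_ker] at hx
    have h2 : x * x ∈ (⊥ : Ideal E) := by
      rw [← hJ]; exact Ideal.mul_mem_mul hx hx
    have h3 : x * x ∈ p.asIdeal := by
      rw [Ideal.mem_bot.mp h2]; exact p.asIdeal.zero_mem
    rcases p.2.mem_or_mem h3 with h | h <;> exact h
  obtain ⟨q, hq⟩ := h1
  exact ⟨q, hq⟩

lemma exists_ringHom (G : Over (Spec (CommRingCat.of C))) [GrpObj G] (D : CommRingCat.{u}) (j : Spec D ⟶ G.left)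
    [IsOpenImmersion j] (ε : D ⟶ CommRingCat.of C) (hε : η[G].left = Spec.map ε ≫ j)
    {E : Type u} [CommRing E] [Algebra C E] (J : Ideal E) (hJ : J * J = ⊥) (x : pt C E ⟶ G) 
    (hx : ptMap (Ideal.Quotient.mkₐ C J) ≫ x = 1) : 
    ∃ ξ : D ⟶ CommRingCat.of E, x.left = Spec.map ξ ≫ j ∧ ∀ d, ξ.hom d - algebraMap C E (ε.hom d) ∈ J := by
  have hx1 : Spec.map (CommRingCat.ofHom (Ideal.Quotient.mk J)) ≫ x.left = 
      Spec.map (CommRingCat.ofHom (algebraMap C (E ⧸ J))) ≫ Spec.map ε ≫ j := by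
    rw [← hε]
    have h := congr($(hx).left)
    rw [Hom.one_def] at h
    exact h
  have hr : Set.range x.left ⊆ Set.range j := by
    rintro _ ⟨p, rfl⟩
    obtain ⟨p', rfl⟩ := specMap_quotient_surjective J hJ p
    refine ⟨Spec.map ε (Spec.map (CommRingCat.ofHom (algebraMap C (E ⧸ J))) p'), ?_⟩
    have := congr($hx1 p')
    simpa using this.symm
  let l : Spec (CommRingCat.of E) ⟶ Spec D := IsOpenImmersion.lift j x.left hr
  have hl : l ≫ j = x.left := IsOpenImmersion.lift_fac j x.left hr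
  refine ⟨Spec.preimage l, by rw [Spec.map_preimage, hl], fun d => ?_⟩
  rw [← hl, ← Category.assoc, ← Category.assoc, cancel_mono] at hx1
  have h2 : Spec.preimage l ≫ CommRingCat.ofHom (Ideal.Quotient.mk J) = ε ≫ CommRingCat.ofHom (algebraMap C (E ⧸ J)) := by
    apply Spec.map_injective
    rw [Spec.map_comp, Spec.map_comp, Spec.map_preimage, hx1]
  rw [← Ideal.Quotient.eq]
  exact congr($h2 d)

/-- A point of `G` with values in `E`, trivial modulo a square-zero ideal `J`, comes from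
the subring `C + J`. -/
lemma exists_lift (G : Over (Spec (CommRingCat.of C))) [GrpObj G] (D : CommRingCat.{u}) (j : Spec D ⟶ G.left)
    [IsOpenImmersion j] (hj : Set.range η[G].left ⊆ Set.range j)
    {E : Type u} [CommRing E] [Algebra C E] (J : Ideal E) (hJ : J * J = ⊥) (x : pt C E ⟶ G) 
    (hx : ptMap (Ideal.Quotient.mkₐ C J) ≫ x = 1) (A : Subalgebra C E)
    (hA : ∀ (c : C) (e : E), e - algebraMap C E c ∈ J → e ∈ A) : 
    ∃ y : pt C A ⟶ G, ptMap A.val ≫ y = x ∧ 
     ∀ (E' : Type u) [CommRing E'] [Algebra C E'] (φ : A →ₐ[C] E'), 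
      (∀ (c : C) (e : A), e.1 - algebraMap C E c ∈ J → φ e = algebraMap C E' c) → ptMap φ ≫ y = 1 := by
  obtain ⟨ε, hε⟩ := exists_unit_ringHom G D j hj
  obtain ⟨ξ, hξ, hξ'⟩ := exists_ringHom G D j ε hε J hJ x hx
  let ξA : D →+* A := ξ.hom.codRestrict A (fun d => hA _ _ (hξ' d))
  have hξA : CommRingCat.ofHom ξA ≫ CommRingCat.ofHom A.val.toRingHom = ξ := by
    ext d; rfl
  let y : pt C A ⟶ G := Over.homMk (Spec.map (CommRingCat.ofHom ξA) ≫ j) (by
    -- compare with x.w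
    obtain ⟨κ, hκ⟩ : ∃ κ : CommRingCat.of C ⟶ D, j ≫ G.hom = Spec.map κ := ⟨Spec.preimage _, by rw [Spec.map_preimage]⟩
    have h1 : Spec.map ξ ≫ j ≫ G.hom = Spec.map (CommRingCat.ofHom (algebraMap C E)) := by
      rw [← Category.assoc, ← hξ]
      exact Over.w x
    rw [hκ, ← Spec.map_comp] at h1
    have h2 := Spec.map_injective h1
    simp only [Over.mk_hom, Category.assoc]
    rw [hκ, ← Spec.map_comp]
    congr 1
    ext c
    exact congr($h2 c))
  have hy : y.left = Spec.map (CommRingCat.ofHom ξA) ≫ j := rfl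
  refine ⟨y, ?_, ?_⟩
  · ext1
    rw [Over.comp_left, ptMap_left, hy, hξ, ← Category.assoc, ← Spec.map_comp, hξA]
  · intro E' _ _ φ hφ
    ext1
    rw [Over.comp_left, ptMap_left, hy, ← Category.assoc, ← Spec.map_comp]
    have h3 : CommRingCat.ofHom ξA ≫ CommRingCat.ofHom φ.toRingHom = ε ≫ CommRingCat.ofHom (algebraMap C E') := by
      ext d
      exact hφ _ _ (hξ' d)
    rw [h3, Spec.map_comp, Category.assoc, ← hε]
    rfl

lemma pt_self_hom_ext {T : Over (Spec (CommRingCat.of C))} (f g : T ⟶ pt C C) : f = g := by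
  ext1
  have h1 := Over.w f
  have h2 := Over.w g
  have h3 : (pt C C).hom = 𝟙 _ := Spec.map_id _
  rw [h3] at h1 h2
  exact ((Category.comp_id _).symm.trans h1).trans (h2.symm.trans (Category.comp_id _))

section maps

variable (Γ : Type) [CommGroup Γ] (I : Ideal C)

noncomputable def pVal₁ : pt C (MonoidAlgebra C Γ) ⟶ pt C (A₁ (Γ := Γ) I) :=
  ptMap (E := A₁ (Γ := Γ) I) (E' := MonoidAlgebra C Γ) (A₁ (Γ := Γ) I).val

noncomputable def pVal₂ : pt C (MonoidAlgebra (MonoidAlgebra C Γ) Γ) ⟶ pt C (A₂ (Γ := Γ) I) :=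
  ptMap (E := A₂ (Γ := Γ) I) (E' := MonoidAlgebra (MonoidAlgebra C Γ) Γ) (valA₂ I)

noncomputable def pDgA : pt C (A₂ (Γ := Γ) I) ⟶ pt C (A₁ (Γ := Γ) I) :=
  ptMap (E := A₁ (Γ := Γ) I) (E' := A₂ (Γ := Γ) I) (dgA I)

noncomputable def pInc₂A : pt C (A₂ (Γ := Γ) I) ⟶ pt C (A₁ (Γ := Γ) I) :=
  ptMap (E := A₁ (Γ := Γ) I) (E' := A₂ (Γ := Γ) I) (inc₂A I)

noncomputable def pInc₁A : pt C (A₂ (Γ := Γ) I) ⟶ pt C (MonoidAlgebra C Γ) :=
  ptMap (E := MonoidAlgebra C Γ) (E' := A₂ (Γ := Γ) I) (inc₁A I)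

noncomputable def pAvg (hI : I * I = ⊥) : pt C C ⟶ pt C (A₁ (Γ := Γ) I) :=
  ptMap (E := A₁ (Γ := Γ) I) (E' := C) (avg C Γ I hI)

noncomputable def pAvg₂ (hI : I * I = ⊥) : pt C (MonoidAlgebra C Γ) ⟶ pt C (A₂ (Γ := Γ) I) :=
  ptMap (E := A₂ (Γ := Γ) I) (E' := MonoidAlgebra C Γ) (avg₂ I hI)

@[reassoc]
lemma pVal₂_pDgA : pVal₂ Γ I ≫ pDgA Γ I = ptMap (dg C Γ) ≫ pVal₁ Γ I := by
  rw [pVal₂, pDgA, pVal₁, ptMap_comp, ptMap_comp]
  rfl

@[reassoc]
lemma pVal₂_pInc₂A : pVal₂ Γ I ≫ pInc₂A Γ I = ptMap (inc₂ C Γ) ≫ pVal₁ Γ I := by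
  rw [pVal₂, pInc₂A, pVal₁, ptMap_comp, ptMap_comp]
  rfl

@[reassoc]
lemma pVal₂_pInc₁A : pVal₂ Γ I ≫ pInc₁A Γ I = ptMap (inc₁ C Γ) := by
  rw [pVal₂, pInc₁A, ptMap_comp]
  rfl

@[reassoc]
lemma pAvg₂_pDgA (hI : I * I = ⊥) : pAvg₂ Γ I hI ≫ pDgA Γ I = ptMap (Algebra.ofId C (MonoidAlgebra C Γ)) ≫ pAvg Γ I hI := by
  rw [pAvg₂, pDgA, pAvg, ptMap_comp, ptMap_comp]
  congr 1
  ext x
  exact congr(MonoidAlgebra.coeff $(avg₂_dgA I hI x) _)

@[reassoc]
lemma pAvg₂_pInc₂A (hI : I * I = ⊥) : pAvg₂ Γ I hI ≫ pInc₂A Γ I = ptMap (Algebra.ofId C (MonoidAlgebra C Γ)) ≫ pAvg Γ I hI := by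
  rw [pAvg₂, pInc₂A, pAvg, ptMap_comp, ptMap_comp]
  congr 1
  ext x
  exact congr(MonoidAlgebra.coeff $(avg₂_inc₂A I hI x) _)

@[reassoc]
lemma pAvg₂_pInc₁A (hI : I * I = ⊥) : pAvg₂ Γ I hI ≫ pInc₁A Γ I = 𝟙 _ := by
  rw [pAvg₂, pInc₁A, ptMap_comp, ← ptMap_id]
  congr 1
  apply AlgHom.ext
  intro x
  exact avg₂_inc₁A I hI x

lemma ptMap_dg_univPt (M : Type) [AddCommGroup M] : ptMap (dg C (Multiplicative M)) ≫ univPt C M = 
    (ptMap (inc₁ C _) ≫ univPt C M) * (ptMap (inc₂ C _) ≫ univPt C M) := by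
  rw [univPt, ptMap_charPt, ptMap_charPt, ptMap_charPt, ← charPt_mul]
  congr 1
  ext m
  simp [MonoidAlgebra.single_mul_single]

end maps

/-- **Infinitesimal conjugacy, base form.** Let `I` be a square-zero ideal of `C`, `G` a separated group
scheme over `Spec C` with an affine open containing the unit section, and `a, b : D(M) → G` two
homomorphisms which agree modulo `I`.  Then `a` and `b` are conjugate by a point of `G(C)` which is
trivial modulo `I`. -/
theorem infConj_base (I : Ideal C) (hI : I * I = ⊥) (M : Type) [AddCommGroup M]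
    (G : Over (Spec (CommRingCat.of C))) [GrpObj G] [IsSeparated G.hom] (D : CommRingCat.{u}) (j : Spec D ⟶ G.left)
    [IsOpenImmersion j] (hj : Set.range η[G].left ⊆ Set.range j) 
    (a b : Red.DS (Spec (CommRingCat.of C)) M ⟶ G) [IsMonHom a] [IsMonHom b]
    (hab : ∀ (E : Type u) [CommRing E] [Algebra C E] (q : pt C E ⟶ Red.DS (Spec (CommRingCat.of C)) M), 
      (∀ i ∈ I, algebraMap C E i = 0) → q ≫ a = q ≫ b) :
    ∃ w : 𝟙_ (Over (Spec (CommRingCat.of C))) ⟶ G, 
      (∀ (E : Type u) [CommRing E] [Algebra C E], (∀ i ∈ I, algebraMap C E i = 0) → 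
        toUnit (pt C E) ≫ w = 1) ∧ 
      ∀ (T : Over (Spec (CommRingCat.of C))) (q : T ⟶ Red.DS (Spec (CommRingCat.of C)) M), 
        q ≫ a = (toUnit T ≫ w) * (q ≫ b) * (toUnit T ≫ w)⁻¹ := by
  let q := univPt C M
  let c := (q ≫ a) * (q ≫ b)⁻¹
  have hJ := extIdeal_mul C (Multiplicative M) I hI
  have hc : ptMap (Ideal.Quotient.mkₐ C (extIdeal (Multiplicative M) I)) ≫ c = 1 := by
    rw [comp_mul, comp_inv, ← Category.assoc, ← Category.assoc, hab, mul_inv_cancel]
    intro i hi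
    rw [IsScalarTower.algebraMap_apply C (MonoidAlgebra C (Multiplicative M))]
    exact Ideal.Quotient.eq_zero_iff_mem.mpr (Ideal.mem_map_of_mem _ hi)
  obtain ⟨cA, hcA, hcA'⟩ := exists_lift G D j hj (extIdeal (Multiplicative M) I) hJ c hc (A₁ I) (fun c e h => ⟨c, h⟩)
  replace hcA : pVal₁ (Multiplicative M) I ≫ cA = c := hcA
  have hA₂ : Function.Injective (valA₂ (Γ := Multiplicative M) I) := Subtype.val_injective
  have key : pDgA (Multiplicative M) I ≫ cA = (pInc₁A (Multiplicative M) I ≫ c) * (pInc₁A (Multiplicative M) I ≫ q ≫ b) * (pInc₂A (Multiplicative M) I ≫ cA) * 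
      (pInc₁A (Multiplicative M) I ≫ q ≫ b)⁻¹ := by
    ext1
    refine ext_of_ker_eq_bot G.hom ((Over.w _).trans (Over.w _).symm) (pVal₂ (Multiplicative M) I).left (ker_specMap _ hA₂) ?_
    rw [← Over.comp_left, ← Over.comp_left]
    congr 1
    simp only [comp_mul, comp_inv, pVal₂_pDgA_assoc, pVal₂_pInc₂A_assoc, pVal₂_pInc₁A_assoc, hcA, c]
    have h4 := ptMap_dg_univPt (C := C) M
    change ptMap (dg C (Multiplicative M)) ≫ q = (ptMap (inc₁ C _) ≫ q) * (ptMap (inc₂ C _) ≫ q) at h4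
    simp only [← Category.assoc]
    rw [h4]
    simp only [MonObj.mul_comp, Category.assoc]
    group
  let w₀ : pt C C ⟶ G := pAvg (Multiplicative M) I hI ≫ cA
  let W : pt C (MonoidAlgebra C (Multiplicative M)) ⟶ G := 
    ptMap (Algebra.ofId C (MonoidAlgebra C (Multiplicative M))) ≫ w₀
  have hW : q ≫ a = W * (q ≫ b) * W⁻¹ := by
    have h5 := congr(pAvg₂ (Multiplicative M) I hI ≫ $key)
    simp only [comp_mul, comp_inv, pAvg₂_pDgA_assoc, pAvg₂_pInc₂A_assoc, pAvg₂_pInc₁A_assoc] at h5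
    change W = c * (q ≫ b) * W * (q ≫ b)⁻¹ at h5
    have h6 : W * (q ≫ b) = (q ≫ a) * W := by
      conv_lhs => rw [h5]
      simp only [c]
      group
    rw [h6]
    group
  let u : 𝟙_ (Over (Spec (CommRingCat.of C))) ⟶ pt C C := Over.homMk (𝟙 _) (by
    simp only [Over.mk_hom]
    erw [Category.id_comp]
    exact Spec.map_id _)
  refine ⟨u ≫ w₀, ?_, ?_⟩
  · intro E _ _ hE
    have h7 : toUnit (pt C E) ≫ u = ptMap (Algebra.ofId C E) := pt_self_hom_ext _ _
    rw [← Category.assoc, h7]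
    have h8 : ptMap (Algebra.ofId C E) ≫ pAvg (Multiplicative M) I hI = 
      ptMap (E := A₁ (Γ := Multiplicative M) I) (E' := E) ((Algebra.ofId C E).comp (avg C (Multiplicative M) I hI)) := by
      rw [pAvg, ptMap_comp]
    rw [← Category.assoc, h8]
    apply hcA'
    intro r e he
    have h9 := hE _ (avg_sub_mem I hI e r he)
    rw [map_sub, sub_eq_zero] at h9
    exact h9
  · intro T q'
    obtain ⟨h, rfl⟩ := exists_eq_comp_charPt q'
    have h11 : h ≫ ptMap (Algebra.ofId C (MonoidAlgebra C (Multiplicative M))) = toUnit T ≫ u := 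
      pt_self_hom_ext (C := C) _ _
    have h10 : h ≫ W = toUnit T ≫ u ≫ w₀ := by
      change h ≫ ptMap (Algebra.ofId C (MonoidAlgebra C (Multiplicative M))) ≫ w₀ = _
      rw [← Category.assoc, h11, Category.assoc]
    rw [Category.assoc, Category.assoc, ← h10, ← comp_mul, ← comp_inv, ← comp_mul]
    congr 1

end geom

end Groth.Agent.Sga3B.InfConj
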