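import Mathlib.RingTheory.PicardGroup
import Mathlib.RingTheory.Spectrum.Prime.FreeLocus
import Mathlib.RingTheory.LocalProperties.Basic

/-!
# Finite projective modules of rank one are invertible
-/

set_option autoImplicit false

open TensorProduct Module

universe u

namespace Groth.Agent.Sga3B.InvRank136

variable {R : Type u} [CommRing R] {P : Type u} [AddCommGroup P] [Module R P]
  [Module.Finite R P] [Module.Projective R P]

/-- Two elements of a rank one module are "proportional". -/
lemma smul_comm_of_rank_one (h : ∀ x : PrimeSpectrum R, rankAtStalk (R := R) P x = 1) (φ : P →ₗ[R] R) (x y : P) :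
    φ x • y = φ y • x := by
  rw [← sub_eq_zero]
  apply Module.eq_zero_of_localization_maximal (fun (J : Ideal R) _ => LocalizedModule J.primeCompl P)
    (fun (J : Ideal R) _ => LocalizedModule.mkLinearMap J.primeCompl P)
  intro J hJ
  let S := J.primeCompl
  let f := LocalizedModule.mkLinearMap S P
  let φ' : LocalizedModule S P →ₗ[Localization S] Localization S :=
    LinearMap.extendScalarsOfIsLocalization S (Localization S)
      (IsLocalizedModule.map S f (Algebra.linearMap R (Localization S)) φ)
  have hφ' : ∀ z, φ' (f z) = algebraMap R (Localization S) (φ z) := by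
    intro z
    exact IsLocalizedModule.map_apply S f (Algebra.linearMap R (Localization S)) φ z
  have hr : finrank (Localization S) (LocalizedModule S P) = 1 := h ⟨J, inferInstance⟩
  have : Module.Free (Localization.AtPrime J) (LocalizedModule S P) :=
    Module.free_of_flat_of_isLocalRing
  let b := Module.finBasisOfFinrankEq (Localization S) (LocalizedModule S P) hr
  have hb : ∀ w : LocalizedModule S P, w = b.repr w 0 • b 0 := by
    intro w
    conv_lhs => rw [← b.sum_repr w]
    rw [Fin.sum_univ_one]
  change f (φ x • y - φ y • x) = 0
  rw [map_sub, map_smul, map_smul, sub_eq_zero, ← algebraMap_smul (Localization S) (φ x),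
    ← algebraMap_smul (Localization S) (φ y), ← hφ', ← hφ', hb (f x), hb (f y), map_smul, map_smul,
    smul_smul, smul_smul]
  congr 1
  simp only [smul_eq_mul]
  ring

theorem invertible_of_rank_one (h : ∀ x : PrimeSpectrum R, rankAtStalk (R := R) P x = 1) :
    Module.Invertible R P := by
  classical
  -- dual basis
  obtain ⟨n, s, hs⟩ := Module.Finite.exists_fin' R P
  obtain ⟨g, hg⟩ := Module.projective_lifting_property s LinearMap.id hs
  let X : Fin n → P := fun i => s (Pi.single i 1)
  let φ : Fin n → (P →ₗ[R] R) := fun i => (LinearMap.proj i).comp g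
  have hX : ∀ x : P, ∑ i, φ i x • X i = x := by
    intro x
    have h1 : s (g x) = x := DFunLike.congr_fun hg x
    conv_rhs => rw [← h1]
    rw [← (Pi.basisFun R (Fin n)).sum_repr (g x), map_sum]
    refine Finset.sum_congr rfl fun i _ => ?_
    rw [map_smul]
    simp [X, φ]
  let t : R := ∑ i, φ i (X i)
  have ht : ∀ y : P, t • y = y := by
    intro y
    rw [Finset.sum_smul]
    conv_rhs => rw [← hX y]
    exact Finset.sum_congr rfl fun i _ => smul_comm_of_rank_one h (φ i) (X i) y
  -- faithful
  have ht1 : t = 1 := by
    rw [← sub_eq_zero]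
    by_contra hne
    have hann : ∀ y : P, (t - 1) • y = 0 := fun y => by rw [sub_smul, ht, one_smul, sub_self]
    -- there is a maximal ideal containing the annihilator of `t - 1`
    apply hne
    apply Module.eq_zero_of_localization_maximal (fun (J : Ideal R) _ => LocalizedModule J.primeCompl R)
      (fun (J : Ideal R) _ => LocalizedModule.mkLinearMap J.primeCompl R)
    intro J hJ
    let S := J.primeCompl
    have hr : finrank (Localization S) (LocalizedModule S P) = 1 := h ⟨J, inferInstance⟩
    have : Module.Free (Localization.AtPrime J) (LocalizedModule S P) :=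
      Module.free_of_flat_of_isLocalRing
    let b := Module.finBasisOfFinrankEq (Localization S) (LocalizedModule S P) hr
    have h1 : algebraMap R (Localization S) (t - 1) • b 0 = 0 := by
      generalize b 0 = w
      induction w using LocalizedModule.induction_on with
      | _ y u =>
        rw [algebraMap_smul, LocalizedModule.smul'_mk, hann, LocalizedModule.zero_mk]
    have h2 : algebraMap R (Localization S) (t - 1) = 0 := by
      have := congrArg (fun w => b.repr w 0) h1
      simpa using this
    rw [IsLocalization.map_eq_zero_iff S] at h2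
    obtain ⟨c, hc⟩ := h2
    exact (IsLocalizedModule.eq_zero_iff S (LocalizedModule.mkLinearMap S R)).2 ⟨c, hc⟩
  -- the evaluation
  let ev : (P →ₗ[R] R) ⊗[R] P →ₗ[R] R := TensorProduct.lift LinearMap.id
  have hev : ∀ (ψ : P →ₗ[R] R) (y : P), ev (ψ ⊗ₜ y) = ψ y := fun ψ y => rfl
  have hinv : ∀ z : (P →ₗ[R] R) ⊗[R] P, (ev z) • (∑ i, φ i ⊗ₜ[R] X i) = z := by
    intro z
    induction z using TensorProduct.induction_on with
    | zero => rw [map_zero, zero_smul]
    | add x y hx hy => rw [map_add, add_smul, hx, hy]
    | tmul ψ y =>
      rw [hev, Finset.smul_sum]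
      have h1 : ∀ i, ψ y • (φ i ⊗ₜ[R] X i) = ψ ⊗ₜ[R] (φ i y • X i) := by
        intro i
        rw [← smul_tmul, smul_tmul']
        congr 1
        ext z
        have h2 := congrArg (φ i) (smul_comm_of_rank_one h ψ y z)
        simp only [map_smul, smul_eq_mul] at h2
        simp only [LinearMap.smul_apply, smul_eq_mul]
        rw [h2, mul_comm]
      rw [Finset.sum_congr rfl fun i _ => h1 i, ← tmul_sum, hX]
  have hbij : Function.Bijective ev := by
    constructor
    · intro z w hzw
      rw [← hinv z, ← hinv w, hzw]
    · intro r
      refine ⟨r • ∑ i, φ i ⊗ₜ[R] X i, ?_⟩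
      rw [map_smul, map_sum]
      simp only [hev]
      change r • t = r
      rw [ht1, smul_eq_mul, mul_one]
  exact .right (LinearEquiv.ofBijective ev hbij)

theorem free_of_rank_one [Subsingleton (CommRing.Pic R)]
    (h : ∀ x : PrimeSpectrum R, rankAtStalk (R := R) P x = 1) : Nonempty (P ≃ₗ[R] R) := by
  have := invertible_of_rank_one h
  have : Module.Free R P := inferInstance
  exact Module.Invertible.free_iff_linearEquiv.1 this

end Groth.Agent.Sga3B.InvRank136
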