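import Groth.Agent.Sga3B.CellBase
import Mathlib.RingTheory.AdjoinRoot
import Mathlib.RingTheory.Flat.FaithfullyFlat.Basic
import Mathlib.RingTheory.FinitePresentation
import Mathlib.LinearAlgebra.FreeModule.PID
import Mathlib.Algebra.Polynomial.Roots
import Mathlib.Algebra.Polynomial.Monic

/-!
# Torus points with prescribed values on a linearly independent family of characters

They exist after a faithfully flat extension of finite presentation of the base ring.
-/

set_option autoImplicit false
universe u

open Polynomial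

namespace Groth.Agent.Sga3B.TorusScale

open Cell

/-- adjoining a root of a unit -/
lemma exists_root {R : Type u} [CommRing R] [Nontrivial R] (c : Rˣ) (e : ℕ) (he : e ≠ 0) :
    ∃ (R' : Type u) (_ : CommRing R') (_ : Algebra R R'), Nontrivial R' ∧ Module.FaithfullyFlat R R' ∧
      Algebra.FinitePresentation R R' ∧ ∃ x : R'ˣ, x ^ e = Units.map (algebraMap R R' : R →* R') c := by
  let g : R[X] := X ^ e - C (c : R)
  have hg : g.Monic := monic_X_pow_sub_C _ he
  have hdeg : g.natDegree = e := natDegree_X_pow_sub_C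
  have : Module.Free R (AdjoinRoot g) := hg.free_adjoinRoot
  have hnt : Nontrivial (AdjoinRoot g) := by
    refine ⟨(AdjoinRoot.powerBasis' hg).basis ⟨0, ?_⟩, 0, Module.Basis.ne_zero _ _⟩
    rw [AdjoinRoot.powerBasis'_dim, hdeg]
    omega
  refine ⟨AdjoinRoot g, inferInstance, inferInstance, hnt, inferInstance, inferInstance, ?_⟩
  have h1 : (AdjoinRoot.root g) ^ e = algebraMap R (AdjoinRoot g) c := by
    have h2 := AdjoinRoot.eval₂_root g
    rw [eval₂_sub, eval₂_X_pow, eval₂_C, sub_eq_zero] at h2
    exact h2
  have h2 : IsUnit (AdjoinRoot.root g) := by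
    have h3 : IsUnit ((AdjoinRoot.root g) ^ e) := by
      rw [h1]
      exact c.isUnit.map _
    exact (isUnit_pow_iff he).mp h3
  refine ⟨h2.unit, ?_⟩
  ext
  simpa using h1

lemma exists_roots (n : ℕ) : ∀ {R : Type u} [CommRing R] [Nontrivial R] (c : Fin n → Rˣ) (e : Fin n → ℕ)
    (_ : ∀ i, e i ≠ 0),
    ∃ (R' : Type u) (_ : CommRing R') (_ : Algebra R R'), Nontrivial R' ∧ Module.FaithfullyFlat R R' ∧
      Algebra.FinitePresentation R R' ∧
        ∃ x : Fin n → R'ˣ, ∀ i, x i ^ e i = Units.map (algebraMap R R' : R →* R') (c i) := by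
  induction n with
  | zero =>
    intro R _ _ c e he
    exact ⟨R, inferInstance, inferInstance, inferInstance, inferInstance, inferInstance,
      fun i => i.elim0, fun i => i.elim0⟩
  | succ n ih =>
    intro R _ _ c e he
    obtain ⟨R₁, _, _, _, hff, hfp, x, hx⟩ := ih (fun i => c i.succ) (fun i => e i.succ) (fun i => he _)
    obtain ⟨R₂, _, _, _, hff', hfp', y, hy⟩ := exists_root (Units.map (algebraMap R R₁ : R →* R₁) (c 0)) (e 0) (he 0)
    let _ : Algebra R R₂ := ((algebraMap R₁ R₂).comp (algebraMap R R₁)).toAlgebra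
    have : IsScalarTower R R₁ R₂ := IsScalarTower.of_algebraMap_eq fun r => rfl
    refine ⟨R₂, inferInstance, inferInstance, inferInstance, Module.FaithfullyFlat.trans R R₁ R₂,
      Algebra.FinitePresentation.trans R R₁ R₂,
      Fin.cons y (fun i => Units.map (algebraMap R₁ R₂ : R₁ →* R₂) (x i)), ?_⟩
    intro i
    refine Fin.cases ?_ (fun j => ?_) i
    · rw [Fin.cons_zero, hy]
      rfl
    · rw [Fin.cons_succ, ← map_pow, hx]
      rfl

/-- a torus point with prescribed values on a linearly independent family -/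
theorem exists_torusPoint {R : Type u} [CommRing R] {M : Type} [AddCommGroup M] [Module.Free ℤ M]
    [Module.Finite ℤ M] {κ : Type} (v : κ → M) (hv : LinearIndependent ℤ v) (r : κ → Rˣ) :
    ∃ (R' : Type u) (_ : CommRing R') (_ : Algebra R R'), Module.FaithfullyFlat R R' ∧
      Algebra.FinitePresentation R R' ∧
        ∃ t : TPt M R', ∀ k, TPt.ch (v k) t = algebraMap R R' (r k) := by
  rcases subsingleton_or_nontrivial R with hR | hR
  · exact ⟨R, inferInstance, inferInstance, inferInstance, inferInstance, 1,
      fun k => Subsingleton.elim _ _⟩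
  · classical
    let N := Submodule.span ℤ (Set.range v)
    let bv : Module.Basis κ ℤ N := Module.Basis.span hv
    let ρ : N →ₗ[ℤ] Additive Rˣ := bv.constr ℤ (fun k => Additive.ofMul (r k))
    have hρ : ∀ k, ρ (bv k) = Additive.ofMul (r k) := fun k => bv.constr_basis ℤ _ k
    obtain ⟨n, bM, bN, f, a, snf⟩ := Submodule.smithNormalForm (Module.Free.chooseBasis ℤ M) N
    have ha : ∀ i, a i ≠ 0 := by
      intro i h0
      apply bN.ne_zero i
      apply Subtype.ext
      rw [snf, h0, zero_smul]
      rfl
    let c : Fin n → Rˣ := fun i => (ρ (bN i)).toMul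
    obtain ⟨R', _, _, _, hff, hfp, x, hx⟩ := exists_roots n (fun i => c i ^ (a i).sign)
      (fun i => (a i).natAbs) (fun i => Int.natAbs_ne_zero.mpr (ha i))
    let u : Rˣ →* R'ˣ := Units.map (algebraMap R R' : R →* R')
    have hx' : ∀ i, x i ^ (a i) = u (c i) := by
      intro i
      conv_lhs => rw [← Int.sign_mul_natAbs (a i), mul_comm, zpow_mul, zpow_natCast, hx]
      rw [map_zpow, ← zpow_mul]
      have : (a i).sign * (a i).sign = 1 := by
        rcases lt_or_gt_of_ne (ha i) with h | h
        · rw [Int.sign_eq_neg_one_of_neg h]; rfl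
        · rw [Int.sign_eq_one_of_pos h]; rfl
      rw [this, zpow_one]
    let τ : M →ₗ[ℤ] Additive R'ˣ := bM.constr ℤ (Function.extend f (fun i => Additive.ofMul (x i)) 0)
    have hτ : ∀ i, τ (bM (f i)) = Additive.ofMul (x i) := by
      intro i
      rw [bM.constr_basis, f.injective.extend_apply]
    have hτN : τ ∘ₗ N.subtype = (MonoidHom.toAdditive u).toIntLinearMap ∘ₗ ρ := by
      apply bN.ext
      intro i
      rw [LinearMap.comp_apply, Submodule.subtype_apply, snf, map_smul, hτ]
      change Additive.ofMul (x i ^ a i) = Additive.ofMul (u (c i))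
      rw [hx']
    refine ⟨R', inferInstance, inferInstance, hff, hfp, AddMonoidHom.toMultiplicativeLeft τ.toAddMonoidHom, ?_⟩
    intro k
    have h1 : τ (v k) = Additive.ofMul (u (r k)) := by
      have h2 := LinearMap.congr_fun hτN (bv k)
      rw [LinearMap.comp_apply, LinearMap.comp_apply, hρ, Submodule.subtype_apply, Module.Basis.span_apply] at h2
      exact h2
    change (((τ (v k)).toMul : R'ˣ) : R') = _
    rw [h1]
    rfl

end Groth.Agent.Sga3B.TorusScale
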