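import Groth.Agent.Sga3B.IsoFam
import Groth.Agent.Sga3B.IsomComb
import Groth.Agent.Sga3B.TorusScale
import Groth.Agent.Sga3B.GaPts
import Groth.Prelude.Def_Red2

/-!
# Closing argument for `Isom` of pinned groups (S2991)

Families of isomorphisms `ψ : G ⊗ V ⟶ G'` between two pinned groups; their torus part and root part.
-/

set_option autoImplicit false
open CategoryTheory MonoidalCategory CartesianMonoidalCategory MonObj GrpObj AlgebraicGeometry
universe u

namespace Groth.Agent.Sga3B.IsomCore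

open DSPts GaPts IsoFam

variable {S : Scheme.{u}} {G G' : Over S} [GrpObj G] [GrpObj G']

section torus

variable (D : Red.SplitRed G)

/-- the torus of a splitting, from `D_S(M)` -/
noncomputable def dT {X : Over S} (t : X ⟶ Red.DS S D.M) : X ⟶ G := t ≫ D.split.inv.hom.hom ≫ D.i

lemma comp_dT {X X' : Over S} (h : X' ⟶ X) (t : X ⟶ Red.DS S D.M) : h ≫ dT D t = dT D (h ≫ t) := by
  rw [dT, dT, Category.assoc]

lemma dT_mul {X : Over S} (t t' : X ⟶ Red.DS S D.M) : dT D (t * t') = dT D t * dT D t' := by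
  have := D.maximalTorus.1
  rw [dT, mul_comp]
  rfl

lemma inv_hom_id : D.split.inv.hom.hom ≫ D.split.hom.hom.hom = 𝟙 _ :=
  congrArg (fun k => k.hom.hom) D.split.inv_hom_id

lemma hom_inv_id : D.split.hom.hom.hom ≫ D.split.inv.hom.hom = 𝟙 _ :=
  congrArg (fun k => k.hom.hom) D.split.hom_inv_id

lemma dT_hom {X : Over S} (t : X ⟶ D.T) : dT D (t ≫ D.split.hom.hom.hom) = t ≫ D.i := by
  rw [dT, Category.assoc, ← Category.assoc D.split.hom.hom.hom, hom_inv_id, Category.id_comp]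

lemma dT_injective {X : Over S} : Function.Injective (dT D (X := X)) := by
  intro t t' h
  have := D.maximalTorus.2.1
  rw [dT, dT, ← Category.assoc, ← Category.assoc, cancel_mono] at h
  rw [← Category.comp_id t, ← Category.comp_id t', ← inv_hom_id, ← Category.assoc, h, Category.assoc]

end torus

section weyl

variable (D : Red.SplitRed G)

/-- `n` acts on the torus through `φ` -/
def Acts (n : 𝟙_ (Over S) ⟶ G) (φ : D.M →+ D.M) : Prop :=
  ∀ (X : Over S) (t : X ⟶ Red.DS S D.M), (toUnit X ≫ n) * dT D t * (toUnit X ≫ n)⁻¹ =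
    dT D (t ≫ Red.DSmap S φ)

lemma DSmap_comp {S : Scheme.{u}} {M N L : Type} [AddCommGroup M] [AddCommGroup N] [AddCommGroup L]
    (φ : M →+ N) (ψ : N →+ L) {X : Over S} (t : X ⟶ Red.DS S L) :
    (t ≫ Red.DSmap S ψ) ≫ Red.DSmap S φ = t ≫ Red.DSmap S (ψ.comp φ) := by
  apply (dsEquiv X M).symm.injective
  change dsChar _ = dsChar _
  rw [dsChar_DSmap, dsChar_DSmap, dsChar_DSmap]
  rfl

lemma DSmap_id {S : Scheme.{u}} {M : Type} [AddCommGroup M] {X : Over S} (t : X ⟶ Red.DS S M) :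
    t ≫ Red.DSmap S (AddMonoidHom.id M) = t := by
  apply (dsEquiv X M).symm.injective
  change dsChar _ = dsChar _
  rw [dsChar_DSmap]
  rfl

lemma Acts.one : Acts D 1 (AddMonoidHom.id D.M) := by
  intro X t
  rw [DSmap_id, MonObj.comp_one]
  simp

lemma Acts.mul {n n' : 𝟙_ (Over S) ⟶ G} {φ φ' : D.M →+ D.M} (h : Acts D n φ) (h' : Acts D n' φ') :
    Acts D (n * n') (φ'.comp φ) := by
  intro X t
  rw [MonObj.comp_mul]
  have h1 := h' X t
  have h2 := h X (t ≫ Red.DSmap S φ')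
  rw [DSmap_comp] at h2
  rw [← h2, ← h1]
  group

lemma Acts.inv {n : 𝟙_ (Over S) ⟶ G} {φ φ' : D.M →+ D.M} (h : Acts D n φ)
    (h' : φ'.comp φ = AddMonoidHom.id _) : Acts D n⁻¹ φ' := by
  intro X t
  have h1 := h X (t ≫ Red.DSmap S φ')
  rw [DSmap_comp, h', DSmap_id] at h1
  rw [GrpObj.comp_inv, _root_.inv_inv, ← h1]
  group

lemma weyl_induction {κ M : Type} [AddCommGroup M] {P : RootPairing κ ℤ M (Module.Dual ℤ M)}
    (W : (M →+ M) → Prop) (h1 : W (AddMonoidHom.id M)) (h2 : ∀ φ φ', W φ → W φ' → W (φ'.comp φ))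
    (h3 : ∀ a, W (P.reflection a).toLinearMap.toAddMonoidHom) (w : P.Aut) (hw : w ∈ P.weylGroup) :
    W w.weightMap.toAddMonoidHom := by
  refine RootPairing.weylGroup.induction P (pred := fun w _ => W w.weightMap.toAddMonoidHom) ?_ ?_ ?_ hw
  · intro i
    exact h3 i
  · exact h1
  · intro x y _ _ hx hy
    exact h2 _ _ hy hx

/-- the Weyl group is realised by points normalising the torus -/
theorem exists_acts (w : D.P.Aut) (hw : w ∈ D.P.weylGroup) :
    ∃ n : 𝟙_ (Over S) ⟶ G, Acts D n w.weightMap.toAddMonoidHom := by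
  refine weyl_induction (fun φ => ∃ n : 𝟙_ (Over S) ⟶ G, Acts D n φ) ?_ ?_ ?_ w hw
  · exact ⟨1, Acts.one D⟩
  · rintro φ φ' ⟨n, hn⟩ ⟨n', hn'⟩
    exact ⟨n * n', Acts.mul D hn hn'⟩
  · intro a
    obtain ⟨n, hn⟩ := D.refl a
    refine ⟨n, fun X t => ?_⟩
    have h1 := hn X (t ≫ D.split.inv.hom.hom)
    have e1 : (t ≫ D.split.inv.hom.hom) ≫ D.i = dT D t := by rw [dT, Category.assoc]
    have e2 : (t ≫ D.split.inv.hom.hom) ≫ D.split.hom.hom.hom ≫
        Red.DSmap S (D.P.reflection a).toLinearMap.toAddMonoidHom ≫ D.split.inv.hom.hom ≫ D.i =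
        dT D (t ≫ Red.DSmap S (D.P.reflection a).toLinearMap.toAddMonoidHom) := by
      rw [dT, Category.assoc, Category.assoc, ← Category.assoc D.split.inv.hom.hom, inv_hom_id,
        Category.id_comp]
    rw [e1, e2] at h1
    exact h1

end weyl

end Groth.Agent.Sga3B.IsomCore
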