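import Groth.Agent.Sga3B.IsomDefs
import Groth.Agent.Sga3B.IsomU

/-!
# `Isom` of two pinned groups: the inputs (h0), (h1) of `AdCentre.exists_representsIsom`
-/

set_option autoImplicit false
open CategoryTheory MonoidalCategory CartesianMonoidalCategory MonObj GrpObj AlgebraicGeometry
universe u

namespace Groth.Agent.Sga3B.IsomLocal

open DSPts GaPts IsoFam IsomCore IsomDefs

section lemmas

variable {S : Scheme.{u}} {G G' : Over S} [GrpObj G] [GrpObj G']

lemma dT_conj_u (D : Red.SplitRed G) {X : Over S} (t : X ⟶ Red.DS S D.M) (a : D.idx) (y z : X ⟶ Red.Ga S)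
    (h : Red.gaFn z = dsChar t (Multiplicative.ofAdd (D.P.root a)) * Red.gaFn y) :
    dT D t * (y ≫ D.u a) * (dT D t)⁻¹ = z ≫ D.u a := by
  obtain ⟨z', h1, h2⟩ := (D.rootHom a).2.2 X (t ≫ D.split.inv.hom.hom) y
  have e1 : (t ≫ D.split.inv.hom.hom) ≫ D.split.hom.hom.hom ≫ Red.chi S (D.P.root a) =
      t ≫ Red.chi S (D.P.root a) := by
    rw [Category.assoc, ← Category.assoc D.split.inv.hom.hom, inv_hom_id, Category.id_comp]
  rw [e1, gmFn_chi, ← h] at h2
  have e2 : (t ≫ D.split.inv.hom.hom) ≫ D.i = dT D t := by rw [dT, Category.assoc]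
  rw [e2] at h1
  rw [← h1, gaFn_injective X h2]

/-- restriction of families -/
lemma TorPart.pull {D : Red.SplitRed G} {D' : Red.SplitRed G'} {θ : D'.M →+ D.M} {V V' : Over S}
    {ψ : G ⊗ V ⟶ G'} (h : TorPart D D' θ ψ) (v : V' ⟶ V) : TorPart D D' θ ((G ◁ v) ≫ ψ) := by
  intro X x t
  rw [← Category.assoc, lift_whiskerLeft]
  exact h X (x ≫ v) t

lemma pull_conjFam {V V' : Over S} (v : V' ⟶ V) (g : V ⟶ G') (φ : G ⊗ V ⟶ G') :
    (G ◁ v) ≫ conjFam g φ = conjFam (v ≫ g) ((G ◁ v) ≫ φ) := by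
  apply fam_ext
  intro X x y
  rw [← Category.assoc, lift_whiskerLeft, lift_conjFam, lift_conjFam, Category.assoc, ← Category.assoc (lift y x),
    lift_whiskerLeft]

lemma conjFam_conjFam {V : Over S} (g h : V ⟶ G') (φ : G ⊗ V ⟶ G') :
    conjFam h (conjFam g φ) = conjFam (h * g) φ := by
  apply fam_ext
  intro X x y
  rw [lift_conjFam, lift_conjFam, lift_conjFam, MonObj.comp_mul]
  group

lemma TorPart.conj_acts {D : Red.SplitRed G} {D' : Red.SplitRed G'} {θ : D'.M →+ D.M} {V : Over S}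
    {ψ : G ⊗ V ⟶ G'} (h : TorPart D D' θ ψ) {n : 𝟙_ (Over S) ⟶ G'} {φ : D'.M →+ D'.M}
    (hn : Acts D' n φ) : TorPart D D' (θ.comp φ) (conjFam (toUnit V ≫ n) ψ) := by
  intro X x t
  rw [lift_conjFam, h, ← Category.assoc]
  have : x ≫ toUnit V = toUnit X := toUnit_unique _ _
  rw [this, hn, DSmap_comp]

lemma TorPart.conj_torus {D : Red.SplitRed G} {D' : Red.SplitRed G'} {θ : D'.M →+ D.M} {V : Over S}
    {ψ : G ⊗ V ⟶ G'} (h : TorPart D D' θ ψ) (τ : V ⟶ Red.DS S D'.M) :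
    TorPart D D' θ (conjFam (dT D' τ) ψ) := by
  intro X x t
  rw [lift_conjFam, h, comp_dT, ← dT_mul, mul_inv_eq_iff_eq_mul, ← dT_mul]
  congr 1
  apply (dsEquiv X D'.M).symm.injective
  change dsChar _ = dsChar _
  rw [dsChar_mul, dsChar_mul, mul_comm]

end lemmas

section main

variable {S : Scheme.{u}} {G G' : Over S} [GrpObj G] [GrpObj G'] (D : Red.Pinning G) (D' : Red.Pinning G')

/-- equivalences of root data respecting the bases -/
def BaseEquiv : Type :=
  {e : RootPairing.Equiv D'.P D.P // ∀ a', a' ∈ D'.base.support ↔ e.indexEquiv a' ∈ D.base.support}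

/-- Step A: torus part with an equivalence respecting the bases. -/
theorem stepA (hA : HaStmt D.toSplitRed D'.toSplitRed) (hB : HbStmt D.toSplitRed D'.toSplitRed)
    (X : Over S) (φ : G ⊗ X ⟶ G') (hφ : AutFam.IsIsoFamily G G' φ) (x : X.left) :
    ∃ (V : Over S) (v : V ⟶ X) (_ : Flat v.left) (_ : LocallyOfFinitePresentation v.left)
      (_ : x ∈ Set.range v.left) (g : V ⟶ G') (e : BaseEquiv D D'),
        TorPart D.toSplitRed D'.toSplitRed e.1.weightMap.toAddMonoidHom (conjFam g ((G ◁ v) ≫ φ)) := by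
  obtain ⟨V, v, hv1, hv2, ⟨y, hy⟩, g, θ, hθ⟩ := hA X φ hφ x
  obtain ⟨e₀, he₀⟩ := hB V ⟨y⟩ _ (isIsoFamily_conjFam g (isIsoFamily_pull hφ v)) θ hθ
  obtain ⟨w, hw, hm⟩ := IsomComb.exists_match e₀ D'.base D.base
  obtain ⟨n, hn⟩ := exists_acts D'.toSplitRed w hw
  refine ⟨V, v, hv1, hv2, ⟨y, hy⟩, (toUnit V ≫ n) * g, ⟨RootPairing.Equiv.comp e₀ w, hm⟩, ?_⟩
  have h1 := TorPart.conj_acts hθ hn
  rw [conjFam_conjFam] at h1
  have h2 : (RootPairing.Equiv.comp e₀ w).weightMap.toAddMonoidHom =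
      θ.comp w.weightMap.toAddMonoidHom := by
    ext m
    exact he₀ _
  rw [h2]
  exact h1

/-- Step B: the parameter scheme is affine. -/
theorem stepB (hA : HaStmt D.toSplitRed D'.toSplitRed) (hB : HbStmt D.toSplitRed D'.toSplitRed)
    (X : Over S) (φ : G ⊗ X ⟶ G') (hφ : AutFam.IsIsoFamily G G' φ) (x : X.left) :
    ∃ (R : Type u) (_ : CommRing R) (s : Spec (CommRingCat.of R) ⟶ S) (v : Over.mk s ⟶ X)
      (_ : Flat v.left) (_ : LocallyOfFinitePresentation v.left)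
      (_ : x ∈ Set.range v.left) (g : Over.mk s ⟶ G') (e : BaseEquiv D D'),
        TorPart D.toSplitRed D'.toSplitRed e.1.weightMap.toAddMonoidHom (conjFam g ((G ◁ v) ≫ φ)) := by
  obtain ⟨V, v, hv1, hv2, ⟨y, hy⟩, g, e, h⟩ := stepA D D' hA hB X φ hφ x
  obtain ⟨R, f, hf, ⟨z, hz⟩, -⟩ := Scheme.exists_affine_mem_range_and_range_subset (U := ⊤) (x := y) trivial
  let w : Over.mk (f ≫ V.hom) ⟶ V := Over.homMk f
  have hw : w.left = f := rfl
  refine ⟨R, inferInstance, f ≫ V.hom, w ≫ v, ?_, ?_, ⟨z, ?_⟩, w ≫ g, e, ?_⟩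
  · rw [Over.comp_left, hw]; infer_instance
  · rw [Over.comp_left, hw]; infer_instance
  · rw [Over.comp_left, hw, Scheme.Hom.comp_apply, hz, hy]
  · have h1 := TorPart.pull h w
    rw [pull_conjFam, ← Category.assoc, ← MonoidalCategory.whiskerLeft_comp] at h1
    exact h1

/-- Step C/D: scaling of the simple root vectors. -/
theorem stepD (hA : HaStmt D.toSplitRed D'.toSplitRed) (hB : HbStmt D.toSplitRed D'.toSplitRed)
    (hD : HdStmt D.toSplitRed D'.toSplitRed)
    (X : Over S) (φ : G ⊗ X ⟶ G') (hφ : AutFam.IsIsoFamily G G' φ) (x : X.left) :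
    ∃ (R : Type u) (_ : CommRing R) (s : Spec (CommRingCat.of R) ⟶ S) (v : Over.mk s ⟶ X)
      (_ : Flat v.left) (_ : LocallyOfFinitePresentation v.left)
      (_ : x ∈ Set.range v.left) (g : Over.mk s ⟶ G') (e : BaseEquiv D D'),
        TorPart D.toSplitRed D'.toSplitRed e.1.weightMap.toAddMonoidHom (conjFam g ((G ◁ v) ≫ φ)) ∧
        ∀ a' ∈ D'.base.support, ∀ (X' : Over S) (x' : X' ⟶ Over.mk s) (y : X' ⟶ Red.Ga S),
          lift (y ≫ D.u (e.1.indexEquiv a')) x' ≫ conjFam g ((G ◁ v) ≫ φ) = y ≫ D'.u a' := by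
  obtain ⟨R, _, s, v, hv1, hv2, ⟨y, hy⟩, g, e, h⟩ := stepB D D' hA hB X φ hφ x
  choose r hr using hD R s _ (isIsoFamily_conjFam g (isIsoFamily_pull hφ v)) e.1 h
  -- the units in `R`
  let κ : Γ((Over.mk s).left, ⊤) →+* R := (Scheme.ΓSpecIso (CommRingCat.of R)).hom.hom
  let r' : D'.idx → Rˣ := fun a => Units.map (κ : _ →* R) (r a)
  obtain ⟨R', _, _, hff, hfp, t, ht⟩ := TorusScale.exists_torusPoint
    (fun k : D'.base.support => D'.P.root k) D'.base.linearIndepOn_root (fun k => (r' k)⁻¹)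
  let j : Spec (CommRingCat.of R') ⟶ Spec (CommRingCat.of R) := Spec.map (CommRingCat.ofHom (algebraMap R R'))
  let w : Over.mk (j ≫ s) ⟶ Over.mk s := Over.homMk j
  have hw : w.left = j := rfl
  -- the torus point
  let ι' : R' →+* Γ(Spec (CommRingCat.of R'), ⊤) := (Scheme.ΓSpecIso (CommRingCat.of R')).inv.hom
  let χ : Multiplicative D'.M →* Γ((Over.mk (j ≫ s)).left, ⊤) :=
    (ι' : R' →* Γ(Spec (CommRingCat.of R'), ⊤)).comp ((Units.coeHom R').comp t)
  let τ : Over.mk (j ≫ s) ⟶ Red.DS S D'.M := dsEquiv _ _ χ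
  have hτ : ∀ k ∈ D'.base.support, dsChar τ (Multiplicative.ofAdd (D'.P.root k)) *
      w.left.appTop (r k : Γ((Over.mk s).left, ⊤)) = 1 := by
    intro k hk
    have h1 : dsChar τ (Multiplicative.ofAdd (D'.P.root k)) = ι' (algebraMap R R' ((r' k)⁻¹ : Rˣ)) := by
      rw [dsChar_dsEquiv]
      exact congrArg ι' (ht ⟨k, hk⟩)
    have h2 : w.left.appTop (r k : Γ((Over.mk s).left, ⊤)) = ι' (algebraMap R R' (r' k : R)) := by
      have h3 : (r k : Γ((Over.mk s).left, ⊤)) = (Scheme.ΓSpecIso (CommRingCat.of R)).inv.hom (κ (r k)) := by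
        have := congr($((Scheme.ΓSpecIso (CommRingCat.of R)).hom_inv_id).hom (r k : Γ((Over.mk s).left, ⊤)))
        exact this.symm
      have h4 := congr($(Scheme.ΓSpecIso_inv_naturality (CommRingCat.ofHom (algebraMap R R'))).hom (κ (r k)))
      rw [h3]
      exact h4.symm
    rw [h1, h2, ← map_mul, ← map_mul, Units.inv_mul, map_one, map_one]
  have hψ : conjFam (dT D'.toSplitRed τ * (w ≫ g)) ((G ◁ (w ≫ v)) ≫ φ) =
      conjFam (dT D'.toSplitRed τ) ((G ◁ w) ≫ conjFam g ((G ◁ v) ≫ φ)) := by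
    rw [pull_conjFam, conjFam_conjFam, MonoidalCategory.whiskerLeft_comp, Category.assoc]
  refine ⟨R', inferInstance, j ≫ s, w ≫ v, ?_, ?_, ?_, dT D'.toSplitRed τ * (w ≫ g), e, ?_, ?_⟩
  · have : Flat j := by
      rw [HasRingHomProperty.Spec_iff (P := @Flat)]
      exact (RingHom.flat_algebraMap_iff).mpr inferInstance
    rw [Over.comp_left, hw]; infer_instance
  · have : LocallyOfFinitePresentation j := by
      rw [HasRingHomProperty.Spec_iff (P := @LocallyOfFinitePresentation)]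
      exact RingHom.finitePresentation_algebraMap.mpr hfp
    rw [Over.comp_left, hw]; infer_instance
  · obtain ⟨z, hz⟩ := PrimeSpectrum.comap_surjective_of_faithfullyFlat (A := R) (B := R') y
    refine ⟨z, ?_⟩
    rw [Over.comp_left, hw, Scheme.Hom.comp_apply]
    have : j z = y := hz
    rw [this, hy]
  · rw [hψ]
    exact TorPart.conj_torus (TorPart.pull h w) τ
  · intro a' ha' X' x' y
    rw [hψ, lift_conjFam, ← Category.assoc, lift_whiskerLeft,
      hr a' X' (x' ≫ w) y (gaPt X' ((x' ≫ w).left.appTop (r a' : Γ((Over.mk s).left, ⊤)) * Red.gaFn y))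
        (gaFn_gaPt _ _), comp_dT]
    apply dT_conj_u
    rw [gaFn_gaPt, dsChar_comp]
    have h5 : (x' ≫ w).left.appTop (r a' : Γ((Over.mk s).left, ⊤)) =
        x'.left.appTop (w.left.appTop (r a' : Γ((Over.mk s).left, ⊤))) := by
      rw [Over.comp_left, Scheme.Hom.comp_appTop]
      rfl
    rw [h5, ← _root_.mul_assoc]
    have h6 : ((x'.left.appTop.hom : _ →* _).comp (dsChar τ)) (Multiplicative.ofAdd (D'.P.root a')) *
        x'.left.appTop (w.left.appTop (r a' : Γ((Over.mk s).left, ⊤))) = 1 := by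
      have := congrArg (fun z => x'.left.appTop.hom z) (hτ a' ha')
      simpa using this
    rw [h6, _root_.one_mul]

end main

section fe

variable {S : Scheme.{u}} {G G' : Over S} [GrpObj G] [GrpObj G'] (D : Red.Pinning G) (D' : Red.Pinning G')

/-- The characterising property of the isomorphism attached to an equivalence of pinned root data (S3004). -/
def FeProp (e : BaseEquiv D D') (f : Grp.mk G ≅ Grp.mk G') : Prop :=
  (∀ (X : Over S) (t : X ⟶ Red.DS S D.M), dT D.toSplitRed t ≫ f.hom.hom.hom =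
    dT D'.toSplitRed (t ≫ Red.DSmap S e.1.weightMap.toAddMonoidHom)) ∧
  ∀ a' ∈ D'.base.support, D.u (e.1.indexEquiv a') ≫ f.hom.hom.hom = D'.u a'

lemma isIsoFamily_const {V : Over S} (f : Grp.mk G ≅ Grp.mk G') :
    AutFam.IsIsoFamily G G' (fst G V ≫ f.hom.hom.hom) := by
  have e1 : f.hom.hom.hom ≫ f.inv.hom.hom = 𝟙 _ := congrArg (fun k => k.hom.hom) f.hom_inv_id
  have e2 : f.inv.hom.hom ≫ f.hom.hom.hom = 𝟙 _ := congrArg (fun k => k.hom.hom) f.inv_hom_id
  refine ⟨?_, fst G' V ≫ f.inv.hom.hom, ?_, ?_⟩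
  · intro X g₁ g₂ t
    rw [← Category.assoc, ← Category.assoc, ← Category.assoc, lift_fst, lift_fst, lift_fst, mul_comp]
  · intro X g t
    rw [← Category.assoc, lift_fst, ← Category.assoc, lift_fst, Category.assoc, e1, Category.comp_id]
  · intro X g t
    rw [← Category.assoc, lift_fst, ← Category.assoc, lift_fst, Category.assoc, e2, Category.comp_id]

/-- (h1) of `AdCentre.exists_representsIsom` -/
theorem h1_of (hA : HaStmt D.toSplitRed D'.toSplitRed) (hB : HbStmt D.toSplitRed D'.toSplitRed)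
    (hD : HdStmt D.toSplitRed D'.toSplitRed) (hE : HeStmt D G')
    (f : BaseEquiv D D' → (Grp.mk G ≅ Grp.mk G')) (hf : ∀ e, FeProp D D' e (f e))
    (X : Over S) (φ : G ⊗ X ⟶ G') (hφ : AutFam.IsIsoFamily G G' φ) (x : X.left) :
    ∃ (V : Over S) (v : V ⟶ X) (_ : Flat v.left) (_ : LocallyOfFinitePresentation v.left)
      (_ : x ∈ Set.range v.left) (e : BaseEquiv D D') (g : V ⟶ G'),
        ∀ (X' : Over S) (x' : X' ⟶ V) (y : X' ⟶ G),
          lift y (x' ≫ v) ≫ φ = (x' ≫ g) * (y ≫ (f e).hom.hom.hom) * (x' ≫ g)⁻¹ := by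
  obtain ⟨R, _, s, v, hv1, hv2, hv3, g, e, h1, h2⟩ := stepD D D' hA hB hD X φ hφ x
  have key : conjFam g ((G ◁ v) ≫ φ) = fst G (Over.mk s) ≫ (f e).hom.hom.hom := by
    refine hE R s _ _ (isIsoFamily_conjFam g (isIsoFamily_pull hφ v)) (isIsoFamily_const (f e)) ?_ ?_
    · intro X' x' t
      rw [h1, ← Category.assoc, lift_fst, (hf e).1]
    · intro a ha X' x' y
      obtain ⟨a', rfl⟩ := e.1.indexEquiv.surjective a
      rw [h2 a' ((e.2 a').mpr ha), ← Category.assoc, lift_fst, Category.assoc, (hf e).2 a' ((e.2 a').mpr ha)]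
  refine ⟨_, v, hv1, hv2, hv3, e, g⁻¹, ?_⟩
  intro X' x' y
  have h3 := congrArg (fun k => lift y x' ≫ k) key
  simp only at h3
  rw [lift_conjFam, ← Category.assoc, lift_whiskerLeft, ← Category.assoc (lift y x'), lift_fst] at h3
  rw [GrpObj.comp_inv, ← h3]
  group

/-- (h0) of `AdCentre.exists_representsIsom` -/
theorem h0_of (h0 : H0Stmt D'.toSplitRed)
    (f : BaseEquiv D D' → (Grp.mk G ≅ Grp.mk G')) (hf : ∀ e, FeProp D D' e (f e))
    (e e' : BaseEquiv D D') (X : Over S) (hX : Nonempty X.left) (g : X ⟶ G')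
    (hg : ∀ (X' : Over S) (x : X' ⟶ X) (y : X' ⟶ G),
        (x ≫ g) * (y ≫ (f e).hom.hom.hom) * (x ≫ g)⁻¹ = y ≫ (f e').hom.hom.hom) : e = e' := by
  obtain ⟨p⟩ := hX
  let K : Type u := AlgebraicClosure (X.left.residueField p)
  let s : Spec (CommRingCat.of K) ⟶ X.left := Red.geomPt p
  let x : Over.mk (s ≫ X.hom) ⟶ X := Over.homMk s
  obtain ⟨lam, hlam, hlam'⟩ := IsomU.exists_height D'.base
  let W := RootPairing.Equiv.weightEquiv D'.P D.P e.1
  let w : D'.M →+ D'.M := (W.symm : D.M →+ D'.M).comp (e'.1.weightMap.toAddMonoidHom)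
  have hw : ∀ m, e.1.weightMap (w m) = e'.1.weightMap m := fun m =>
    RootPairing.Equiv.weightMap_weightEquiv_symm D'.P D.P e.1 _
  have hroot : ∀ a, w (D'.P.root a) = D'.P.root (e.1.indexEquiv.symm (e'.1.indexEquiv a)) := by
    intro a
    apply e.1.bijective_weightMap.1
    rw [hw, RootPairing.Hom.root_weightMap_apply, RootPairing.Hom.root_weightMap_apply, Equiv.apply_symm_apply]
  have h1 := h0 K (s ≫ X.hom) (x ≫ g) w lam hlam (hlam' w (fun a ha => ⟨_, by
    rw [e.2, Equiv.apply_symm_apply, ← e'.2]; exact ha, hroot a⟩)) ?_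
  · apply Subtype.ext
    apply IsomComb.equiv_ext
    intro m
    rw [← hw, h1]
  · intro X' x' t
    let t₀ : X' ⟶ Red.DS S D.M := t ≫ Red.DSmap S (W.symm : D.M →+ D'.M)
    have ht : t = t₀ ≫ Red.DSmap S e.1.weightMap.toAddMonoidHom := by
      rw [DSmap_comp]
      have : (W.symm : D.M →+ D'.M).comp e.1.weightMap.toAddMonoidHom = AddMonoidHom.id _ := by
        ext m
        exact RootPairing.Equiv.weightEquiv_symm_weightMap D'.P D.P e.1 m
      rw [this, DSmap_id]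
    have h2 := hg X' (x' ≫ x) (dT D.toSplitRed t₀)
    rw [(hf e).1, (hf e').1, ← ht, DSmap_comp, Category.assoc] at h2
    exact h2

end fe

end Groth.Agent.Sga3B.IsomLocal
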