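import Groth.Agent.Sga3B.IsomLocal
import Groth.Agent.Sga3B.AdCentre
import Groth.Agent.Sga3B.BorSpan613
import Groth.Agent.S3004
import Groth.Agent.S2962

/-!
# Local representability of `Isom` of pinned groups from the five inputs
-/

set_option autoImplicit false
open CategoryTheory MonoidalCategory CartesianMonoidalCategory MonObj GrpObj AlgebraicGeometry
universe u

namespace Groth.Agent.Sga3B.IsomLocal2

open DSPts GaPts IsoFam IsomCore IsomDefs IsomLocal

section fe

variable {S : Scheme.{u}} {G G' : Over S} [GrpObj G] [GrpObj G'] (D : Red.Pinning G) (D' : Red.Pinning G')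

/-- existence of the isomorphisms of S3004 -/
theorem exists_fe [Nonempty S] (e : BaseEquiv D D') : ∃ f : Grp.mk G ≅ Grp.mk G', FeProp D D' e f := by
  obtain ⟨f, ⟨hf1, hf2, hf3⟩, -⟩ := Groth.Agent.S3004.result S G G' D D' e.1 e.2
  have := hf1
  refine ⟨Grp.mkIso' f, ?_, ?_⟩
  · intro X t
    have h1 : (t ≫ D.split.inv.hom.hom) ≫ (D.i ≫ f.hom) = (t ≫ D.split.inv.hom.hom) ≫
        (D.split.hom.hom.hom ≫ Red.DSmap S e.1.weightMap.toAddMonoidHom ≫ D'.split.inv.hom.hom ≫ D'.i) := by
      rw [hf2]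
    have h2 : dT D.toSplitRed t ≫ f.hom = (t ≫ D.split.inv.hom.hom) ≫ (D.i ≫ f.hom) := by
      simp only [dT, Category.assoc]
    change dT D.toSplitRed t ≫ f.hom = _
    rw [h2, h1, dT, Category.assoc, Category.assoc, ← Category.assoc D.split.inv.hom.hom,
      IsomCore.inv_hom_id D.toSplitRed, Category.id_comp]
  · intro a' ha'
    exact hf3 a' ha'

end fe

/-- in the semisimple case the roots span rationally -/
theorem eq_zero_of_semisimple {S : Scheme.{u}} [Nonempty S] {G : Over S} [GrpObj G] (D : Red.SplitRed G)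
    (hG : Red.IsSemisimple G) (lam : D.M →+ ℤ) (h : ∀ a, lam (D.P.root a) = 0) : lam = 0 := by
  ext m
  obtain ⟨n, hn, hm⟩ := BorSpan613.exists_zsmul_mem_span D hG (fun X t ht h => by
    have := (Groth.Agent.S2962.result D X (t ≫ D.i)).mpr ⟨t, rfl, ht⟩ X (𝟙 X) h
    rwa [Category.id_comp] at this) m
  have h1 : ∀ x ∈ Submodule.span ℤ (Set.range D.P.root), lam x = 0 := by
    intro x hx
    refine Submodule.span_induction (p := fun x _ => lam x = 0) ?_ (map_zero _) ?_ ?_ hx
    · rintro _ ⟨a, rfl⟩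
      exact h a
    · intro x y _ _ hx hy
      rw [map_add, hx, hy, add_zero]
    · intro c x _ hx
      rw [map_zsmul, hx, smul_zero]
  have h2 := h1 _ hm
  rw [map_zsmul, smul_eq_mul] at h2
  simpa [hn] using h2

/-- **Local representability of `Isom`** from the five inputs. -/
theorem local_isom_of (R : Type u) [CommRing R] [Nontrivial R] {G G' : Over (Spec (CommRingCat.of R))}
    [GrpObj G] [GrpObj G'] (D : Red.Pinning G) (D' : Red.Pinning G')
    (hA : HaStmt D.toSplitRed D'.toSplitRed) (hB : HbStmt D.toSplitRed D'.toSplitRed)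
    (hD : HdStmt D.toSplitRed D'.toSplitRed) (hE : HeStmt D G') (h0 : H0Stmt D'.toSplitRed) :
    ∃ (A : Over (Spec (CommRingCat.of R))) (υ : G ⊗ A ⟶ G'), AutFam.RepresentsIsom G G' A υ ∧
      Smooth A.hom ∧ IsSeparated A.hom ∧
      (∀ U : A.left.Opens, IsCompact (U : Set A.left) → ∃ V : A.left.Opens, U ≤ V ∧ IsAffineOpen V) ∧
      (Red.IsSemisimple G ∨ Red.IsSemisimple G' → IsAffineHom A.hom) := by
  have hne : Nonempty (Spec (CommRingCat.of R)) := inferInstance
  choose f hf using exists_fe D D'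
  obtain ⟨A, υ, h1, h2, h3, h4, h5⟩ := AdCentre.exists_representsIsom D'.toSplitRed
    (Groth.Agent.S2962.result D'.toSplitRed) (ULift.{u} (BaseEquiv D D')) (fun e => f e.down)
    (fun e e' X hX g hg => ULift.ext _ _ (h0_of D D' h0 f hf e.down e'.down X hX g hg))
    (fun X φ hφ x => by
      obtain ⟨V, v, h1, h2, h3, e, g, h4⟩ := h1_of D D' hA hB hD hE f hf X φ hφ x
      exact ⟨V, v, h1, h2, h3, ⟨e⟩, g, h4⟩)
  refine ⟨A, υ, h1, h2, h3, fun U hU => ?_, fun h => h5 ?_⟩
  · obtain ⟨V, hV1, hV2, -⟩ := h4 U hU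
    exact ⟨V, hV1, hV2⟩
  · have : Finite (RootPairing.Equiv D'.P D.P) := by
      rcases h with h | h
      · exact IsomComb.finite_equiv' (eq_zero_of_semisimple D.toSplitRed h)
      · exact IsomComb.finite_equiv (eq_zero_of_semisimple D'.toSplitRed h)
    have : Finite (BaseEquiv D D') := Subtype.finite
    infer_instance

end Groth.Agent.Sga3B.IsomLocal2
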