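import Groth.Agent.Sga3B.BcPts
import Groth.Agent.Sga3B.IsoFam
import Groth.Prelude.Def_AutFam
import Mathlib.AlgebraicGeometry.Morphisms.Separated
import Mathlib.AlgebraicGeometry.Morphisms.OpenImmersion

/-!
Representability of `Isom(G, H)` over `S` from representability over an open subscheme `S₀` in which all
isomorphism families land.
-/

set_option autoImplicit false
open CategoryTheory MonoidalCategory CartesianMonoidalCategory MonObj GrpObj AlgebraicGeometry
universe u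

namespace Groth.Agent.Sga3B.IsomOpen832

open Groth.Agent.Sga3B.BcPts

variable {S S₀ : Scheme.{u}} (j : S₀ ⟶ S)

/-- an object of `Over S` with a morphism to `T` over `S₀`, seen over `S₀` -/
noncomputable abbrev dn {T : Over S₀} {X : Over S} (t : X ⟶ (Over.map j).obj T) : Over S₀ :=
  Over.mk (t.left ≫ T.hom)

/-- the comparison `X ≅ (Over.map j).obj (dn t)` -/
noncomputable def dnIso {T : Over S₀} {X : Over S} (t : X ⟶ (Over.map j).obj T) :
    (Over.map j).obj (dn j t) ≅ X :=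
  Over.isoMk (Iso.refl _) (by
    have := Over.w t
    simp only [Over.map_obj_hom] at this
    simp [this])

/-- the morphism `t` seen over `S₀` -/
noncomputable def dnHom {T : Over S₀} {X : Over S} (t : X ⟶ (Over.map j).obj T) : dn j t ⟶ T :=
  Over.homMk t.left

lemma dnIso_hom_comp {T : Over S₀} {X : Over S} (t : X ⟶ (Over.map j).obj T) :
    (dnIso j t).hom ≫ t = (Over.map j).map (dnHom j t) := by
  ext1
  simp [dnIso, dnHom]

variable {G H : Over S}

/-- A family over `T` (an `S₀`-scheme) of morphisms `G₀ ⟶ H₀` of base changes gives a family `G ⟶ H` over `T`. -/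
noncomputable def up {T : Over S₀} (φ : Red.bc j G ⊗ T ⟶ Red.bc j H) : G ⊗ (Over.map j).obj T ⟶ H :=
  (dnIso j (snd G ((Over.map j).obj T))).inv ≫ (bcEquiv j _ H).symm
    (lift (bcEquiv j _ G ((dnIso j (snd G ((Over.map j).obj T))).hom ≫ fst _ _))
      (dnHom j (snd G ((Over.map j).obj T))) ≫ φ)

lemma lift_up {T : Over S₀} (φ : Red.bc j G ⊗ T ⟶ Red.bc j H) {X : Over S₀} (g : (Over.map j).obj X ⟶ G) (t : X ⟶ T) :
    lift g ((Over.map j).map t) ≫ up j φ = (bcEquiv j X H).symm (lift (bcEquiv j X G g) t ≫ φ) := by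
  set p := snd G ((Over.map j).obj T) with hp
  let h : X ⟶ dn j p := Over.homMk (lift g ((Over.map j).map t)).left (by
    have h1 : (lift g ((Over.map j).map t)).left ≫ p.left = t.left := by
      rw [← Over.comp_left, hp, lift_snd]
      rfl
    change (lift g ((Over.map j).map t)).left ≫ p.left ≫ T.hom = X.hom
    rw [← Category.assoc, h1, Over.w])
  have h2 : lift g ((Over.map j).map t) ≫ (dnIso j p).inv = (Over.map j).map h := by
    ext1
    simp [dnIso, h]
  have h3 : h ≫ dnHom j p = t := by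
    ext1
    change (lift g ((Over.map j).map t)).left ≫ p.left = t.left
    rw [← Over.comp_left, hp, lift_snd]
    rfl
  rw [up, ← Category.assoc, h2, ← comp_bcEquiv_symm, ← Category.assoc, comp_lift, h3, ← comp_bcEquiv,
    ← h2, Category.assoc, Iso.inv_hom_id_assoc, lift_fst]

/-- A family `G ⟶ H` over an `S₀`-scheme gives a family of base changes. -/
noncomputable def down {T : Over S₀} (φ : G ⊗ (Over.map j).obj T ⟶ H) : Red.bc j G ⊗ T ⟶ Red.bc j H :=
  bcEquiv j _ H (lift ((bcEquiv j _ G).symm (fst _ _)) ((Over.map j).map (snd _ _)) ≫ φ)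

lemma lift_down {T : Over S₀} (φ : G ⊗ (Over.map j).obj T ⟶ H) {X : Over S₀} (g : X ⟶ Red.bc j G) (t : X ⟶ T) :
    lift g t ≫ down j φ = bcEquiv j X H (lift ((bcEquiv j X G).symm g) ((Over.map j).map t) ≫ φ) := by
  rw [down, ← comp_bcEquiv, ← Category.assoc, comp_lift, ← comp_bcEquiv_symm, lift_fst,
    ← Functor.map_comp, lift_snd]

lemma ext_points {T : Over S₀} {φ ψ : G ⊗ (Over.map j).obj T ⟶ H}
    (h : ∀ (X : Over S₀) (g : (Over.map j).obj X ⟶ G) (t : X ⟶ T),
      lift g ((Over.map j).map t) ≫ φ = lift g ((Over.map j).map t) ≫ ψ) : φ = ψ := by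
  have h1 := h _ ((dnIso j (snd G ((Over.map j).obj T))).hom ≫ fst _ _) (dnHom j (snd G ((Over.map j).obj T)))
  rw [← dnIso_hom_comp, ← comp_lift, lift_fst_snd, Category.comp_id] at h1
  exact (cancel_epi _).mp h1

lemma up_down {T : Over S₀} (φ : G ⊗ (Over.map j).obj T ⟶ H) : up j (down j φ) = φ := by
  apply ext_points j
  intro X g t
  rw [lift_up, lift_down, Equiv.symm_apply_apply, Equiv.symm_apply_apply]

lemma down_up {T : Over S₀} (φ : Red.bc j G ⊗ T ⟶ Red.bc j H) : down j (up j φ) = φ := by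
  have h := lift_down j (up j φ) (fst _ _) (snd _ _)
  rw [lift_up, Equiv.apply_symm_apply, Equiv.apply_symm_apply, lift_fst_snd, Category.id_comp,
    Category.id_comp] at h
  exact h

lemma whisker_up {T T' : Over S₀} (a : T' ⟶ T) (φ : Red.bc j G ⊗ T ⟶ Red.bc j H) :
    (G ◁ (Over.map j).map a) ≫ up j φ = up j ((Red.bc j G ◁ a) ≫ φ) := by
  apply ext_points j
  intro X g t
  rw [← Category.assoc, lift_whiskerLeft, ← Functor.map_comp, lift_up, lift_up, ← Category.assoc,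
    lift_whiskerLeft]

variable [GrpObj G] [GrpObj H]

/-- Points of `G ⊗ (Over.map j).obj T` all come from `S₀`. -/
lemma exists_dn {T : Over S₀} {X : Over S} (t : X ⟶ (Over.map j).obj T) :
    ∃ (X₀ : Over S₀) (e : X ≅ (Over.map j).obj X₀) (t₀ : X₀ ⟶ T), t = e.hom ≫ (Over.map j).map t₀ :=
  ⟨dn j t, (dnIso j t).symm, dnHom j t, by rw [← dnIso_hom_comp]; simp⟩

lemma isHomFamily_up {T : Over S₀} {φ : Red.bc j G ⊗ T ⟶ Red.bc j H}
    (h : AutFam.IsHomFamily (Red.bc j G) (Red.bc j H) φ) : AutFam.IsHomFamily G H (up j φ) := by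
  intro X g₁ g₂ t
  obtain ⟨X₀, e, t₀, rfl⟩ := exists_dn j t
  have key (g : X ⟶ G) : lift g (e.hom ≫ (Over.map j).map t₀) ≫ up j φ =
      e.hom ≫ (bcEquiv j X₀ H).symm (lift (bcEquiv j X₀ G (e.inv ≫ g)) t₀ ≫ φ) := by
    rw [← lift_up, ← Category.assoc, comp_lift, Iso.hom_inv_id_assoc]
  rw [key, key, key, MonObj.comp_mul, bcEquiv_mul, h, ← MonObj.comp_mul]
  congr 1
  exact (bcMulEquiv j _ H).symm.map_mul _ _

lemma isIsoFamily_up {T : Over S₀} {φ : Red.bc j G ⊗ T ⟶ Red.bc j H}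
    (h : AutFam.IsIsoFamily (Red.bc j G) (Red.bc j H) φ) : AutFam.IsIsoFamily G H (up j φ) := by
  obtain ⟨h1, ψ, h2, h3⟩ := h
  refine ⟨isHomFamily_up j h1, up j ψ, ?_, ?_⟩
  · intro X g t
    obtain ⟨X₀, e, t₀, rfl⟩ := exists_dn j t
    have h4 : lift g (e.hom ≫ (Over.map j).map t₀) ≫ up j φ =
        e.hom ≫ (bcEquiv j X₀ H).symm (lift (bcEquiv j X₀ G (e.inv ≫ g)) t₀ ≫ φ) := by
      rw [← lift_up, ← Category.assoc, comp_lift, Iso.hom_inv_id_assoc]
    rw [h4, ← comp_lift, Category.assoc, lift_up, Equiv.apply_symm_apply, h2, Equiv.symm_apply_apply,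
      Iso.hom_inv_id_assoc]
  · intro X g t
    obtain ⟨X₀, e, t₀, rfl⟩ := exists_dn j t
    have h4 : lift g (e.hom ≫ (Over.map j).map t₀) ≫ up j ψ =
        e.hom ≫ (bcEquiv j X₀ G).symm (lift (bcEquiv j X₀ H (e.inv ≫ g)) t₀ ≫ ψ) := by
      rw [← lift_up, ← Category.assoc, comp_lift, Iso.hom_inv_id_assoc]
    rw [h4, ← comp_lift, Category.assoc, lift_up, Equiv.apply_symm_apply, h3, Equiv.symm_apply_apply,
      Iso.hom_inv_id_assoc]

lemma isHomFamily_down {T : Over S₀} {φ : G ⊗ (Over.map j).obj T ⟶ H}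
    (h : AutFam.IsHomFamily G H φ) : AutFam.IsHomFamily (Red.bc j G) (Red.bc j H) (down j φ) := by
  intro X g₁ g₂ t
  rw [lift_down, lift_down, lift_down, ← bcEquiv_mul, ← h]
  congr 3
  exact (bcMulEquiv j _ G).symm.map_mul _ _

lemma isIsoFamily_down {T : Over S₀} {φ : G ⊗ (Over.map j).obj T ⟶ H}
    (h : AutFam.IsIsoFamily G H φ) : AutFam.IsIsoFamily (Red.bc j G) (Red.bc j H) (down j φ) := by
  obtain ⟨h1, ψ, h2, h3⟩ := h
  refine ⟨isHomFamily_down j h1, down j ψ, ?_, ?_⟩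
  · intro X g t
    rw [lift_down, lift_down, Equiv.symm_apply_apply, h2, Equiv.apply_symm_apply]
  · intro X g t
    rw [lift_down, lift_down, Equiv.symm_apply_apply, h3, Equiv.apply_symm_apply]

/-- `(Over.map j)` is full on objects over a monomorphism `j`. -/
lemma exists_map_eq [Mono j] {X Y : Over S₀} (a : (Over.map j).obj X ⟶ (Over.map j).obj Y) :
    ∃ b : X ⟶ Y, (Over.map j).map b = a := by
  refine ⟨Over.homMk a.left ?_, by ext1; rfl⟩
  have h := Over.w a
  simp only [Over.map_obj_hom, ← Category.assoc] at h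
  exact (cancel_mono j).mp h

/-- Representability over `S₀` gives representability over `S` if all families land in `S₀`. -/
theorem representsIsom_up [Mono j] {A : Over S₀} {υ : Red.bc j G ⊗ A ⟶ Red.bc j H}
    (h : AutFam.RepresentsIsom (Red.bc j G) (Red.bc j H) A υ)
    (hland : ∀ (T : Over S) (φ : G ⊗ T ⟶ H), AutFam.IsIsoFamily G H φ → ∃ t₀ : T.left ⟶ S₀, t₀ ≫ j = T.hom) :
    AutFam.RepresentsIsom G H ((Over.map j).obj A) (up j υ) := by
  refine ⟨isIsoFamily_up j h.1, ?_⟩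
  intro T φ hφ
  obtain ⟨t₀, ht₀⟩ := hland T φ hφ
  let e : (Over.map j).obj (Over.mk t₀) ≅ T := Over.isoMk (Iso.refl _) (by simp [ht₀])
  have h1 : AutFam.IsIsoFamily G H ((G ◁ e.hom) ≫ φ) := IsoFam.isIsoFamily_pull hφ e.hom
  obtain ⟨a, ha, hu⟩ := h.2 _ _ (isIsoFamily_down j h1)
  refine ⟨e.inv ≫ (Over.map j).map a, ?_, ?_⟩
  · have h2 : (G ◁ (Over.map j).map a) ≫ up j υ = (G ◁ e.hom) ≫ φ := by
      rw [whisker_up, ha, up_down]
    simp only [MonoidalCategory.whiskerLeft_comp, Category.assoc]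
    rw [h2, ← Category.assoc, ← MonoidalCategory.whiskerLeft_comp, Iso.inv_hom_id]
    simp
  · intro b hb
    obtain ⟨c, hc⟩ := exists_map_eq j (e.hom ≫ b)
    have h3 : c = a := by
      apply hu
      rw [← down_up j ((Red.bc j G ◁ c) ≫ υ), ← whisker_up, hc, MonoidalCategory.whiskerLeft_comp,
        Category.assoc, hb]
    rw [← h3, hc, Iso.inv_hom_id_assoc]

/-- Final form with an open subscheme. -/
theorem exists_representsIsom_of_open (S₀ : S.Opens)
    (hland : ∀ (T : Over S) (φ : G ⊗ T ⟶ H), AutFam.IsIsoFamily G H φ → ∀ t : T.left, T.hom t ∈ S₀)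
    (A₀ : Over S₀.toScheme) (υ₀ : Red.bc S₀.ι G ⊗ A₀ ⟶ Red.bc S₀.ι H)
    (h : AutFam.RepresentsIsom (Red.bc S₀.ι G) (Red.bc S₀.ι H) A₀ υ₀) [Smooth A₀.hom] [IsSeparated A₀.hom] :
    ∃ (A : Over S) (υ : G ⊗ A ⟶ H), AutFam.RepresentsIsom G H A υ ∧ Smooth A.hom ∧ IsSeparated A.hom ∧
      (S₀ = ⊤ → IsAffineHom A₀.hom → IsAffineHom A.hom) := by
  refine ⟨(Over.map S₀.ι).obj A₀, up S₀.ι υ₀, representsIsom_up S₀.ι h ?_, ?_, ?_, ?_⟩
  · intro T φ hφ
    have hr : Set.range T.hom ⊆ Set.range S₀.ι := by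
      rw [Scheme.Opens.range_ι]
      rintro _ ⟨t, rfl⟩
      exact hland T φ hφ t
    exact ⟨IsOpenImmersion.lift S₀.ι T.hom hr, IsOpenImmersion.lift_fac _ _ _⟩
  · change Smooth (A₀.hom ≫ S₀.ι)
    infer_instance
  · change IsSeparated (A₀.hom ≫ S₀.ι)
    infer_instance
  · rintro rfl h1
    change IsAffineHom (A₀.hom ≫ Scheme.Opens.ι ⊤)
    have : IsIso (Scheme.Opens.ι (⊤ : S.Opens)) := inferInstanceAs (IsIso (Scheme.topIso S).hom)
    infer_instance

end Groth.Agent.Sga3B.IsomOpen832
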