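import Groth.Agent.Sga3B.NormBc

/-!
# Reductive and semisimple groups over fields: invariance under isomorphisms of groups and of the base
-/

set_option autoImplicit false
open CategoryTheory MonoidalCategory CartesianMonoidalCategory MonObj GrpObj AlgebraicGeometry
universe u

namespace Groth.Agent.Sga3B.RedIso

open Groth.Agent.Sga3B Groth.Agent.Sga3B.TorusAlgClosed Groth.Agent.Sga3B.TorusBc Groth.Agent.Sga3B.NormBc

variable {S S' : Scheme.{u}}

/-- underlying isomorphism of a group isomorphism -/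
noncomputable abbrev und {G H : Over S} [GrpObj G] [GrpObj H] (e : Grp.mk G ≅ Grp.mk H) : G ≅ H :=
  (Grp.forget _).mapIso e

instance {G H : Over S} [GrpObj G] [GrpObj H] (e : Grp.mk G ≅ Grp.mk H) : IsMonHom (und e).hom :=
  e.hom.hom.isMonHom_hom

instance {G H : Over S} [GrpObj G] [GrpObj H] (e : Grp.mk G ≅ Grp.mk H) : IsMonHom (und e).inv :=
  e.inv.hom.isMonHom_hom

lemma connectedSpace_of_iso {X Y : Scheme.{u}} (e : X ⟶ Y) [IsIso e] (h : ConnectedSpace X) : ConnectedSpace Y :=
  (Scheme.homeoOfIso (asIso e)).connectedSpace_iff.mp h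

lemma isTrivialGrp_of_iso {X Y : Over S} (e : X ≅ Y) (h : Red.IsTrivialGrp X) : Red.IsTrivialGrp Y := by
  have h1 : e.inv.left ≫ X.hom = Y.hom := Over.w e.inv
  have : IsIso X.hom := h
  have : IsIso e.inv.left := inferInstance
  change IsIso Y.hom
  rw [← h1]
  infer_instance

lemma isTrivialGrp_bc (f : S' ⟶ S) {X : Over S} (h : Red.IsTrivialGrp X) : Red.IsTrivialGrp (Red.bc f X) := by
  have : IsIso X.hom := h
  change IsIso (Limits.pullback.snd X.hom f)
  infer_instance

section IsoBase

variable (f : S' ⟶ S) [IsIso f]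

noncomputable def unbcIso (U : Over S') [GrpObj U] : Grp.mk (Red.bc f (Red.bc (CategoryTheory.inv f) U)) ≅ Grp.mk U :=
  (BcIso.bcCompIso f (CategoryTheory.inv f) U).symm ≪≫ BcIso.bcCongrIso (IsIso.hom_inv_id f) U ≪≫ BcIso.bcIdIso U

noncomputable def unbcIso' (G : Over S) [GrpObj G] : Grp.mk (Red.bc (CategoryTheory.inv f) (Red.bc f G)) ≅ Grp.mk G :=
  (BcIso.bcCompIso (CategoryTheory.inv f) f G).symm ≪≫ BcIso.bcCongrIso (IsIso.inv_hom_id f) G ≪≫ BcIso.bcIdIso G

lemma isTrivialGrp_of_bc {X : Over S} [GrpObj X] (h : Red.IsTrivialGrp (Red.bc f X)) : Red.IsTrivialGrp X :=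
  isTrivialGrp_of_iso (und (unbcIso' f X)) (isTrivialGrp_bc (CategoryTheory.inv f) h)

end IsoBase

section Field

variable {K : Type u} [Field K]

lemma hasNoSubtorus_of_iso {U U' : Over (Spec (CommRingCat.of K))} [GrpObj U] [GrpObj U']
    (e : Grp.mk U ≅ Grp.mk U') (h : Red.HasNoSubtorus K U) : Red.HasNoSubtorus K U' := by
  intro T _ j _ _ hT
  exact h T (j ≫ (und e).inv) hT

lemma hasNoSubtorus_bc {K' : Type u} [Field K'] (f : Spec (CommRingCat.of K') ⟶ Spec (CommRingCat.of K)) [IsIso f]
    {U : Over (Spec (CommRingCat.of K))} [GrpObj U]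
    (h : Red.HasNoSubtorus K U) : Red.HasNoSubtorus K' (Red.bc f U) := by
  intro T _ j _ _ hT
  refine isTrivialGrp_of_bc (CategoryTheory.inv f) ?_
  exact h _ ((Over.pullback (CategoryTheory.inv f)).map j ≫ (und (unbcIso' f U)).hom) (isTorus_bc _ hT)

lemma isReductiveOver_of_iso {G G' : Over (Spec (CommRingCat.of K))} [GrpObj G] [GrpObj G']
    (e : Grp.mk G ≅ Grp.mk G') (h : Red.IsReductiveOver K G) : Red.IsReductiveOver K G' := by
  obtain ⟨h1, h2, h3, h4⟩ := h
  refine ⟨?_, ?_, ?_, ?_⟩
  · exact IsAffine.of_isIso (und e).inv.left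
  · exact prop_of_grp_iso (P := @Smooth) e.symm h2
  · exact connectedSpace_of_iso (und e).hom.left h3
  · intro U _ i _ hi hU hc hn ht
    have : IsClosedImmersion (i ≫ (und e).inv).left := by
      rw [Over.comp_left]
      infer_instance
    exact h4 U (i ≫ (und e).inv) this hU hc (isNormalHom_comp_iso i _ hn) ht

lemma isReductiveOver_bc {K' : Type u} [Field K'] (f : Spec (CommRingCat.of K') ⟶ Spec (CommRingCat.of K)) [IsIso f]
    {G : Over (Spec (CommRingCat.of K))} [GrpObj G] (h : Red.IsReductiveOver K G) :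
    Red.IsReductiveOver K' (Red.bc f G) := by
  obtain ⟨h1, h2, h3, h4⟩ := h
  refine ⟨?_, ?_, ?_, ?_⟩
  · change IsAffine (Limits.pullback G.hom f)
    exact IsAffine.of_isIso (Limits.pullback.fst G.hom f)
  · change Smooth (Limits.pullback.snd G.hom f)
    infer_instance
  · exact connectedSpace_of_iso (CategoryTheory.inv (Limits.pullback.fst G.hom f)) h3
  · intro U _ i _ hi hU hc hn ht
    refine isTrivialGrp_of_bc (CategoryTheory.inv f) ?_
    have c1 : IsClosedImmersion ((Over.pullback (CategoryTheory.inv f)).map i).left :=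
      MorphismProperty.overPullbackMap (P := @IsClosedImmersion) _ i hi
    have c2 : IsClosedImmersion ((Over.pullback (CategoryTheory.inv f)).map i ≫ (und (unbcIso' f G)).hom).left := by
      rw [Over.comp_left]
      infer_instance
    refine h4 _ ((Over.pullback (CategoryTheory.inv f)).map i ≫ (und (unbcIso' f G)).hom) c2 ?_ ?_
      (isNormalHom_comp_iso _ _ (isNormalHom_bc _ i hn)) (hasNoSubtorus_bc _ ht)
    · change Smooth (Limits.pullback.snd U.hom _)
      infer_instance
    · exact connectedSpace_of_iso (CategoryTheory.inv (Limits.pullback.fst U.hom _)) hc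

lemma isSemisimpleOver_of_iso {G G' : Over (Spec (CommRingCat.of K))} [GrpObj G] [GrpObj G']
    (e : Grp.mk G ≅ Grp.mk G') (h : Red.IsSemisimpleOver K G) : Red.IsSemisimpleOver K G' := by
  refine ⟨isReductiveOver_of_iso e h.1, ?_⟩
  intro T _ i _ hi hn hT
  have : IsClosedImmersion (i ≫ (und e).inv).left := by
    rw [Over.comp_left]
    infer_instance
  exact h.2 T (i ≫ (und e).inv) this (isNormalHom_comp_iso i _ hn) hT

lemma isSemisimpleOver_bc {K' : Type u} [Field K'] (f : Spec (CommRingCat.of K') ⟶ Spec (CommRingCat.of K)) [IsIso f]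
    {G : Over (Spec (CommRingCat.of K))} [GrpObj G] (h : Red.IsSemisimpleOver K G) :
    Red.IsSemisimpleOver K' (Red.bc f G) := by
  refine ⟨isReductiveOver_bc f h.1, ?_⟩
  intro T _ i _ hi hn hT
  refine isTrivialGrp_of_bc (CategoryTheory.inv f) ?_
  have c1 : IsClosedImmersion ((Over.pullback (CategoryTheory.inv f)).map i).left :=
    MorphismProperty.overPullbackMap (P := @IsClosedImmersion) _ i hi
  have c2 : IsClosedImmersion ((Over.pullback (CategoryTheory.inv f)).map i ≫ (und (unbcIso' f G)).hom).left := by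
    rw [Over.comp_left]
    infer_instance
  exact h.2 _ ((Over.pullback (CategoryTheory.inv f)).map i ≫ (und (unbcIso' f G)).hom) c2
    (isNormalHom_comp_iso _ _ (isNormalHom_bc _ i hn)) (isTorus_bc _ hT)

end Field

end Groth.Agent.Sga3B.RedIso
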