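import Groth.Agent.Sga3B.DescIso
import Groth.Agent.Sga3B.IsoFam
import Groth.Agent.Sga3B.RedIso

/-!
An isomorphism family `G ⊗ T ⟶ H` over `T ⟶ S` with `G` reductive maps `T` into the reductive locus of `H`
(input of the assembly of `S2991`).
-/

set_option autoImplicit false
open CategoryTheory MonoidalCategory CartesianMonoidalCategory MonObj GrpObj AlgebraicGeometry
universe u

namespace Groth.Agent.Sga3B.IsomRedLocus832

variable {S : Scheme.{u}}

/-- For a morphism `g : T ⟶ S` and a point `t : T`, a compatible embedding of algebraic closures. -/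
theorem exists_closure_square {T : Scheme.{u}} (g : T ⟶ S) (t : T) :
    ∃ ρ : AlgebraicClosure (S.residueField (g t)) →+* AlgebraicClosure (T.residueField t),
      Spec.map (CommRingCat.ofHom ρ) ≫ Red.geomPt (g t) = Red.geomPt t ≫ g := by
  let k := S.residueField (g t)
  let k' := T.residueField t
  let ρ₀ : k →+* AlgebraicClosure k' := (algebraMap k' (AlgebraicClosure k')).comp (g.residueFieldMap t).hom
  let _ : Algebra k (AlgebraicClosure k') := ρ₀.toAlgebra
  let σ : AlgebraicClosure k →ₐ[k] AlgebraicClosure k' := IsAlgClosed.lift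
  refine ⟨σ.toRingHom, ?_⟩
  have h1 : σ.toRingHom.comp (algebraMap k (AlgebraicClosure k)) = ρ₀ := by
    ext x
    exact σ.commutes x
  have h2 : CommRingCat.ofHom (algebraMap k (AlgebraicClosure k)) ≫ CommRingCat.ofHom σ.toRingHom =
      g.residueFieldMap t ≫ CommRingCat.ofHom (algebraMap k' (AlgebraicClosure k')) := by
    ext x
    exact congrArg (fun r => r x) h1
  have h3 : Spec.map (CommRingCat.ofHom σ.toRingHom) ≫ Spec.map (CommRingCat.ofHom (algebraMap k (AlgebraicClosure k))) =
      Spec.map (CommRingCat.ofHom (algebraMap k' (AlgebraicClosure k'))) ≫ Spec.map (g.residueFieldMap t) :=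
    (Spec.map_comp _ _).symm.trans ((congrArg Spec.map h2).trans (Spec.map_comp _ _))
  have h4 : Spec.map (g.residueFieldMap t) ≫ S.fromSpecResidueField (g t) = T.fromSpecResidueField t ≫ g :=
    g.SpecMap_residueFieldMap_fromSpecResidueField t
  change Spec.map (CommRingCat.ofHom σ.toRingHom) ≫ Spec.map (CommRingCat.ofHom (algebraMap k (AlgebraicClosure k))) ≫
    S.fromSpecResidueField (g t) = (Spec.map (CommRingCat.ofHom (algebraMap k' (AlgebraicClosure k'))) ≫
    T.fromSpecResidueField t) ≫ g
  rw [← Category.assoc, h3, Category.assoc, h4, Category.assoc]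

variable {G H : Over S} [GrpObj G] [GrpObj H]

/-- The geometric fibres of `G` and `H` below a point of the base of an isomorphism family are isomorphic. -/
theorem nonempty_iso_geomFibre [IsAffineHom G.hom] [LocallyOfFiniteType G.hom] [IsAffineHom H.hom]
    [LocallyOfFiniteType H.hom] (T : Over S) (φ : G ⊗ T ⟶ H) (hφ : AutFam.IsIsoFamily G H φ) (t : T.left) :
    Nonempty (Grp.mk (Red.geomFibre (T.hom t) G) ≅ Grp.mk (Red.geomFibre (T.hom t) H)) := by
  obtain ⟨ρ, hρ⟩ := exists_closure_square T.hom t
  let _ : Algebra (AlgebraicClosure (S.residueField (T.hom t))) (AlgebraicClosure (T.left.residueField t)) :=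
    ρ.toAlgebra
  have : IsAffine (Red.geomFibre (T.hom t) G).left := by
    change IsAffine (Limits.pullback G.hom _)
    exact isAffine_of_isAffineHom (Limits.pullback.snd G.hom _)
  have : IsAffine (Red.geomFibre (T.hom t) H).left := by
    change IsAffine (Limits.pullback H.hom _)
    exact isAffine_of_isAffineHom (Limits.pullback.snd H.hom _)
  have : LocallyOfFiniteType (Red.geomFibre (T.hom t) G).hom := by
    change LocallyOfFiniteType (Limits.pullback.snd G.hom _)
    infer_instance
  have : LocallyOfFiniteType (Red.geomFibre (T.hom t) H).hom := by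
    change LocallyOfFiniteType (Limits.pullback.snd H.hom _)
    infer_instance
  refine DescIso.descend_algClosed (K := AlgebraicClosure (S.residueField (T.hom t)))
    (Ω := AlgebraicClosure (T.left.residueField t)) ?_
  let w : Over.mk (Spec.map (CommRingCat.ofHom (algebraMap (AlgebraicClosure (S.residueField (T.hom t)))
      (AlgebraicClosure (T.left.residueField t)))) ≫ Red.geomPt (T.hom t)) ⟶ T :=
    Over.homMk (Red.geomPt t) hρ.symm
  obtain ⟨e⟩ := IsoFam.nonempty_iso_of_family _ (IsoFam.isIsoFamily_pull hφ w)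
  exact ⟨(BcIso.bcCompIso _ _ G).symm ≪≫ e ≪≫ BcIso.bcCompIso _ _ H⟩

/-- An isomorphism family from a reductive group lands in the reductive locus. -/
theorem maps_into_redLocus (hG : Red.IsReductive G) [IsAffineHom H.hom] [Smooth H.hom] (T : Over S)
    (φ : G ⊗ T ⟶ H) (hφ : AutFam.IsIsoFamily G H φ) (t : T.left) :
    Red.IsReductiveOver (AlgebraicClosure (S.residueField (T.hom t))) (Red.geomFibre (T.hom t) H) := by
  obtain ⟨h1, h2, h3⟩ := hG
  obtain ⟨e⟩ := nonempty_iso_geomFibre T φ hφ t
  exact RedIso.isReductiveOver_of_iso e (h3 _)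

/-- Same for semisimple groups. -/
theorem maps_into_ssLocus (hG : Red.IsSemisimple G) [IsAffineHom H.hom] [Smooth H.hom] (T : Over S)
    (φ : G ⊗ T ⟶ H) (hφ : AutFam.IsIsoFamily G H φ) (t : T.left) :
    Red.IsSemisimpleOver (AlgebraicClosure (S.residueField (T.hom t))) (Red.geomFibre (T.hom t) H) := by
  obtain ⟨h1, h2, h3⟩ := hG
  obtain ⟨e⟩ := nonempty_iso_geomFibre T φ hφ t
  exact RedIso.isSemisimpleOver_of_iso e (h3 _)

end Groth.Agent.Sga3B.IsomRedLocus832
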