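import Groth.Agent.Sga3B.GLn
import Groth.Agent.Sga3B.FreeBC

/-!
# The linear representation attached to an action on a finite free scheme

For a group scheme `G` (qcqs) over `Spec R` acting on `Spec E`, `E` finite free over `R`, we construct the homomorphism
`G ⟶ GLS m (Spec R)` given by the matrices of the action on functions, and describe its kernel.
-/

set_option autoImplicit false

universe u

open CategoryTheory MonoidalCategory CartesianMonoidalCategory AlgebraicGeometry Limits MonObj

namespace Groth.Agent.Sga3B.LinRep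

open GLn FreeBC

variable {R E : Type u} [CommRing R] [CommRing E] [Algebra R E]
  {G : Over (Spec (CommRingCat.of R))} [GrpObj G]

omit [GrpObj G] in
/-- expansion of the action morphism at a point -/
lemma fn_act (a : G ⊗ DE R E ⟶ DE R E) {m : Type u} [Fintype m] [DecidableEq m]
    (b : Module.Basis m R E) (N : Matrix m m Γ(G.left, ⊤))
    (hN : ∀ i, fn a (b i) = ∑ j, (fst G (DE R E)).left.appTop (N i j) * fn (snd G (DE R E)) (b j))
    {T : Over (Spec (CommRingCat.of R))} (g : T ⟶ G) (i : m) :
    fn (g ▷ DE R E ≫ a) (b i) =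
      ∑ j, (fst T (DE R E)).left.appTop (pull m g.left N i j) * fn (snd T (DE R E)) (b j) := by
  rw [fn_comp, hN, map_sum]
  refine Finset.sum_congr rfl fun j _ => ?_
  rw [map_mul, ← fn_comp, whiskerRight_snd, pull_apply]
  congr 1
  have : (g ▷ DE R E).left ≫ (fst G (DE R E)).left = (fst T (DE R E)).left ≫ g.left := by
    rw [← Over.comp_left, whiskerRight_fst, Over.comp_left]
  have h2 := congr(($this).appTop)
  rw [Scheme.Hom.comp_appTop, Scheme.Hom.comp_appTop] at h2
  exact congr($(h2).hom (N i j))

omit [GrpObj G] in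
lemma mat_unique {T : Over (Spec (CommRingCat.of R))} {m : Type u} [Fintype m]
    (b : Module.Basis m R E) {M M' : Matrix m m Γ(T.left, ⊤)}
    (h : ∀ i, ∑ j, (fst T (DE R E)).left.appTop (M i j) * fn (snd T (DE R E)) (b j) =
      ∑ j, (fst T (DE R E)).left.appTop (M' i j) * fn (snd T (DE R E)) (b j)) : M = M' := by
  ext i j
  have := expansion_unique T b (fun j => M i j - M' i j) (by
    simp only [map_sub, sub_mul, Finset.sum_sub_distrib, h i, sub_self])
  exact sub_eq_zero.mp (congrFun this j)

lemma appTop_comp_apply {X Y Z : Over (Spec (CommRingCat.of R))} (f : X ⟶ Y) (g : Y ⟶ Z)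
    (z : Γ(Z.left, ⊤)) : f.left.appTop (g.left.appTop z) = (f ≫ g).left.appTop z := by
  rw [Over.comp_left, Scheme.Hom.comp_appTop]
  rfl

variable (a : G ⊗ DE R E ⟶ DE R E)
    (ha1 : ∀ (T : Over (Spec (CommRingCat.of R))) (d : T ⟶ DE R E), lift 1 d ≫ a = d)
    (hamul : ∀ (T : Over (Spec (CommRingCat.of R))) (g h : T ⟶ G) (d : T ⟶ DE R E),
      lift (g * h) d ≫ a = lift g (lift h d ≫ a) ≫ a)
    {m : Type u} [Fintype m] [DecidableEq m]
    (b : Module.Basis m R E) (N : Matrix m m Γ(G.left, ⊤))
    (hN : ∀ i, fn a (b i) = ∑ j, (fst G (DE R E)).left.appTop (N i j) * fn (snd G (DE R E)) (b j))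

include hN ha1 in
lemma pull_one (T : Over (Spec (CommRingCat.of R))) :
    pull m (1 : T ⟶ G).left N = 1 := by
  apply mat_unique b
  intro i
  rw [← fn_act a b N hN]
  have : (1 : T ⟶ G) ▷ DE R E ≫ a = snd _ _ := by
    have := ha1 _ (snd T (DE R E))
    rw [← this]
    congr 1
  rw [this, Finset.sum_eq_single i]
  · simp
  · intro j _ hj
    simp [Matrix.one_apply_ne hj.symm]
  · simp

include hN hamul in
lemma pull_mul {T : Over (Spec (CommRingCat.of R))} (g h : T ⟶ G) :
    pull m (g * h).left N = pull m g.left N * pull m h.left N := by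
  apply mat_unique b
  intro i
  rw [← fn_act a b N hN]
  let L : T ⊗ DE R E ⟶ T ⊗ DE R E := lift (fst _ _) (h ▷ DE R E ≫ a)
  have hL : (g * h) ▷ DE R E ≫ a = L ≫ g ▷ DE R E ≫ a := by
    have e1 : (g * h) ▷ DE R E = lift ((fst T (DE R E) ≫ g) * (fst T (DE R E) ≫ h)) (snd _ _) := by
      apply CartesianMonoidalCategory.hom_ext
      · rw [whiskerRight_fst, lift_fst, MonObj.comp_mul]
      · rw [whiskerRight_snd, lift_snd]
    have e2 : L ≫ g ▷ DE R E = lift (fst T (DE R E) ≫ g)
        (lift (fst T (DE R E) ≫ h) (snd _ _) ≫ a) := by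
      apply CartesianMonoidalCategory.hom_ext
      · rw [Category.assoc, whiskerRight_fst, lift_fst]
        simp [L]
      · rw [Category.assoc, whiskerRight_snd, lift_snd]
        simp only [lift_snd]
        congr 1
    rw [e1, hamul, ← Category.assoc, e2]
  rw [hL, fn_comp, fn_act a b N hN, map_sum]
  have key : ∀ j, L.left.appTop ((fst T (DE R E)).left.appTop (pull m g.left N i j) *
      fn (snd T (DE R E)) (b j)) =
      ∑ k, (fst T (DE R E)).left.appTop (pull m g.left N i j * pull m h.left N j k) *
        fn (snd T (DE R E)) (b k) := by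
    intro j
    rw [map_mul, appTop_comp_apply, ← fn_comp]
    have h1 : L ≫ fst T (DE R E) = fst _ _ := lift_fst _ _
    have h2 : L ≫ snd T (DE R E) = h ▷ DE R E ≫ a := lift_snd _ _
    rw [h1, h2, fn_act a b N hN, Finset.mul_sum]
    refine Finset.sum_congr rfl fun k _ => ?_
    rw [map_mul, _root_.mul_assoc]
  simp_rw [key]
  rw [Finset.sum_comm]
  refine Finset.sum_congr rfl fun k _ => ?_
  rw [Matrix.mul_apply, map_sum, Finset.sum_mul]

include hN ha1 hamul in
lemma isUnit_det : IsUnit N.det := by
  have h1 := pull_mul a hamul b N hN (𝟙 G) (𝟙 G)⁻¹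
  rw [mul_inv_cancel, pull_one a ha1 b N hN] at h1
  have h2 : pull m (𝟙 G : G ⟶ G).left N = N := by
    ext i j
    simp
  rw [h2] at h1
  rw [← Matrix.isUnit_iff_isUnit_det]
  exact IsUnit.of_mul_eq_one _ h1.symm

/-- The linear representation attached to an action. -/
noncomputable def rep : G ⟶ GLS m (Spec (CommRingCat.of R)) :=
  ofMat N (isUnit_det a ha1 hamul b N hN)

lemma mat_comp_rep {T : Over (Spec (CommRingCat.of R))} (g : T ⟶ G) :
    mat (g ≫ rep a ha1 hamul b N hN) = pull m g.left N := by
  rw [mat_comp, rep, mat_ofMat]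

lemma isMonHom_rep : IsMonHom (rep a ha1 hamul b N hN) := by
  apply isMonHom_of_mat
  intro T x y
  simp only [mat_comp_rep]
  exact pull_mul a hamul b N hN x y

/-- The kernel of the representation consists of the points acting trivially. -/
lemma comp_rep_eq_one_iff {T : Over (Spec (CommRingCat.of R))} (g : T ⟶ G) :
    g ≫ rep a ha1 hamul b N hN = 1 ↔ g ▷ DE R E ≫ a = snd _ _ := by
  have h1 : g ≫ rep a ha1 hamul b N hN = 1 ↔ pull m g.left N = 1 := by
    rw [← mat_comp_rep a ha1 hamul b N hN, ← mat_one (T := T)]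
    exact ⟨fun h => by rw [h], fun h => mat_injective h⟩
  rw [h1]
  constructor
  · intro h
    apply fn_injective
    intro x
    have hb : ∀ i, fn (g ▷ DE R E ≫ a) (b i) = fn (snd T (DE R E)) (b i) := by
      intro i
      rw [fn_act a b N hN, h, Finset.sum_eq_single i]
      · simp
      · intro j _ hj
        simp [Matrix.one_apply_ne hj.symm]
      · simp
    rw [← b.sum_repr x, map_sum, map_sum]
    refine Finset.sum_congr rfl fun j _ => ?_
    rw [Algebra.smul_def, map_mul, map_mul, hb, fn_algebraMap, fn_algebraMap]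
  · intro h
    apply mat_unique b
    intro i
    rw [← fn_act a b N hN, h, Finset.sum_eq_single i]
    · simp
    · intro j _ hj
      simp [Matrix.one_apply_ne hj.symm]
    · simp

include ha1 hamul in
/-- Existence of the homomorphism to the general linear group with kernel the points acting trivially. -/
theorem exists_rep [CompactSpace G.left] [QuasiSeparatedSpace G.left] (b : Module.Basis m R E) :
    ∃ f : G ⟶ GLS m (Spec (CommRingCat.of R)), IsMonHom f ∧
      ∀ {T : Over (Spec (CommRingCat.of R))} (g : T ⟶ G),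
        g ≫ f = 1 ↔ g ▷ DE R E ≫ a = snd _ _ := by
  choose N hN using fun i => exists_expansion (E := E) G b (fn a (b i))
  exact ⟨rep a ha1 hamul b (Matrix.of N) hN, isMonHom_rep a ha1 hamul b (Matrix.of N) hN,
    fun g => comp_rep_eq_one_iff a ha1 hamul b (Matrix.of N) hN g⟩

end Groth.Agent.Sga3B.LinRep
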