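import Groth.Agent.Sga3B.CentNorm900
import Groth.Agent.Sga3B.AlgBc2
import Groth.Agent.Sga3B.TorusIrr
import Groth.Agent.Sga3B.Parab.NearIso
import Groth.Agent.Sga3B.Par.CanRig
import Groth.Agent.Flat2B.SmoothGeom

/-!
A closed subtorus `T` of an `S`-group `G` of finite type which is self-centralizing in the geometric
fibre over `s₀` is a maximal torus over a neighbourhood of `s₀`.
-/

set_option autoImplicit false

namespace Groth.Agent.Sga3B.MaxTorNear900

open CategoryTheory Limits MonoidalCategory CartesianMonoidalCategory MonObj GrpObj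
  AlgebraicGeometry Groth.Agent.Sga3B.AlgBc

universe u

variable {S S' : Scheme.{u}}

section Comm

/-- Points commuting with a subgroup, after base change. -/
lemma comm_bc (f : S' ⟶ S) {G H Z : Over S} [GrpObj G] (i : H ⟶ G) (z : Z ⟶ G)
    (hz : ∀ (X : Over S) (t : X ⟶ Z) (h : X ⟶ H), (t ≫ z) * (h ≫ i) = (h ≫ i) * (t ≫ z))
    (X : Over S') (t : X ⟶ Red.bc f Z) (h : X ⟶ Red.bc f H) :
    (t ≫ (Over.pullback f).map z) * (h ≫ (Over.pullback f).map i) =
      (h ≫ (Over.pullback f).map i) * (t ≫ (Over.pullback f).map z) := by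
  apply (BcPts.bcMulEquiv f X G).symm.injective
  rw [map_mul, map_mul]
  change (BcPts.bcEquiv f X G).symm _ * (BcPts.bcEquiv f X G).symm _ =
    (BcPts.bcEquiv f X G).symm _ * (BcPts.bcEquiv f X G).symm _
  rw [BcPts.bcEquiv_symm_comp, BcPts.bcEquiv_symm_comp]
  exact hz _ _ _

/-- Centralizers commute with base change (points). -/
lemma factor_bc (f : S' ⟶ S) {G H Z : Over S} [GrpObj G] (i : H ⟶ G) (z : Z ⟶ G)
    (hz : ∀ (X : Over S) (g : X ⟶ G), (∀ (X' : Over S) (x : X' ⟶ X) (h : X' ⟶ H),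
      (x ≫ g) * (h ≫ i) = (h ≫ i) * (x ≫ g)) → ∃ t : X ⟶ Z, t ≫ z = g)
    (X : Over S') (g : X ⟶ Red.bc f G) (hg : ∀ (X' : Over S') (x : X' ⟶ X) (h : X' ⟶ Red.bc f H),
      (x ≫ g) * (h ≫ (Over.pullback f).map i) = (h ≫ (Over.pullback f).map i) * (x ≫ g)) :
    ∃ t : X ⟶ Red.bc f Z, t ≫ (Over.pullback f).map z = g := by
  obtain ⟨t, ht⟩ := hz _ ((BcPts.bcEquiv f X G).symm g) (by
    intro X' x h
    let X'' : Over S' := Over.mk (x.left ≫ X.hom)
    let e : (Over.map f).obj X'' ≅ X' := Over.isoMk (Iso.refl _) (by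
      have := Over.w x
      simp only [Over.map_obj_hom] at this
      simp [X'', ← this])
    let x'' : X'' ⟶ X := Over.homMk x.left rfl
    have he : e.hom ≫ x = (Over.map f).map x'' := by
      ext1
      simp [e, x'']
    have h0 := hg X'' x'' (BcPts.bcEquiv f X'' H (e.hom ≫ h))
    rw [← BcPts.bcEquiv_comp] at h0
    have h1 := congrArg (BcPts.bcMulEquiv f X'' G).symm h0
    rw [map_mul, map_mul] at h1
    change (BcPts.bcEquiv f X'' G).symm _ * (BcPts.bcEquiv f X'' G).symm _ =
      (BcPts.bcEquiv f X'' G).symm _ * (BcPts.bcEquiv f X'' G).symm _ at h1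
    rw [Equiv.symm_apply_apply, BcPts.comp_bcEquiv_symm, ← he, Category.assoc, Category.assoc,
      ← MonObj.comp_mul, ← MonObj.comp_mul] at h1
    exact (cancel_epi e.hom).1 h1)
  refine ⟨BcPts.bcEquiv f X Z t, ?_⟩
  rw [← BcPts.bcEquiv_comp, ht, Equiv.apply_symm_apply]

/-- A flat surjective base change is faithful. -/
lemma eq_of_bc (f : S' ⟶ S) [Flat f] [Surjective f] {X Y : Over S} (a b : X ⟶ Y)
    (h : (Over.pullback f).map a = (Over.pullback f).map b) : a = b := by
  have h1 : pullback.fst X.hom f ≫ a.left = pullback.fst X.hom f ≫ b.left := by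
    have ha := (Parab.FibIsoSch.isPullback_map_left f a).w
    have hb := (Parab.FibIsoSch.isPullback_map_left f b).w
    rw [ha, hb, h]
  have : Epi (pullback.fst X.hom f) := Flat.epi_of_flat_of_surjective _
  ext1
  exact (cancel_epi _).1 h1

/-- Equality of morphisms is Zariski local on the base. -/
lemma eq_of_local {X Y : Over S} (a b : X ⟶ Y)
    (h : ∀ s : S, ∃ U : S.Opens, s ∈ U ∧ (Over.pullback U.ι).map a = (Over.pullback U.ι).map b) :
    a = b := by
  ext1
  choose U hU hab using h
  have hcov : iSup U = ⊤ := by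
    rw [eq_top_iff]
    intro s _
    exact TopologicalSpace.Opens.mem_iSup.2 ⟨s, hU s⟩
  refine (Scheme.Cover.hom_ext
    ((S.openCoverOfIsOpenCover U hcov).pullback₁ X.hom) _ _ fun s => ?_)
  have ha := (Parab.FibIsoSch.isPullback_map_left (U s).ι a).w
  have hb := (Parab.FibIsoSch.isPullback_map_left (U s).ι b).w
  change pullback.fst X.hom (U s).ι ≫ a.left = pullback.fst X.hom (U s).ι ≫ b.left
  rw [ha, hb, hab]

lemma mul_comm_of_iso {T T' : Over S} [GrpObj T] [GrpObj T'] (e : Grp.mk T ≅ Grp.mk T')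
    (h : ∀ (X : Over S) (x y : X ⟶ T'), x * y = y * x) (X : Over S) (x y : X ⟶ T) :
    x * y = y * x := by
  have h1 := h X (x ≫ (RedIso.und e).hom) (y ≫ (RedIso.und e).hom)
  rw [← MonObj.mul_comp, ← MonObj.mul_comp] at h1
  exact (cancel_mono _).1 h1

/-- Tori are commutative. -/
theorem mul_comm_of_isTorus {T : Over S} [GrpObj T] (h : Red.IsTorus T) (X : Over S)
    (x y : X ⟶ T) : x * y = y * x := by
  obtain ⟨S', f, _, _, -, hf⟩ := h
  apply eq_of_bc f
  rw [Functor.map_mul, Functor.map_mul]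
  apply eq_of_local
  intro s'
  obtain ⟨U, hU, r, ⟨e⟩⟩ := hf s'
  refine ⟨U, hU, ?_⟩
  rw [Functor.map_mul, Functor.map_mul]
  exact mul_comm_of_iso (BcIso.bcCompIso U.ι f T).symm
    (fun X x y => mul_comm_of_iso e (fun X x y => Par.CanRig.ds_mul_comm x y) X x y) _ _ _

end Comm

section Main

/-- The unit section of a base change. -/
lemma one_bc_left (x : S' ⟶ S) (Z : Over S) [GrpObj Z] :
    (η[Red.bc x Z] : 𝟙_ (Over S') ⟶ Red.bc x Z).left ≫ pullback.fst Z.hom x =
      x ≫ (η[Z] : 𝟙_ (Over S) ⟶ Z).left := by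
  have h1 : (1 : 𝟙_ (Over S') ⟶ Red.bc x Z) = BcPts.bcEquiv x _ Z 1 :=
    (BcPts.bcEquiv_one x).symm
  rw [MonObj.one_eq_one, h1]
  have h2 : (BcPts.bcEquiv x (𝟙_ (Over S')) Z 1).left ≫ pullback.fst Z.hom x =
      (1 : (Over.map x).obj (𝟙_ (Over S')) ⟶ Z).left := by
    simp only [BcPts.bcEquiv, Over.mapPullbackAdj, Adjunction.mkOfHomEquiv_homEquiv]
    exact pullback.lift_fst _ _ _
  rw [h2]
  have h3 : (1 : (Over.map x).obj (𝟙_ (Over S')) ⟶ Z) =
      (Over.homMk x (by simp) : (Over.map x).obj (𝟙_ (Over S')) ⟶ 𝟙_ (Over S)) ≫ η[Z] := by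
    rw [MonObj.one_eq_one, MonObj.comp_one]
  rw [h3]
  rfl

/-- Pointwise criterion: if an open neighbourhood of the unit section of the centralizer `Z` of `T`
is contained in `T` then `T` is a maximal torus in the fibre. -/
lemma isMaxTorOver_of_open {K : Type u} [Field K] [IsAlgClosed K]
    (x : Spec (CommRingCat.of K) ⟶ S) {G T Z : Over S} [GrpObj G] [GrpObj T] [GrpObj Z]
    (i : T ⟶ G) [IsMonHom i] (z : Z ⟶ G) [IsMonHom z] [Mono z] (c : T ⟶ Z)
    [IsClosedImmersion c.left] (hcz : c ≫ z = i)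
    (hZ : ∀ (X : Over S) (g : X ⟶ G), (∀ (X' : Over S) (x : X' ⟶ X) (h : X' ⟶ T),
      (x ≫ g) * (h ≫ i) = (h ≫ i) * (x ≫ g)) → ∃ t : X ⟶ Z, t ≫ z = g)
    (W : Z.left.Opens) (hW : (W : Set Z.left) ⊆ Set.range c.left)
    (hx : (η[Z] : 𝟙_ (Over S) ⟶ Z).left (x (IsLocalRing.closedPoint K)) ∈ W) :
    IsMaxTorOver ((Over.pullback x).map i) := by
  intro T' _ j _ _ f hT' hf
  have hcomm := mul_comm_of_isTorus hT'
  obtain ⟨d, hd⟩ := factor_bc x i z hZ T' j (by
    intro X' t h
    rw [← hf, ← Category.assoc, ← MonObj.mul_comp, ← MonObj.mul_comp, hcomm])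
  have hmono : Mono ((Over.pullback x).map z) := inferInstance
  have hfd : f ≫ d = (Over.pullback x).map c := by
    rw [← cancel_mono ((Over.pullback x).map z), Category.assoc, hd, hf, ← Functor.map_comp, hcz]
  have hcl : IsClosedImmersion ((Over.pullback x).map c).left :=
    MorphismProperty.of_isPullback (Parab.FibIsoSch.isPullback_map_left x c) inferInstance
  have haff : IsAffineHom T'.hom := TorusAlgClosed.isAffineHom_of_isTorus hT'
  have hsm : Smooth T'.hom := TorusAlgClosed.smooth_of_isTorus hT'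
  have hgi : GeometricallyIrreducible T'.hom := TorusIrr.geometricallyIrreducible_of_isTorus hT'
  have hsep : IsSeparated d.left := by
    have : IsSeparated (d.left ≫ (Red.bc x Z).hom) := by
      rw [Over.w d]
      infer_instance
    exact IsSeparated.of_comp d.left (Red.bc x Z).hom
  have hfcl : IsClosedImmersion f.left := by
    have : IsClosedImmersion (f.left ≫ d.left) := by
      rw [← Over.comp_left, hfd]
      exact hcl
    exact IsClosedImmersion.of_comp f.left d.left
  have hdm : Mono d := by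
    have : Mono (d ≫ (Over.pullback x).map z) := by
      rw [hd]
      infer_instance
    exact mono_of_mono d ((Over.pullback x).map z)
  have hdmon : IsMonHom d := by
    have h1 : IsMonHom (d ≫ (Over.pullback x).map z) := by
      rw [hd]
      infer_instance
    constructor
    · rw [← cancel_mono ((Over.pullback x).map z), Category.assoc]
      rw [h1.one_hom, IsMonHom.one_hom]
    · rw [← cancel_mono ((Over.pullback x).map z), Category.assoc, Category.assoc, h1.mul_hom,
        IsMonHom.mul_hom, ← Category.assoc, MonoidalCategory.tensorHom_comp_tensorHom]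
  have hred : IsReduced T'.left := Flat2B.SmoothGeom.isReduced_of_smooth T'.hom
  have hirr : IrreducibleSpace T'.left :=
    GeometricallyIrreducible.irreducibleSpace T'.hom (Scheme.Hom.isOpenMap T'.hom)
  have hrange : Set.range ((Over.pullback x).map c).left =
      (pullback.fst Z.hom x) ⁻¹' (Set.range c.left) := by
    rw [← Set.image_univ, ← Set.preimage_univ (f := pullback.fst T.hom x)]
    rw [Scheme.image_preimage_eq_of_isPullback (Parab.FibIsoSch.isPullback_map_left x c),
      Set.image_univ]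
  have hdinj : Function.Injective d.left := by
    have : Mono d.left := inferInstanceAs (Mono ((Over.forget _).map d))
    exact Scheme.Hom.injective d.left
  have hsub : (d.left ≫ pullback.fst Z.hom x) ⁻¹' (W : Set Z.left) ⊆ Set.range f.left := by
    intro y hy
    have h1 : d.left y ∈ Set.range ((Over.pullback x).map c).left := by
      rw [hrange]
      refine hW ?_
      rw [← Scheme.Hom.comp_apply]
      exact hy
    obtain ⟨t, ht⟩ := h1
    refine ⟨t, hdinj ?_⟩
    rw [← ht, ← hfd, Over.comp_left, Scheme.Hom.comp_apply]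
  have hmem : (η[T'] : 𝟙_ _ ⟶ T').left (IsLocalRing.closedPoint K) ∈
      (d.left ≫ pullback.fst Z.hom x) ⁻¹' (W : Set Z.left) := by
    have h1 : (η[T'] : 𝟙_ _ ⟶ T').left ≫ d.left ≫ pullback.fst Z.hom x =
        x ≫ (η[Z] : 𝟙_ (Over S) ⟶ Z).left := by
      rw [← one_bc_left, ← Category.assoc, ← Over.comp_left, IsMonHom.one_hom]
    rw [Set.mem_preimage, ← Scheme.Hom.comp_apply]
    have h2 : ((η[T'] : 𝟙_ _ ⟶ T').left ≫ d.left ≫ pullback.fst Z.hom x)
        (IsLocalRing.closedPoint K) = (x ≫ (η[Z] : 𝟙_ (Over S) ⟶ Z).left)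
          (IsLocalRing.closedPoint K) := by rw [h1]
    rw [SetLike.mem_coe, h2, Scheme.Hom.comp_apply]
    exact hx
  have hsurj : Surjective f.left := by
    constructor
    rw [← Set.range_eq_univ]
    have hclosed : IsClosed (Set.range f.left) := f.left.isClosedEmbedding.isClosed_range
    have hopen : IsOpen ((d.left ≫ pullback.fst Z.hom x) ⁻¹' (W : Set Z.left)) :=
      W.2.preimage (d.left ≫ pullback.fst Z.hom x).continuous
    have hdense : Dense ((d.left ≫ pullback.fst Z.hom x) ⁻¹' (W : Set Z.left)) :=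
      hopen.dense ⟨_, hmem⟩
    have := (hdense.mono hsub).closure_eq
    rwa [hclosed.closure_eq] at this
  have hiso : IsIso f.left := isIso_of_isClosedImmersion_of_surjective _
  have h2 : IsIso ((Over.forget _).map f) := hiso
  exact isIso_of_reflects_iso _ (Over.forget _)

/-- A closed subtorus which is self-centralizing in the geometric fibre over `s₀` is a maximal
torus over a neighbourhood of `s₀`. -/
theorem exists_open_isMaximalTorus {G T : Over S} [GrpObj G] [GrpObj T]
    [LocallyOfFiniteType G.hom] (hT : Red.IsTorus T) (i : T ⟶ G) [IsMonHom i]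
    [IsClosedImmersion i.left] (s₀ : S)
    (hc : ∀ (X : Over _) (g : X ⟶ Red.geomFibre s₀ G), (∀ (X' : Over _) (x : X' ⟶ X)
      (t : X' ⟶ Red.geomFibre s₀ T), (x ≫ g) * (t ≫ (Over.pullback (Red.geomPt s₀)).map i) =
        (t ≫ (Over.pullback (Red.geomPt s₀)).map i) * (x ≫ g)) →
      ∃ t : X ⟶ Red.geomFibre s₀ T, g = t ≫ (Over.pullback (Red.geomPt s₀)).map i) :
    ∃ U : S.Opens, s₀ ∈ U ∧ Red.IsMaximalTorus ((Over.pullback U.ι).map i) := by
  have hmi : Mono i := by
    have : Mono i.left := inferInstance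
    exact (Over.forget S).mono_of_mono_map this
  obtain ⟨⟨Z, _, z, ⟨hz1, hz2, hz3⟩, hz4, hz5⟩, -⟩ :=
    CentNorm900.exists_centralizer_normalizer_torus hT i
  have hcommT := mul_comm_of_isTorus hT
  obtain ⟨c, hcz⟩ := (hz3 T i).2 (by
    intro X x h
    rw [← MonObj.mul_comp, ← MonObj.mul_comp, hcommT])
  have hccl : IsClosedImmersion c.left := by
    have : IsClosedImmersion (c.left ≫ z.left) := by
      rw [← Over.comp_left, hcz]
      infer_instance
    exact IsClosedImmersion.of_comp c.left z.left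
  have hsm : Smooth T.hom := TorusAlgClosed.smooth_of_isTorus hT
  have hZlft : LocallyOfFiniteType Z.hom := by
    rw [← Over.w z]
    infer_instance
  have hiso : IsIso ((Over.pullback (Red.geomPt s₀)).map c) := by
    obtain ⟨r, hr⟩ := hc _ ((Over.pullback (Red.geomPt s₀)).map z) (comm_bc (Red.geomPt s₀) i z
      (by
        intro X t h
        have := (hz3 X (t ≫ z)).1 ⟨t, rfl⟩ X (𝟙 X) h
        rwa [Category.id_comp] at this))
    have hcz' : (Over.pullback (Red.geomPt s₀)).map c ≫ (Over.pullback (Red.geomPt s₀)).map z =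
        (Over.pullback (Red.geomPt s₀)).map i := by
      rw [← Functor.map_comp, hcz]
    have h1 : r ≫ (Over.pullback (Red.geomPt s₀)).map c = 𝟙 _ := by
      rw [← cancel_mono ((Over.pullback (Red.geomPt s₀)).map z), Category.assoc, hcz', ← hr,
        Category.id_comp]
    have hm : Mono ((Over.pullback (Red.geomPt s₀)).map c) := by
      have : Mono ((Over.pullback (Red.geomPt s₀)).map c ≫
          (Over.pullback (Red.geomPt s₀)).map z) := by
        rw [hcz']
        infer_instance
      exact mono_of_mono _ ((Over.pullback (Red.geomPt s₀)).map z)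
    refine ⟨r, ?_, h1⟩
    rw [← cancel_mono ((Over.pullback (Red.geomPt s₀)).map c), Category.assoc, h1,
      Category.comp_id, Category.id_comp]
  have hpt : ∀ s : S, Red.geomPt s
      (IsLocalRing.closedPoint (AlgebraicClosure (S.residueField s))) = s := by
    intro s
    rw [Scheme.Hom.comp_apply]
    exact Scheme.fromSpecResidueField_apply _ _
  obtain ⟨W, hyW, hW⟩ := Parab.FibIsoSch.exists_open_subset_range c
    ((η[Z] : 𝟙_ (Over S) ⟶ Z).left s₀) _ (Red.geomPt s₀) (by
      rw [← Scheme.Hom.comp_apply, Over.w, hpt]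
      rfl) hiso
  refine ⟨(η[Z] : 𝟙_ (Over S) ⟶ Z).left ⁻¹ᵁ W, hyW, inferInstance, inferInstance,
    TorusBc.isTorus_bc _ hT, ?_⟩
  intro s
  have key := (isMaxTorOver_geomFibre_bc_iff
    ((η[Z] : 𝟙_ (Over S) ⟶ Z).left ⁻¹ᵁ W).ι s (i := i)).2
    (isMaxTorOver_of_open (Red.geomPt _) i z c hcz (fun X g hg => (hz3 X g).2 hg) W hW (by
      rw [hpt]
      exact s.2))
  exact key

end Main

end Groth.Agent.Sga3B.MaxTorNear900
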