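import Groth.Prelude.Def_Red
import Groth.Agent.Smoothlim.SmoothLocusBC

/-!
# Smoothness of flat group schemes near the unit section

* `mem_smoothLocus`: for a flat lfp group scheme `G` over `S`, if `G` is smooth at the value `e(G.hom x)` of the unit
  section then it is smooth at `x`.
* `exists_opens_smooth`: if the geometric fibre at `s` is smooth then `G` is smooth over an open neighbourhood of `s`.
-/

set_option autoImplicit false
open CategoryTheory MonoidalCategory CartesianMonoidalCategory MonObj GrpObj AlgebraicGeometry Limits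
universe u

namespace Groth.Agent.Sga3B.SmoothNear

variable {S : Scheme.{u}} (G : Over S) [GrpObj G]

lemma isPullback_fst_snd (X Y : Over S) :
    IsPullback (fst X Y).left (snd X Y).left X.hom Y.hom := by
  simpa using IsPullback.of_hasPullback X.hom Y.hom

/-- The translation `(g, h) ↦ (g, g h)`. -/
noncomputable def transl : G ⊗ G ≅ G ⊗ G where
  hom := lift (fst G G) (fst G G * snd G G)
  inv := lift (fst G G) ((fst G G)⁻¹ * snd G G)
  hom_inv_id := by
    ext1 <;> simp [MonObj.comp_mul, GrpObj.comp_inv]
  inv_hom_id := by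
    ext1 <;> simp [MonObj.comp_mul]

/-- A flat group scheme locally of finite presentation is smooth at `x` as soon as it is smooth at the value of the unit
section at the image of `x`. -/
theorem mem_smoothLocus [LocallyOfFinitePresentation G.hom] [Flat G.hom] (x : G.left)
    (hx : η[G].left (G.hom x) ∈ G.hom.smoothLocus) : x ∈ G.hom.smoothLocus := by
  have hp : IsPullback (snd G G).left (fst G G).left G.hom G.hom := (isPullback_fst_snd G G).flip
  have : LocallyOfFinitePresentation (fst G G).left :=
    MorphismProperty.of_isPullback hp inferInstance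
  -- the point `(x, e)`
  let a : G ⟶ G ⊗ G := lift (𝟙 G) (toUnit G ≫ η[G])
  let d : G ⟶ G ⊗ G := lift (𝟙 G) (𝟙 G)
  have had : a ≫ (transl G).hom = d := by
    ext1
    · simp [a, d, transl]
    · simp only [a, d, transl, Category.assoc, lift_snd]
      rw [MonObj.comp_mul, lift_fst, lift_snd]
      have : toUnit G ≫ η[G] = 1 := by rw [MonObj.one_eq_one, MonObj.comp_one]
      rw [this, _root_.mul_one]
  have h1 : a.left x ∈ (fst G G).left.smoothLocus := by
    rw [Smoothlim.SmoothLocusBC.mem_smoothLocus_iff_of_isPullback hp (a.left x) (Or.inr inferInstance)]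
    have : (snd G G).left (a.left x) = η[G].left (G.hom x) := by
      rw [← Scheme.Hom.comp_apply, ← Over.comp_left]
      simp [a]
    rw [this]
    exact hx
  have h2 : d.left x ∈ (fst G G).left.smoothLocus := by
    have h3 : (fst G G).left = (transl G).inv.left ≫ (fst G G).left := by
      rw [← Over.comp_left]; simp [transl]
    have h4 : (transl G).inv.left ⁻¹ᵁ (fst G G).left.smoothLocus =
        ((transl G).inv.left ≫ (fst G G).left).smoothLocus :=
      Scheme.Hom.preimage_smoothLocus_eq (transl G).inv.left (fst G G).left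
    have h5 : d.left x ∈ (transl G).inv.left ⁻¹ᵁ (fst G G).left.smoothLocus := by
      rw [Scheme.Hom.mem_preimage, ← Scheme.Hom.comp_apply, ← Over.comp_left, ← had,
        Category.assoc, Iso.hom_inv_id, Category.comp_id]
      exact h1
    rw [h4] at h5
    convert h5 using 1
    congr 1
  rw [Smoothlim.SmoothLocusBC.mem_smoothLocus_iff_of_isPullback hp (d.left x) (Or.inr inferInstance)] at h2
  have : (snd G G).left (d.left x) = x := by
    rw [← Scheme.Hom.comp_apply, ← Over.comp_left]
    simp [d]
  rwa [this] at h2

/-- If the geometric fibre at `s` is smooth, `G` is smooth over an open neighbourhood of `s`. -/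
theorem exists_opens_smooth [LocallyOfFinitePresentation G.hom] [Flat G.hom] (s : S)
    (h : Smooth (Red.geomFibre s G).hom) :
    ∃ V : S.Opens, s ∈ V ∧ Smooth (G.hom ∣_ V) := by
  let e : S ⟶ G.left := η[G].left
  have he : e ≫ G.hom = 𝟙 S := Over.w η[G]
  have hem : ∀ t : S, G.hom (e t) = t := fun t => by
    rw [← Scheme.Hom.comp_apply, he]; simp
  refine ⟨e ⁻¹ᵁ G.hom.smoothLocus, ?_, ?_⟩
  · -- a point of the geometric fibre over the unit
    rw [Scheme.Hom.mem_preimage]
    have hp : IsPullback (pullback.fst G.hom (Red.geomPt s)) (Red.geomFibre s G).hom G.hom (Red.geomPt s) :=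
      IsPullback.of_hasPullback G.hom (Red.geomPt s)
    let p : Spec (CommRingCat.of (AlgebraicClosure (S.residueField s))) := IsLocalRing.closedPoint _
    let ζ : Spec (CommRingCat.of (AlgebraicClosure (S.residueField s))) ⟶ (Red.geomFibre s G).left :=
      hp.lift (Red.geomPt s ≫ e) (𝟙 _) (by rw [Category.assoc, he]; simp)
    have hz : ζ p ∈ (Red.geomFibre s G).hom.smoothLocus := by
      rw [Scheme.Hom.smoothLocus_eq_top]; trivial
    have hp1 : Red.geomPt s p = s := by
      have : Red.geomPt s p ∈ Set.range (S.fromSpecResidueField s) := by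
        rw [Red.geomPt, Scheme.Hom.comp_apply]
        exact ⟨_, rfl⟩
      rwa [Scheme.range_fromSpecResidueField] at this
    have hz' : pullback.fst G.hom (Red.geomPt s) (ζ p) = e s := by
      rw [← Scheme.Hom.comp_apply, IsPullback.lift_fst, Scheme.Hom.comp_apply, hp1]
    rw [Smoothlim.SmoothLocusBC.mem_smoothLocus_iff_of_isPullback hp (ζ p)
      (Or.inl (Flat.stalkMap _ _)), hz'] at hz
    exact hz
  · rw [← Scheme.Hom.smoothLocus_eq_top_iff]
    ext x
    simp only [TopologicalSpace.Opens.coe_top, Set.mem_univ, iff_true, SetLike.mem_coe]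
    have hp : IsPullback (G.hom ⁻¹ᵁ (e ⁻¹ᵁ G.hom.smoothLocus)).ι (G.hom ∣_ (e ⁻¹ᵁ G.hom.smoothLocus))
        G.hom (e ⁻¹ᵁ G.hom.smoothLocus).ι := (isPullback_morphismRestrict _ _).flip
    rw [Smoothlim.SmoothLocusBC.mem_smoothLocus_iff_of_isPullback hp x (Or.inr inferInstance)]
    apply mem_smoothLocus
    exact x.2

end Groth.Agent.Sga3B.SmoothNear
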