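import Groth.Prelude.Def_Red
import Groth.Agent.Sga3B.SmoothNear
import Groth.Agent.Sga3B.BcIso
import Groth.Agent.Sga3B.TorusAlgClosed

set_option autoImplicit false
open CategoryTheory MonoidalCategory CartesianMonoidalCategory MonObj GrpObj AlgebraicGeometry Limits
universe u

namespace Groth.Agent.Sga3B.NearRed

variable {S S' : Scheme.{u}}

/-- Fibres of the base change along an open immersion are connected. -/
lemma isConnected_fibre_bc (j : S' ⟶ S) [IsOpenImmersion j] (G : Over S) (s' : S')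
    (h : _root_.IsConnected (G.hom.base ⁻¹' {j s'})) :
    _root_.IsConnected ((Red.bc j G).hom.base ⁻¹' {s'}) := by
  have hp : IsPullback (pullback.fst G.hom j) (Red.bc j G).hom G.hom j := IsPullback.of_hasPullback _ _
  have hop : IsOpenImmersion (pullback.fst G.hom j) := inferInstance
  have hf : Topology.IsOpenEmbedding (pullback.fst G.hom j) := Scheme.Hom.isOpenEmbedding _
  have hj : Function.Injective j := (Scheme.Hom.isOpenEmbedding j).injective
  have hrange : G.hom.base ⁻¹' {j s'} ⊆ Set.range (pullback.fst G.hom j) := by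
    intro x hx
    obtain ⟨z, hz1, hz2⟩ := Scheme.Pullback.exists_preimage_pullback (f := G.hom) (g := j) x s' hx
    exact ⟨z, hz1⟩
  have heq : (Red.bc j G).hom.base ⁻¹' {s'} = (pullback.fst G.hom j) ⁻¹' (G.hom.base ⁻¹' {j s'}) := by
    ext z
    simp only [Set.mem_preimage, Set.mem_singleton_iff]
    have hw : G.hom (pullback.fst G.hom j z) = j ((Red.bc j G).hom z) := by
      rw [← Scheme.Hom.comp_apply, ← Scheme.Hom.comp_apply, hp.w]
    constructor
    · intro hz
      exact hw.trans (congrArg j hz)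
    · intro hz
      exact hj (hw.symm.trans hz)
  rw [heq]
  exact h.preimage_of_isOpenMap hf.injective hf.isOpenMap hrange

/-- The base change of `G` along an open immersion into the locus where `G` is smooth. -/
lemma smooth_bc (j : S' ⟶ S) [IsOpenImmersion j] (G : Over S) [LocallyOfFinitePresentation G.hom] (V : S.Opens)
    (hV : Smooth (G.hom ∣_ V)) (hj : Set.range j ⊆ (V : Set S)) : Smooth (Red.bc j G).hom := by
  have hp : IsPullback (pullback.fst G.hom j) (Red.bc j G).hom G.hom j := IsPullback.of_hasPullback _ _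
  have hl : LocallyOfFinitePresentation (Red.bc j G).hom := MorphismProperty.of_isPullback hp inferInstance
  have hq : IsPullback (G.hom ⁻¹ᵁ V).ι (G.hom ∣_ V) G.hom V.ι := (isPullback_morphismRestrict _ _).flip
  rw [← Scheme.Hom.smoothLocus_eq_top_iff]
  ext z
  simp only [TopologicalSpace.Opens.coe_top, Set.mem_univ, iff_true, SetLike.mem_coe]
  rw [Smoothlim.SmoothLocusBC.mem_smoothLocus_iff_of_isPullback hp z (Or.inr inferInstance)]
  have hz : G.hom (pullback.fst G.hom j z) ∈ V := by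
    rw [← Scheme.Hom.comp_apply, hp.w, Scheme.Hom.comp_apply]
    exact hj ⟨_, rfl⟩
  let z' : ((G.hom ⁻¹ᵁ V : G.left.Opens) : Scheme) := ⟨pullback.fst G.hom j z, hz⟩
  have h1 : z' ∈ (G.hom ∣_ V).smoothLocus := by
    rw [Scheme.Hom.smoothLocus_eq_top]; trivial
  exact (Smoothlim.SmoothLocusBC.mem_smoothLocus_iff_of_isPullback hq z' (Or.inr inferInstance)).mp h1

/-- An affine open immersion through a given point with image in a given open. -/
lemma exists_affine (S : Scheme.{u}) (V : S.Opens) (s₀ : S) (h : s₀ ∈ V) :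
    ∃ (A : Type u) (_ : CommRing A) (j : Spec (CommRingCat.of A) ⟶ S), IsOpenImmersion j ∧
      Set.range j ⊆ (V : Set S) ∧ s₀ ∈ Set.range j := by
  obtain ⟨_, ⟨W, hW, rfl⟩, hs₀W, hWV⟩ :=
    S.isBasis_affineOpens.exists_subset_of_mem_open (a := s₀) (u := (V : Set S)) h V.2
  have hjr : Set.range hW.fromSpec = (W : Set S) := hW.range_fromSpec
  refine ⟨Γ(S, W), inferInstance, hW.fromSpec, inferInstanceAs (IsOpenImmersion hW.fromSpec), hjr.le.trans hWV, ?_⟩
  exact hjr.ge hs₀W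

/-- Shrinking an étale morphism between affine schemes so that it becomes surjective onto a neighbourhood. -/
lemma exists_shrink (A B : Type u) [CommRing A] [CommRing B] (v : Spec (CommRingCat.of B) ⟶ Spec (CommRingCat.of A))
    [Etale v] (a : Spec (CommRingCat.of A)) (ha : a ∈ Set.range v) (R : Set (Spec (CommRingCat.of A)))
    (hR : IsOpen R) (haR : a ∈ R) :
    ∃ (A' B' : Type u) (_ : CommRing A') (_ : CommRing B') (u : Spec (CommRingCat.of A') ⟶ Spec (CommRingCat.of A))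
      (w : Spec (CommRingCat.of B') ⟶ Spec (CommRingCat.of B)) (v' : Spec (CommRingCat.of B') ⟶ Spec (CommRingCat.of A')),
      IsOpenImmersion u ∧ IsOpenImmersion w ∧ Etale v' ∧ Surjective v' ∧ w ≫ v = v' ≫ u ∧ a ∈ Set.range u ∧
        Set.range u ⊆ R := by
  have hv₁o : IsOpen (Set.range v) := v.isOpenMap.isOpen_range
  obtain ⟨A', _, u, hu, hur, hau⟩ := exists_affine (Spec (CommRingCat.of A)) ⟨R ∩ Set.range v, hR.inter hv₁o⟩ a ⟨haR, ha⟩
  have haff : IsAffine (pullback v u) := inferInstance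
  refine ⟨A', Γ(pullback v u, ⊤), inferInstance, inferInstance, u, (pullback v u).isoSpec.inv ≫ pullback.fst v u,
    (pullback v u).isoSpec.inv ≫ pullback.snd v u, hu, ?_, ?_, ?_, ?_, hau, fun x hx => (hur hx).1⟩
  · exact inferInstanceAs (IsOpenImmersion ((pullback v u).isoSpec.inv ≫ pullback.fst v u))
  · exact inferInstanceAs (Etale ((pullback v u).isoSpec.inv ≫ pullback.snd v u))
  · have : Surjective (pullback.snd v u) := by
      constructor
      intro x
      obtain ⟨y, hy⟩ := (hur ⟨x, rfl⟩).2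
      obtain ⟨z, hz1, hz2⟩ := Scheme.Pullback.exists_preimage_pullback (f := v) (g := u) y x hy
      exact ⟨z, hz2⟩
    exact inferInstanceAs (Surjective ((pullback v u).isoSpec.inv ≫ pullback.snd v u))
  · rw [Category.assoc, Category.assoc, pullback.condition]

/-- The two group-theoretic base change isomorphisms composed. -/
lemma exists_iso_bc {S₀ S₁ S₂ S₃ : Scheme.{u}} (j : S₁ ⟶ S₀) (v : S₂ ⟶ S₁) (w : S₃ ⟶ S₂) (k : S₃ ⟶ S₀)
    (h : (w ≫ v) ≫ j = k) (G : Over S₀) [GrpObj G] :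
    Nonempty (Grp.mk (Red.bc w (Red.bc v (Red.bc j G))) ≅ Grp.mk (Red.bc k G)) :=
  ⟨(BcIso.bcCompIso w v (Red.bc j G)).symm ≪≫ (BcIso.bcCompIso (w ≫ v) j G).symm ≪≫ BcIso.bcCongrIso h G⟩

/-- SGA 3 XIX 2.5 from the openness of the reductive locus, XIX 6.1, and the fact that maximal tori of reductive groups
over algebraically closed fields are their own centralizers. -/
theorem main
    (hOpen : ∀ (S : Scheme.{u}) (G : Over S) [GrpObj G] [IsAffineHom G.hom] [Smooth G.hom],
      (∀ s : S, _root_.IsConnected (G.hom.base ⁻¹' {s})) →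
      IsOpen {s : S | Red.IsReductiveOver (AlgebraicClosure (S.residueField s)) (Red.geomFibre s G)})
    (hSelf : ∀ (K : Type u) [Field K] [IsAlgClosed K] (G T : Over (Spec (CommRingCat.of K))) [GrpObj G] [GrpObj T]
      (i : T ⟶ G), Red.IsReductiveOver K G → Red.IsMaximalTorus i →
      ∀ (X : Over _) (g : X ⟶ G), (∀ (X' : Over _) (x : X' ⟶ X) (t : X' ⟶ T),
        (x ≫ g) * (t ≫ i) = (t ≫ i) * (x ≫ g)) → ∃ t : X ⟶ T, g = t ≫ i)
    (h3003 : ∀ (S : Scheme.{u}) (G : Over S) [GrpObj G] [IsAffineHom G.hom] [Smooth G.hom]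
      (_ : ∀ s : S, _root_.IsConnected (G.hom.base ⁻¹' {s})) (s₀ : S)
      (_ : ∀ (T : Over (Spec (CommRingCat.of (AlgebraicClosure (S.residueField s₀))))) [GrpObj T]
        (i : T ⟶ Red.geomFibre s₀ G), Red.IsMaximalTorus i → ∀ (X : Over _) (g : X ⟶ Red.geomFibre s₀ G),
        (∀ (X' : Over _) (x : X' ⟶ X) (t : X' ⟶ T), (x ≫ g) * (t ≫ i) = (t ≫ i) * (x ≫ g)) → ∃ t : X ⟶ T, g = t ≫ i),
      ∃ (B : Type u) (_ : CommRing B) (v : Spec (CommRingCat.of B) ⟶ S), Etale v ∧ s₀ ∈ Set.range v.base ∧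
        ∃ (T : Over (Spec (CommRingCat.of B))) (_ : GrpObj T) (i : T ⟶ Red.bc v G), Red.IsMaximalTorus i ∧
          ∃ r : ℕ, Red.IsSplitTorusWith (Fin r → ℤ) T)
    (hbc1 : ∀ {S S' : Scheme.{u}} (j : S' ⟶ S) [IsOpenImmersion j] (G : Over S) [GrpObj G] (s' : S'),
      Red.IsReductiveOver (AlgebraicClosure (S'.residueField s')) (Red.geomFibre s' (Red.bc j G)) ↔
        Red.IsReductiveOver (AlgebraicClosure (S.residueField (j s'))) (Red.geomFibre (j s') G))
    (hbc2 : ∀ {S S' : Scheme.{u}} (j : S' ⟶ S) [IsOpenImmersion j] {T G : Over S} [GrpObj T] [GrpObj G]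
      (i : T ⟶ G), Red.IsMaximalTorus i → Red.IsMaximalTorus ((Over.pullback j).map i))
    (hiso : ∀ {S : Scheme.{u}} {T G H : Over S} [GrpObj T] [GrpObj G] [GrpObj H] (i : T ⟶ G)
      (e : Grp.mk G ≅ Grp.mk H), Red.IsMaximalTorus i → Red.IsMaximalTorus (i ≫ e.hom.hom.hom))
    (S : Scheme.{u}) (G : Over S) [GrpObj G] [IsAffineHom G.hom]
    [LocallyOfFinitePresentation G.hom] [Flat G.hom] (hconn : ∀ s : S, _root_.IsConnected (G.hom.base ⁻¹' {s})) (s₀ : S)
    (h₀ : Red.IsReductiveOver (AlgebraicClosure (S.residueField s₀)) (Red.geomFibre s₀ G)) :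
    ∃ (A : Type u) (_ : CommRing A) (u : Spec (CommRingCat.of A) ⟶ S), IsOpenImmersion u ∧ s₀ ∈ Set.range u.base ∧
      Red.IsReductive (Red.bc u G) ∧ ∃ (B : Type u) (_ : CommRing B) (v : Spec (CommRingCat.of B) ⟶ Spec (CommRingCat.of A)),
        Etale v ∧ Surjective v ∧ ∃ (T : Over (Spec (CommRingCat.of B))) (_ : GrpObj T) (i : T ⟶ Red.bc (v ≫ u) G),
          Red.IsMaximalTorus i ∧ ∃ r : ℕ, Red.IsSplitTorusWith (Fin r → ℤ) T := by
  obtain ⟨V, hs₀V, hV⟩ := SmoothNear.exists_opens_smooth G s₀ h₀.2.1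
  obtain ⟨A₀, _, j, hj, hjV, a₀, rfl⟩ := exists_affine S V s₀ hs₀V
  have hsm : ∀ {S' : Scheme.{u}} (k : S' ⟶ S) [IsOpenImmersion k], Set.range k ⊆ Set.range j →
      Smooth (Red.bc k G).hom := fun k _ hk => smooth_bc k G V hV (hk.trans hjV)
  have haf : ∀ {S' : Scheme.{u}} (k : S' ⟶ S), IsAffineHom (Red.bc k G).hom := fun k =>
    MorphismProperty.of_isPullback (IsPullback.of_hasPullback G.hom k) (inferInstanceAs (IsAffineHom G.hom))
  have hsm₁ : Smooth (Red.bc j G).hom := hsm j le_rfl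
  have haf₁ : IsAffineHom (Red.bc j G).hom := haf j
  have hconn₁ : ∀ s, _root_.IsConnected ((Red.bc j G).hom.base ⁻¹' {s}) :=
    fun s => isConnected_fibre_bc j G s (hconn _)
  have hred₁ : Red.IsReductiveOver _ (Red.geomFibre a₀ (Red.bc j G)) := (hbc1 j G a₀).mpr h₀
  have hR := hOpen _ (Red.bc j G) hconn₁
  obtain ⟨B₁, _, v₁, hv₁, hav, T₁, _, i₁, hi₁, r, hr⟩ := h3003 _ (Red.bc j G) hconn₁ a₀
    (fun T _ i hi => hSelf _ _ T i hred₁ hi)
  obtain ⟨A', B', _, _, u, w, v', hu, hw, hv', hv's, hcomm, hau, huR⟩ :=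
    exists_shrink A₀ B₁ v₁ a₀ hav _ hR hred₁
  have huj : IsOpenImmersion (u ≫ j) := inferInstance
  refine ⟨A', inferInstance, u ≫ j, huj, ?_, ⟨haf _, hsm _ ?_, ?_⟩, B', inferInstance, v', hv', hv's, Red.bc w T₁,
    inferInstance, ?_⟩
  · obtain ⟨x, hx⟩ := hau
    exact ⟨x, by rw [Scheme.Hom.comp_base, TopCat.comp_app]; exact congrArg j hx⟩
  · rintro _ ⟨x, rfl⟩
    exact ⟨u x, (Scheme.Hom.comp_apply u j x).symm⟩
  · intro s
    rw [hbc1 (u ≫ j) G s]
    have h1 : Red.IsReductiveOver _ (Red.geomFibre (u s) (Red.bc j G)) := huR ⟨s, rfl⟩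
    rw [hbc1 j G (u s)] at h1
    have h2 : (u ≫ j) s = j (u s) := Scheme.Hom.comp_apply u j s
    rw [h2]
    exact h1
  · obtain ⟨e⟩ := exists_iso_bc j v₁ w (v' ≫ u ≫ j) (by rw [hcomm, Category.assoc]) G
    exact ⟨(Over.pullback w).map i₁ ≫ e.hom.hom.hom, hiso _ e (hbc2 w i₁ hi₁), r,
      TorusAlgClosed.isSplitTorusWith_bc w hr⟩

end Groth.Agent.Sga3B.NearRed
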