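import Groth.Agent.Sga3B.TorusBc
import Groth.Agent.Sga3B.BcPts
import Groth.Agent.Sga3B.Pts

/-!
# Normal homomorphisms, tori, and "no subtorus" under base change and isomorphisms
-/

set_option autoImplicit false
open CategoryTheory MonoidalCategory CartesianMonoidalCategory MonObj GrpObj AlgebraicGeometry
universe u

namespace Groth.Agent.Sga3B.NormBc

open Groth.Agent.Sga3B Groth.Agent.Sga3B.TorusAlgClosed Groth.Agent.Sga3B.TorusBc

variable {S S' : Scheme.{u}}

section General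

variable {G G' N N' : Over S} [GrpObj G] [GrpObj G'] [GrpObj N] [GrpObj N']

lemma isNormalHom_comp_iso (i : N ⟶ G) (ψ : G ⟶ G') [IsMonHom ψ] [IsIso ψ] (h : AlgGrp.IsNormalHom i) :
    AlgGrp.IsNormalHom (i ≫ ψ) := by
  intro X g n
  obtain ⟨n', hn'⟩ := h X (g ≫ inv ψ) n
  refine ⟨n', ?_⟩
  have h1 := congrArg (fun t => t ≫ ψ) hn'
  simp only [MonObj.mul_comp, GrpObj.inv_comp, Category.assoc, IsIso.inv_hom_id, Category.comp_id] at h1
  exact h1

lemma isNormalHom_iso_comp (φ : N' ⟶ N) [IsIso φ] (i : N ⟶ G) (h : AlgGrp.IsNormalHom i) :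
    AlgGrp.IsNormalHom (φ ≫ i) := by
  intro X g n
  obtain ⟨n', hn'⟩ := h X g (n ≫ φ)
  refine ⟨n' ≫ inv φ, ?_⟩
  simpa using hn'

/-- Base change of normal homomorphisms. -/
lemma isNormalHom_bc (f : S' ⟶ S) (i : N ⟶ G) (h : AlgGrp.IsNormalHom i) :
    AlgGrp.IsNormalHom ((Over.pullback f).map i) := by
  intro X g n
  obtain ⟨n', hn'⟩ := h ((Over.map f).obj X) ((BcPts.bcEquiv f X G).symm g) ((BcPts.bcEquiv f X N).symm n)
  refine ⟨BcPts.bcEquiv f X N n', ?_⟩
  rw [← BcPts.bcEquiv_comp, ← hn']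
  have e1 : BcPts.bcEquiv f X G ((BcPts.bcEquiv f X N).symm n ≫ i) = n ≫ (Over.pullback f).map i := by
    rw [BcPts.bcEquiv_comp, Equiv.apply_symm_apply]
  change _ = BcPts.bcMulEquiv f X G _
  rw [map_mul, map_mul, map_inv]
  change _ = BcPts.bcEquiv f X G _ * BcPts.bcEquiv f X G _ * (BcPts.bcEquiv f X G _)⁻¹
  rw [e1, Equiv.apply_symm_apply]

end General

instance isMonHom_pullback_map (f : S' ⟶ S) {G H : Over S} [GrpObj G] [GrpObj H] (i : G ⟶ H) [IsMonHom i] :
    IsMonHom ((Over.pullback f).map i) := inferInstance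

end Groth.Agent.Sga3B.NormBc
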