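import Groth.Agent.Books.AffBridge
import Groth.Agent.Picfga.OverRep

/-!
# Affine neighbourhoods, points and open immersions in `Over (Spec R)`
-/

set_option autoImplicit false
open CategoryTheory MonoidalCategory CartesianMonoidalCategory AlgebraicGeometry Opposite Limits
open scoped TensorProduct
universe w u

namespace Groth.Agent.Sga3B.OverAff898
open Groth.Agent.Books.AffBridge Groth.Agent.Picfga.OverRep

variable {R : Type u} [CommRing R]

/-- A morphism from an affine scheme to an `R`-scheme. -/
lemma exists_over {A : Type u} [CommRing A] (T : Over (Spec (CommRingCat.of R)))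
    (f : Spec (CommRingCat.of A) ⟶ T.left) :
    ∃ (_ : Algebra R A) (j : SpecOver R A ⟶ T), j.left = f := by
  let _ : Algebra R A := (Spec.preimage (f ≫ T.hom)).hom.toAlgebra
  have h : f ≫ T.hom = Spec.map (CommRingCat.ofHom (algebraMap R A)) := by
    rw [← Spec.map_preimage (f ≫ T.hom)]
    rfl
  exact ⟨inferInstance, Over.homMk f h, rfl⟩

/-- Affine open neighbourhoods. -/
lemma exists_affine_nhd (T : Over (Spec (CommRingCat.of R))) (t : T.left) :
    ∃ (A : Type u) (_ : CommRing A) (_ : Algebra R A) (j : SpecOver R A ⟶ T),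
      IsOpenImmersion j.left ∧ t ∈ Set.range j.left := by
  obtain ⟨U, hU, ht, -⟩ := exists_isAffineOpen_mem_and_subset (X := T.left) (x := t) (U := ⊤) trivial
  obtain ⟨_, j, hj⟩ := exists_over (A := Γ(T.left, U)) T hU.fromSpec
  refine ⟨Γ(T.left, U), inferInstance, inferInstance, j, ?_, ?_⟩
  · rw [hj]
    exact hU.isOpenImmersion_fromSpec
  · rw [hj]
    have : Set.range hU.fromSpec = U := hU.range_fromSpec
    exact this.symm ▸ ht

/-- Points with values in a field. -/
lemma exists_field_point (T : Over (Spec (CommRingCat.of R))) (t : T.left) :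
    ∃ (K : Type u) (_ : Field K) (_ : Algebra R K) (j : SpecOver R K ⟶ T), Set.range j.left = {t} := by
  obtain ⟨_, j, hj⟩ := exists_over (A := T.left.residueField t) T (T.left.fromSpecResidueField t)
  refine ⟨T.left.residueField t, inferInstance, _, j, ?_⟩
  rw [hj]
  exact Scheme.range_fromSpecResidueField t

section
variable {S : Scheme.{u}}

/-- Lifting along an open immersion. -/
lemma exists_lift {V T Y : Over S} (j : V ⟶ T) [IsOpenImmersion j.left] (f : Y ⟶ T)
    (h : Set.range f.left ⊆ Set.range j.left) : ∃ f' : Y ⟶ V, f' ≫ j = f := by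
  refine ⟨Over.homMk (IsOpenImmersion.lift j.left f.left h) ?_, ?_⟩
  · rw [← Over.w j, ← Category.assoc, IsOpenImmersion.lift_fac, Over.w]
  · ext1
    exact IsOpenImmersion.lift_fac _ _ _

/-- Morphisms agreeing on an open covering family. -/
lemma hom_ext_of_covers {T Y : Over S} (a b : T ⟶ Y)
    (h : ∀ t : T.left, ∃ (V : Over S) (j : V ⟶ T), IsOpenImmersion j.left ∧ t ∈ Set.range j.left ∧
      j ≫ a = j ≫ b) : a = b := by
  apply hom_ext_local
  intro t
  obtain ⟨V, j, hj, ht, hab⟩ := h t
  refine ⟨j.left.opensRange, ht, ?_⟩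
  obtain ⟨c, hc⟩ := exists_lift j (res T j.left.opensRange) (by
    change Set.range j.left.opensRange.ι ⊆ _
    rw [Scheme.Opens.range_ι]
    rfl)
  rw [← hc, Category.assoc, hab, Category.assoc]

lemma exists_chart_of_immersion {G : (Over S)ᵒᵖ ⥤ Type w} {X : Over S} (ξ : G.obj (op X)) {T V : Over S}
    (x : G.obj (op T)) (j : V ⟶ T) [IsOpenImmersion j.left] {t : T.left} (ht : t ∈ Set.range j.left)
    (k : V ⟶ X) (hk : G.map k.op ξ = G.map j.op x) :
    ∃ (U : T.left.Opens) (k' : Over.mk (U.ι ≫ T.hom) ⟶ X), t ∈ U ∧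
      G.map k'.op ξ = G.map (res T U).op x := by
  obtain ⟨c, hc⟩ := exists_lift j (res T j.left.opensRange) (by
    change Set.range j.left.opensRange.ι ⊆ _
    rw [Scheme.Opens.range_ι]
    rfl)
  refine ⟨j.left.opensRange, c ≫ k, ht, ?_⟩
  rw [map_comp_apply, hk, ← map_comp_apply, hc]

end

/-- Localization is an open immersion. -/
lemma isOpenImmersion_away {A : Type u} [CommRing A] [Algebra R A] (a : A) :
    IsOpenImmersion (specMap R (IsScalarTower.toAlgHom R A (Localization.Away a))).left :=
  inferInstanceAs (IsOpenImmersion (Spec.map (CommRingCat.ofHom (algebraMap A (Localization.Away a)))))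

lemma mem_range_away {A : Type u} [CommRing A] [Algebra R A] (a : A) (x : (SpecOver R A).left)
    (hx : a ∉ PrimeSpectrum.asIdeal x) :
    x ∈ Set.range (specMap R (IsScalarTower.toAlgHom R A (Localization.Away a))).left := by
  have h := PrimeSpectrum.localization_away_comap_range (Localization.Away a) a
  have h2 : x ∈ (PrimeSpectrum.basicOpen a : Set (PrimeSpectrum A)) := hx
  rw [← h] at h2
  exact h2

end Groth.Agent.Sga3B.OverAff898
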