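import Mathlib.RingTheory.GradedAlgebra.Basic
import Mathlib.Algebra.MonoidAlgebra.Basic
import Mathlib.Data.Finsupp.Basic

/-!
# Coactions of diagonalizable groups and gradings

A coaction `A → A[M]` of the diagonalizable group `D(M)` on `Spec A` is the same as an
`M`-grading of `A`.
-/

set_option autoImplicit false

open DirectSum

universe u w

namespace Groth.Agent.Sga3B.RootCoact

/-- A coaction of the diagonalizable group `D(M)` on `Spec A`. -/
structure Coact (R : Type u) [CommRing R] (A : Type u) [CommRing A] [Algebra R A]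
    (M : Type w) [AddCommGroup M] where
  /-- the coaction -/
  rho : A →ₐ[R] MonoidAlgebra A (Multiplicative M)
  sum_rho : ∀ a, ((rho a).coeff.sum fun _ b => b) = a
  rho_coeff : ∀ a (m : Multiplicative M),
    rho ((rho a).coeff m) = MonoidAlgebra.single m ((rho a).coeff m)

variable {R : Type u} [CommRing R] {A : Type u} [CommRing A] [Algebra R A]
  {M : Type w} [AddCommGroup M] (c : Coact R A M)

/-- projection to the component of degree `m` -/
noncomputable def pr (m : M) : A →ₗ[R] A where
  toFun a := (c.rho a).coeff (Multiplicative.ofAdd m)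
  map_add' a b := by simp
  map_smul' r a := by simp

lemma pr_def (m : M) (a : A) : pr c m a = (c.rho a).coeff (Multiplicative.ofAdd m) := rfl

/-- homogeneous elements of degree `m` -/
noncomputable def gr (m : M) : Submodule R A where
  carrier := {a | c.rho a = MonoidAlgebra.single (Multiplicative.ofAdd m) a}
  add_mem' := by
    intro a b ha hb
    simp only [Set.mem_ofPred_eq] at ha hb ⊢
    rw [map_add, ha, hb, MonoidAlgebra.single_add]
  zero_mem' := by simp
  smul_mem' := by
    intro r x hx
    simp only [Set.mem_ofPred_eq] at hx ⊢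
    rw [map_smul, hx, MonoidAlgebra.smul_single]

lemma mem_gr {m : M} {a : A} :
    a ∈ gr c m ↔ c.rho a = MonoidAlgebra.single (Multiplicative.ofAdd m) a := Iff.rfl

lemma pr_mem_gr (m : M) (a : A) : pr c m a ∈ gr c m := c.rho_coeff a _

lemma pr_of_mem [DecidableEq M] {n : M} {a : A} (ha : a ∈ gr c n) (m : M) :
    pr c m a = if n = m then a else 0 := by
  rw [pr_def, (mem_gr c).1 ha, MonoidAlgebra.coeff_single, Finsupp.single_apply]
  simp [Multiplicative.ofAdd.injective.eq_iff]

lemma pr_of_mem_same {n : M} {a : A} (ha : a ∈ gr c n) : pr c n a = a := by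
  classical
  rw [pr_of_mem c ha, if_pos rfl]

lemma pr_of_mem_ne {n m : M} {a : A} (ha : a ∈ gr c n) (h : n ≠ m) : pr c m a = 0 := by
  classical
  rw [pr_of_mem c ha, if_neg h]

lemma mem_gr_iff_pr {n : M} {a : A} : a ∈ gr c n ↔ pr c n a = a :=
  ⟨pr_of_mem_same c, fun h => h ▸ pr_mem_gr c n a⟩

lemma pr_pr [DecidableEq M] (m n : M) (a : A) :
    pr c m (pr c n a) = if n = m then pr c n a else 0 :=
  pr_of_mem c (pr_mem_gr c n a) m

lemma algebraMap_mem_gr (r : R) : algebraMap R A r ∈ gr c 0 := by
  rw [mem_gr, AlgHom.commutes]; rfl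

lemma one_mem_gr : (1 : A) ∈ gr c 0 := by
  rw [mem_gr, map_one]; rfl

lemma mul_mem_gr {n m : M} {a b : A} (ha : a ∈ gr c n) (hb : b ∈ gr c m) :
    a * b ∈ gr c (n + m) := by
  rw [mem_gr, map_mul, (mem_gr c).1 ha, (mem_gr c).1 hb, MonoidAlgebra.single_mul_single]
  rfl

instance gradedMonoid_gr : SetLike.GradedMonoid (gr c) where
  one_mem := one_mem_gr c
  mul_mem _ _ _ _ ha hb := mul_mem_gr c ha hb

/-- the (finite) set of weights of `a` -/
noncomputable def supp (a : A) : Finset M :=
  (c.rho a).coeff.support.map Multiplicative.toAdd.toEmbedding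

lemma mem_supp {a : A} {m : M} : m ∈ supp c a ↔ pr c m a ≠ 0 := by
  simp [supp, pr_def]

lemma sum_pr (a : A) : ∑ m ∈ supp c a, pr c m a = a := by
  conv_rhs => rw [← c.sum_rho a]
  rw [supp, Finset.sum_map]
  rfl

lemma ext_pr {a b : A} (h : ∀ m, pr c m a = pr c m b) : a = b := by
  rw [← sum_pr c a, ← sum_pr c b]
  have : supp c a = supp c b := by
    ext m
    rw [mem_supp, mem_supp, h]
  rw [this]
  exact Finset.sum_congr rfl fun m _ => h m

/-- the candidate for the decomposition map -/
noncomputable def dec [DecidableEq M] (a : A) : DirectSum M fun n => gr c n :=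
  ∑ n ∈ supp c a, DirectSum.of (fun n => gr c n) n ⟨pr c n a, pr_mem_gr c n a⟩

lemma dec_apply [DecidableEq M] (a : A) (n : M) : ((dec c a) n : A) = pr c n a := by
  classical
  rw [dec, DFinsupp.finsetSum_apply, AddSubmonoidClass.coe_finsetSum]
  rw [Finset.sum_eq_single n]
  · rw [DirectSum.of_eq_same]
  · intro m _ hm
    rw [DirectSum.of_eq_of_ne _ _ _ hm.symm]; rfl
  · intro hn
    rw [DirectSum.of_eq_same]
    rw [mem_supp, not_not] at hn
    exact hn

lemma pr_coe_directSum [DecidableEq M] (x : DirectSum M fun n => gr c n) (n : M) :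
    pr c n (DirectSum.coeAddMonoidHom (gr c) x) = x n := by
  induction x using DirectSum.induction_on with
  | zero => simp
  | of i x =>
    rw [DirectSum.coeAddMonoidHom_of, pr_of_mem c x.2]
    by_cases h : i = n
    · subst h; simp
    · rw [if_neg h, DirectSum.of_eq_of_ne _ _ _ (Ne.symm h)]; rfl
  | add x y hx hy => rw [map_add, map_add, hx, hy]; rfl

/-- the decomposition of `A` -/
noncomputable instance decomposition_gr [DecidableEq M] : DirectSum.Decomposition (gr c) where
  decompose' := dec c
  left_inv := by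
    intro a
    conv_rhs => rw [← sum_pr c a]
    rw [dec, map_sum]
    simp only [DirectSum.coeAddMonoidHom_of]
  right_inv := by
    intro x
    ext n
    rw [dec_apply, pr_coe_directSum]

noncomputable instance gradedAlgebra_gr [DecidableEq M] : GradedAlgebra (gr c) where
  __ := gradedMonoid_gr c
  __ := decomposition_gr c

lemma decompose_apply [DecidableEq M] (a : A) (n : M) :
    (DirectSum.decompose (gr c) a n : A) = pr c n a :=
  dec_apply c a n

lemma pr_sum {ι : Type*} (s : Finset ι) (f : ι → A) (m : M) :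
    pr c m (∑ i ∈ s, f i) = ∑ i ∈ s, pr c m (f i) := map_sum _ _ _

lemma induction_gr {p : A → Prop} (h0 : p 0) (hadd : ∀ a b, p a → p b → p (a + b))
    (h : ∀ m, ∀ a ∈ gr c m, p a) (a : A) : p a := by
  rw [← sum_pr c a]
  exact Finset.sum_induction _ p hadd h0 fun m _ => h m _ (pr_mem_gr c m a)

end Groth.Agent.Sga3B.RootCoact
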