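import Groth.Agent.Books.DynBasic
import Groth.Agent.Sga3B.RootCoact

/-!
# Twisted conjugation by a split torus

For a Hopf algebra `A` over `R` and two homomorphisms `p q : A →ₐc[R] R[M]` (homomorphisms
`D(M) → G = Spec A`), the twisted conjugation `t • g = p(t) g q(t)⁻¹` defines a coaction of `D(M)`
on `A`.
-/

set_option autoImplicit false

open TensorProduct WithConv
open Groth.Agent.Books.DynBasic Groth.Agent.Sga3B.RootCoact

universe u

namespace Groth.Agent.Sga3B.RootOrb

section Torus

variable (R : Type u) [CommRing R] {M : Type} [AddCommGroup M]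
variable {C : Type u} [CommRing C] [Algebra R C]
variable {D : Type u} [CommRing D] [Algebra R D]

/-- the point of `D(M)` given by a character `t : M → Cˣ` -/
noncomputable def evT (t : Multiplicative M →* Cˣ) : MonoidAlgebra R (Multiplicative M) →ₐ[R] C :=
  MonoidAlgebra.lift R C (Multiplicative M) ((Units.coeHom C).comp t)

@[simp] lemma evT_single (t : Multiplicative M →* Cˣ) (m : Multiplicative M) (r : R) :
    evT R t (MonoidAlgebra.single m r) = r • (t m : C) := by
  rw [evT, MonoidAlgebra.lift_single]; rfl

variable {R}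

lemma algHom_ext_single {f g : MonoidAlgebra R (Multiplicative M) →ₐ[R] C}
    (h : ∀ m, f (MonoidAlgebra.single m 1) = g (MonoidAlgebra.single m 1)) : f = g :=
  MonoidAlgebra.algHom_ext h (by ext)

lemma evT_one : toConv (evT R (1 : Multiplicative M →* Cˣ)) = 1 := by
  apply WithConv.ofConv_injective
  apply algHom_ext_single
  intro m
  change evT R (1 : Multiplicative M →* Cˣ) _ = _
  rw [evT_single]
  simp [AlgHom.convOne_def, Algebra.ofId_apply]

lemma evT_mul (s t : Multiplicative M →* Cˣ) :
    toConv (evT R (s * t)) = toConv (evT R s) * toConv (evT R t) := by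
  apply WithConv.ofConv_injective
  apply algHom_ext_single
  intro m
  change _ = (toConv (evT R s) * toConv (evT R t)) _
  rw [MonoidAlgebra.convMul_algHom_single_one]
  change evT R (s * t) _ = evT R s _ * evT R t _
  simp

variable {A : Type u} [CommRing A] [HopfAlgebra R A]
variable (p : A →ₐc[R] MonoidAlgebra R (Multiplicative M))

/-- The value of the homomorphism `D(M) → G` at the point `t` of `D(M)`. -/
noncomputable def torPt : (Multiplicative M →* Cˣ) →* WithConv (A →ₐ[R] C) where
  toFun t := toConv ((evT R t).comp (p : A →ₐ[R] MonoidAlgebra R (Multiplicative M)))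
  map_one' := by
    have h := congrArg WithConv.ofConv (evT_one (R := R) (C := C) (M := M))
    change evT R (1 : Multiplicative M →* Cˣ) = _ at h
    rw [h, AlgHom.convOne_def, AlgHom.convOne_def]
    congr 1
    change (Algebra.ofId R C).comp ((Bialgebra.counitAlgHom R _).comp
      (p : A →ₐ[R] MonoidAlgebra R (Multiplicative M))) = _
    congr 1
    ext a
    exact CoalgHomClass.counit_comp_apply p a
  map_mul' x y := by
    have h := congrArg WithConv.ofConv (evT_mul (R := R) x y)
    change evT R (x * y) = _ at h
    rw [h]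
    apply WithConv.ofConv_injective
    exact AlgHom.convMul_comp_bialgHom_distrib _ _ p

lemma torPt_apply (t : Multiplicative M →* Cˣ) (a : A) :
    (torPt p t).ofConv a = evT R t (p a) := rfl

lemma mapPt_torPt (φ : C →ₐ[R] D) (t : Multiplicative M →* Cˣ) :
    mapPt φ (torPt p t) = torPt p ((Units.map (φ : C →* D)).comp t) := by
  apply WithConv.ofConv_injective
  change φ.comp ((evT R t).comp (p : A →ₐ[R] MonoidAlgebra R (Multiplicative M))) =
    (evT R _).comp (p : A →ₐ[R] MonoidAlgebra R (Multiplicative M))
  rw [← AlgHom.comp_assoc]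
  congr 1
  apply algHom_ext_single
  intro m
  rw [AlgHom.comp_apply, evT_single, evT_single, one_smul, one_smul]
  rfl

end Torus

section Orbit

variable {R : Type u} [CommRing R] {A : Type u} [CommRing A] [HopfAlgebra R A]
variable {M : Type} [AddCommGroup M]
variable (p q : A →ₐc[R] MonoidAlgebra R (Multiplicative M))
variable {C : Type u} [CommRing C] [Algebra R C]
variable {D : Type u} [CommRing D] [Algebra R D]

variable (M C) in
/-- The universal point of `D(M)`. -/
noncomputable def tau : Multiplicative M →* (MonoidAlgebra C (Multiplicative M))ˣ :=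
  MonoidHom.toHomUnits (MonoidAlgebra.of C (Multiplicative M))

@[simp] lemma tau_apply (m : Multiplicative M) :
    ((tau M C m : (MonoidAlgebra C (Multiplicative M))ˣ) : MonoidAlgebra C (Multiplicative M)) =
      MonoidAlgebra.single m 1 := rfl

variable (R M C) in
/-- constants -/
noncomputable def cst : C →ₐ[R] MonoidAlgebra C (Multiplicative M) :=
  IsScalarTower.toAlgHom R C (MonoidAlgebra C (Multiplicative M))

@[simp] lemma cst_apply (x : C) : cst R M C x = MonoidAlgebra.single 1 x := rfl

/-- twisted conjugation by `t`. -/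
noncomputable def orb (t : Multiplicative M →* Cˣ) (g : WithConv (A →ₐ[R] C)) :
    WithConv (A →ₐ[R] C) :=
  torPt p t * g * (torPt q t)⁻¹

lemma orb_mul (s t : Multiplicative M →* Cˣ) (g : WithConv (A →ₐ[R] C)) :
    orb p q (s * t) g = orb p q s (orb p q t g) := by
  rw [orb, orb, orb, map_mul, map_mul, mul_inv_rev]; simp only [mul_assoc]

lemma orb_one (g : WithConv (A →ₐ[R] C)) : orb p q 1 g = g := by
  simp [orb]

lemma mapPt_orb (φ : C →ₐ[R] D) (t : Multiplicative M →* Cˣ) (g : WithConv (A →ₐ[R] C)) :
    mapPt φ (orb p q t g) = orb p q ((Units.map (φ : C →* D)).comp t) (mapPt φ g) := by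
  simp only [orb, map_mul, map_inv, mapPt_torPt]

/-- twisted conjugation by the universal point -/
noncomputable def orbU (g : WithConv (A →ₐ[R] C)) :
    WithConv (A →ₐ[R] MonoidAlgebra C (Multiplicative M)) :=
  orb p q (tau M C) (mapPt (cst R M C) g)

lemma map_tau (φ : C →ₐ[R] D) :
    (Units.map (MonoidAlgebra.mapAlgHom (Multiplicative M) φ :
      MonoidAlgebra C (Multiplicative M) →* MonoidAlgebra D (Multiplicative M))).comp (tau M C) =
      tau M D := by
  refine MonoidHom.ext fun m => Units.ext ?_
  change MonoidAlgebra.mapAlgHom (Multiplicative M) φ (MonoidAlgebra.single m 1) = _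
  rw [MonoidAlgebra.mapAlgHom_single, map_one]
  rfl

lemma map_comp_cst (φ : C →ₐ[R] D) :
    (MonoidAlgebra.mapAlgHom (Multiplicative M) φ).comp (cst R M C) = (cst R M D).comp φ := by
  ext1 r
  change MonoidAlgebra.mapAlgHom (Multiplicative M) φ (MonoidAlgebra.single 1 r) = _
  rw [MonoidAlgebra.mapAlgHom_single]
  rfl

lemma orbU_mapPt (φ : C →ₐ[R] D) (g : WithConv (A →ₐ[R] C)) :
    orbU p q (mapPt φ g) = mapPt (MonoidAlgebra.mapAlgHom (Multiplicative M) φ) (orbU p q g) := by
  simp only [orbU, mapPt_orb, map_tau]
  congr 1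
  change toConv ((cst R M D).comp (φ.comp g.ofConv)) =
    toConv ((MonoidAlgebra.mapAlgHom (Multiplicative M) φ).comp ((cst R M C).comp g.ofConv))
  rw [← AlgHom.comp_assoc, ← AlgHom.comp_assoc, map_comp_cst]

/-- the coaction -/
noncomputable def rho : A →ₐ[R] MonoidAlgebra A (Multiplicative M) :=
  (orbU p q (toConv (AlgHom.id R A))).ofConv

lemma orbU_eq (g : WithConv (A →ₐ[R] C)) :
    orbU p q g = toConv ((MonoidAlgebra.mapAlgHom (Multiplicative M) g.ofConv).comp (rho p q)) :=
  orbU_mapPt p q g.ofConv (toConv (AlgHom.id R A))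

lemma coeff_orbU (g : WithConv (A →ₐ[R] C)) (a : A) (m : Multiplicative M) :
    ((orbU p q g).ofConv a).coeff m = g.ofConv ((rho p q a).coeff m) := by
  rw [orbU_eq]
  change ((MonoidAlgebra.mapAlgHom (Multiplicative M) g.ofConv) (rho p q a)).coeff m = _
  rw [MonoidAlgebra.coeff_mapAlgHom]

/-- evaluation of an element of the group algebra at a point of `D(M)` -/
noncomputable def evC (t : Multiplicative M →* Cˣ) : MonoidAlgebra C (Multiplicative M) →ₐ[R] C :=
  (evT C t).restrictScalars R

lemma evC_apply (t : Multiplicative M →* Cˣ) (f : MonoidAlgebra C (Multiplicative M)) :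
    evC (R := R) t f = f.coeff.sum fun m b => b * (t m : C) := by
  change evT C t f = _
  rw [evT, MonoidAlgebra.lift_apply]
  rfl

lemma evC_single (t : Multiplicative M →* Cˣ) (m : Multiplicative M) (c : C) :
    evC (R := R) t (MonoidAlgebra.single m c) = c * (t m : C) := by
  change evT C t _ = _
  rw [evT_single]; rfl

lemma evC_comp_cst (t : Multiplicative M →* Cˣ) :
    (evC (R := R) t).comp (cst R M C) = AlgHom.id R C := by
  ext r
  change evC (R := R) t (MonoidAlgebra.single 1 r) = r
  rw [evC_single, map_one, Units.val_one, mul_one]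

lemma orb_eq (t : Multiplicative M →* Cˣ) (g : WithConv (A →ₐ[R] C)) :
    orb p q t g = mapPt (evC t) (orbU p q g) := by
  rw [orbU, mapPt_orb]
  have h1 : (Units.map ((evC (R := R) t : MonoidAlgebra C (Multiplicative M) →ₐ[R] C) :
      MonoidAlgebra C (Multiplicative M) →* C)).comp (tau M C) = t := by
    ext m
    change evC (R := R) t (MonoidAlgebra.single m 1) = t m
    rw [evC_single, one_mul]
  rw [h1]
  congr 1
  change g = toConv ((evC (R := R) t).comp ((cst R M C).comp g.ofConv))
  rw [← AlgHom.comp_assoc, evC_comp_cst]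
  rfl

lemma orb_apply_apply (t : Multiplicative M →* Cˣ) (g : WithConv (A →ₐ[R] C)) (a : A) :
    (orb p q t g).ofConv a =
      (rho p q a).coeff.sum fun m b => g.ofConv b * (t m : C) := by
  rw [orb_eq, orbU_eq, mapPt_apply]
  change evC t (MonoidAlgebra.mapAlgHom (Multiplicative M) g.ofConv (rho p q a)) = _
  generalize rho p q a = f
  induction f using MonoidAlgebra.induction_linear with
  | zero => simp
  | add x y hx hy =>
    rw [map_add, map_add, hx, hy, MonoidAlgebra.coeff_add, Finsupp.sum_add_index']
    · intro; simp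
    · intros; simp [add_mul]
  | single m b =>
    rw [MonoidAlgebra.mapAlgHom_single, evC_single]
    simp

lemma sum_rho (a : A) : ((rho p q a).coeff.sum fun _ b => b) = a := by
  have h := orb_apply_apply p q (1 : Multiplicative M →* Aˣ) (toConv (AlgHom.id R A)) a
  rw [orb_one] at h
  simpa using h.symm

lemma rho_coeff (a : A) (m : Multiplicative M) :
    rho p q ((rho p q a).coeff m) = MonoidAlgebra.single m ((rho p q a).coeff m) := by
  classical
  let B := MonoidAlgebra A (Multiplicative M)
  have h1 := orb_mul p q (tau M B) ((Units.map (cst R M B : _ →* _)).comp (tau M A))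
    (mapPt ((cst R M B).comp (cst R M A)) (toConv (AlgHom.id R A)))
  have h2 : orb p q ((Units.map (cst R M B : _ →* _)).comp (tau M A))
    (mapPt ((cst R M B).comp (cst R M A)) (toConv (AlgHom.id R A))) =
      mapPt (cst R M B) (toConv (rho p q)) := by
    change _ = mapPt (cst R M B) (orbU p q (toConv (AlgHom.id R A)))
    rw [orbU, mapPt_orb]
    rfl
  rw [h2] at h1
  change _ = orbU p q (toConv (rho p q)) at h1
  rw [orbU_eq] at h1
  have h3 := DFunLike.congr_fun (congrArg WithConv.ofConv h1) a
  rw [orb_apply_apply] at h3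
  have h4 := congrArg (fun f => f.coeff m) h3
  change _ = (MonoidAlgebra.mapAlgHom (Multiplicative M) (rho p q) (rho p q a)).coeff m at h4
  rw [MonoidAlgebra.coeff_mapAlgHom] at h4
  rw [← h4]
  let th : Multiplicative M →* (MonoidAlgebra B (Multiplicative M))ˣ :=
    tau M B * (Units.map (cst R M B : _ →* _)).comp (tau M A)
  have h5 : ∀ n : Multiplicative M,
      ((th n : (MonoidAlgebra B (Multiplicative M))ˣ) : MonoidAlgebra B (Multiplicative M)) =
        MonoidAlgebra.single n (MonoidAlgebra.single n (1 : A)) := by
    intro n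
    change (((tau M B * (Units.map (cst R M B : _ →* _)).comp (tau M A) :
      Multiplicative M →* (MonoidAlgebra B (Multiplicative M))ˣ) n :
        (MonoidAlgebra B (Multiplicative M))ˣ) : MonoidAlgebra B (Multiplicative M)) = _
    rw [MonoidHom.mul_apply, Units.val_mul, tau_apply]
    change MonoidAlgebra.single n (1 : B) * MonoidAlgebra.single 1 (MonoidAlgebra.single n 1) = _
    rw [MonoidAlgebra.single_mul_single, one_mul, mul_one]
  change ((((rho p q a).coeff.sum fun n b => (mapPt ((cst R M B).comp (cst R M A))
      (toConv (AlgHom.id R A))).ofConv b * ((th n : (MonoidAlgebra B (Multiplicative M))ˣ) :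
        MonoidAlgebra B (Multiplicative M)))).coeff m) = _
  simp only [Finsupp.sum, MonoidAlgebra.coeff_sum, Finset.sum_apply', h5]
  have h6 : ∀ n : Multiplicative M, ((mapPt ((cst R M B).comp (cst R M A))
      (toConv (AlgHom.id R A))).ofConv ((rho p q a).coeff n) *
      MonoidAlgebra.single n (MonoidAlgebra.single n (1 : A))).coeff m =
      if n = m then MonoidAlgebra.single m ((rho p q a).coeff m) else 0 := by
    intro n
    change (MonoidAlgebra.single 1 (MonoidAlgebra.single 1 ((rho p q a).coeff n)) *
      MonoidAlgebra.single n (MonoidAlgebra.single n (1 : A))).coeff m = _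
    rw [MonoidAlgebra.single_mul_single, MonoidAlgebra.single_mul_single, one_mul, mul_one,
      MonoidAlgebra.coeff_single]
    split_ifs with h
    · subst h; rw [Finsupp.single_eq_same]
    · rw [Finsupp.single_eq_of_ne (Ne.symm h)]
  rw [Finset.sum_congr rfl fun n _ => h6 n, Finset.sum_ite_eq']
  split_ifs with h
  · rfl
  · rw [Finsupp.notMem_support_iff] at h
    rw [h, MonoidAlgebra.single_zero]

/-- The coaction of `D(M)` on `A` by twisted conjugation. -/
noncomputable def coact : Coact R A M where
  rho := rho p q
  sum_rho := sum_rho p q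
  rho_coeff := rho_coeff p q

lemma coeff_orbU' (g : WithConv (A →ₐ[R] C)) (a : A) (m : M) :
    ((orbU p q g).ofConv a).coeff (Multiplicative.ofAdd m) = g.ofConv (pr (coact p q) m a) :=
  coeff_orbU p q g a _

lemma orbU_apply_of_mem (g : WithConv (A →ₐ[R] C)) {a : A} {m : M} (ha : a ∈ gr (coact p q) m) :
    (orbU p q g).ofConv a = MonoidAlgebra.single (Multiplicative.ofAdd m) (g.ofConv a) := by
  rw [orbU_eq]
  change MonoidAlgebra.mapAlgHom (Multiplicative M) g.ofConv (rho p q a) = _
  rw [show rho p q a = _ from ha, MonoidAlgebra.mapAlgHom_single]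

lemma orb_apply_of_mem (t : Multiplicative M →* Cˣ) (g : WithConv (A →ₐ[R] C)) {a : A} {m : M}
    (ha : a ∈ gr (coact p q) m) :
    (orb p q t g).ofConv a = g.ofConv a * (t (Multiplicative.ofAdd m) : C) := by
  rw [orb_eq, mapPt_apply, orbU_apply_of_mem p q g ha, evC_single]

/-- twisted fixed points -/
lemma fixed_iff (g : WithConv (A →ₐ[R] C)) :
    orbU p q g = mapPt (cst R M C) g ↔ ∀ m ≠ 0, ∀ a ∈ gr (coact p q) m, g.ofConv a = 0 := by
  constructor
  · intro h m hm a ha
    have h1 := orbU_apply_of_mem p q g ha
    rw [h] at h1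
    change MonoidAlgebra.single 1 (g.ofConv a) = _ at h1
    have h2 := congrArg (fun f => f.coeff (Multiplicative.ofAdd m)) h1
    simp only [MonoidAlgebra.coeff_single] at h2
    rw [Finsupp.single_eq_same, Finsupp.single_eq_of_ne] at h2
    · exact h2.symm
    · intro h3
      exact hm (Multiplicative.ofAdd.injective h3)
  · intro h
    apply WithConv.ofConv_injective
    apply AlgHom.ext
    intro a
    induction a using induction_gr (coact p q) with
    | h0 => rw [map_zero, map_zero]
    | hadd a b ha hb => rw [map_add, map_add, ha, hb]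
    | h m a ha =>
      rw [orbU_apply_of_mem p q g ha]
      change _ = MonoidAlgebra.single 1 (g.ofConv a)
      by_cases hm : m = 0
      · subst hm; rfl
      · rw [h m hm a ha, MonoidAlgebra.single_zero, MonoidAlgebra.single_zero]

end Orbit

section Conj

variable {R : Type u} [CommRing R] {A : Type u} [CommRing A] [HopfAlgebra R A]
variable {M : Type} [AddCommGroup M]
variable (p : A →ₐc[R] MonoidAlgebra R (Multiplicative M))
variable {C : Type u} [CommRing C] [Algebra R C]
variable {D : Type u} [CommRing D] [Algebra R D]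

/-- The coaction by conjugation. -/
noncomputable abbrev conjCoact : Coact R A M := coact p p

/-- conjugation by the universal point as a group homomorphism -/
noncomputable def orbHom : WithConv (A →ₐ[R] C) →*
    WithConv (A →ₐ[R] MonoidAlgebra C (Multiplicative M)) :=
  (MulAut.conj (torPt p (tau M C))).toMonoidHom.comp (mapPt (cst R M C))

lemma orbHom_apply (g : WithConv (A →ₐ[R] C)) : orbHom p g = orbU p p g := rfl

lemma orb_conj_mul (t : Multiplicative M →* Cˣ) (g h : WithConv (A →ₐ[R] C)) :
    orb p p t (g * h) = orb p p t g * orb p p t h := by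
  simp only [orb, mul_assoc, inv_mul_cancel_left]

end Conj

end Groth.Agent.Sga3B.RootOrb
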