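import Groth.Agent.Sga3B.PinF829
import Groth.Agent.Sga3B.Rescale829
import Groth.Agent.Sga3B.RankOneRel
import Groth.Agent.Sga3B.CellOpen2

/-!
# From a good datum to a pinned cell (`PinCell`), for the isomorphism theorem (S3004)
-/

set_option autoImplicit false
universe u

open Polynomial TensorProduct

namespace Groth.Agent.Sga3B.PinAsm884

open Cell Cell.Datum

variable {R A : Type u} [CommRing R] [CommRing A] [Algebra R A] [PtGrp R A] {D : Datum R A}
  (P : RootPairing D.idx ℤ D.M (Module.Dual ℤ D.M)) (hP : ∀ a, P.root a = D.root a)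
  (b : P.Base)

include hP in
/-- the list of all roots, negative ones first, is the sign list of a regular cocharacter -/
lemma exists_lam : ∃ lam : D.M →+ ℤ, (∀ a, lam (D.root a) ≠ 0) ∧
    D.signList (fun a => lam (D.root a)) = allList b := by
  classical
  obtain ⟨lam, N, hN, hlam⟩ := PinComb.exists_height_functional b
  have hk : ∀ a, lam (D.root a) = N * b.height a := fun a => by rw [← hP, hlam]
  have hne : ∀ a, lam (D.root a) ≠ 0 := by
    intro a h
    rw [hk] at h
    rcases mul_eq_zero.mp h with h | h
    · omega
    · exact b.height_ne_zero a h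
  refine ⟨lam, hne, ?_⟩
  have hp : ∀ a, b.IsPos a ↔ ¬ lam (D.root a) < 0 := by
    intro a
    rw [RootPairing.Base.isPos_iff, hk]
    constructor
    · intro h h'
      nlinarith
    · intro h
      have h2 := hne a
      rw [hk] at h2
      by_contra h3
      rw [not_lt] at h3
      have h4 : N * b.height a ≤ 0 := by nlinarith
      exact h (lt_of_le_of_ne h4 h2)
  rw [signList_eq (fun a => lam (D.root a)) (fun a => b.IsPos a) hp]
  rfl

variable (hG : D.Good)

include hP hG in
/-- (F4), injectivity -/
theorem cell_inj : D.CellInj (allList b) := by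
  obtain ⟨lam, hlam, hL⟩ := exists_lam P hP b
  intro B _ _ x x' t t' h
  rw [← hL] at h
  exact signCell_inj hG lam hlam h

include hP hG in
/-- (F4), the ideal of the complement of the big cell -/
theorem exists_cellIdeal [Algebra.FiniteType R A] :
    ∃ I : Ideal A, I.FG ∧ ∀ {B : Type u} [CommRing B] [Algebra R B] (g : Pt R A B),
      (∃ (x : D.idx → B) (t : TPt D.M B), g = D.cell (allList b) x t) ↔
        I.map g.hom.toRingHom = ⊤ := by
  obtain ⟨lam, hlam, hL⟩ := exists_lam P hP b
  obtain ⟨I, hI, h⟩ := exists_cellIdeal_fg hG lam hlam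
  refine ⟨I, hI, fun g => ?_⟩
  rw [← hL]
  exact h g

include hP hG in
/-- the rank one hypotheses -/
theorem rankOneHyp (hpe : P.toLinearMap = Module.Dual.eval ℤ D.M) [Algebra.FiniteType R A]
    (hdom : ∀ (K : Type u) [Field K] [Algebra R K], IsDomain (K ⊗[R] A))
    {a : D.idx} (ha : a ∈ b.support) {I : Ideal A}
    (hI : ∀ {B : Type u} [CommRing B] [Algebra R B] (g : Pt R A B),
      (∃ (x : D.idx → B) (t : TPt D.M B), g = D.cell (allList b) x t) ↔
        I.map g.hom.toRingHom = ⊤) (n : Pt R A R)
    (hn : ∀ {B : Type u} [CommRing B] [Algebra R B] (t : TPt D.M B),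
      bp B n * D.i B t * (bp B n)⁻¹ = D.i B (TPt.act (P.reflection a).toAddEquiv t)) :
    RankOneHyp D a (P.reflectionPerm a a) (P.coroot a) (negList b) (posList b) I n where
  good := hG
  ft := inferInstance
  dom := hdom
  neg := by rw [← hP, ← hP]; simp
  two := by
    have := P.root_coroot_two a
    rw [hpe] at this
    rw [← hP]
    exact this
  red := by
    intro c hc
    rw [← hP, ← hP] at hc
    by_cases hca : a = c
    · exact Or.inl hca.symm
    by_cases hne : P.root a = -P.root c
    · right
      apply P.root.injective
      rw [P.root_reflectionPerm, P.reflection_apply_self, hne, neg_neg]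
    · exfalso
      have hred : P.IsReduced := PinComb.isReduced b
      have h1 := RootPairing.IsReduced.linearIndependent P hca hne
      rw [LinearIndependent.pair_iff] at h1
      have h2 := h1 (P.coroot a (P.root c)) (-2) (by rw [← hc]; simp)
      omega
  nodup := allList_nodup b
  compl := mem_allList b
  mem_neg := by
    have h0 : b.height (P.reflectionPerm a a) = -1 := by
      have := b.height_reflectionPerm_self a
      rw [RootPairing.Base.height_one_of_mem_support ha] at this
      exact this
    rw [mem_negList, RootPairing.Base.isPos_iff, h0]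
    norm_num
  mem_pos := (mem_posList b).mpr (RootPairing.Base.isPos_of_mem_support ha)
  inj := cell_inj P hP b hG
  mem_iff := hI
  acts := by
    apply acts_rf
    intro B _ _ t
    rw [hn, act_reflection P hpe, hP]

include hP hG in
/-- **From a good datum to a pinned cell.** -/
theorem exists_pinCell (hpe : P.toLinearMap = Module.Dual.eval ℤ D.M) [Algebra.Smooth R A]
    (hdom : ∀ (K : Type u) [Field K] [Algebra R K], IsDomain (K ⊗[R] A))
    (hn : ∀ a ∈ b.support, ∃ n : Pt R A R,
      ∀ {B : Type u} [CommRing B] [Algebra R B] (t : TPt D.M B),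
        bp B n * D.i B t * (bp B n)⁻¹ = D.i B (TPt.act (P.reflection a).toAddEquiv t)) :
    ∃ E : PinCell P b R A, (∀ (B : Type u) [CommRing B] [Algebra R B], E.i B = D.i B) ∧
      ∀ a, b.IsPos a → ∀ (B : Type u) [CommRing B] [Algebra R B] (x : B),
        E.uu a B x = D.uu a B x := by
  classical
  have hfp : Algebra.FinitePresentation R A := inferInstance
  obtain ⟨I, hIfg, hI⟩ := exists_cellIdeal P hP b hG
  choose n hn' using hn
  have h1 : ∀ a : b.support, ∃ c : Rˣ, ∀ {B : Type u} [CommRing B] [Algebra R B] (x y : B)
      (v : Bˣ), (v : B) = 1 + x * y →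
      D.uu a B x * D.uu (P.reflectionPerm a a) B (algebraMap R B c * y) =
        D.uu (P.reflectionPerm a a) B (algebraMap R B c * ((v⁻¹ : Bˣ) * y)) *
          D.i B (TPt.cow (P.coroot a) v) * D.uu a B ((v⁻¹ : Bˣ) * x) :=
    fun a => (rankOneHyp P hP b hG hpe hdom a.2 hI (n a a.2) (hn' a a.2)).rank_one_norm
  choose c hc using h1
  -- the rescaling
  let ε : D.idx → Rˣ := fun d => if h : P.reflectionPerm d d ∈ b.support then
    c ⟨P.reflectionPerm d d, h⟩ else 1
  have hεpos : ∀ a, b.IsPos a → ε a = 1 := by
    intro a ha
    refine dif_neg fun h => ?_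
    have h0 : b.height (P.reflectionPerm a a) = -b.height a := b.height_reflectionPerm_self a
    rw [RootPairing.Base.height_one_of_mem_support h] at h0
    rw [RootPairing.Base.isPos_iff] at ha
    omega
  have hinv : ∀ a : D.idx, P.reflectionPerm (P.reflectionPerm a a) (P.reflectionPerm a a) = a := by
    intro a
    apply P.root.injective
    rw [P.root_reflectionPerm, P.reflection_apply_self, P.root_reflectionPerm,
      P.reflection_apply_self, neg_neg]
  have hεneg : ∀ (a : D.idx) (ha : a ∈ b.support), ε (P.reflectionPerm a a) = c ⟨a, ha⟩ := by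
    intro a ha
    have h : P.reflectionPerm (P.reflectionPerm a a) (P.reflectionPerm a a) ∈ b.support := by
      rw [hinv]; exact ha
    change (if h : _ then _ else _) = _
    rw [dif_pos h]
    congr 1
    exact Subtype.ext (hinv a)
  set D' : Datum R A := D.rescale ε with hD'
  have hG' : D'.Good := Good.rescale D ε hG
  have huu : ∀ (a : D.idx) (B : Type u) [CommRing B] [Algebra R B] (x : B),
      D'.uu a B x = D.uu a B (algebraMap R B (ε a) * x) := fun a B _ _ x => rfl
  have hpos : ∀ a, b.IsPos a → ∀ (B : Type u) [CommRing B] [Algebra R B] (x : B),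
      D'.uu a B x = D.uu a B x := by
    intro a ha B _ _ x
    rw [huu, hεpos a ha, Units.val_one, map_one, one_mul]
  have rank1 : ∀ a ∈ b.support, ∀ {B : Type u} [CommRing B] [Algebra R B] (x y : B) (v : Bˣ),
    (v : B) = 1 + x * y → D'.uu a B x * D'.uu (P.reflectionPerm a a) B y =
      D'.uu (P.reflectionPerm a a) B ((v⁻¹ : Bˣ) * y) * D'.i B (TPt.cow (P.coroot a) v) *
        D'.uu a B ((v⁻¹ : Bˣ) * x) := by
    intro a ha B _ _ x y v hv
    rw [hpos a (RootPairing.Base.isPos_of_mem_support ha), huu, huu, hεneg a ha,
      hpos a (RootPairing.Base.isPos_of_mem_support ha)]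
    exact hc ⟨a, ha⟩ x y v hv
  obtain ⟨I', hIfg', hI'⟩ := exists_cellIdeal (D := D') P hP b hG'
  refine ⟨{ pairing_eq := hpe
            i := D'.i
            i_nat := D'.i_nat
            i_inj := D'.i_inj
            uu := D'.uu
            uu_add := D'.uu_add
            uu_nat := D'.uu_nat
            uu_surj := D'.uu_surj
            rel := fun a B _ _ t x => by
              rw [hP]
              exact D'.rel a t x
            rank1 := rank1
            comm := fun a ha c hc hac B _ _ x y => pin_comm (D := D') P hP b hG' ha hc hac x y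
            conj := fun a ha c => pin_conj (D := D') P hP b hG' hpe (rank1 a ha) c
            cell_inj := fun x x' t t' h => cell_inj (D := D') P hP b hG' h
            cellIdeal := I'
            cellIdeal_fg := hIfg'
            mem_cell_iff := hI'
            pos_mul := fun x y => pin_pos_mul (D := D') P hP b hG' x y
            neg_mul := fun x y => pin_neg_mul (D := D') P hP b hG' x y
            fp := hfp
            smooth := inferInstance
            domain := hdom }, fun B _ _ => rfl, hpos⟩

end Groth.Agent.Sga3B.PinAsm884
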