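import Groth.Agent.Sga3B.RootUniq829
import Groth.Agent.Sga3B.PinCell

/-!
# The fields `comm` (F2), `conj` (F3), `pos_mul`, `neg_mul` (F5) of `PinCell`
-/

set_option autoImplicit false
universe u

open Polynomial LaurentPolynomial

namespace Groth.Agent.Sga3B.Cell.Datum

open Groth.Agent.Sga3B.Cell

variable {R A : Type u} [CommRing R] [CommRing A] [Algebra R A] [PtGrp R A] {D : Datum R A}

section general

variable {B : Type u} [CommRing B] [Algebra R B]

/-- the torus point `t ∘ s` -/
def _root_.Groth.Agent.Sga3B.Cell.TPt.act {M : Type} {B : Type u} [AddCommGroup M] [CommRing B]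
    (s : M ≃+ M) (t : TPt M B) : TPt M B where
  toFun m := t (Multiplicative.ofAdd (s m.toAdd))
  map_one' := by simp
  map_mul' m n := by rw [toAdd_mul, map_add, ofAdd_add, map_mul]

lemma _root_.Groth.Agent.Sga3B.Cell.TPt.ch_act {M : Type} {B : Type u} [AddCommGroup M]
    [CommRing B] (s : M ≃+ M) (t : TPt M B) (m : M) : TPt.ch m (TPt.act s t) = TPt.ch (s m) t := rfl

lemma _root_.Groth.Agent.Sga3B.Cell.TPt.act_act_symm {M : Type} {B : Type u} [AddCommGroup M]
    [CommRing B] (s : M ≃+ M) (t : TPt M B) : TPt.act s (TPt.act s.symm t) = t := by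
  apply TPt.ext_ch
  intro m
  rw [TPt.ch_act, TPt.ch_act, AddEquiv.symm_apply_apply]

/-- **Conjugation by a point normalising the torus**, general form: if `n t n⁻¹ = t ∘ s` then
`n u_c(x) n⁻¹ = u_{c'}(r x)` for a unit `r`, where `s(root c') = root c`. -/
theorem exists_conj_eq {L : List D.idx} {δ : D.CR} (hδ : D.EtOn L δ) (hδ0 : D.ev0 δ = 1)
    (hL : L.Nodup) (hLc : ∀ a, a ∈ L)
    (hred : ∀ (a b : D.idx) (n : ℕ), D.root b = (n : ℤ) • D.root a → n = 1)
    (nB : ∀ (B : Type u) [CommRing B] [Algebra R B], Pt R A B)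
    (nB_nat : ∀ {B C : Type u} [CommRing B] [Algebra R B] [CommRing C] [Algebra R C]
      (φ : B →ₐ[R] C), Pt.map φ (nB B) = nB C)
    (s : D.M ≃+ D.M)
    (hs : ∀ {B : Type u} [CommRing B] [Algebra R B] (t : TPt D.M B),
      nB B * D.i B t * (nB B)⁻¹ = D.i B (TPt.act s t))
    {c c' : D.idx} (hc : s (D.root c') = D.root c) :
    ∃ r : Rˣ, ∀ {B : Type u} [CommRing B] [Algebra R B] (x : B),
      nB B * D.uu c B x * (nB B)⁻¹ = D.uu c' B (algebraMap R B r * x) := by
  have hs' : ∀ {B : Type u} [CommRing B] [Algebra R B] (t : TPt D.M B),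
      (nB B)⁻¹ * D.i B t * nB B = D.i B (TPt.act s.symm t) := by
    intro B _ _ t
    have h1 := hs (TPt.act s.symm t)
    rw [TPt.act_act_symm] at h1
    rw [← h1]; group
  obtain ⟨r, hr⟩ := exists_eq_uu hδ hδ0 hL (hLc c') (fun b n h => hred c' b n h)
    (fun B _ _ x => nB B * D.uu c B x * (nB B)⁻¹)
    (fun φ x => by
      simp only [Pt.map_mul, Pt.map_inv, nB_nat, D.uu_nat])
    (fun B _ _ => by simp)
    (fun {B} _ _ t x => by
      have h1 : D.i B t * (nB B * D.uu c B x * (nB B)⁻¹) * (D.i B t)⁻¹ =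
          nB B * (((nB B)⁻¹ * D.i B t * nB B) * D.uu c B x * ((nB B)⁻¹ * D.i B t * nB B)⁻¹) *
            (nB B)⁻¹ := by group
      rw [h1, hs', D.rel, TPt.ch_act, ← hc, AddEquiv.symm_apply_apply])
  obtain ⟨r', hr'⟩ := exists_eq_uu hδ hδ0 hL (hLc c) (fun b n h => hred c b n h)
    (fun B _ _ x => (nB B)⁻¹ * D.uu c' B x * nB B)
    (fun φ x => by
      simp only [Pt.map_mul, Pt.map_inv, nB_nat, D.uu_nat])
    (fun B _ _ => by simp)
    (fun {B} _ _ t x => by
      have h1 : D.i B t * ((nB B)⁻¹ * D.uu c' B x * nB B) * (D.i B t)⁻¹ =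
          (nB B)⁻¹ * ((nB B * D.i B t * (nB B)⁻¹) * D.uu c' B x * (nB B * D.i B t * (nB B)⁻¹)⁻¹) *
            nB B := by group
      rw [h1, hs, D.rel, TPt.ch_act, hc])
  have h1 : r' * r = 1 := by
    have h2 := hr' (r : R)
    have h3 := hr (1 : R)
    simp only [Algebra.algebraMap_self, RingHom.id_apply, mul_one] at h2 h3
    rw [← h3] at h2
    apply D.uu_inj c (B := R)
    rw [← h2]; group
  exact ⟨⟨r, r', by rw [mul_comm, h1], h1⟩, fun x => hr x⟩

end general

variable (P : RootPairing D.idx ℤ D.M (Module.Dual ℤ D.M)) (hP : ∀ a, P.root a = D.root a)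
  (b : P.Base) (hG : D.Good)

include hP hG

omit hG in
lemma root_refl (a c : D.idx) : D.root (P.reflectionPerm a c) =
    D.root c - P.pairing c a • D.root a := by
  rw [← hP, ← hP, ← hP, P.root_reflectionPerm, P.reflection_apply_root]

include b in
/-- (F2) -/
theorem pin_comm {a c : D.idx} (ha : a ∈ b.support) (hc : c ∈ b.support) (hac : a ≠ c)
    {B : Type u} [CommRing B] [Algebra R B] (x y : B) :
    D.uu a B x * D.uu (P.reflectionPerm c c) B y = D.uu (P.reflectionPerm c c) B y * D.uu a B x := by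
  classical
  obtain ⟨δ, hδ, hδ0⟩ := hG (allList b) (allList_nodup b) (mem_allList b)
  obtain ⟨lam, h1, h2⟩ := PinComb.exists_functional_simple_sub b ha hc hac
  have hneg : D.root (P.reflectionPerm c c) = - D.root c := by
    rw [← hP, ← hP]; simp
  refine uu_comm hδ hδ0 lam (by rwa [← hP]) (by rw [hneg, map_neg, ← hP]; omega) ?_ x y
  intro d i j hi hj hij
  let f : D.idx → ℤ := Pi.single a (i : ℤ) - Pi.single c (j : ℤ)
  have hsum : ∑ k ∈ b.support, f k • P.root k = P.root d := by
    rw [hP, ← hij, hneg]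
    simp only [f, Pi.sub_apply, sub_smul, Finset.sum_sub_distrib]
    rw [Finset.sum_eq_single_of_mem a ha (by intro k _ hk; simp [hk]),
      Finset.sum_eq_single_of_mem c hc (by intro k _ hk; simp [hk])]
    simp only [Pi.single_eq_same, hP]
    rw [smul_neg, sub_eq_add_neg, natCast_zsmul, natCast_zsmul]
  have hsupp : Function.support f ⊆ b.support := by
    intro k hk
    by_contra hkb
    apply hk
    have h3 : k ≠ a := fun h => hkb (h ▸ ha)
    have h4 : k ≠ c := fun h => hkb (h ▸ hc)
    simp [f, h3, h4]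
  rcases b.pos_or_neg_of_sum_smul_root_mem f ⟨d, hsum.symm⟩ hsupp with h | h
  · have := h.le c
    simp [f, hac.symm] at this
    omega
  · have := h.le a
    simp [f, hac] at this
    omega

include b in
/-- (F3) for an arbitrary natural point `n` acting on the torus as the reflection `s_a`. -/
theorem pin_conj_of (nB : ∀ (B : Type u) [CommRing B] [Algebra R B], Pt R A B)
    (nB_nat : ∀ {B C : Type u} [CommRing B] [Algebra R B] [CommRing C] [Algebra R C]
      (φ : B →ₐ[R] C), Pt.map φ (nB B) = nB C) (a : D.idx)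
    (hs : ∀ {B : Type u} [CommRing B] [Algebra R B] (t : TPt D.M B),
      nB B * D.i B t * (nB B)⁻¹ = D.i B (TPt.act (P.reflection a).toAddEquiv t)) (c : D.idx) :
    ∃ r : Rˣ, ∀ {B : Type u} [CommRing B] [Algebra R B] (x : B),
      nB B * D.uu c B x * (nB B)⁻¹ = D.uu (P.reflectionPerm a c) B (algebraMap R B r * x) := by
  obtain ⟨δ, hδ, hδ0⟩ := hG (allList b) (allList_nodup b) (mem_allList b)
  refine exists_conj_eq hδ hδ0 (allList_nodup b) (mem_allList b) ?_ nB nB_nat
    (P.reflection a).toAddEquiv hs ?_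
  · intro a' b' n h
    rw [← hP, ← hP] at h
    exact PinComb.eq_one_of_root_eq_nsmul b h
  · change P.reflection a (D.root (P.reflectionPerm a c)) = _
    rw [← hP, ← hP, P.root_reflectionPerm, P.reflection_same]

omit hP hG in
lemma act_reflection (hpe : P.toLinearMap = Module.Dual.eval ℤ D.M) (a : D.idx) {B : Type u}
    [CommRing B] (t : TPt D.M B) : TPt.act (P.reflection a).toAddEquiv t =
      t * (TPt.cow (P.coroot a) (t (Multiplicative.ofAdd (P.root a))))⁻¹ := by
  apply MonoidHom.ext
  intro m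
  have h1 : P.reflection a m.toAdd = m.toAdd + (-(P.coroot a m.toAdd)) • P.root a := by
    have h2 : P.coroot' a m.toAdd = P.coroot a m.toAdd := by
      change P.toLinearMap m.toAdd (P.coroot a) = _
      rw [hpe]; rfl
    rw [P.reflection_apply, h2, neg_smul, sub_eq_add_neg]
  change t (Multiplicative.ofAdd (P.reflection a m.toAdd)) =
    t m * ((t (Multiplicative.ofAdd (P.root a))) ^ (P.coroot a m.toAdd))⁻¹
  rw [h1, ofAdd_add, map_mul, ofAdd_zsmul, map_zpow, zpow_neg]
  rfl

omit hG in
/-- the rank one relation implies that `n_a` acts on the torus as the reflection. -/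
theorem nn_act (hpe : P.toLinearMap = Module.Dual.eval ℤ D.M) {a : D.idx}
    (rank1 : ∀ {B : Type u} [CommRing B] [Algebra R B] (x y : B) (v : Bˣ),
      (v : B) = 1 + x * y → D.uu a B x * D.uu (P.reflectionPerm a a) B y =
        D.uu (P.reflectionPerm a a) B ((v⁻¹ : Bˣ) * y) * D.i B (TPt.cow (P.coroot a) v) *
          D.uu a B ((v⁻¹ : Bˣ) * x))
    {B : Type u} [CommRing B] [Algebra R B] (t : TPt D.M B) :
    (D.uu a B 1 * D.uu (P.reflectionPerm a a) B (-1) * D.uu a B 1) * D.i B t *
      (D.uu a B 1 * D.uu (P.reflectionPerm a a) B (-1) * D.uu a B 1)⁻¹ =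
      D.i B (TPt.act (P.reflection a).toAddEquiv t) := by
  set na := P.reflectionPerm a a with hna
  have hroot : D.root na = - D.root a := by rw [← hP, ← hP]; simp [na]
  -- `n(z) = a^∨(z) n(1)`
  have key : ∀ z : Bˣ, D.uu a B z * D.uu na B (-(z⁻¹ : Bˣ)) * D.uu a B z =
      D.i B (TPt.cow (P.coroot a) z) * (D.uu a B 1 * D.uu na B (-1) * D.uu a B 1) := by
    intro z
    have h1 := rank1 ((z : B) - 1) 1 z (by ring)
    rw [mul_one] at h1
    have h2 : D.uu a B ((z⁻¹ : Bˣ) * ((z : B) - 1)) = D.uu a B (-(z⁻¹ : Bˣ)) * D.uu a B 1 := by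
      rw [← D.uu_add, mul_sub, Units.inv_mul, mul_one]; congr 1; ring
    have h3 : TPt.ch (D.root a) (TPt.cow (P.coroot a) z) = (z : B) * z := by
      have h4 : P.coroot a (D.root a) = 2 := by
        have := P.root_coroot_two a
        rw [hpe] at this
        rw [← hP]
        exact this
      rw [TPt.ch_cow, h4, zpow_two, Units.val_mul]
    have h5 := D.rel a (TPt.cow (P.coroot a) z) (-(z⁻¹ : Bˣ) : B)
    rw [h3] at h5
    have h6 : (z : B) * z * -(z⁻¹ : Bˣ) = -z := by
      rw [mul_neg, mul_assoc, Units.mul_inv, mul_one]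
    rw [h6] at h5
    have h7 : D.i B (TPt.cow (P.coroot a) z) * D.uu a B (-(z⁻¹ : Bˣ) : B) =
        D.uu a B (-z) * D.i B (TPt.cow (P.coroot a) z) := by rw [← h5]; group
    -- n(z) n(1)⁻¹
    have h8 : D.uu a B ((z : B) - 1) = D.uu a B z * (D.uu a B 1)⁻¹ := by
      rw [← D.uu_neg, ← D.uu_add, sub_eq_add_neg]
    rw [h8] at h1
    have h9 : D.uu a B z = D.uu na B (z⁻¹ : Bˣ) * (D.uu a B (-z) * D.i B (TPt.cow (P.coroot a) z)) *
        D.uu a B 1 * (D.uu na B 1)⁻¹ * D.uu a B 1 := by
      rw [← h7]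
      rw [h2] at h1
      calc D.uu a B z = D.uu a B z * (D.uu a B 1)⁻¹ * D.uu na B 1 * (D.uu na B 1)⁻¹ * D.uu a B 1 := by
            group
        _ = _ := by rw [h1]; group
    rw [D.uu_neg na, D.uu_neg na]
    conv_lhs => 
      rhs
      rw [h9]
    rw [D.uu_neg a]
    group
  have h1 : D.i B t * (D.uu a B 1 * D.uu na B (-1) * D.uu a B 1) * (D.i B t)⁻¹ =
      D.uu a B (t (Multiplicative.ofAdd (D.root a)) : Bˣ) *
        D.uu na B (-((t (Multiplicative.ofAdd (D.root a)))⁻¹ : Bˣ)) *
        D.uu a B (t (Multiplicative.ofAdd (D.root a)) : Bˣ) := by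
    have e1 := D.rel a t (1 : B)
    have e2 := D.rel na t (-1 : B)
    rw [hroot] at e2
    have e3 : TPt.ch (-D.root a) t * (-1 : B) = -((t (Multiplicative.ofAdd (D.root a)))⁻¹ : Bˣ) := by
      rw [mul_neg, mul_one, TPt.ch, ofAdd_neg, map_inv]
    rw [e3] at e2
    rw [mul_one] at e1
    change _ = D.uu a B (TPt.ch (D.root a) t) * _ * D.uu a B (TPt.ch (D.root a) t)
    rw [← e1, ← e2]
    group
  rw [key] at h1
  rw [act_reflection P hpe, hP, TPt.mul_comm', D.i_mul', D.i_inv']
  set N := D.uu a B 1 * D.uu na B (-1) * D.uu a B 1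
  have h2 : D.i B (TPt.cow (P.coroot a) (t (Multiplicative.ofAdd (D.root a)))) =
      D.i B t * N * (D.i B t)⁻¹ * N⁻¹ := by rw [h1]; group
  rw [h2]; group

include b in
/-- (F3), the field `conj` of `PinCell`, from the rank one relation. -/
theorem pin_conj (hpe : P.toLinearMap = Module.Dual.eval ℤ D.M) {a : D.idx}
    (rank1 : ∀ {B : Type u} [CommRing B] [Algebra R B] (x y : B) (v : Bˣ),
      (v : B) = 1 + x * y → D.uu a B x * D.uu (P.reflectionPerm a a) B y =
        D.uu (P.reflectionPerm a a) B ((v⁻¹ : Bˣ) * y) * D.i B (TPt.cow (P.coroot a) v) *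
          D.uu a B ((v⁻¹ : Bˣ) * x)) (c : D.idx) :
    ∃ r : Rˣ, ∀ {B : Type u} [CommRing B] [Algebra R B] (x : B),
      (D.uu a B 1 * D.uu (P.reflectionPerm a a) B (-1) * D.uu a B 1) * D.uu c B x *
        (D.uu a B 1 * D.uu (P.reflectionPerm a a) B (-1) * D.uu a B 1)⁻¹ =
        D.uu (P.reflectionPerm a c) B (algebraMap R B r * x) :=
  pin_conj_of P hP b hG (fun B _ _ => D.uu a B 1 * D.uu (P.reflectionPerm a a) B (-1) * D.uu a B 1)
    (fun φ => by simp only [Pt.map_mul, D.uu_nat, map_neg, map_one]) a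
    (fun t => nn_act P hP hpe rank1 t) c

omit hP hG in
lemma prod_negList_eq_one {B : Type u} [CommRing B] [Algebra R B] {x : D.idx → B}
    (hx : ∀ a, ¬ b.IsPos a → x a = 0) : ((negList b).map (fun a => D.uu a B (x a))).prod = 1 :=
  prod_uu_eq_one (fun a ha => hx a ((mem_negList b).mp ha))

omit hP hG in
lemma prod_posList_eq_one {B : Type u} [CommRing B] [Algebra R B] {x : D.idx → B}
    (hx : ∀ a, b.IsPos a → x a = 0) : ((posList b).map (fun a => D.uu a B (x a))).prod = 1 :=
  prod_uu_eq_one (fun a ha => hx a ((mem_posList b).mp ha))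

omit hP hG in
lemma cell_allList_pos {B : Type u} [CommRing B] [Algebra R B] {x : D.idx → B}
    (hx : ∀ a, ¬ b.IsPos a → x a = 0) : D.cell (allList b) x 1 =
      ((posList b).map (fun a => D.uu a B (x a))).prod := by
  rw [cell, allList, List.map_append, List.prod_append, prod_negList_eq_one P b hx, map_one,
    one_mul, mul_one]

omit hP hG in
lemma cell_allList_neg {B : Type u} [CommRing B] [Algebra R B] {x : D.idx → B}
    (hx : ∀ a, b.IsPos a → x a = 0) : D.cell (allList b) x 1 =
      ((negList b).map (fun a => D.uu a B (x a))).prod := by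
  rw [cell, allList, List.map_append, List.prod_append, prod_posList_eq_one P b hx, map_one,
    mul_one, mul_one]

omit hP hG in
lemma prod_congr_list {B : Type u} [CommRing B] [Algebra R B] {l : List D.idx} {x y : D.idx → B}
    (h : ∀ a ∈ l, x a = y a) :
    (l.map (fun a => D.uu a B (x a))).prod = (l.map (fun a => D.uu a B (y a))).prod := by
  congr 1
  apply List.map_congr_left
  intro a ha
  rw [h a ha]

/-- (F5), the field `pos_mul` of `PinCell`. -/
theorem pin_pos_mul {B : Type u} [CommRing B] [Algebra R B] (x y : D.idx → B) :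
    ∃ z : D.idx → B,
      ((posList b).map (fun a => D.uu a B (x a))).prod *
          ((posList b).map (fun a => D.uu a B (y a))).prod =
        ((posList b).map (fun a => D.uu a B (z a))).prod ∧ ∀ a ∈ b.support, z a = x a + y a := by
  classical
  obtain ⟨δ, hδ, hδ0⟩ := hG (allList b) (allList_nodup b) (mem_allList b)
  obtain ⟨lam, N, hN, hlam⟩ := PinComb.exists_height_functional b
  have hpos : ∀ a, lam (D.root a) ≤ 0 ↔ ¬ b.IsPos a := by
    intro a
    rw [← hP, hlam, RootPairing.Base.isPos_iff, not_lt]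
    constructor
    · intro h; by_contra h'; push Not at h'; nlinarith
    · intro h; nlinarith
  obtain ⟨z, hz0, hz, hza⟩ := exists_mul_eq hδ hδ0 lam N hN (by
      intro a ha
      have h1 : b.IsPos a := by
        by_contra h
        exact absurd ha (not_lt.mpr ((hpos a).mpr h))
      rw [← hP, hlam]
      rw [RootPairing.Base.isPos_iff] at h1
      nlinarith)
    (fun a => if b.IsPos a then x a else 0) (fun a => if b.IsPos a then y a else 0)
    (fun a ha => if_neg ((hpos a).mp ha)) (fun a ha => if_neg ((hpos a).mp ha))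
  rw [cell_allList_pos P b (fun a ha => if_neg ha), cell_allList_pos P b (fun a ha => if_neg ha),
    cell_allList_pos P b (fun a ha => hz0 a ((hpos a).mpr ha))] at hz
  refine ⟨z, ?_, ?_⟩
  · rw [← hz]
    congr 1
    · exact prod_congr_list (fun a ha => (if_pos ((mem_posList b).mp ha)).symm)
    · exact prod_congr_list (fun a ha => (if_pos ((mem_posList b).mp ha)).symm)
  · intro a ha
    have h1 := RootPairing.Base.isPos_of_mem_support ha
    rw [hza a (by rw [← hP, hlam, RootPairing.Base.height_one_of_mem_support ha, mul_one]),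
      if_pos h1, if_pos h1]

/-- (F5), the field `neg_mul` of `PinCell`. -/
theorem pin_neg_mul {B : Type u} [CommRing B] [Algebra R B] (x y : D.idx → B) :
    ∃ z : D.idx → B,
      ((negList b).map (fun a => D.uu a B (x a))).prod *
          ((negList b).map (fun a => D.uu a B (y a))).prod =
        ((negList b).map (fun a => D.uu a B (z a))).prod ∧
      ∀ a ∈ b.support, z (P.reflectionPerm a a) =
        x (P.reflectionPerm a a) + y (P.reflectionPerm a a) := by
  classical
  obtain ⟨δ, hδ, hδ0⟩ := hG (allList b) (allList_nodup b) (mem_allList b)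
  obtain ⟨lam, N, hN, hlam⟩ := PinComb.exists_height_functional b
  have hneg : ∀ a, (-lam) (D.root a) ≤ 0 ↔ b.IsPos a := by
    intro a
    rw [AddMonoidHom.neg_apply, ← hP, hlam, RootPairing.Base.isPos_iff']
    constructor
    · intro h; by_contra h'; push Not at h'; nlinarith
    · intro h; nlinarith
  obtain ⟨z, hz0, hz, hza⟩ := exists_mul_eq hδ hδ0 (-lam) N hN (by
      intro a ha
      have h1 : ¬ b.IsPos a := by
        intro h
        exact absurd ha (not_lt.mpr ((hneg a).mpr h))
      rw [AddMonoidHom.neg_apply, ← hP, hlam]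
      rw [RootPairing.Base.isPos_iff'] at h1
      nlinarith)
    (fun a => if b.IsPos a then 0 else x a) (fun a => if b.IsPos a then 0 else y a)
    (fun a ha => if_pos ((hneg a).mp ha)) (fun a ha => if_pos ((hneg a).mp ha))
  rw [cell_allList_neg P b (fun a ha => if_pos ha), cell_allList_neg P b (fun a ha => if_pos ha),
    cell_allList_neg P b (fun a ha => hz0 a ((hneg a).mpr ha))] at hz
  refine ⟨z, ?_, ?_⟩
  · rw [← hz]
    congr 1
    · exact prod_congr_list (fun a ha => (if_neg ((mem_negList b).mp ha)).symm)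
    · exact prod_congr_list (fun a ha => (if_neg ((mem_negList b).mp ha)).symm)
  · intro a ha
    have h0 : b.height (P.reflectionPerm a a) = -1 := by
      have := b.height_reflectionPerm_self a
      rw [RootPairing.Base.height_one_of_mem_support ha] at this
      exact this
    have h1 : ¬ b.IsPos (P.reflectionPerm a a) := by
      rw [RootPairing.Base.isPos_iff, h0]; norm_num
    rw [hza _ (by rw [AddMonoidHom.neg_apply, ← hP, hlam, h0]; ring), if_neg h1, if_neg h1]

end Groth.Agent.Sga3B.Cell.Datum
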