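import Mathlib.RingTheory.Valuation.LocalSubring
import Mathlib.RingTheory.Jacobson.Ring
import Mathlib.FieldTheory.IsAlgClosed.Basic
import Mathlib.RingTheory.FiniteType

/-!
# Places with values in an algebraically closed subfield

`exists_place`: `K` algebraically closed, `L` an extension field. There is a valuation subring `V` of `L`
containing `K` together with a ring homomorphism `V → K` which is the identity on `K`.
-/

set_option autoImplicit false

namespace Groth.Agent.Sga3B.Place

open IsLocalRing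

variable {K L : Type*} [Field K] [Field L] [Algebra K L]

/-- A maximal pair (subalgebra, `K`-point of it). -/
theorem exists_max (K L : Type*) [Field K] [Field L] [Algebra K L] :
    ∃ (A : Subalgebra K L) (f : A →ₐ[K] K), ∀ (B : Subalgebra K L) (g : B →ₐ[K] K) (h : A ≤ B),
      g.comp (Subalgebra.inclusion h) = f → B ≤ A := by
  obtain ⟨G, hG⟩ := zorn_le_nonempty₀ {G : Subalgebra K (L × K) | ((0, 1) : L × K) ∉ G} (by
    intro c hc hchain y hy
    refine ⟨sSup c, ?_, fun z hz => le_sSup hz⟩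
    intro h
    have : Nonempty c := ⟨⟨y, hy⟩⟩
    rw [sSup_eq_iSup'] at h
    have hdir : Directed (· ≤ ·) (fun i : c => (i : Subalgebra K (L × K))) := by
      rintro ⟨a, ha⟩ ⟨b, hb⟩
      rcases hchain.total ha hb with h | h
      · exact ⟨⟨b, hb⟩, h, le_rfl⟩
      · exact ⟨⟨a, ha⟩, le_rfl, h⟩
    rw [← SetLike.mem_coe, Subalgebra.coe_iSup_of_directed hdir] at h
    obtain ⟨i, hi⟩ := Set.mem_iUnion.1 h
    exact hc i.2 hi) ⊥ (by
    intro h
    obtain ⟨k, hk⟩ := Algebra.mem_bot.1 h
    rw [Prod.algebraMap_apply, Prod.mk.injEq] at hk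
    have h0 : k = 0 := (map_eq_zero_iff _ (algebraMap K L).injective).1 hk.1
    rw [h0] at hk
    simp at hk)
  have hGm : ((0, 1) : L × K) ∉ G := hG.2.prop
  let φ : G →ₐ[K] L := (AlgHom.fst K L K).comp G.val
  have hφ : Function.Injective φ := by
    rw [injective_iff_map_eq_zero]
    rintro ⟨⟨a, b⟩, hab⟩ h
    change a = 0 at h
    subst h
    by_contra hne
    have hb : b ≠ 0 := by
      rintro rfl
      exact hne rfl
    apply hGm
    have := G.mul_mem hab (G.algebraMap_mem b⁻¹)
    rwa [Prod.algebraMap_apply, Prod.mk_mul_mk, zero_mul, Algebra.algebraMap_self, RingHom.id_apply,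
      mul_inv_cancel₀ hb] at this
  let e := AlgEquiv.ofInjective φ hφ
  refine ⟨φ.range, ((AlgHom.snd K L K).comp G.val).comp e.symm.toAlgHom, ?_⟩
  intro B g h hg
  let G' : Subalgebra K (L × K) := (B.val.prod g).range
  have hle : G ≤ G' := by
    rintro ⟨a, b⟩ hab
    have ha : a ∈ φ.range := ⟨⟨(a, b), hab⟩, rfl⟩
    refine ⟨⟨a, h ha⟩, ?_⟩
    have h1 : e ⟨(a, b), hab⟩ = ⟨a, ha⟩ := rfl
    have h2 : e.symm ⟨a, ha⟩ = ⟨(a, b), hab⟩ := by rw [← h1, AlgEquiv.symm_apply_apply]
    have h3 := congrArg (fun k => k ⟨a, ha⟩) hg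
    have h4 : g ⟨a, h ha⟩ = b := by
      refine Eq.trans h3 ?_
      change (e.symm ⟨a, ha⟩ : L × K).2 = b
      rw [h2]
    exact Prod.ext rfl h4
  have hG'm : ((0, 1) : L × K) ∉ G' := by
    rintro ⟨b, hb⟩
    have h1 : (b : L) = 0 := congrArg Prod.fst hb
    have h2 : g b = 1 := congrArg Prod.snd hb
    have h3 : b = 0 := Subtype.ext h1
    rw [h3, map_zero] at h2
    exact zero_ne_one h2
  have hle' : G' ≤ G := hG.2.le_of_ge hG'm hle
  intro b hb
  exact ⟨⟨(b, g ⟨b, hb⟩), hle' ⟨⟨b, hb⟩, rfl⟩⟩, rfl⟩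

/-- For a maximal pair `(A, f)`, an element `x` such that `ker f` does not generate the unit ideal of a
subalgebra generated by `A` and `x` is in `A`. -/
theorem mem_of_max [IsAlgClosed K] {A : Subalgebra K L} {f : A →ₐ[K] K}
    (hmax : ∀ (B : Subalgebra K L) (g : B →ₐ[K] K) (h : A ≤ B),
      g.comp (Subalgebra.inclusion h) = f → B ≤ A)
    (x : L) (B : Subalgebra K L) (hB : B = A ⊔ Algebra.adjoin K {x}) (hAB : A ≤ B)
    (hJ : (RingHom.ker f).map (Subalgebra.inclusion hAB) ≠ ⊤) : x ∈ A := by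
  obtain ⟨n, hn, hJn⟩ := Ideal.exists_le_maximal _ hJ
  let _ := Ideal.Quotient.field n
  have hxB : x ∈ B := by
    rw [hB]
    exact (le_sup_right : Algebra.adjoin K {x} ≤ _) (Algebra.subset_adjoin rfl)
  let xb : B ⧸ n := Ideal.Quotient.mkₐ K n ⟨x, hxB⟩
  let R' : Subalgebra K (B ⧸ n) := Algebra.adjoin K {xb}
  let S : Subalgebra K B := R'.comap (Ideal.Quotient.mkₐ K n)
  have hS : B ≤ S.map B.val := by
    conv_lhs => rw [hB]
    refine sup_le ?_ (Algebra.adjoin_le ?_)
    · intro a ha
      refine ⟨⟨a, hAB ha⟩, ?_, rfl⟩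
      change Ideal.Quotient.mkₐ K n ⟨a, hAB ha⟩ ∈ R'
      have h1 : (⟨a, ha⟩ : A) - algebraMap K A (f ⟨a, ha⟩) ∈ RingHom.ker f := by
        rw [RingHom.mem_ker, map_sub, AlgHom.commutes, Algebra.algebraMap_self, RingHom.id_apply, sub_self]
      have h2 : Subalgebra.inclusion hAB ((⟨a, ha⟩ : A) - algebraMap K A (f ⟨a, ha⟩)) ∈ n :=
        hJn (Ideal.mem_map_of_mem _ h1)
      have h3 : Ideal.Quotient.mkₐ K n ⟨a, hAB ha⟩ = algebraMap K _ (f ⟨a, ha⟩) := by
        rw [map_sub, AlgHom.commutes] at h2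
        have h4 := (Ideal.Quotient.eq (I := n)).2 h2
        exact h4
      rw [h3]
      exact R'.algebraMap_mem _
    · intro y hy
      rw [Set.mem_singleton_iff] at hy
      rw [hy]
      exact ⟨⟨x, hxB⟩, Algebra.subset_adjoin rfl, rfl⟩
  have hStop : S = ⊤ := by
    rw [eq_top_iff]
    rintro ⟨b, hb⟩ -
    obtain ⟨b', hb', hbb⟩ := hS hb
    have : b' = ⟨b, hb⟩ := Subtype.ext hbb
    rwa [← this]
  have hR' : R' = ⊤ := by
    rw [eq_top_iff]
    intro y _
    obtain ⟨b, rfl⟩ := Ideal.Quotient.mk_surjective y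
    have : b ∈ S := by rw [hStop]; trivial
    exact this
  have hft : Algebra.FiniteType K (B ⧸ n) := by
    refine ⟨⟨{xb}, ?_⟩⟩
    rw [Finset.coe_singleton]
    exact hR'
  have hfin : Module.Finite K (B ⧸ n) := finite_of_finite_type_of_isJacobsonRing K (B ⧸ n)
  have hbij : Function.Bijective (algebraMap K (B ⧸ n)) :=
    IsAlgClosed.algebraMap_bijective_of_isIntegral
  let ε : K ≃ₐ[K] (B ⧸ n) := AlgEquiv.ofBijective (Algebra.ofId K (B ⧸ n)) hbij
  let g : B →ₐ[K] K := ε.symm.toAlgHom.comp (Ideal.Quotient.mkₐ K n)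
  refine hmax B g hAB ?_ hxB
  ext a
  change ε.symm (Ideal.Quotient.mkₐ K n (Subalgebra.inclusion hAB a)) = f a
  rw [AlgEquiv.symm_apply_eq]
  have h1 : a - algebraMap K A (f a) ∈ RingHom.ker f := by
    rw [RingHom.mem_ker, map_sub, AlgHom.commutes, Algebra.algebraMap_self, RingHom.id_apply, sub_self]
  have h2 : Subalgebra.inclusion hAB (a - algebraMap K A (f a)) ∈ n :=
    hJn (Ideal.mem_map_of_mem _ h1)
  rw [map_sub, AlgHom.commutes] at h2
  exact (Ideal.Quotient.eq (I := n)).2 h2

theorem map_ker_ne_top_inv {A : Subalgebra K L} {f : A →ₐ[K] K} (a : A) (ha : f a ≠ 0) (ha0 : (a : L) ≠ 0)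
    (B : Subalgebra K L) (hB : B = A ⊔ Algebra.adjoin K {(a : L)⁻¹}) (hAB : A ≤ B) :
    (RingHom.ker f).map (Subalgebra.inclusion hAB) ≠ ⊤ := by
  -- elements of `B` become elements of `A` after multiplication by a power of `a`
  have h1 : ∀ b ∈ B, ∃ M : ℕ, (a : L) ^ M * b ∈ A := by
    let T : Subalgebra K L :=
      { carrier := {b | ∃ M : ℕ, (a : L) ^ M * b ∈ A}
        mul_mem' := by
          rintro b c ⟨M, hM⟩ ⟨N, hN⟩
          refine ⟨M + N, ?_⟩
          have := A.mul_mem hM hN
          rwa [mul_mul_mul_comm, ← pow_add] at this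
        add_mem' := by
          rintro b c ⟨M, hM⟩ ⟨N, hN⟩
          refine ⟨M + N, ?_⟩
          have e1 := A.mul_mem (A.pow_mem a.2 N) hM
          have e2 := A.mul_mem (A.pow_mem a.2 M) hN
          rw [← mul_assoc, ← pow_add] at e1 e2
          rw [add_comm N M] at e1
          rw [mul_add]
          exact A.add_mem e1 e2
        algebraMap_mem' := fun r => ⟨0, by simp⟩ }
    have hle : B ≤ T := by
      rw [hB]
      refine sup_le ?_ (Algebra.adjoin_le ?_)
      · intro b hb
        exact ⟨0, by simpa using hb⟩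
      · intro y hy
        rw [Set.mem_singleton_iff] at hy
        rw [hy]
        exact ⟨1, by rw [pow_one, mul_inv_cancel₀ ha0]; exact A.one_mem⟩
    exact hle
  have h2 : ∀ j ∈ (RingHom.ker f).map (Subalgebra.inclusion hAB), ∃ (M : ℕ) (p : A), f p = 0 ∧
      (p : L) = (a : L) ^ M * (j : L) := by
    intro j hj
    refine Submodule.span_induction ?_ ?_ ?_ ?_ hj
    · rintro _ ⟨p, hp, rfl⟩
      exact ⟨0, p, hp, by simp⟩
    · exact ⟨0, 0, map_zero f, by simp⟩
    · rintro x y - - ⟨M, p, hp, hpx⟩ ⟨N, q, hq, hqy⟩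
      refine ⟨M + N, a ^ N * p + a ^ M * q, ?_, ?_⟩
      · rw [map_add, map_mul, map_mul, hp, hq, mul_zero, mul_zero, add_zero]
      · push_cast
        rw [hpx, hqy, pow_add]
        ring
    · rintro b x - ⟨M, p, hp, hpx⟩
      obtain ⟨N, hN⟩ := h1 b b.2
      refine ⟨M + N, ⟨_, hN⟩ * p, ?_, ?_⟩
      · rw [map_mul, hp, mul_zero]
      · push_cast
        rw [hpx, pow_add, smul_eq_mul]
        push_cast
        ring
  intro htop
  obtain ⟨M, p, hp, hpx⟩ := h2 1 (by rw [htop]; trivial)
  have h3 : p = a ^ M := by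
    apply Subtype.ext
    rw [hpx]
    simp
  rw [h3, map_pow] at hp
  exact ha (eq_zero_of_pow_eq_zero hp)

/-- Existence of places with values in an algebraically closed subfield. -/
theorem exists_place (K L : Type*) [Field K] [Field L] [Algebra K L] [IsAlgClosed K] :
    ∃ (V : ValuationSubring L) (hV : ∀ k : K, algebraMap K L k ∈ V) (f : V →+* K),
      ∀ k : K, f ⟨algebraMap K L k, hV k⟩ = k := by
  obtain ⟨A, f, hmax⟩ := exists_max K L
  -- elements not in the kernel are units
  have hunit : ∀ a : A, f a ≠ 0 → IsUnit a := by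
    intro a ha
    have ha0 : (a : L) ≠ 0 := by
      intro h
      apply ha
      have : a = 0 := Subtype.ext h
      rw [this, map_zero]
    have hx : ((a : L)⁻¹) ∈ A :=
      mem_of_max hmax _ _ rfl le_sup_left (map_ker_ne_top_inv a ha ha0 _ rfl _)
    exact isUnit_iff_exists_inv.2 ⟨⟨_, hx⟩, Subtype.ext (mul_inv_cancel₀ ha0)⟩
  have hker : ∀ a : A, f a = 0 → ¬ IsUnit a := by
    intro a ha h
    have h1 := h.map f
    rw [ha] at h1
    exact not_isUnit_zero h1
  have hloc : IsLocalRing A := by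
    refine IsLocalRing.of_nonunits_add ?_
    intro a b ha hb
    have ha' : f a = 0 := by
      by_contra h
      exact ha (hunit a h)
    have hb' : f b = 0 := by
      by_contra h
      exact hb (hunit b h)
    exact hker _ (by rw [map_add, ha', hb', add_zero])
  let R : LocalSubring L := { toSubring := A.toSubring, isLocalRing := hloc }
  have hR : IsMax R := by
    intro R' hRR'
    obtain ⟨h1, h2⟩ := hRR'
    have h3 : ∀ x ∈ R'.toSubring, x ∈ A := by
      intro x hx
      refine mem_of_max hmax _ _ rfl le_sup_left ?_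
      let R'' : Subalgebra K L :=
        { R'.toSubring with
          algebraMap_mem' := fun r => h1 (A.algebraMap_mem r) }
      have hle : A ⊔ Algebra.adjoin K {x} ≤ R'' := by
        refine sup_le (fun a ha => h1 ha) (Algebra.adjoin_le ?_)
        intro y hy
        rw [Set.mem_singleton_iff] at hy
        rw [hy]
        exact hx
      let ι : ↥(A ⊔ Algebra.adjoin K {x}) →+* R'.toSubring :=
        { toFun := fun b => ⟨b, hle b.2⟩
          map_one' := rfl
          map_mul' := fun _ _ => rfl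
          map_zero' := rfl
          map_add' := fun _ _ => rfl }
      have h4 : (RingHom.ker f).map (Subalgebra.inclusion (le_sup_left : A ≤ A ⊔ Algebra.adjoin K {x})) ≤
          (maximalIdeal R'.toSubring).comap ι := by
        rw [Ideal.map_le_iff_le_comap]
        intro p hp
        change (⟨(p : L), _⟩ : R'.toSubring) ∈ maximalIdeal R'.toSubring
        rw [IsLocalRing.mem_maximalIdeal]
        intro hu
        have hu' : IsUnit (Subring.inclusion h1 (⟨(p : L), p.2⟩ : R.toSubring)) := hu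
        have := h2.1 _ hu'
        exact hker p hp this
      intro htop
      rw [htop, top_le_iff] at h4
      exact (Ideal.IsPrime.comap ι (hK := inferInstance)).ne_top h4
    have h5 : R' = R := LocalSubring.toSubring_injective (le_antisymm h3 h1)
    exact h5.le
  obtain ⟨V, hV⟩ := LocalSubring.exists_valuationRing_of_isMax hR
  have hVA : ∀ x, x ∈ V ↔ x ∈ A := fun x => by
    have : x ∈ V.toLocalSubring.toSubring ↔ x ∈ R.toSubring := by rw [hV]
    exact this
  refine ⟨V, fun k => (hVA _).2 (A.algebraMap_mem k),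
    { toFun := fun v => f ⟨v, (hVA _).1 v.2⟩
      map_one' := map_one f
      map_mul' := fun x y => map_mul f ⟨x, (hVA _).1 x.2⟩ ⟨y, (hVA _).1 y.2⟩
      map_zero' := map_zero f
      map_add' := fun x y => map_add f ⟨x, (hVA _).1 x.2⟩ ⟨y, (hVA _).1 y.2⟩ }, ?_⟩
  intro k
  exact f.commutes k

end Groth.Agent.Sga3B.Place
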