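import Groth.Agent.Sga3B.TorusWt
import Groth.Agent.Sga3B.FibreNak
import Mathlib.GroupTheory.Finiteness
import Mathlib.Algebra.DualNumber
import Mathlib.RingTheory.TensorProduct.Finite
import Mathlib.RingTheory.FiniteType

/-!
# Functions on the weights, monomorphisms and tangent vectors centralised by a diagonalisable group

For a homomorphism `F : C →ₐ[R] R[N] ⊗ X` (`D(N)_X → G_X`), an algebra map `f : X → A` and a function `h : N → A` put
`Phi F f h = ∑ h(n) f(F_n)` in the convolution algebra. This is a ring homomorphism `(N → A) → Hom(C, A)`.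
-/

set_option autoImplicit false

open TensorProduct Coalgebra Bialgebra WithConv
open Groth.Agent.Sga3B.HaarDef Groth.Agent.Sga3B.TorusWt

namespace Groth.Agent.Sga3B.TorusLie

noncomputable section

section Phi

variable {R : Type*} [CommRing R] {N : Type*} [CommGroup N]
variable {C : Type*} [CommRing C] [HopfAlgebra R C]
variable {X A B : Type*} [CommRing X] [Algebra R X] [CommRing A] [Algebra R A] [CommRing B] [Algebra R B]

/-- `n ⊗ x ↦ h n * f x`. -/
def fn (f : X →ₐ[R] A) (h : N → A) : MonoidAlgebra R N ⊗[R] X →ₗ[R] A :=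
  LinearMap.mul' R A ∘ₗ TensorProduct.map
    (Finsupp.lift A R N h ∘ₗ (MonoidAlgebra.coeffLinearEquiv R).toLinearMap) f.toLinearMap

@[simp] lemma fn_single (f : X →ₐ[R] A) (h : N → A) (n : N) (r : R) (x : X) :
    fn f h (MonoidAlgebra.single n r ⊗ₜ x) = r • (h n * f x) := by
  simp [fn]

lemma fn_eq_sum (f : X →ₐ[R] A) (h : N → A) (z : MonoidAlgebra R N ⊗[R] X) {s : Finset N}
    (hs : ∀ n, n ∉ s → coef R n X z = 0) : fn f h z = ∑ n ∈ s, h n * f (coef R n X z) := by
  conv_lhs => rw [eq_sum_coef z hs, map_sum]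
  exact Finset.sum_congr rfl fun n _ => by rw [fn_single, one_smul]

/-- `∑ h(n) f(F_n)` -/
def Phi (F : WithConv (C →ₐ[R] MonoidAlgebra R N ⊗[R] X)) (f : X →ₐ[R] A) (h : N → A) :
    WithConv (C →ₗ[R] A) := pushL (fn f h) (lin F)

lemma Phi_apply (F : WithConv (C →ₐ[R] MonoidAlgebra R N ⊗[R] X)) (f : X →ₐ[R] A) (h : N → A) (c : C) :
    Phi F f h c = fn f h (F c) := rfl

lemma Phi_eq_sum (F : WithConv (C →ₐ[R] MonoidAlgebra R N ⊗[R] X)) (f : X →ₐ[R] A) (h : N → A) (c : C)
    {s : Finset N} (hs : ∀ n, n ∉ s → cf F n c = 0) :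
    Phi F f h c = ∑ n ∈ s, h n * f (cf F n c) :=
  fn_eq_sum f h (F c) hs

/-- a common finite support for finitely many elements -/
lemma exists_finset_cf (F : WithConv (C →ₐ[R] MonoidAlgebra R N ⊗[R] X)) (t : Finset C) :
    ∃ s : Finset N, ∀ c ∈ t, ∀ n, n ∉ s → cf F n c = 0 := by
  classical
  induction t using Finset.induction_on with
  | empty => exact ⟨∅, by simp⟩
  | insert a t _ ih =>
    obtain ⟨s, hs⟩ := ih
    obtain ⟨s', hs', -⟩ := exists_finset_coef (F a)
    refine ⟨s ∪ s', fun c hc n hn => ?_⟩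
    rw [Finset.mem_union, not_or] at hn
    rcases Finset.mem_insert.1 hc with rfl | hc
    · exact hs' n hn.2
    · exact hs c hc n hn.1

lemma exists_finset_repr (F : WithConv (C →ₐ[R] MonoidAlgebra R N ⊗[R] X)) (c : C) :
    ∃ s : Finset N, (∀ n, n ∉ s → cf F n c = 0) ∧
      (∀ i ∈ (ℛ R c).index, ∀ n, n ∉ s → cf F n ((ℛ R c).left i) = 0) ∧
      (∀ i ∈ (ℛ R c).index, ∀ n, n ∉ s → cf F n ((ℛ R c).right i) = 0) := by
  classical
  obtain ⟨s, hs⟩ := exists_finset_cf F (insert c ((ℛ R c).index.image (ℛ R c).left ∪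
    (ℛ R c).index.image (ℛ R c).right))
  refine ⟨s, hs c (by simp), fun i hi => hs _ ?_, fun i hi => hs _ ?_⟩
  · exact Finset.mem_insert_of_mem (Finset.mem_union_left _ (Finset.mem_image_of_mem _ hi))
  · exact Finset.mem_insert_of_mem (Finset.mem_union_right _ (Finset.mem_image_of_mem _ hi))

lemma Phi_mul {F : WithConv (C →ₐ[R] MonoidAlgebra R N ⊗[R] X)} (hF : IsHom F) (f : X →ₐ[R] A)
    (h h' : N → A) : Phi F f h * Phi F f h' = Phi F f (h * h') := by
  classical
  apply conv_ext
  intro c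
  obtain ⟨s, hs, hl, hr⟩ := exists_finset_repr F c
  rw [convMul_repr, Phi_eq_sum F f (h * h') c hs]
  have e1 : ∀ i ∈ (ℛ R c).index, Phi F f h ((ℛ R c).left i) * Phi F f h' ((ℛ R c).right i) =
      ∑ n ∈ s, ∑ m ∈ s, h n * h' m * f (cf F n ((ℛ R c).left i) * cf F m ((ℛ R c).right i)) := by
    intro i hi
    rw [Phi_eq_sum F f h _ (hl i hi), Phi_eq_sum F f h' _ (hr i hi), Finset.sum_mul_sum]
    refine Finset.sum_congr rfl fun n _ => Finset.sum_congr rfl fun m _ => ?_
    rw [map_mul]; ring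
  rw [Finset.sum_congr rfl e1, Finset.sum_comm]
  refine Finset.sum_congr rfl fun n hn => ?_
  rw [Finset.sum_comm]
  have e2 : ∀ m ∈ s, ∑ i ∈ (ℛ R c).index, h n * h' m *
      f (cf F n ((ℛ R c).left i) * cf F m ((ℛ R c).right i)) =
      if n = m then h n * h' m * f (cf F n c) else 0 := by
    intro m _
    rw [← Finset.mul_sum, ← map_sum, ← convMul_repr, cf_mul_cf hF]
    split_ifs
    · rfl
    · rw [show (0 : WithConv (C →ₗ[R] X)) c = 0 from rfl, map_zero, mul_zero]
  rw [Finset.sum_congr rfl e2, Finset.sum_ite_eq, if_pos hn]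
  rfl

lemma Phi_one {F : WithConv (C →ₐ[R] MonoidAlgebra R N ⊗[R] X)} (hF : IsHom F) (f : X →ₐ[R] A) :
    Phi F f (1 : N → A) = 1 := by
  apply conv_ext
  intro c
  obtain ⟨s, hs, -⟩ := exists_finset_repr F c
  rw [Phi_eq_sum F f _ c hs]
  simp only [Pi.one_apply, one_mul]
  rw [← map_sum, sum_cf hF c hs, AlgHom.commutes]
  rfl

lemma Phi_add (F : WithConv (C →ₐ[R] MonoidAlgebra R N ⊗[R] X)) (f : X →ₐ[R] A) (h h' : N → A) :
    Phi F f (h + h') = Phi F f h + Phi F f h' := by
  apply conv_ext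
  intro c
  obtain ⟨s, hs, -⟩ := exists_finset_repr F c
  rw [Phi_eq_sum F f _ c hs]
  show _ = Phi F f h c + Phi F f h' c
  rw [Phi_eq_sum F f _ c hs, Phi_eq_sum F f _ c hs, ← Finset.sum_add_distrib]
  exact Finset.sum_congr rfl fun n _ => by rw [Pi.add_apply, add_mul]

lemma Phi_smul_apply (F : WithConv (C →ₐ[R] MonoidAlgebra R N ⊗[R] X)) (f : X →ₐ[R] A) (a : A) (h : N → A)
    (c : C) : Phi F f (a • h) c = a * Phi F f h c := by
  obtain ⟨s, hs, -⟩ := exists_finset_repr F c
  rw [Phi_eq_sum F f _ c hs, Phi_eq_sum F f _ c hs, Finset.mul_sum]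
  exact Finset.sum_congr rfl fun n _ => by rw [Pi.smul_apply, smul_eq_mul, mul_assoc]

lemma Phi_single [DecidableEq N] (F : WithConv (C →ₐ[R] MonoidAlgebra R N ⊗[R] X)) (f : X →ₐ[R] A)
    (n : N) : Phi F f (Pi.single n 1) = push f (cf F n) := by
  apply conv_ext
  intro c
  obtain ⟨s, hs, -⟩ := exists_finset_repr F c
  have hs' : ∀ m, m ∉ insert n s → cf F m c = 0 := fun m hm => hs m fun h => hm (Finset.mem_insert_of_mem h)
  rw [Phi_eq_sum F f _ c hs', Finset.sum_eq_single n]
  · simp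
  · intro m _ hm
    rw [Pi.single_eq_of_ne hm, zero_mul]
  · intro h
    exact absurd (Finset.mem_insert_self n s) h

lemma Phi_mul_cf {F : WithConv (C →ₐ[R] MonoidAlgebra R N ⊗[R] X)} (hF : IsHom F) (f : X →ₐ[R] A)
    (h : N → A) (n : N) (c : C) : (Phi F f h * push f (cf F n)) c = h n * f (cf F n c) := by
  classical
  have e : h * Pi.single n 1 = h n • (Pi.single n 1 : N → A) := by
    funext m
    by_cases hm : m = n
    · subst hm; simp
    · simp [Pi.single_eq_of_ne hm]
  rw [← Phi_single, Phi_mul hF, e, Phi_smul_apply, Phi_single]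
  rfl

lemma push_Phi (F : WithConv (C →ₐ[R] MonoidAlgebra R N ⊗[R] X)) (f : X →ₐ[R] A) (g : A →ₐ[R] B) (h : N → A) :
    push g (Phi F f h) = Phi F (g.comp f) (g ∘ h) := by
  apply conv_ext
  intro c
  obtain ⟨s, hs, -⟩ := exists_finset_repr F c
  rw [push_apply, Phi_eq_sum F f _ c hs, Phi_eq_sum F _ _ c hs, map_sum]
  exact Finset.sum_congr rfl fun n _ => by rw [map_mul]; rfl

lemma Phi_T (F : WithConv (C →ₐ[R] MonoidAlgebra R N ⊗[R] X)) (g : X →ₐ[R] A) (f : A →ₐ[R] B) (h : N → B) :
    Phi (pushG (T (MonoidAlgebra R N) g) F) f h = Phi F (f.comp g) h := by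
  apply conv_ext
  intro c
  obtain ⟨s, hs, -⟩ := exists_finset_repr F c
  rw [Phi_eq_sum F _ _ c hs, Phi_eq_sum _ f _ c (s := s)]
  · refine Finset.sum_congr rfl fun n _ => ?_
    rw [cf_pushG_T]
    rfl
  · intro n hn
    rw [cf_pushG_T, push_apply, hs n hn, map_zero]

/-- A functional commuting with all `F_n` commutes with all `Phi F f h`. -/
lemma Phi_commute {F : WithConv (C →ₐ[R] MonoidAlgebra R N ⊗[R] X)} (f : X →ₐ[R] A)
    {D : WithConv (C →ₗ[R] A)} (hD : ∀ n, push f (cf F n) * D = D * push f (cf F n)) (h : N → A) :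
    Phi F f h * D = D * Phi F f h := by
  apply conv_ext
  intro c
  obtain ⟨s, hs, hl, hr⟩ := exists_finset_repr F c
  have e1 : (Phi F f h * D) c = ∑ n ∈ s, h n * (push f (cf F n) * D) c := by
    rw [convMul_repr]
    have : ∀ i ∈ (ℛ R c).index, Phi F f h ((ℛ R c).left i) * D ((ℛ R c).right i) =
        ∑ n ∈ s, h n * (push f (cf F n) ((ℛ R c).left i) * D ((ℛ R c).right i)) := by
      intro i hi
      rw [Phi_eq_sum F f h _ (hl i hi), Finset.sum_mul]
      exact Finset.sum_congr rfl fun n _ => by rw [push_apply, mul_assoc]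
    rw [Finset.sum_congr rfl this, Finset.sum_comm]
    exact Finset.sum_congr rfl fun n _ => by rw [← Finset.mul_sum, convMul_repr]
  have e2 : (D * Phi F f h) c = ∑ n ∈ s, h n * (D * push f (cf F n)) c := by
    rw [convMul_repr]
    have : ∀ i ∈ (ℛ R c).index, D ((ℛ R c).left i) * Phi F f h ((ℛ R c).right i) =
        ∑ n ∈ s, h n * (D ((ℛ R c).left i) * push f (cf F n) ((ℛ R c).right i)) := by
      intro i hi
      rw [Phi_eq_sum F f h _ (hr i hi), Finset.mul_sum]
      exact Finset.sum_congr rfl fun n _ => by rw [push_apply]; ring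
    rw [Finset.sum_congr rfl this, Finset.sum_comm]
    exact Finset.sum_congr rfl fun n _ => by rw [← Finset.mul_sum, convMul_repr]
  rw [e1, e2]
  exact Finset.sum_congr rfl fun n _ => by rw [hD]

/-! ### Characters -/

/-- the point of `D(N)_X` with values in `A` given by a character -/
def pt (f : X →ₐ[R] A) (χ : N →* A) : MonoidAlgebra R N ⊗[R] X →ₐ[R] A :=
  Algebra.TensorProduct.lift (MonoidAlgebra.lift R A N χ) f (fun _ _ => Commute.all _ _)

@[simp] lemma pt_single (f : X →ₐ[R] A) (χ : N →* A) (n : N) (r : R) (x : X) :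
    pt f χ (MonoidAlgebra.single n r ⊗ₜ x) = r • (χ n * f x) := by
  simp [pt]

lemma pt_toLinearMap (f : X →ₐ[R] A) (χ : N →* A) : (pt f χ).toLinearMap = fn f χ := by
  apply TensorProduct.ext'
  intro d x
  induction d using MonoidAlgebra.induction_linear with
  | zero => simp
  | add a b ha hb => rw [TensorProduct.add_tmul, map_add, map_add, ha, hb]
  | single n r => simp

lemma pt_apply (f : X →ₐ[R] A) (χ : N →* A) (z : MonoidAlgebra R N ⊗[R] X) : pt f χ z = fn f χ z :=
  LinearMap.congr_fun (pt_toLinearMap f χ) z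

lemma lin_pushG_pt (F : WithConv (C →ₐ[R] MonoidAlgebra R N ⊗[R] X)) (f : X →ₐ[R] A) (χ : N →* A) :
    lin (pushG (pt f χ) F) = Phi F f χ := by
  apply conv_ext
  intro c
  exact pt_apply f χ (F c)

/-- two characters giving the same point of `G` agree at the weights with invertible coefficients -/
lemma eq_of_pushG_pt_eq {F : WithConv (C →ₐ[R] MonoidAlgebra R N ⊗[R] X)} (hF : IsHom F) (f : X →ₐ[R] A)
    {χ χ' : N →* A} (h : pushG (pt f χ) F = pushG (pt f χ') F) {n : N} {x : C} (hx : IsUnit (cf F n x)) :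
    χ n = χ' n := by
  have h1 : Phi F f χ = Phi F f χ' := by rw [← lin_pushG_pt, ← lin_pushG_pt, h]
  have h2 := congrArg (fun q => (q * push f (cf F n)) x) h1
  simp only [Phi_mul_cf hF] at h2
  exact (hx.map f).mul_right_cancel h2

lemma eq_of_pushG_pt_eq' {F : WithConv (C →ₐ[R] MonoidAlgebra R N ⊗[R] X)} (hF : IsHom F) (f : X →ₐ[R] A)
    {W : Set N} (hW : Subgroup.closure W = ⊤) (hx : ∀ n ∈ W, ∃ x : C, IsUnit (cf F n x))
    {χ χ' : N →* A} (h : pushG (pt f χ) F = pushG (pt f χ') F) : χ = χ' := by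
  have h1 : χ.toHomUnits = χ'.toHomUnits := by
    apply MonoidHom.eq_of_eqOn_dense hW
    intro n hn
    obtain ⟨x, hx⟩ := hx n hn
    ext
    exact eq_of_pushG_pt_eq hF f h hx
  ext n
  have := congrArg (fun q : N →* Aˣ => ((q n : Aˣ) : A)) h1
  exact this

end Phi

/-! ### Monomorphisms -/

section Mono

universe u

variable {R : Type u} [CommRing R] {N : Type} [CommGroup N]
variable {C : Type u} [CommRing C] [HopfAlgebra R C]
variable {X Y : Type u} [CommRing X] [Algebra R X] [CommRing Y] [Algebra R Y]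

/-- The homomorphism `D(N)_X → G_X` is a monomorphism (on points with values in algebras). -/
def AMono (F : WithConv (C →ₐ[R] MonoidAlgebra R N ⊗[R] X)) : Prop :=
  ∀ (A : Type u) [CommRing A] [Algebra R A] (f : X →ₐ[R] A) (χ χ' : N →* A),
    pushG (pt f χ) F = pushG (pt f χ') F → χ = χ'

lemma amono_of_isUnit {F : WithConv (C →ₐ[R] MonoidAlgebra R N ⊗[R] X)} (hF : IsHom F)
    {W : Set N} (hW : Subgroup.closure W = ⊤) (hx : ∀ n ∈ W, ∃ x : C, IsUnit (cf F n x)) : AMono F :=
  fun _ _ _ f _ _ h => eq_of_pushG_pt_eq' hF f hW hx h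

lemma closure_eq_top_of_amono [Nontrivial X] {F : WithConv (C →ₐ[R] MonoidAlgebra R N ⊗[R] X)}
    (hF : AMono F) : Subgroup.closure {n : N | ∃ x : C, cf F n x ≠ 0} = ⊤ := by
  classical
  set H := Subgroup.closure {n : N | ∃ x : C, cf F n x ≠ 0} with hH
  let A := MonoidAlgebra X (N ⧸ H)
  let f : X →ₐ[R] A := (Algebra.ofId X A).restrictScalars R
  let χ : N →* A := (MonoidAlgebra.of X (N ⧸ H)).comp (QuotientGroup.mk' H)
  have h1 : pushG (pt f χ) F = pushG (pt f (1 : N →* A)) F := by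
    apply lin_injective
    rw [lin_pushG_pt, lin_pushG_pt]
    apply conv_ext
    intro c
    obtain ⟨s, hs, -⟩ := exists_finset_repr F c
    rw [Phi_eq_sum F f _ c hs, Phi_eq_sum F f _ c hs]
    refine Finset.sum_congr rfl fun n _ => ?_
    by_cases hn : cf F n c = 0
    · rw [hn, map_zero, mul_zero, mul_zero]
    · congr 1
      have hn' : n ∈ H := Subgroup.subset_closure ⟨c, hn⟩
      have h2 : (QuotientGroup.mk' H) n = 1 := (QuotientGroup.eq_one_iff n).2 hn'
      simp only [χ, MonoidHom.comp_apply, h2, map_one]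
      rfl
  have h2 := hF A f χ 1 h1
  rw [eq_top_iff]
  intro n _
  have h3 := DFunLike.congr_fun h2 n
  have h4 : (MonoidAlgebra.of X (N ⧸ H)) ((QuotientGroup.mk' H) n) = (MonoidAlgebra.of X (N ⧸ H)) 1 := by
    rw [map_one]; exact h3
  exact (QuotientGroup.eq_one_iff n).1 (MonoidAlgebra.of_injective h4)

lemma exists_finite_closure {G : Type*} [Group G] {S : Set G} {x : G} (hx : x ∈ Subgroup.closure S) :
    ∃ W : Set G, W ⊆ S ∧ W.Finite ∧ x ∈ Subgroup.closure W := by
  induction hx using Subgroup.closure_induction with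
  | mem x hx => exact ⟨{x}, by simpa using hx, Set.finite_singleton x, Subgroup.subset_closure rfl⟩
  | one => exact ⟨∅, Set.empty_subset _, Set.finite_empty, Subgroup.one_mem _⟩
  | mul x y _ _ hx hy =>
    obtain ⟨W, h1, h2, h3⟩ := hx
    obtain ⟨W', h1', h2', h3'⟩ := hy
    refine ⟨W ∪ W', Set.union_subset h1 h1', h2.union h2', Subgroup.mul_mem _ ?_ ?_⟩
    · exact Subgroup.closure_mono Set.subset_union_left h3
    · exact Subgroup.closure_mono Set.subset_union_right h3'
  | inv x _ hx =>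
    obtain ⟨W, h1, h2, h3⟩ := hx
    exact ⟨W, h1, h2, Subgroup.inv_mem _ h3⟩

lemma exists_finite_closure_eq_top {G : Type*} [Group G] [Group.FG G] {S : Set G}
    (hS : Subgroup.closure S = ⊤) : ∃ W : Set G, W ⊆ S ∧ W.Finite ∧ Subgroup.closure W = ⊤ := by
  obtain ⟨T, hT⟩ := Group.fg_def.1 (inferInstance : Group.FG G)
  have h : ∀ t : G, ∃ W : Set G, W ⊆ S ∧ W.Finite ∧ t ∈ Subgroup.closure W := fun t =>
    exists_finite_closure (by rw [hS]; trivial)
  choose W h1 h2 h3 using h
  refine ⟨⋃ t ∈ T, W t, Set.iUnion₂_subset fun t _ => h1 t, T.finite_toSet.biUnion fun t _ => h2 t, ?_⟩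
  rw [eq_top_iff, ← hT, Subgroup.closure_le]
  intro t ht
  exact Subgroup.closure_mono (Set.subset_biUnion_of_mem (u := W) ht) (h3 t)

end Mono

/-! ### Tangent vectors -/

section Tan

variable {R : Type*} [CommRing R] {N : Type*} [CommGroup N]
variable {C : Type*} [CommRing C] [HopfAlgebra R C]
variable {X A B : Type*} [CommRing X] [Algebra R X] [CommRing A] [Algebra R A] [CommRing B] [Algebra R B]

/-- tangent vectors at the unit of `G` with values in `A`, centralised by `F` -/
structure IsTan (F : WithConv (C →ₐ[R] MonoidAlgebra R N ⊗[R] X)) (f : X →ₐ[R] A)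
    (D : WithConv (C →ₗ[R] A)) : Prop where
  der : IsDer D
  comm : ∀ n, push f (cf F n) * D = D * push f (cf F n)

lemma isTan_T_iff (F : WithConv (C →ₐ[R] MonoidAlgebra R N ⊗[R] X)) (g : X →ₐ[R] A) (f : A →ₐ[R] B)
    (D : WithConv (C →ₗ[R] B)) :
    IsTan (pushG (T (MonoidAlgebra R N) g) F) f D ↔ IsTan F (f.comp g) D := by
  constructor
  · intro h
    refine ⟨h.der, fun n => ?_⟩
    have := h.comm n
    rw [cf_pushG_T, push_push] at this
    exact this
  · intro h
    refine ⟨h.der, fun n => ?_⟩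
    rw [cf_pushG_T, push_push]
    exact h.comm n

lemma fn_mul_of_add (f : X →ₐ[R] A) {δ : N → A} (hδ : ∀ m n, δ (m * n) = δ m + δ n)
    (z w : MonoidAlgebra R N ⊗[R] X) :
    fn f δ (z * w) = fn f 1 z * fn f δ w + fn f 1 w * fn f δ z := by
  induction z using TensorProduct.induction_on with
  | zero => simp
  | tmul d x =>
    induction w using TensorProduct.induction_on with
    | zero => simp
    | tmul e y =>
      induction d using MonoidAlgebra.induction_linear with
      | zero => simp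
      | add a b ha hb =>
        rw [TensorProduct.add_tmul, add_mul, map_add, map_add, map_add, ha, hb]; ring
      | single n r =>
        induction e using MonoidAlgebra.induction_linear with
        | zero => simp
        | add a b ha hb =>
          rw [TensorProduct.add_tmul, mul_add, map_add, map_add, map_add, ha, hb]; ring
        | single m s =>
          rw [Algebra.TensorProduct.tmul_mul_tmul, MonoidAlgebra.single_mul_single]
          simp only [fn_single, hδ, map_mul, Pi.one_apply, one_mul, Algebra.smul_def]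
          ring
    | add a b ha hb => rw [mul_add, map_add, map_add, map_add, ha, hb]; ring
  | add a b ha hb => rw [add_mul, map_add, map_add, map_add, ha, hb]; ring

lemma isDer_Phi {F : WithConv (C →ₐ[R] MonoidAlgebra R N ⊗[R] X)} (hF : IsHom F) (f : X →ₐ[R] A)
    {δ : N → A} (hδ : ∀ m n, δ (m * n) = δ m + δ n) : IsDer (Phi F f δ) := by
  intro x y
  have h1 : ∀ c, fn f (1 : N → A) (F c) = algebraMap R A (counit (R := R) c) := fun c =>
    congrArg (fun q : WithConv (C →ₗ[R] A) => q c) (Phi_one hF f)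
  rw [Phi_apply, Phi_apply, Phi_apply]
  have h2 : F (x * y) = F x * F y := map_mul F.ofConv x y
  rw [h2, fn_mul_of_add f hδ, h1, h1, Algebra.smul_def, Algebra.smul_def]

lemma Phi_comm {F : WithConv (C →ₐ[R] MonoidAlgebra R N ⊗[R] X)} (hF : IsHom F) (f : X →ₐ[R] A)
    (h h' : N → A) : Phi F f h * Phi F f h' = Phi F f h' * Phi F f h := by
  rw [Phi_mul hF, Phi_mul hF, mul_comm]

/-- coefficients of a homomorphism which factors through another diagonalisable group -/
lemma cf_pushG_pt {N' : Type*} [CommGroup N'] (F' : WithConv (C →ₐ[R] MonoidAlgebra R N' ⊗[R] X))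
    (χ : N' →* MonoidAlgebra R N ⊗[R] X) (n : N) :
    cf (pushG (pt (ι R (MonoidAlgebra R N) X) χ) F') n =
      Phi F' (AlgHom.id R X) (fun m => coef R n X (χ m)) := by
  apply conv_ext
  intro c
  obtain ⟨s, hs, -⟩ := exists_finset_repr F' c
  rw [Phi_eq_sum F' _ _ c hs]
  have h1 : (pushG (pt (ι R (MonoidAlgebra R N) X) χ) F') c =
      ∑ m ∈ s, χ m * ι R (MonoidAlgebra R N) X (cf F' m c) := by
    rw [← Phi_eq_sum F' _ _ c hs, ← lin_pushG_pt]
    rfl
  rw [cf_apply, h1, map_sum]
  refine Finset.sum_congr rfl fun m _ => ?_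
  rw [mul_comm, coef_ι_mul, mul_comm]
  rfl

lemma isTan_Phi_of_factor {N' : Type*} [CommGroup N'] {F' : WithConv (C →ₐ[R] MonoidAlgebra R N' ⊗[R] X)}
    (hF' : IsHom F') (χ : N' →* MonoidAlgebra R N ⊗[R] X) (f : X →ₐ[R] A) {δ : N' → A}
    (hδ : ∀ m n, δ (m * n) = δ m + δ n) :
    IsTan (pushG (pt (ι R (MonoidAlgebra R N) X) χ) F') f (Phi F' f δ) where
  der := isDer_Phi hF' f hδ
  comm n := by
    have h1 : push f (cf (pushG (pt (ι R (MonoidAlgebra R N) X) χ) F') n) =
        Phi F' f (f ∘ (fun m => coef R n X (χ m))) := by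
      rw [cf_pushG_pt, push_Phi]
      rfl
    rw [h1, Phi_comm hF']

/-- the additive function on `ℤ^r` with given values on the basis -/
def addFn {r : ℕ} (v : Fin r → A) (n : Multiplicative (Fin r → ℤ)) : A := ∑ i, (n.toAdd i : A) * v i

lemma addFn_mul {r : ℕ} (v : Fin r → A) (m n : Multiplicative (Fin r → ℤ)) :
    addFn v (m * n) = addFn v m + addFn v n := by
  simp only [addFn, ← Finset.sum_add_distrib]
  refine Finset.sum_congr rfl fun i _ => ?_
  rw [toAdd_mul, Pi.add_apply, Int.cast_add, add_mul]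

lemma addFn_single {r : ℕ} (v : Fin r → A) (i : Fin r) :
    addFn v (Multiplicative.ofAdd (Pi.single i 1)) = v i := by
  rw [addFn, Finset.sum_eq_single i]
  · simp
  · intro j _ hj
    simp [Pi.single_eq_of_ne hj]
  · simp

lemma addFn_add {r : ℕ} (v w : Fin r → A) :
    addFn (v + w) = addFn v + addFn w := by
  funext n
  simp only [addFn, Pi.add_apply, ← Finset.sum_add_distrib, mul_add]

lemma addFn_smul {r : ℕ} (a : A) (v : Fin r → A) : addFn (a • v) = a • addFn v := by
  funext n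
  simp only [addFn, Pi.smul_apply, smul_eq_mul, Finset.mul_sum]
  exact Finset.sum_congr rfl fun i _ => by ring

lemma eq_addFn {r : ℕ} {δ : Multiplicative (Fin r → ℤ) → A} (hδ : ∀ m n, δ (m * n) = δ m + δ n) :
    δ = addFn (fun i => δ (Multiplicative.ofAdd (Pi.single i 1))) := by
  let δ' : (Fin r → ℤ) →+ A := AddMonoidHom.mk' (fun n => δ (Multiplicative.ofAdd n)) fun a b => hδ _ _
  let δ'' : (Fin r → ℤ) →+ A := AddMonoidHom.mk' (fun n => addFn (fun i => δ (Multiplicative.ofAdd (Pi.single i 1)))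
    (Multiplicative.ofAdd n)) fun a b => addFn_mul _ _ _
  have h : δ' = δ'' := by
    apply AddMonoidHom.functions_ext
    intro i z
    have h1 : (Pi.single i z : Fin r → ℤ) = z • Pi.single i 1 := by
      rw [← Pi.single_smul', smul_eq_mul, mul_one]
    rw [h1, map_zsmul, map_zsmul]
    congr 1
    exact (addFn_single (fun i => δ (Multiplicative.ofAdd (Pi.single i 1))) i).symm
  funext n
  exact DFunLike.congr_fun h n.toAdd

end Tan

end

end Groth.Agent.Sga3B.TorusLie
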