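import Groth.Agent.Sga3B.AffTest
import Groth.Agent.Sga3B.DSPts
import Groth.Agent.Sga3B.BcIso
import Groth.Agent.Sga3B.TorusLie

/-!
# Groups over `Spec L` whose functor of points is given by a Hopf algebra `C` over `R`
-/

set_option autoImplicit false

open CategoryTheory MonoidalCategory CartesianMonoidalCategory MonObj GrpObj AlgebraicGeometry Limits Opposite
open Groth.Agent.Sga3B.HaarDef Groth.Agent.Sga3B.AffTest

namespace Groth.Agent.Sga3B.PtData

noncomputable section

universe u

/-- A group over `Spec L` whose points with values in an `L`-algebra `A` are `G(A) = Hom_R(C, A)`. -/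
structure PtStr (R C L : Type u) [CommRing R] [CommRing C] [HopfAlgebra R C] [CommRing L] [Algebra R L]
    (G : Over (Spec (CommRingCat.of L))) [GrpObj G] where
  /-- the identification of points -/
  e : ∀ (A : Type u) [CommRing A] [Algebra R A] [Algebra L A] [IsScalarTower R L A],
    WithConv (C →ₐ[R] A) ≃* (sp L A ⟶ G)
  nat : ∀ {A B : Type u} [CommRing A] [Algebra R A] [Algebra L A] [IsScalarTower R L A]
    [CommRing B] [Algebra R B] [Algebra L B] [IsScalarTower R L B] (f : A →ₐ[L] B) (x : WithConv (C →ₐ[R] A)),
    spMap f ≫ e A x = e B (pushG (f.restrictScalars R) x)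

variable {R C L : Type u} [CommRing R] [CommRing C] [HopfAlgebra R C] [CommRing L] [Algebra R L]

/-- transport along an isomorphism of groups -/
def PtStr.ofIso {G H : Over (Spec (CommRingCat.of L))} [GrpObj G] [GrpObj H] (P : PtStr R C L G)
    (i : G ≅ H) [IsMonHom i.hom] : PtStr R C L H where
  e A _ _ _ _ := (P.e A).trans
    { toFun := fun x => x ≫ i.hom
      invFun := fun x => x ≫ i.inv
      left_inv := fun x => by simp
      right_inv := fun x => by simp
      map_mul' := fun x y => MonObj.mul_comp _ _ _ }
  nat f x := by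
    show spMap f ≫ P.e _ x ≫ i.hom = P.e _ _ ≫ i.hom
    rw [← Category.assoc, P.nat]

lemma PtStr.ofIso_e {G H : Over (Spec (CommRingCat.of L))} [GrpObj G] [GrpObj H] (P : PtStr R C L G)
    (i : G ≅ H) [IsMonHom i.hom] (A : Type u) [CommRing A] [Algebra R A] [Algebra L A] [IsScalarTower R L A]
    (x : WithConv (C →ₐ[R] A)) : (P.ofIso i).e A x = P.e A x ≫ i.hom := rfl

/-- transport along an isomorphism of bundled groups -/
def PtStr.ofGrpIso {G H : Over (Spec (CommRingCat.of L))} [GrpObj G] [GrpObj H] (P : PtStr R C L G)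
    (i : Grp.mk G ≅ Grp.mk H) : PtStr R C L H :=
  let j : G ≅ H := (Grp.forget _).mapIso i
  have : IsMonHom j.hom := i.hom.hom.isMonHom_hom
  P.ofIso j

section bc

variable {L' : Type u} [CommRing L'] [Algebra R L'] [Algebra L L'] [IsScalarTower R L L']

variable (L L') in
/-- the base change morphism -/
abbrev q : Spec (CommRingCat.of L') ⟶ Spec (CommRingCat.of L) := Spec.map (CommRingCat.ofHom (algebraMap L L'))

/-- viewing `Spec A` over `Spec L'` as a scheme over `Spec L` -/
def mapIso (A : Type u) [CommRing A] [Algebra L' A] [Algebra L A] [IsScalarTower L L' A] :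
    (Over.map (q L L')).obj (sp L' A) ≅ sp L A :=
  Over.isoMk (Iso.refl _) (by
    refine (Category.id_comp _).trans ?_
    show Spec.map (CommRingCat.ofHom (algebraMap L A)) = Spec.map (CommRingCat.ofHom (algebraMap L' A)) ≫
      Spec.map (CommRingCat.ofHom (algebraMap L L'))
    rw [← Spec.map_comp, ← CommRingCat.ofHom_comp, ← IsScalarTower.algebraMap_eq])

@[simp] lemma mapIso_hom_left (A : Type u) [CommRing A] [Algebra L' A] [Algebra L A] [IsScalarTower L L' A] :
    (mapIso (L := L) (L' := L') A).hom.left = 𝟙 _ := rfl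

lemma mapIso_nat {A B : Type u} [CommRing A] [Algebra L' A] [Algebra L A] [IsScalarTower L L' A]
    [CommRing B] [Algebra L' B] [Algebra L B] [IsScalarTower L L' B] (f : A →ₐ[L'] B) :
    (Over.map (q L L')).map (spMap f) ≫ (mapIso (L := L) (L' := L') A).hom =
      (mapIso (L := L) (L' := L') B).hom ≫ spMap (f.restrictScalars L) := by
  ext1
  rw [Over.comp_left, Over.comp_left, mapIso_hom_left, mapIso_hom_left]
  exact (Category.comp_id _).trans (Category.id_comp _).symm

/-- points of the base change with values in an `L'`-algebra -/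
def bcPt (G : Over (Spec (CommRingCat.of L))) [GrpObj G] (A : Type u) [CommRing A] [Algebra L' A] [Algebra L A]
    [IsScalarTower L L' A] : (sp L A ⟶ G) ≃* (sp L' A ⟶ Red.bc (q L L') G) :=
  MulEquiv.trans
    { toFun := fun x => (mapIso (L := L) (L' := L') A).hom ≫ x
      invFun := fun x => (mapIso (L := L) (L' := L') A).inv ≫ x
      left_inv := fun x => by simp
      right_inv := fun x => by simp
      map_mul' := fun x y => MonObj.comp_mul _ _ _ } (DSPts.bcEquiv (q L L') (sp L' A) G)

lemma bcPt_apply (G : Over (Spec (CommRingCat.of L))) [GrpObj G] (A : Type u) [CommRing A] [Algebra L' A]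
    [Algebra L A] [IsScalarTower L L' A] (x : sp L A ⟶ G) :
    bcPt (L' := L') G A x = DSPts.bcEquiv (q L L') (sp L' A) G ((mapIso (L := L) (L' := L') A).hom ≫ x) := rfl

lemma bcPt_nat (G : Over (Spec (CommRingCat.of L))) [GrpObj G] {A B : Type u} [CommRing A] [Algebra L' A]
    [Algebra L A] [IsScalarTower L L' A] [CommRing B] [Algebra L' B]
    [Algebra L B] [IsScalarTower L L' B] (f : A →ₐ[L'] B) (x : sp L A ⟶ G) :
    spMap f ≫ bcPt G A x = bcPt G B (spMap (f.restrictScalars L) ≫ x) := by
  rw [bcPt_apply, bcPt_apply, DSPts.bcEquiv_naturality]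
  rw [← Category.assoc, mapIso_nat, Category.assoc]

lemma bcPt_comp {G H : Over (Spec (CommRingCat.of L))} [GrpObj G] [GrpObj H] (A : Type u) [CommRing A] [Algebra L' A]
    [Algebra L A] [IsScalarTower L L' A] (x : sp L A ⟶ G) (i : G ⟶ H) :
    bcPt G A x ≫ (Over.pullback (q L L')).map i = bcPt H A (x ≫ i) := by
  rw [bcPt_apply, bcPt_apply, DSPts.bcEquiv_comp, Category.assoc]

variable (L') in
/-- base change of the group -/
def PtStr.bc {G : Over (Spec (CommRingCat.of L))} [GrpObj G] (P : PtStr R C L G) :
    PtStr R C L' (Red.bc (q L L') G) where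
  e A _ _ _ _ :=
    letI : Algebra L A := Algebra.compHom A (algebraMap L L')
    haveI : IsScalarTower L L' A := IsScalarTower.of_algebraMap_eq fun _ => rfl
    haveI : IsScalarTower R L A := IsScalarTower.of_algebraMap_eq fun x => by
      rw [IsScalarTower.algebraMap_apply R L' A, IsScalarTower.algebraMap_apply R L L']
      rfl
    (P.e A).trans (bcPt G A)
  nat {A B} _ _ _ _ _ _ _ _ f x := by
    let : Algebra L A := Algebra.compHom A (algebraMap L L')
    have : IsScalarTower L L' A := IsScalarTower.of_algebraMap_eq fun _ => rfl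
    have : IsScalarTower R L A := IsScalarTower.of_algebraMap_eq fun x => by
      rw [IsScalarTower.algebraMap_apply R L' A, IsScalarTower.algebraMap_apply R L L']
      rfl
    let : Algebra L B := Algebra.compHom B (algebraMap L L')
    have : IsScalarTower L L' B := IsScalarTower.of_algebraMap_eq fun _ => rfl
    have : IsScalarTower R L B := IsScalarTower.of_algebraMap_eq fun x => by
      rw [IsScalarTower.algebraMap_apply R L' B, IsScalarTower.algebraMap_apply R L L']
      rfl
    show spMap f ≫ bcPt G A (P.e A x) = bcPt G B (P.e B _)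
    rw [bcPt_nat, P.nat]
    rfl

end bc

end

end Groth.Agent.Sga3B.PtData
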