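import Groth.Agent.Sga3B.PtData

/-!
# Point structures on diagonalisable groups and on affine groups; homomorphisms
-/

set_option autoImplicit false

open CategoryTheory MonoidalCategory CartesianMonoidalCategory AlgebraicGeometry Limits Opposite
open TensorProduct WithConv
open scoped MonObj
open Groth.Agent.Sga3B.HaarDef Groth.Agent.Sga3B.AffTest Groth.Agent.Sga3B.PtData Groth.Agent.Sga3B.TorusLie
open Groth.Agent.Sga3B.TorusWt

namespace Groth.Agent.Sga3B.PtMor

noncomputable section

universe u

variable {R C L : Type u} [CommRing R] [CommRing C] [HopfAlgebra R C] [CommRing L] [Algebra R L]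

section Base

variable (L) in
/-- the base change to `L` of a group isomorphic to `Spec C` -/
def baseStr {G : Over (Spec (CommRingCat.of R))} [GrpObj G] (i : sp R C ≅ G) [IsMonHom i.hom] :
    PtStr R C L (Red.bc (q R L) G) where
  e A _ _ _ _ := (Spec.mapMulEquiv (R := R) (S := C) (T := A)).trans (MulEquiv.trans
    { toFun := fun x => x ≫ i.hom
      invFun := fun x => x ≫ i.inv
      left_inv := fun x => by simp
      right_inv := fun x => by simp
      map_mul' := fun x y => MonObj.mul_comp _ _ _ } (bcPt G A))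
  nat {A B} _ _ _ _ _ _ _ _ f x := by
    show spMap f ≫ bcPt G A (Spec.mapMulEquiv x ≫ i.hom) = bcPt G B (Spec.mapMulEquiv _ ≫ i.hom)
    rw [bcPt_nat, ← Category.assoc]
    congr 2
    exact (spMap_comp x.ofConv (f.restrictScalars R)).symm

/-- points of the diagonalisable group with values in an algebra -/
def dsPt (M : Type) [AddCommGroup M] (A : Type u) [CommRing A] [Algebra L A] :
    (Multiplicative M →* A) ≃* (sp L A ⟶ Red.DS (Spec (CommRingCat.of L)) M) :=
  MulEquiv.trans (MulEquiv.monoidHomCongrRight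
    (Scheme.ΓSpecIso (CommRingCat.of A)).symm.commRingCatIsoToRingEquiv.toMulEquiv)
    (DSPts.dsEquiv (sp L A) M)

lemma dsPt_nat (M : Type) [AddCommGroup M] {A B : Type u} [CommRing A] [Algebra L A] [CommRing B] [Algebra L B]
    (f : A →ₐ[L] B) (χ : Multiplicative M →* A) :
    spMap f ≫ dsPt M A χ = dsPt M B ((f : A →* B).comp χ) := by
  show spMap f ≫ DSPts.dsEquiv (sp L A) M _ = DSPts.dsEquiv (sp L B) M _
  rw [DSPts.dsEquiv_naturality]
  congr 1
  ext n
  have h := Scheme.ΓSpecIso_inv_naturality (CommRingCat.ofHom f.toRingHom)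
  exact (congrArg (fun q => q.hom (χ n)) h).symm

variable (R L) in
/-- the points of a diagonalisable group -/
def dsStr (M : Type) [AddCommGroup M] :
    PtStr R (MonoidAlgebra R (Multiplicative M)) L (Red.DS (Spec (CommRingCat.of L)) M) where
  e A _ _ _ _ := (MonoidAlgebra.liftMulEquiv R A (Multiplicative M)).symm.trans (dsPt M A)
  nat {A B} _ _ _ _ _ _ _ _ f x := by
    show spMap f ≫ dsPt M A _ = dsPt M B _
    rw [dsPt_nat]
    rfl

end Base

section Mor

variable {N : Type} [CommGroup N]

lemma ma_ext {A : Type*} [CommRing A] [Algebra R A] {f g : MonoidAlgebra R N →ₐ[R] A}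
    (h : ∀ n, f (MonoidAlgebra.single n 1) = g (MonoidAlgebra.single n 1)) : f = g := by
  apply AlgHom.ext
  intro z
  induction z using MonoidAlgebra.induction_linear with
  | zero => rw [map_zero, map_zero]
  | add a b ha hb => rw [map_add, map_add, ha, hb]
  | single n r =>
    have : (MonoidAlgebra.single n r : MonoidAlgebra R N) = r • MonoidAlgebra.single n 1 := by
      rw [MonoidAlgebra.smul_single, smul_eq_mul, mul_one]
    rw [this, map_smul, map_smul, h]

/-- the points of a group with character group `N` -/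
def chPt {T : Over (Spec (CommRingCat.of L))} [GrpObj T] (PT : PtStr R (MonoidAlgebra R N) L T)
    (A : Type u) [CommRing A] [Algebra R A] [Algebra L A] [IsScalarTower R L A] :
    (N →* A) ≃* (sp L A ⟶ T) :=
  (MonoidAlgebra.liftMulEquiv R A N).trans (PT.e A)

lemma chPt_nat {T : Over (Spec (CommRingCat.of L))} [GrpObj T] (PT : PtStr R (MonoidAlgebra R N) L T)
    {A B : Type u} [CommRing A] [Algebra R A] [Algebra L A] [IsScalarTower R L A]
    [CommRing B] [Algebra R B] [Algebra L B] [IsScalarTower R L B] (f : A →ₐ[L] B) (χ : N →* A) :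
    spMap f ≫ chPt PT A χ = chPt PT B ((f : A →* B).comp χ) := by
  show spMap f ≫ PT.e A _ = PT.e B _
  rw [PT.nat]
  congr 1
  apply WithConv.ofConv_injective
  apply ma_ext
  intro n
  show f (MonoidAlgebra.lift R A N χ (MonoidAlgebra.single n 1)) =
    MonoidAlgebra.lift R B N ((f : A →* B).comp χ) (MonoidAlgebra.single n 1)
  simp

/-- The morphism `i : T ⟶ G` corresponds to `F`. -/
def Corr {T G : Over (Spec (CommRingCat.of L))} [GrpObj T] [GrpObj G] (PT : PtStr R (MonoidAlgebra R N) L T)
    (PG : PtStr R C L G) (i : T ⟶ G) (F : WithConv (C →ₐ[R] MonoidAlgebra R N ⊗[R] L)) : Prop :=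
  ∀ (A : Type u) [CommRing A] [Algebra R A] [Algebra L A] [IsScalarTower R L A] (χ : N →* A),
    chPt PT A χ ≫ i = PG.e A (pushG (pt (IsScalarTower.toAlgHom R L A) χ) F)

/-- the structure of `L`-algebra on `R[N] ⊗ X` from the right factor -/
@[implicit_reducible] def rAlg (R L : Type u) [CommRing R] [CommRing L] (N : Type) [CommGroup N]
    (X : Type u) [CommRing X] [Algebra R X] [Algebra L X] : Algebra L (MonoidAlgebra R N ⊗[R] X) :=
  ((HaarDef.ι R (MonoidAlgebra R N) X).toRingHom.comp (algebraMap L X)).toAlgebra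

lemma rAlg_tower (R L : Type u) [CommRing R] [CommRing L] [Algebra R L] (N : Type) [CommGroup N]
    (X : Type u) [CommRing X] [Algebra R X] [Algebra L X] [IsScalarTower R L X] :
    letI := rAlg R L N X
    IsScalarTower R L (MonoidAlgebra R N ⊗[R] X) := by
  let := rAlg R L N X
  refine IsScalarTower.of_algebraMap_eq fun r => ?_
  show _ = HaarDef.ι R (MonoidAlgebra R N) X (algebraMap L X (algebraMap R L r))
  rw [← IsScalarTower.algebraMap_apply, AlgHom.commutes]

variable (R L N) in
/-- the universal character -/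
def uch : N →* MonoidAlgebra R N ⊗[R] L :=
  ((Algebra.TensorProduct.includeLeft : MonoidAlgebra R N →ₐ[R] MonoidAlgebra R N ⊗[R] L) :
    MonoidAlgebra R N →* MonoidAlgebra R N ⊗[R] L).comp (MonoidAlgebra.of R N)

lemma uch_apply (n : N) : uch R L N n = MonoidAlgebra.single n 1 ⊗ₜ 1 := rfl

lemma pt_uch : pt (HaarDef.ι R (MonoidAlgebra R N) L) (uch R L N) = AlgHom.id R (MonoidAlgebra R N ⊗[R] L) := by
  apply Algebra.TensorProduct.ext
  · apply ma_ext
    intro n
    simp only [AlgHom.comp_apply, Algebra.TensorProduct.includeLeft_apply, pt_single, uch_apply, map_one,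
      mul_one, one_smul]
    rfl
  · ext x
    show pt (HaarDef.ι R (MonoidAlgebra R N) L) (uch R L N) (MonoidAlgebra.single 1 1 ⊗ₜ x) = _
    rw [pt_single, map_one, one_mul, one_smul]
    rfl

lemma pushG_pt_uch (F : WithConv (C →ₐ[R] MonoidAlgebra R N ⊗[R] L)) :
    pushG (pt (HaarDef.ι R (MonoidAlgebra R N) L) (uch R L N)) F = F := by
  rw [pt_uch]; rfl

lemma pt_comp_uch {A : Type u} [CommRing A] [Algebra R A] (f : L →ₐ[R] A) (χ : N →* A) :
    ((pt f χ : MonoidAlgebra R N ⊗[R] L →ₐ[R] A) : MonoidAlgebra R N ⊗[R] L →* A).comp (uch R L N) = χ := by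
  ext n
  show pt f χ (MonoidAlgebra.single n 1 ⊗ₜ 1) = χ n
  rw [pt_single, map_one, mul_one, one_smul]

/-- `pt` as an `L`-algebra map -/
def ptL {A : Type u} [CommRing A] [Algebra R A] [Algebra L A] [IsScalarTower R L A] (χ : N →* A) :
    letI := rAlg R L N L
    MonoidAlgebra R N ⊗[R] L →ₐ[L] A :=
  letI := rAlg R L N L
  { pt (IsScalarTower.toAlgHom R L A) χ with
    commutes' := fun x => by
      show pt (IsScalarTower.toAlgHom R L A) χ (MonoidAlgebra.single 1 1 ⊗ₜ x) = _
      rw [pt_single, map_one, one_mul, one_smul]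
      rfl }

section Exists

variable {T G : Over (Spec (CommRingCat.of L))} [GrpObj T] [GrpObj G] (PT : PtStr R (MonoidAlgebra R N) L T)
    (PG : PtStr R C L G)

/-- every morphism corresponds to some `F` -/
theorem exists_corr (i : T ⟶ G) : ∃ F, Corr PT PG i F := by
  let := rAlg R L N L
  have := rAlg_tower R L N L
  let F := (PG.e (MonoidAlgebra R N ⊗[R] L)).symm (chPt PT (MonoidAlgebra R N ⊗[R] L) (uch R L N) ≫ i)
  refine ⟨F, fun A _ _ _ _ χ => ?_⟩
  have h1 : chPt PT A χ = spMap (ptL χ) ≫ chPt PT (MonoidAlgebra R N ⊗[R] L) (uch R L N) := by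
    rw [chPt_nat]
    congr 1
    exact (pt_comp_uch (IsScalarTower.toAlgHom R L A) χ).symm
  rw [h1, Category.assoc]
  have h2 : chPt PT (MonoidAlgebra R N ⊗[R] L) (uch R L N) ≫ i = PG.e (MonoidAlgebra R N ⊗[R] L) F :=
    (MulEquiv.apply_symm_apply _ _).symm
  rw [h2, PG.nat]
  rfl

variable {PT PG}

lemma Corr.universal {i : T ⟶ G} {F : WithConv (C →ₐ[R] MonoidAlgebra R N ⊗[R] L)} (h : Corr PT PG i F) :
    letI := rAlg R L N L
    haveI := rAlg_tower R L N L
    chPt PT (MonoidAlgebra R N ⊗[R] L) (uch R L N) ≫ i = PG.e (MonoidAlgebra R N ⊗[R] L) F := by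
  let := rAlg R L N L
  have := rAlg_tower R L N L
  have h1 := h (MonoidAlgebra R N ⊗[R] L) (uch R L N)
  rw [h1]
  congr 1
  exact pushG_pt_uch F

lemma Corr.unique {i : T ⟶ G} {F F' : WithConv (C →ₐ[R] MonoidAlgebra R N ⊗[R] L)} (h : Corr PT PG i F)
    (h' : Corr PT PG i F') : F = F' := by
  let := rAlg R L N L
  have := rAlg_tower R L N L
  exact (PG.e (MonoidAlgebra R N ⊗[R] L)).injective (h.universal.symm.trans h'.universal)

variable (PT PG)

/-- the universal point is an isomorphism -/
lemma isIso_universal [IsAffine T.left] :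
    letI := rAlg R L N L
    haveI := rAlg_tower R L N L
    IsIso (chPt PT (MonoidAlgebra R N ⊗[R] L) (uch R L N)) := by
  let := rAlg R L N L
  have := rAlg_tower R L N L
  have : IsAffine (sp L (MonoidAlgebra R N ⊗[R] L)).left := by
    show IsAffine (Spec _)
    infer_instance
  apply isIso_of_pts
  intro A _ _
  let : Algebra R A := Algebra.compHom A (algebraMap R L)
  have : IsScalarTower R L A := IsScalarTower.of_algebraMap_eq fun _ => rfl
  constructor
  · intro x y hxy
    obtain ⟨f, rfl⟩ := spMap_surjective x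
    obtain ⟨g, rfl⟩ := spMap_surjective y
    have hxy' : spMap f ≫ chPt PT (MonoidAlgebra R N ⊗[R] L) (uch R L N) =
      spMap g ≫ chPt PT (MonoidAlgebra R N ⊗[R] L) (uch R L N) := hxy
    rw [chPt_nat, chPt_nat] at hxy'
    have h1 := (chPt PT A).injective hxy'
    congr 1
    have h2 : f.restrictScalars R = g.restrictScalars R := by
      apply Algebra.TensorProduct.ext
      · apply ma_ext
        intro n
        exact DFunLike.congr_fun h1 n
      · ext x
        show f (1 ⊗ₜ x) = g (1 ⊗ₜ x)
        exact (f.commutes x).trans (g.commutes x).symm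
    apply AlgHom.ext
    intro z
    exact DFunLike.congr_fun h2 z
  · intro y
    refine ⟨spMap (ptL ((chPt PT A).symm y)), ?_⟩
    show spMap (ptL ((chPt PT A).symm y)) ≫ chPt PT (MonoidAlgebra R N ⊗[R] L) (uch R L N) = y
    rw [chPt_nat]
    refine Eq.trans ?_ (MulEquiv.apply_symm_apply (chPt PT A) y)
    congr 1
    exact pt_comp_uch (IsScalarTower.toAlgHom R L A) _

/-- every `F` comes from a morphism -/
theorem exists_mor [IsAffine T.left] (F : WithConv (C →ₐ[R] MonoidAlgebra R N ⊗[R] L)) :
    ∃ i : T ⟶ G, Corr PT PG i F := by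
  let := rAlg R L N L
  have := rAlg_tower R L N L
  have := isIso_universal PT
  refine ⟨inv (chPt PT (MonoidAlgebra R N ⊗[R] L) (uch R L N)) ≫ PG.e (MonoidAlgebra R N ⊗[R] L) F,
    fun A _ _ _ _ χ => ?_⟩
  have h1 : chPt PT A χ = spMap (ptL χ) ≫ chPt PT (MonoidAlgebra R N ⊗[R] L) (uch R L N) := by
    rw [chPt_nat]
    congr 1
    exact (pt_comp_uch (IsScalarTower.toAlgHom R L A) χ).symm
  rw [h1, Category.assoc, IsIso.hom_inv_id_assoc, PG.nat]
  rfl

end Exists

end Mor

end

end Groth.Agent.Sga3B.PtMor
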