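import Groth.Agent.Sga3B.PtMor

/-!
# Properties of morphisms in terms of the corresponding algebra maps
-/

set_option autoImplicit false

open CategoryTheory MonoidalCategory CartesianMonoidalCategory AlgebraicGeometry Limits Opposite
open TensorProduct WithConv
open scoped MonObj
open Groth.Agent.Sga3B.HaarDef Groth.Agent.Sga3B.AffTest Groth.Agent.Sga3B.PtData Groth.Agent.Sga3B.TorusLie
open Groth.Agent.Sga3B.TorusWt Groth.Agent.Sga3B.PtMor

namespace Groth.Agent.Sga3B.PtProp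

noncomputable section

universe u

variable {R C L : Type u} [CommRing R] [CommRing C] [HopfAlgebra R C] [CommRing L] [Algebra R L]
variable {N : Type} [CommGroup N]
variable {T G : Over (Spec (CommRingCat.of L))} [GrpObj T] [GrpObj G] {PT : PtStr R (MonoidAlgebra R N) L T}
    {PG : PtStr R C L G}

lemma pushG_pt_mul {F : WithConv (C →ₐ[R] MonoidAlgebra R N ⊗[R] L)} (hF : IsHom F) {A : Type u} [CommRing A]
    [Algebra R A] (f : L →ₐ[R] A) (χ χ' : N →* A) :
    pushG (pt f (χ * χ')) F = pushG (pt f χ) F * pushG (pt f χ') F := by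
  apply lin_injective
  rw [map_mul, lin_pushG_pt, lin_pushG_pt, lin_pushG_pt, Phi_mul hF]
  rfl

/-- homomorphisms of algebras give homomorphisms of groups -/
theorem isMonHom_of_isHom [IsAffine T.left] {i : T ⟶ G} {F : WithConv (C →ₐ[R] MonoidAlgebra R N ⊗[R] L)}
    (h : Corr PT PG i F) (hF : IsHom F) : IsMonHom i := by
  apply isMonHom_of_pts
  intro A _ _ x y
  let : Algebra R A := Algebra.compHom A (algebraMap R L)
  have : IsScalarTower R L A := IsScalarTower.of_algebraMap_eq fun _ => rfl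
  obtain ⟨χ, rfl⟩ := (chPt PT A).surjective x
  obtain ⟨χ', rfl⟩ := (chPt PT A).surjective y
  rw [← map_mul, h, h, h, pushG_pt_mul hF, map_mul]

local notation "DD" => MonoidAlgebra R N

set_option maxSynthPendingDepth 5 in
theorem isHom_of_isMonHom {i : T ⟶ G} {F : WithConv (C →ₐ[R] MonoidAlgebra R N ⊗[R] L)}
    (h : Corr PT PG i F) [IsMonHom i] : IsHom F := by
  let := rAlg R L N L
  have := rAlg_tower R L N L
  let : Algebra L (DD ⊗[R] (DD ⊗[R] L)) := rAlg R L N (DD ⊗[R] L)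
  have : IsScalarTower R L (DD ⊗[R] (DD ⊗[R] L)) := rAlg_tower R L N (DD ⊗[R] L)
  let a : DD ⊗[R] L →ₐ[L] DD ⊗[R] (DD ⊗[R] L) :=
    { HaarDef.T DD (HaarDef.ι R DD L) with commutes' := fun x => rfl }
  let b : DD ⊗[R] L →ₐ[L] DD ⊗[R] (DD ⊗[R] L) :=
    { HaarDef.ι R DD (DD ⊗[R] L) with commutes' := fun x => rfl }
  let d : DD ⊗[R] L →ₐ[L] DD ⊗[R] (DD ⊗[R] L) :=
    { δ R DD L with
      commutes' := fun x => by
        show δ R DD L (1 ⊗ₜ x) = 1 ⊗ₜ (1 ⊗ₜ x)
        rw [δ_tmul, Bialgebra.comul_one]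
        rfl }
  let u := chPt PT (DD ⊗[R] L) (uch R L N)
  have hu : u ≫ i = PG.e (DD ⊗[R] L) F := h.universal
  apply (PG.e (DD ⊗[R] (DD ⊗[R] L))).injective
  refine ((PG.e (DD ⊗[R] (DD ⊗[R] L))).map_mul _ _).trans ?_
  have ha : PG.e (DD ⊗[R] (DD ⊗[R] L)) (pushG (HaarDef.T DD (HaarDef.ι R DD L)) F) = (spMap a ≫ u) ≫ i := by
    rw [Category.assoc, hu, PG.nat]; rfl
  have hb : PG.e (DD ⊗[R] (DD ⊗[R] L)) (pushG (HaarDef.ι R DD (DD ⊗[R] L)) F) = (spMap b ≫ u) ≫ i := by
    rw [Category.assoc, hu, PG.nat]; rfl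
  have hd : PG.e (DD ⊗[R] (DD ⊗[R] L)) (pushG (δ R DD L) F) = (spMap d ≫ u) ≫ i := by
    rw [Category.assoc, hu, PG.nat]; rfl
  rw [ha, hb, hd, ← MonObj.mul_comp]
  congr 1
  rw [chPt_nat, chPt_nat, chPt_nat, ← map_mul]
  congr 1
  ext n
  show HaarDef.T DD (HaarDef.ι R DD L) (MonoidAlgebra.single n 1 ⊗ₜ 1) *
    HaarDef.ι R DD (DD ⊗[R] L) (MonoidAlgebra.single n 1 ⊗ₜ 1) = δ R DD L (MonoidAlgebra.single n 1 ⊗ₜ 1)
  rw [δ_tmul, MonoidAlgebra.comul_single]
  simp

/-- monomorphisms -/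
theorem mono_of_amono [IsAffine T.left] [IsAffine G.left] {i : T ⟶ G}
    {F : WithConv (C →ₐ[R] MonoidAlgebra R N ⊗[R] L)} (h : Corr PT PG i F) (hF : AMono F) : Mono i := by
  apply mono_of_pts
  intro A _ _ x y hxy
  let : Algebra R A := Algebra.compHom A (algebraMap R L)
  have : IsScalarTower R L A := IsScalarTower.of_algebraMap_eq fun _ => rfl
  obtain ⟨χ, rfl⟩ := (chPt PT A).surjective x
  obtain ⟨χ', rfl⟩ := (chPt PT A).surjective y
  have hxy' : chPt PT A χ ≫ i = chPt PT A χ' ≫ i := hxy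
  rw [h, h] at hxy'
  rw [hF A _ χ χ' ((PG.e A).injective hxy')]

theorem amono_of_mono {i : T ⟶ G} {F : WithConv (C →ₐ[R] MonoidAlgebra R N ⊗[R] L)}
    (h : Corr PT PG i F) [Mono i] : AMono F := by
  intro A _ _ f χ χ' hχ
  let : Algebra L A := f.toRingHom.toAlgebra
  have : IsScalarTower R L A := IsScalarTower.of_algebraMap_eq fun x => (f.commutes x).symm
  have hf : IsScalarTower.toAlgHom R L A = f := by
    apply AlgHom.ext; intro x; rfl
  apply (chPt PT A).injective
  rw [← cancel_mono i, h, h, hf, hχ]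

/-- base change -/
theorem corr_bc {i : T ⟶ G} {F : WithConv (C →ₐ[R] MonoidAlgebra R N ⊗[R] L)} (h : Corr PT PG i F)
    (L' : Type u) [CommRing L'] [Algebra R L'] [Algebra L L'] [IsScalarTower R L L'] :
    Corr (PT.bc L') (PG.bc L') ((Over.pullback (q L L')).map i)
      (pushG (HaarDef.T (MonoidAlgebra R N) (IsScalarTower.toAlgHom R L L')) F) := by
  intro A _ _ _ _ χ
  let : Algebra L A := Algebra.compHom A (algebraMap L L')
  have : IsScalarTower L L' A := IsScalarTower.of_algebraMap_eq fun _ => rfl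
  have : IsScalarTower R L A := IsScalarTower.of_algebraMap_eq fun x => by
    rw [IsScalarTower.algebraMap_apply R L' A, IsScalarTower.algebraMap_apply R L L']
    rfl
  show bcPt T A (chPt PT A χ) ≫ (Over.pullback (q L L')).map i = bcPt G A (PG.e A _)
  rw [bcPt_comp, h]
  congr 2
  apply lin_injective
  rw [lin_pushG_pt, lin_pushG_pt, Phi_T]
  rfl

/-- a morphism through which a given homomorphism factors -/
theorem exists_factor {N' : Type} [CommGroup N'] {T' : Over (Spec (CommRingCat.of L))} [GrpObj T']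
    {PT' : PtStr R (MonoidAlgebra R N') L T'} {i : T ⟶ G} {j : T' ⟶ G} (f : T ⟶ T') (hf : f ≫ j = i)
    {F : WithConv (C →ₐ[R] MonoidAlgebra R N ⊗[R] L)} (hF : Corr PT PG i F)
    {F' : WithConv (C →ₐ[R] MonoidAlgebra R N' ⊗[R] L)} (hF' : Corr PT' PG j F') :
    ∃ χ : N' →* MonoidAlgebra R N ⊗[R] L, F = pushG (pt (HaarDef.ι R (MonoidAlgebra R N) L) χ) F' := by
  let := rAlg R L N L
  have := rAlg_tower R L N L
  let χ := (chPt PT' (MonoidAlgebra R N ⊗[R] L)).symm (chPt PT (MonoidAlgebra R N ⊗[R] L) (uch R L N) ≫ f)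
  refine ⟨χ, ?_⟩
  apply (PG.e (MonoidAlgebra R N ⊗[R] L)).injective
  have h1 := hF.universal
  have h2 := hF' (MonoidAlgebra R N ⊗[R] L) χ
  rw [← h1, ← hf, ← Category.assoc]
  have h3 : chPt PT' (MonoidAlgebra R N ⊗[R] L) χ = chPt PT (MonoidAlgebra R N ⊗[R] L) (uch R L N) ≫ f :=
    MulEquiv.apply_symm_apply _ _
  rw [← h3, h2]
  rfl

/-- an isomorphism criterion -/
theorem isIso_of_bijective {N' : Type} [CommGroup N'] {T' : Over (Spec (CommRingCat.of L))} [GrpObj T']
    {PT' : PtStr R (MonoidAlgebra R N') L T'} [IsAffine T.left] [IsAffine T'.left] {f : T ⟶ T'}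
    {F : WithConv (MonoidAlgebra R N' →ₐ[R] MonoidAlgebra R N ⊗[R] L)} (hF : Corr PT PT' f F)
    (h : N' ≃* N) (hF' : ∀ m, F (MonoidAlgebra.single m 1) = MonoidAlgebra.single (h m) 1 ⊗ₜ 1) : IsIso f := by
  apply isIso_of_pts
  intro A _ _
  let : Algebra R A := Algebra.compHom A (algebraMap R L)
  have : IsScalarTower R L A := IsScalarTower.of_algebraMap_eq fun _ => rfl
  have key : ∀ χ : N →* A, chPt PT A χ ≫ f = chPt PT' A (χ.comp (h : N' →* N)) := by
    intro χ
    rw [hF]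
    show PT'.e A _ = PT'.e A _
    congr 1
    apply WithConv.ofConv_injective
    apply ma_ext
    intro m
    show pt (IsScalarTower.toAlgHom R L A) χ (F (MonoidAlgebra.single m 1)) =
      MonoidAlgebra.lift R A N' (χ.comp (h : N' →* N)) (MonoidAlgebra.single m 1)
    rw [hF', pt_single]
    simp
  constructor
  · intro x y hxy
    obtain ⟨χ, rfl⟩ := (chPt PT A).surjective x
    obtain ⟨χ', rfl⟩ := (chPt PT A).surjective y
    have hxy' : chPt PT A χ ≫ f = chPt PT A χ' ≫ f := hxy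
    rw [key, key] at hxy'
    have h1 := (chPt PT' A).injective hxy'
    congr 1
    ext n
    have h2 := DFunLike.congr_fun h1 (h.symm n)
    have h3 : χ (h (h.symm n)) = χ' (h (h.symm n)) := h2
    rwa [h.apply_symm_apply] at h3
  · intro y
    obtain ⟨χ, rfl⟩ := (chPt PT' A).surjective y
    refine ⟨chPt PT A (χ.comp (h.symm : N →* N')), ?_⟩
    show chPt PT A (χ.comp (h.symm : N →* N')) ≫ f = chPt PT' A χ
    rw [key]
    congr 1
    ext n
    show χ (h.symm (h n)) = χ n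
    rw [h.symm_apply_apply]

end

end Groth.Agent.Sga3B.PtProp
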