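import Mathlib.AlgebraicGeometry.Morphisms.QuasiCompact
import Mathlib.AlgebraicGeometry.Morphisms.Affine
import Mathlib.AlgebraicGeometry.Morphisms.Integral
import Mathlib.AlgebraicGeometry.AffineScheme
import Mathlib.AlgebraicGeometry.PullbackCarrier

/-!
# Specializations from the image of a quasi-compact morphism
-/

set_option autoImplicit false

universe u

open CategoryTheory Limits AlgebraicGeometry TopologicalSpace

namespace Groth.Agent.Sga3B.QCClosure

/-- A point in the closure of the image of a quasi-compact morphism is a specialization of a point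
of the image. -/
theorem exists_specializes_of_mem_closure_range {X Y : Scheme.{u}} (f : X ⟶ Y) [QuasiCompact f]
    (y : Y) (hy : y ∈ closure (Set.range f)) : ∃ x : X, f x ⤳ y := by
  wlog hY : ∃ R, Y = Spec R generalizing X Y
  · obtain ⟨i, y', rfl⟩ : ∃ i, ∃ y', Y.affineCover.f i y' = y :=
      ⟨Y.affineCover.idx y, Y.affineCover.covers y⟩
    obtain ⟨x, hx⟩ := this (pullback.snd f (Y.affineCover.f i)) y' (by
      rw [Scheme.Pullback.range_snd]
      exact (Y.affineCover.f i).isOpenEmbedding.isOpenMap.preimage_closure_subset_closure_preimage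
        hy) ⟨_, rfl⟩
    refine ⟨pullback.fst f (Y.affineCover.f i) x, ?_⟩
    have h4 := hx.map (Y.affineCover.f i).continuous
    rwa [← Scheme.Hom.comp_apply, ← pullback.condition, Scheme.Hom.comp_apply] at h4
  obtain ⟨A, rfl⟩ := hY
  wlog hX : ∃ R, X = Spec R generalizing X
  · obtain ⟨R, g, hg⟩ := compactSpace_iff_exists.mp (QuasiCompact.compactSpace_of_compactSpace f)
    have inst : QuasiCompact (g ≫ f) := HasAffineProperty.iff_of_isAffine.mpr (by infer_instance)
    obtain ⟨x, hx⟩ := this (g ≫ f) (by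
      convert! hy using 2
      ext z
      constructor
      · rintro ⟨w, rfl⟩; exact ⟨g w, by simp⟩
      · rintro ⟨w, rfl⟩; obtain ⟨v, rfl⟩ := hg w; exact ⟨v, by simp⟩) ⟨_, rfl⟩
    exact ⟨g x, by simpa using hx⟩
  obtain ⟨B, rfl⟩ := hX
  obtain ⟨φ, rfl⟩ := Spec.homEquiv.symm.surjective f
  have hy' : y ∈ closure (Set.range (PrimeSpectrum.comap φ.hom)) := hy
  rw [PrimeSpectrum.closure_range_comap] at hy'
  obtain ⟨q, -, hq, hqle⟩ := y.asIdeal.exists_ideal_comap_le_prime (f := φ.hom) ⊥ hy'
  exact ⟨⟨q, hq⟩, (PrimeSpectrum.le_iff_specializes ⟨q.comap φ.hom, inferInstance⟩ y).mp hqle⟩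

/-- There are no non-trivial specializations in the fibres of an integral morphism. -/
theorem eq_of_specializes_of_isIntegralHom {X Y : Scheme.{u}} (f : X ⟶ Y) [IsIntegralHom f]
    {x x' : X} (h : x ⤳ x') (hf : f x = f x') : x = x' := by
  wlog hY : ∃ R, Y = Spec R generalizing X Y
  · obtain ⟨i, y', hy'⟩ : ∃ i, ∃ y', Y.affineCover.f i y' = f x' :=
      ⟨Y.affineCover.idx (f x'), Y.affineCover.covers (f x')⟩
    have hr := Scheme.Pullback.range_fst f (Y.affineCover.f i)
    obtain ⟨p', hp'⟩ : x' ∈ Set.range (pullback.fst f (Y.affineCover.f i)) := by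
      rw [hr]; exact ⟨y', hy'⟩
    obtain ⟨p, hp⟩ : x ∈ Set.range (pullback.fst f (Y.affineCover.f i)) := by
      rw [hr]; exact ⟨y', hy'.trans hf.symm⟩
    have := this (pullback.snd f (Y.affineCover.f i)) (x := p) (x' := p') (by
      rw [← (pullback.fst f (Y.affineCover.f i)).isOpenEmbedding.isInducing.specializes_iff]
      rwa [hp, hp']) (by
      apply (Y.affineCover.f i).isOpenEmbedding.injective
      rw [← Scheme.Hom.comp_apply, ← Scheme.Hom.comp_apply, ← pullback.condition,
        Scheme.Hom.comp_apply, Scheme.Hom.comp_apply, hp, hp', hf]) ⟨_, rfl⟩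
    rw [← hp, ← hp', this]
  obtain ⟨R, rfl⟩ := hY
  have hXa : IsAffine X := isAffine_of_isAffineHom f
  wlog hX : ∃ S, X = Spec S generalizing X
  · have := this (h.map X.isoSpec.hom.continuous) (X.isoSpec.inv ≫ f)
      (by simpa [← Scheme.Hom.comp_apply, -Scheme.Hom.comp_base] using hf) inferInstance ⟨_, rfl⟩
    exact X.isoSpec.hom.homeomorph.injective this
  obtain ⟨S, rfl⟩ := hX
  obtain ⟨φ, rfl⟩ := Spec.homEquiv.symm.surjective f
  have hφ : φ.hom.IsIntegral := by
    rw [← IsIntegralHom.SpecMap_iff]; assumption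
  let := φ.hom.toAlgebra
  have : Algebra.IsIntegral R S := ⟨hφ⟩
  have hle : x.asIdeal ≤ x'.asIdeal := (PrimeSpectrum.le_iff_specializes x x').mpr h
  by_contra hne
  have hlt : x.asIdeal < x'.asIdeal := lt_of_le_of_ne hle fun e ↦ hne (PrimeSpectrum.ext e)
  have := Ideal.IsIntegral.comap_lt_comap (R := R) hlt
  apply this.ne
  exact congrArg PrimeSpectrum.asIdeal hf

end Groth.Agent.Sga3B.QCClosure
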