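import Mathlib.AlgebraicGeometry.ZariskisMainTheorem
import Mathlib.AlgebraicGeometry.Noetherian
import Mathlib.AlgebraicGeometry.AlgClosed.Basic
import Mathlib.CategoryTheory.Monoidal.Cartesian.Over
import Mathlib.CategoryTheory.Monoidal.Cartesian.Grp
import Groth.Agent.Sga3B.QCClosure

set_option autoImplicit false

universe u

open CategoryTheory Limits AlgebraicGeometry TopologicalSpace
open Groth.Agent.Sga3B.QCClosure

namespace Groth.Agent.Sga3B.QFHom

lemma isIntegral_restrict_congr {X Y : Scheme.{u}} {f g : X ⟶ Y} (h : g = f) (U : Y.Opens)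
    (hg : IsIntegralHom (g ∣_ U)) : IsIntegralHom (f ∣_ U) := by
  subst h; exact hg

/-- A quasi-finite separated morphism is finite over a neighbourhood of every point `y` which is
maximal in the closure of the image. -/
theorem exists_isFinite_restrict_of_maximal {X Y : Scheme.{u}} (f : X ⟶ Y) [LocallyQuasiFinite f]
    [LocallyOfFiniteType f] [IsSeparated f] [QuasiCompact f] (y : Y)
    (hy : ∀ y' ∈ closure (Set.range f), y' ⤳ y → y' = y) :
    ∃ U : Y.Opens, y ∈ U ∧ IsFinite (f ∣_ U) := by
  let E : Set Y := f.fromNormalization '' (Set.range f.toNormalization)ᶜ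
  have hE : IsClosed E := f.fromNormalization.isClosedMap _
    f.toNormalization.isOpenEmbedding.isOpen_range.isClosed_compl
  refine ⟨⟨Eᶜ, hE.isOpen_compl⟩, ?_, ?_⟩
  · rintro ⟨x, hx, rfl⟩
    apply hx
    have hd : DenseRange f.toNormalization := f.toNormalization.denseRange
    obtain ⟨w, hw⟩ := exists_specializes_of_mem_closure_range f.toNormalization x (hd x)
    have e1 : f.fromNormalization (f.toNormalization w) = f w := by
      rw [← Scheme.Hom.comp_apply, f.toNormalization_fromNormalization]
    have h1 : f w ⤳ f.fromNormalization x := e1 ▸ hw.map f.fromNormalization.continuous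
    have h2 := hy (f w) (subset_closure ⟨w, rfl⟩) h1
    exact ⟨w, eq_of_specializes_of_isIntegralHom f.fromNormalization hw (e1.trans h2)⟩
  · set U : Y.Opens := ⟨Eᶜ, hE.isOpen_compl⟩
    have : IsIntegralHom (f ∣_ U) := by
      apply isIntegral_restrict_congr f.toNormalization_fromNormalization
      rw [morphismRestrict_comp]
      have : IsIso (f.toNormalization ∣_ f.fromNormalization ⁻¹ᵁ U) := by
        rw [isIso_iff_isOpenImmersion_and_surjective]
        refine ⟨inferInstance, ⟨?_⟩⟩
        rintro ⟨x, hx⟩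
        have hx' : x ∈ Set.range f.toNormalization := by
          by_contra h
          exact hx ⟨x, h, rfl⟩
        obtain ⟨w, rfl⟩ := hx'
        refine ⟨⟨w, hx⟩, ?_⟩
        apply Subtype.ext
        simp
      have h3 : IsIntegralHom (f.toNormalization ∣_ f.fromNormalization ⁻¹ᵁ U) := inferInstance
      have h4 : IsIntegralHom (f.fromNormalization ∣_ U) := inferInstance
      exact MorphismProperty.comp_mem @IsIntegralHom _ _ h3 h4
    rw [IsFinite.iff_isIntegralHom_and_locallyOfFiniteType]
    exact ⟨this, inferInstance⟩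


section Translation

open MonoidalCategory CartesianMonoidalCategory MonObj GrpObj

variable {C : Type*} [Category C] [CartesianMonoidalCategory C] {G H : C} [GrpObj G] [GrpObj H]

/-- Left translation by a global point. -/
@[simps]
def leftTrans (g : 𝟙_ C ⟶ G) : G ≅ G where
  hom := (toUnit G ≫ g) * 𝟙 G
  inv := (toUnit G ≫ g)⁻¹ * 𝟙 G
  hom_inv_id := by
    rw [MonObj.comp_mul, GrpObj.comp_inv, Category.comp_id, comp_toUnit_assoc, inv_mul_cancel_left]
  inv_hom_id := by
    rw [MonObj.comp_mul, Category.comp_id, comp_toUnit_assoc, mul_inv_cancel_left]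

/-- Right translation by a global point. -/
@[simps]
def rightTrans (g : 𝟙_ C ⟶ G) : G ≅ G where
  hom := 𝟙 G * (toUnit G ≫ g)
  inv := 𝟙 G * (toUnit G ≫ g)⁻¹
  hom_inv_id := by
    rw [MonObj.comp_mul, GrpObj.comp_inv, Category.comp_id, comp_toUnit_assoc, mul_inv_cancel_right]
  inv_hom_id := by
    rw [MonObj.comp_mul, Category.comp_id, comp_toUnit_assoc, inv_mul_cancel_right]

lemma comp_leftTrans {X : C} (x : X ⟶ G) (g : 𝟙_ C ⟶ G) :
    x ≫ (leftTrans g).hom = (toUnit X ≫ g) * x := by
  rw [leftTrans_hom, MonObj.comp_mul, Category.comp_id, comp_toUnit_assoc]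

lemma comp_rightTrans {X : C} (x : X ⟶ G) (g : 𝟙_ C ⟶ G) :
    x ≫ (rightTrans g).hom = x * (toUnit X ≫ g) := by
  rw [rightTrans_hom, MonObj.comp_mul, Category.comp_id, comp_toUnit_assoc]

lemma leftTrans_comp (f : G ⟶ H) [IsMonHom f] (g : 𝟙_ C ⟶ G) :
    (leftTrans g).hom ≫ f = f ≫ (leftTrans (g ≫ f)).hom := by
  rw [comp_leftTrans, leftTrans_hom, MonObj.mul_comp, Category.id_comp, Category.assoc]

lemma comp_rightTrans_eq (g d : 𝟙_ C ⟶ G) :
    g ≫ (rightTrans d).hom = d ≫ (leftTrans g).hom := by
  rw [comp_rightTrans, comp_leftTrans, toUnit_unit, Category.id_comp, Category.id_comp]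

end Translation

section Topology

/-- A nonempty closed subset of a sober space contains a point which is maximal for generization
inside the subset. -/
lemma exists_maximal_point {X : Type*} [TopologicalSpace X] [QuasiSober X] [T0Space X] {C : Set X}
    (hC : IsClosed C) (hne : C.Nonempty) : ∃ c ∈ C, ∀ c' ∈ C, c' ⤳ c → c' = c := by
  obtain ⟨c₀, hc₀⟩ := hne
  have : QuasiSober C := hC.isClosedEmbedding_subtypeVal.quasiSober
  let Z : Set C := irreducibleComponent ⟨c₀, hc₀⟩
  have hZi : IsIrreducible Z := isIrreducible_irreducibleComponent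
  have hZc : IsClosed Z := isClosed_irreducibleComponent
  have hz := hZi.isGenericPoint_genericPoint hZc
  refine ⟨(hZi.genericPoint : C).1, (hZi.genericPoint : C).2, fun c' hc' h ↦ ?_⟩
  have h' : (⟨c', hc'⟩ : C) ⤳ hZi.genericPoint := by
    rw [← Topology.IsInducing.subtypeVal.specializes_iff]; exact h
  have h1 : Z ⊆ closure {(⟨c', hc'⟩ : C)} := by
    rw [← hz.def]
    exact h'.closure_subset
  have h2 : closure {(⟨c', hc'⟩ : C)} ⊆ Z := by
    have hm := irreducibleComponent_mem_irreducibleComponents (⟨c₀, hc₀⟩ : C)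
    exact hm.2 isIrreducible_singleton.closure h1
  have h3 : IsGenericPoint (⟨c', hc'⟩ : C) Z := (h2.antisymm h1)
  exact congrArg Subtype.val (h3.eq hz)

/-- In a noetherian space a homeomorphism cannot shrink a closed set strictly. -/
lemma image_not_ssubset {X : Type*} [TopologicalSpace X] [NoetherianSpace X] (e : X ≃ₜ X)
    {C : Set X} (hC : IsClosed C) (h : e '' C ⊆ C) : e '' C = C := by
  by_contra hne
  have hss : e '' C ⊂ C := lt_of_le_of_ne h hne
  let F : ℕ → Closeds X := fun n ↦
    ⟨(e^[n]) '' C, by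
      induction n with
      | zero => simpa using hC
      | succ n ih =>
        rw [Function.iterate_succ', Set.image_comp]
        exact e.isClosedMap _ ih⟩
  have hF : StrictAnti F := by
    refine strictAnti_nat_of_succ_lt fun n ↦ ?_
    change (e^[n+1]) '' C ⊂ (e^[n]) '' C
    rw [Function.iterate_succ, Set.image_comp]
    exact (e.injective.iterate n).image_strictMono hss
  have hwf : WellFounded ((· < ·) : Closeds X → Closeds X → Prop) := by
    exact (wellFounded_lt : WellFounded ((· < ·) : Closeds X → Closeds X → Prop))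
  exact (RelEmbedding.natGT F (fun n ↦ hF (Nat.lt_succ_self n))).not_wellFounded hwf

end Topology


section Main

open MonoidalCategory CartesianMonoidalCategory MonObj GrpObj

variable {S : Scheme.{u}}

lemma isIso_restrict {X : Scheme.{u}} (a : X ≅ X) (V : X.Opens) : IsIso (a.hom ∣_ V) := by
  infer_instance

lemma isFinite_restrict_preimage_iso {X Y : Scheme.{u}} (f : X ⟶ Y) (a : X ≅ X) (b : Y ≅ Y)
    (h : a.hom ≫ f = f ≫ b.hom) (U : Y.Opens) (hU : IsFinite (f ∣_ U)) :
    IsFinite (f ∣_ (b.hom ⁻¹ᵁ U)) := by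
  have h0 := isIso_restrict a (f ⁻¹ᵁ U)
  have h1 : IsFinite (a.hom ∣_ (f ⁻¹ᵁ U) ≫ f ∣_ U) :=
    (MorphismProperty.cancel_left_of_respectsIso @IsFinite _ _).mpr hU
  have h2 : IsFinite ((a.hom ≫ f) ∣_ U) := by
    rw [morphismRestrict_comp]
    exact h1
  have h3 : ∀ g : X ⟶ Y, g = f ≫ b.hom → IsFinite (g ∣_ U) → IsFinite ((f ≫ b.hom) ∣_ U) := by
    rintro _ rfl h; exact h
  have h4 : IsFinite (f ∣_ (b.hom ⁻¹ᵁ U) ≫ b.hom ∣_ U) := by
    have := h3 _ h h2
    rw [morphismRestrict_comp] at this
    exact this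
  have h5 := isIso_restrict b U
  exact (MorphismProperty.cancel_right_of_respectsIso @IsFinite _ _).mp h4

/-- A quasi-finite separated homomorphism of group schemes locally of finite type over an
algebraically closed field, with quasi-compact target, is finite. -/
theorem isFinite_of_isAlgClosed {K : Type u} [Field K] [IsAlgClosed K]
    {G H : Over (Spec (.of K))} [GrpObj G] [GrpObj H] (f : G ⟶ H) [IsMonHom f]
    [LocallyOfFiniteType G.hom] [LocallyOfFiniteType H.hom] [QuasiCompact H.hom]
    [LocallyQuasiFinite f.left] [LocallyOfFiniteType f.left] [IsSeparated f.left]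
    [QuasiCompact f.left] : IsFinite f.left := by
  let D : Set H.left := {h | ¬ ∃ U : H.left.Opens, h ∈ U ∧ IsFinite (f.left ∣_ U)}
  have hDc : IsClosed D := by
    rw [← isOpen_compl_iff, isOpen_iff_forall_mem_open]
    intro h hh
    simp only [D, Set.mem_compl_iff, Set.mem_ofPred_eq, not_not] at hh
    obtain ⟨U, hhU, hU⟩ := hh
    exact ⟨U, fun y hy ↦ by simpa [D] using ⟨U, hy, hU⟩, U.2, hhU⟩
  by_cases hD : D.Nonempty
  swap
  · rw [Set.not_nonempty_iff_eq_empty] at hD
    have hall : ∀ h : H.left, ∃ U : H.left.Opens, h ∈ U ∧ IsFinite (f.left ∣_ U) := by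
      intro h
      by_contra hc
      exact (Set.eq_empty_iff_forall_notMem.mp hD h) hc
    choose U hhU hU using hall
    exact IsZariskiLocalAtTarget.of_iSup_eq_top (P := @IsFinite) U
      (TopologicalSpace.Opens.ext (by ext h; simpa using ⟨h, hhU h⟩)) hU
  exfalso
  have : IsLocallyNoetherian H.left := LocallyOfFiniteType.isLocallyNoetherian H.hom
  have : CompactSpace H.left := QuasiCompact.compactSpace_of_compactSpace H.hom
  have : IsNoetherian H.left := {}
  have hJH : JacobsonSpace H.left := LocallyOfFiniteType.jacobsonSpace H.hom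
  have hJG : JacobsonSpace G.left := LocallyOfFiniteType.jacobsonSpace G.hom
  let C : Set H.left := closure (Set.range f.left)
  have hCc : IsClosed C := isClosed_closure
  have hDC : D ⊆ C := by
    intro h hh
    by_contra hC
    apply hh
    refine ⟨⟨Cᶜ, hCc.isOpen_compl⟩, hC, ?_⟩
    have : IsEmpty (f.left ⁻¹ᵁ ⟨Cᶜ, hCc.isOpen_compl⟩).toScheme :=
      ⟨fun ⟨x, hx⟩ ↦ hx (subset_closure ⟨x, rfl⟩)⟩
    infer_instance
  obtain ⟨c, hcC, hcmax⟩ := exists_maximal_point hCc (hD.mono hDC)
  have hcD : c ∉ D := fun h ↦ h (exists_isFinite_restrict_of_maximal f.left c hcmax)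
  obtain ⟨d, hdD, hdc⟩ := nonempty_inter_closedPoints hD hDc.isLocallyClosed
  let d' : 𝟙_ _ ⟶ H := Over.homMk _ ((pointEquivClosedPoint H.hom).symm ⟨d, hdc⟩).2
  have hd' : d'.left (IsLocalRing.closedPoint K) = d := by
    simp [d', pointEquivClosedPoint]
  let R : H ≅ H := rightTrans d'
  -- stability of `D` under left translations
  have hstab : ∀ g : 𝟙_ _ ⟶ G, ∀ h ∈ D, (leftTrans (g ≫ f)).hom.left h ∈ D := by
    rintro g h hh ⟨U, hhU, hU⟩
    apply hh
    refine ⟨(leftTrans (g ≫ f)).hom.left ⁻¹ᵁ U, hhU, ?_⟩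
    exact isFinite_restrict_preimage_iso f.left ((Over.forget _).mapIso (leftTrans g))
      ((Over.forget _).mapIso (leftTrans (g ≫ f)))
      (congrArg CommaMorphism.left (leftTrans_comp f g)) U hU
  have hRD : ∀ x ∈ closedPoints G.left, R.hom.left (f.left x) ∈ D := by
    intro x hx
    let g : 𝟙_ _ ⟶ G := Over.homMk _ ((pointEquivClosedPoint G.hom).symm ⟨x, hx⟩).2
    have hg : g.left (IsLocalRing.closedPoint K) = x := by
      simp [g, pointEquivClosedPoint]
    have key := comp_rightTrans_eq (g ≫ f) d'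
    have key2 := congrArg (fun (m : 𝟙_ (Over (Spec (.of K))) ⟶ H) ↦
      m.left (IsLocalRing.closedPoint K)) key
    simp only [Over.comp_left, Scheme.Hom.comp_apply, hg, hd'] at key2
    change (rightTrans d').hom.left (f.left x) ∈ D
    rw [key2]
    exact hstab g d hdD
  have hsub : Set.range f.left ⊆ R.hom.left ⁻¹' D := by
    have hcl : IsClosed (f.left ⁻¹' (R.hom.left ⁻¹' D)) :=
      (hDc.preimage R.hom.left.continuous).preimage f.left.continuous
    have : (Set.univ : Set G.left) ⊆ f.left ⁻¹' (R.hom.left ⁻¹' D) := by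
      rw [← closure_closedPoints]
      exact hcl.closure_subset_iff.mpr hRD
    rintro _ ⟨x, rfl⟩
    exact this (Set.mem_univ x)
  have hCR : C ⊆ R.hom.left ⁻¹' D :=
    (hDc.preimage R.hom.left.continuous).closure_subset_iff.mpr hsub
  let e : H.left ≃ₜ H.left := R.hom.left.homeomorph
  have he : e '' C ⊆ D := by
    rintro _ ⟨x, hx, rfl⟩
    exact hCR hx
  have heq := image_not_ssubset e hCc (he.trans hDC)
  exact hcD (he (by rw [heq]; exact hcC))

end Main

end Groth.Agent.Sga3B.QFHom
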