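import Mathlib.AlgebraicGeometry.ZariskisMainTheorem
import Mathlib.AlgebraicGeometry.Morphisms.UniversallyOpen
import Mathlib.AlgebraicGeometry.Fiber
import Mathlib.AlgebraicGeometry.IdealSheaf.Subscheme
import Mathlib.AlgebraicGeometry.AlgClosed.Basic

/-!
# Isolated points of closed subsets along a section

* `isOpen_setOf_isolated`: `f : X ⟶ S` locally of finite type with a continuous section `e`, `N` closed containing
  `e(S)`: the set of `s` such that `e(s)` is isolated in `N ∩ f⁻¹(s)` is open.
* `isolated_iff_of_isPullback`: comparison with the fibre over a field extension of the residue field.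
* `isClosed_forallFib`: for `g : Y ⟶ S` universally open and `Z ⊆ X ×_S Y` closed, the set of `x` with
  `{x} × Y_{f(x)} ⊆ Z` is closed.

Author: helper409
-/

set_option autoImplicit false
universe u

open CategoryTheory CategoryTheory.Limits AlgebraicGeometry TopologicalSpace

namespace Groth.Agent.Sga3B.RadGlue409

variable {X S : Scheme.{u}}

/-- `e s` is isolated in `N ∩ f⁻¹(s)`. -/
def IsolatedAt (f : X ⟶ S) (N : Set X) (x : X) : Prop :=
  ∃ U : Set X, IsOpen U ∧ x ∈ U ∧ ∀ y ∈ U, y ∈ N → f y = f x → y = x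

theorem isolatedAt_iff_quasiFiniteAt {Z : Scheme.{u}} (f : Z ⟶ S) [LocallyOfFiniteType f] (z : Z) :
    f.QuasiFiniteAt z ↔ ∃ U : Set Z, IsOpen U ∧ z ∈ U ∧ ∀ y ∈ U, f y = f z → y = z := by
  rw [Scheme.Hom.quasiFiniteAt_iff_isOpen_singleton_asFiber, ← (f.fiberHomeo (f z)).isOpen_image]
  simp only [Set.image_singleton, Scheme.Hom.asFiber, Homeomorph.apply_symm_apply]
  constructor
  · intro h
    obtain ⟨U, hU, hUz⟩ := isOpen_induced_iff.mp h
    have hz : (⟨z, rfl⟩ : f ⁻¹' {f z}) ∈ (Subtype.val ⁻¹' U : Set (f ⁻¹' {f z})) := by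
      rw [hUz]; rfl
    refine ⟨U, hU, hz, fun y hy hyz => ?_⟩
    have hy' : (⟨y, hyz⟩ : f ⁻¹' {f z}) ∈ (Subtype.val ⁻¹' U : Set (f ⁻¹' {f z})) := hy
    rw [hUz] at hy'
    exact congrArg Subtype.val hy'
  · rintro ⟨U, hU, hzU, h⟩
    refine isOpen_induced_iff.mpr ⟨U, hU, ?_⟩
    ext ⟨y, hy⟩
    constructor
    · intro hyU
      exact Subtype.ext (h y hyU hy)
    · intro hyz
      have : y = z := congrArg Subtype.val hyz
      change y ∈ U
      rw [this]
      exact hzU

/-- Openness of the locus of isolated points along a section. -/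
theorem isOpen_setOf_isolated (f : X ⟶ S) [LocallyOfFiniteType f] (e : S → X) (hec : Continuous e)
    {N : Set X} (hN : IsClosed N) (heN : ∀ s, e s ∈ N) :
    IsOpen {s : S | IsolatedAt f N (e s)} := by
  let I := Scheme.IdealSheafData.vanishingIdeal (⟨N, hN⟩ : Closeds X)
  have hrange : Set.range I.subschemeι = N := by
    rw [I.range_subschemeι, Scheme.IdealSheafData.coe_support_vanishingIdeal]
    rfl
  have hemb : Topology.IsClosedEmbedding I.subschemeι := I.subschemeι.isClosedEmbedding
  have hmem : ∀ s, e s ∈ Set.range I.subschemeι := fun s => hrange ▸ heN s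
  choose e' he' using hmem
  have hec' : Continuous e' := by
    rw [hemb.isInducing.continuous_iff]
    convert hec using 1
    funext s
    exact he' s
  have key : {s : S | IsolatedAt f N (e s)} = e' ⁻¹' ((I.subschemeι ≫ f).quasiFiniteLocus : Set I.subscheme) := by
    ext s
    change IsolatedAt f N (e s) ↔ (I.subschemeι ≫ f).QuasiFiniteAt (e' s)
    rw [isolatedAt_iff_quasiFiniteAt]
    constructor
    · rintro ⟨U, hU, heU, h⟩
      refine ⟨I.subschemeι ⁻¹' U, hU.preimage hemb.continuous, ?_, fun y hy hyz => ?_⟩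
      · change I.subschemeι (e' s) ∈ U
        rw [he']; exact heU
      · apply hemb.injective
        rw [he']
        refine h _ hy (hrange ▸ ⟨y, rfl⟩) ?_
        rw [← he' s]
        exact hyz
    · rintro ⟨V, hV, heV, h⟩
      obtain ⟨U, hU, rfl⟩ := hemb.isInducing.isOpen_iff.mp hV
      refine ⟨U, hU, he' s ▸ heV, fun y hy hyN hyf => ?_⟩
      rw [← hrange] at hyN
      obtain ⟨y, rfl⟩ := hyN
      rw [← he' s]
      congr 1
      refine h y hy ?_
      change f (I.subschemeι y) = f (I.subschemeι (e' s))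
      rw [he' s]
      exact hyf
  rw [key]
  exact ((I.subschemeι ≫ f).quasiFiniteLocus.2).preimage hec'

/-- Comparison with the fibre over a field extension `κ(s) → K`. -/
theorem isolated_iff_of_isPullback (f : X ⟶ S) (s : S) {K : Type u} [Field K] (φ : S.residueField s ⟶ CommRingCat.of K)
    {X' : Scheme.{u}} {p : X' ⟶ X} {f' : X' ⟶ Spec (CommRingCat.of K)}
    (h : IsPullback p f' f (Spec.map φ ≫ S.fromSpecResidueField s)) (e : S ⟶ X) (he : e ≫ f = 𝟙 S) (N : Set X)
    (e' : Spec (CommRingCat.of K) ⟶ X') (he1 : e' ≫ p = (Spec.map φ ≫ S.fromSpecResidueField s) ≫ e)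
    (he2 : e' ≫ f' = 𝟙 _) (x₀ : Spec (CommRingCat.of K)) :
    IsolatedAt f N (e s) ↔ ∃ V : Set X', IsOpen V ∧ e' x₀ ∈ V ∧ ∀ y ∈ V, p y ∈ N → y = e' x₀ := by
  have hs : ∀ z : Spec (CommRingCat.of K), (Spec.map φ ≫ S.fromSpecResidueField s) z = s := by
    intro z
    rw [Scheme.Hom.comp_apply]
    exact Scheme.fromSpecResidueField_apply _ _
  have hfe : ∀ t, f (e t) = t := fun t => by rw [← Scheme.Hom.comp_apply, he]; rfl
  have hpe : p (e' x₀) = e s := by
    rw [← Scheme.Hom.comp_apply, he1, Scheme.Hom.comp_apply, hs]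
  constructor
  · rintro ⟨U, hU, heU, hUN⟩
    refine ⟨p ⁻¹' U, hU.preimage p.continuous, ?_, fun y hy hyN => ?_⟩
    · change p (e' x₀) ∈ U
      rw [hpe]; exact heU
    · have h1 : f (p y) = s := by
        rw [← Scheme.Hom.comp_apply, h.w, Scheme.Hom.comp_apply, hs]
      have h2 : p y = e s := hUN _ hy hyN (by rw [h1, hfe])
      -- `y` comes from the pullback of `e` along `p`, which is `Spec K`
      have hout : IsPullback (Spec.map φ ≫ S.fromSpecResidueField s) (e' ≫ f') (e ≫ f)
          (Spec.map φ ≫ S.fromSpecResidueField s) := by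
        rw [he2, he]
        exact IsPullback.of_vert_isIso ⟨by simp⟩
      have hleft := IsPullback.of_bot hout he1.symm h
      obtain ⟨z, -, hz⟩ := Scheme.Pullback.exists_preimage_pullback (f := e) (g := p) s y h2.symm
      have h3 : e' (hleft.isoPullback.inv z) = y := by
        rw [← Scheme.Hom.comp_apply, hleft.isoPullback_inv_snd]
        exact hz
      rw [← h3]
      congr 1
      exact Subsingleton.elim (α := PrimeSpectrum K) _ _
  · rintro ⟨V, hV, heV, hVN⟩
    let q : X' ⟶ f.fiber s := pullback.lift p (f' ≫ Spec.map φ) (by rw [h.w, Category.assoc])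
    have hq1 : q ≫ f.fiberι s = p := pullback.lift_fst _ _ _
    have hq2 : q ≫ f.fiberToSpecResidueField s = f' ≫ Spec.map φ := pullback.lift_snd _ _ _
    have hqpb : IsPullback q f' (f.fiberToSpecResidueField s) (Spec.map φ) := by
      refine IsPullback.of_right (h₁₂ := f.fiberι s) (h₂₂ := S.fromSpecResidueField s) (v₁₃ := f) ?_ hq2 ?_
      · rw [hq1]; exact h
      · exact IsPullback.of_hasPullback f (S.fromSpecResidueField s)
    have hopen : UniversallyOpen (Spec.map φ) := by
      have : Subsingleton (Spec (S.residueField s)) :=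
        inferInstanceAs (Subsingleton (PrimeSpectrum (S.residueField s)))
      infer_instance
    have hqo : UniversallyOpen q := MorphismProperty.of_isPullback hqpb.flip hopen
    have hqV : IsOpen (q '' V) := q.isOpenMap V hV
    obtain ⟨U, hU, hUV⟩ := (f.fiberι s).isEmbedding.isInducing.isOpen_iff.mp hqV
    have hmem : ∀ w, w ∈ q '' V ↔ f.fiberι s w ∈ U := fun w => by rw [← hUV]; rfl
    refine ⟨U, hU, ?_, fun y hyU hyN hyf => ?_⟩
    · rw [← hpe, ← hq1, Scheme.Hom.comp_apply, ← hmem]
      exact ⟨_, heV, rfl⟩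
    · rw [hfe] at hyf
      have hy : y ∈ Set.range (f.fiberι s) := by
        rw [f.range_fiberι]; exact hyf
      obtain ⟨w, rfl⟩ := hy
      obtain ⟨v, hv, rfl⟩ := (hmem w).mpr hyU
      have h1 : f.fiberι s (q v) = p v := by rw [← Scheme.Hom.comp_apply, hq1]
      rw [h1] at hyN ⊢
      rw [hVN v hv hyN, hpe]

/-- If `a` is open and `Z` is closed, the set of points `x` with `a⁻¹(x) ⊆ Z` is closed. -/
theorem isClosed_forallFib {P : Scheme.{u}} (a : P ⟶ X) (ha : IsOpenMap a) {Z : Set P} (hZ : IsClosed Z) :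
    IsClosed {x : X | ∀ w : P, a w = x → w ∈ Z} := by
  rw [← isOpen_compl_iff]
  convert ha _ hZ.isOpen_compl using 1
  ext x
  constructor
  · intro hx
    by_contra hcon
    exact hx fun w hw => by
      by_contra hwZ
      exact hcon ⟨w, hwZ, hw⟩
  · rintro ⟨w, hw, rfl⟩ hx
    exact hw (hx w rfl)

/-- A nonempty open subset of a scheme locally of finite type over an algebraically closed field contains a
rational point. -/
theorem exists_point_mem {K : Type u} [Field K] [IsAlgClosed K] {F : Scheme.{u}} (c : F ⟶ Spec (CommRingCat.of K))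
    [LocallyOfFiniteType c] {W : Set F} (hW : IsOpen W) (hne : W.Nonempty) (x₀ : Spec (CommRingCat.of K)) :
    ∃ y : Spec (CommRingCat.of K) ⟶ F, y ≫ c = 𝟙 _ ∧ y x₀ ∈ W := by
  have : JacobsonSpace ↥F := LocallyOfFiniteType.jacobsonSpace c
  obtain ⟨z, hzW, hz⟩ : (W ∩ closedPoints F).Nonempty := by
    by_contra hcon
    rw [Set.not_nonempty_iff_eq_empty] at hcon
    have h1 := JacobsonSpace.closure_inter_closedPoints_eq_closure (X := F) hW.isLocallyClosed
    rw [hcon, closure_empty] at h1
    obtain ⟨w, hw⟩ := hne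
    have := subset_closure hw
    rw [← h1] at this
    exact this
  exact ⟨pointOfClosedPoint c z hz, pointOfClosedPoint_comp c z hz, by rw [pointOfClosedPoint_apply]; exact hzW⟩

/-- Description of the set `{x | {x} × Y_{f(x)} ⊆ Z}` on geometric points. -/
theorem forallFib_iff {Y P : Scheme.{u}} {f : X ⟶ S} {g : Y ⟶ S} {a : P ⟶ X} {b : P ⟶ Y} (h : IsPullback a b f g)
    [LocallyOfFiniteType g] {Z : Set P} (hZ : IsClosed Z) {K : Type u} [Field K] [IsAlgClosed K]
    (x : Spec (CommRingCat.of K) ⟶ X) (x₀ : Spec (CommRingCat.of K)) :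
    (∀ w : P, a w = x x₀ → w ∈ Z) ↔
      ∀ (y : Spec (CommRingCat.of K) ⟶ Y) (hy : x ≫ f = y ≫ g), h.lift x y hy x₀ ∈ Z := by
  constructor
  · intro H y hy
    refine H _ ?_
    rw [← Scheme.Hom.comp_apply, h.lift_fst]
  · intro H w hw
    by_contra hwZ
    obtain ⟨v, hv1, hv2⟩ := Scheme.Pullback.exists_preimage_pullback (f := a) (g := x) w x₀ hw
    have hpb : IsPullback (pullback.fst a x ≫ b) (pullback.snd a x) g (x ≫ f) :=
      (IsPullback.of_hasPullback a x).paste_horiz h.flip
    have hlft : LocallyOfFiniteType (pullback.snd a x) := MorphismProperty.of_isPullback hpb inferInstance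
    obtain ⟨y', hy1, hy2⟩ := exists_point_mem (pullback.snd a x) (W := pullback.fst a x ⁻¹' Zᶜ)
      (hZ.isOpen_compl.preimage (pullback.fst a x).continuous)
      ⟨v, by change pullback.fst a x v ∉ Z; rw [hv1]; exact hwZ⟩ x₀
    have hy : x ≫ f = (y' ≫ pullback.fst a x ≫ b) ≫ g := by
      rw [Category.assoc, Category.assoc, ← h.w, pullback.condition_assoc, ← Category.assoc, hy1, Category.id_comp]
    have hlift : h.lift x (y' ≫ pullback.fst a x ≫ b) hy = y' ≫ pullback.fst a x := by
      apply h.hom_ext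
      · rw [h.lift_fst, Category.assoc, pullback.condition, ← Category.assoc, hy1, Category.id_comp]
      · rw [h.lift_snd, Category.assoc]
    have := H _ hy
    rw [hlift] at this
    exact hy2 this

end Groth.Agent.Sga3B.RadGlue409
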