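import Groth.Agent.Sga3B.RankOneLevi

/-!
# The rank one relation (F1)

For a pair of opposite roots `a`, `a'` and a point `n` acting on the torus by the reflection `s_a`:
there is a unit `c` of the base such that
`u_a(x) u_{a'}(z) = u_{a'}(z/v) a^∨(v) u_a(x/v)` whenever `v = 1 + c x z` is invertible.
-/

set_option autoImplicit false
universe u

open Polynomial LaurentPolynomial TensorProduct

namespace Groth.Agent.Sga3B.Cell.Datum

open Groth.Agent.Sga3B.Cell

variable {R A : Type u} [CommRing R] [CommRing A] [Algebra R A] [PtGrp R A] {D : Datum R A}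
variable {B C : Type u} [CommRing B] [Algebra R B] [CommRing C] [Algebra R C]

/-- the reflection attached to a root and a coroot, on characters -/
def rf (D : Datum R A) (a : D.idx) (f : Module.Dual ℤ D.M) : D.M →+ D.M :=
  AddMonoidHom.mk' (fun m => m - f m • D.root a) fun m m' => by
    rw [map_add, add_smul]; abel

lemma rf_apply (a : D.idx) (f : Module.Dual ℤ D.M) (m : D.M) :
    D.rf a f m = m - f m • D.root a := rfl

/-- the action of the reflection on torus points -/
lemma acts_rf {a : D.idx} {f : Module.Dual ℤ D.M} {n : Pt R A R}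
    (h : ∀ {B : Type u} [CommRing B] [Algebra R B] (t : TPt D.M B),
      bp B n * D.i B t * (bp B n)⁻¹ =
        D.i B (t * (TPt.cow f (t (Multiplicative.ofAdd (D.root a))))⁻¹)) :
    D.Acts n (D.rf a f) := by
  intro B _ _ t t' htt'
  have h1 : t' = t * (TPt.cow f (t (Multiplicative.ofAdd (D.root a))))⁻¹ := by
    apply TPt.ext_ch
    intro m
    rw [htt', rf_apply]
    change ((t (Multiplicative.ofAdd (m - f m • D.root a)) : Bˣ) : B) =
      ((t (Multiplicative.ofAdd m) * ((t (Multiplicative.ofAdd (D.root a))) ^ (f m))⁻¹ : Bˣ) : B)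
    congr 1
    rw [ofAdd_sub, _root_.map_div, ofAdd_zsmul, map_zpow, div_eq_mul_inv]
  rw [← mul_inv_eq_iff_eq_mul, h, ← h1]

/-- Hypotheses of the rank one theorem for a pair of opposite roots `a`, `a'`. -/
structure RankOneHyp (D : Datum R A) (a a' : D.idx) (f : Module.Dual ℤ D.M) (Ln Lp : List D.idx)
    (I : Ideal A) (n : Pt R A R) : Prop where
  good : D.Good
  ft : Algebra.FiniteType R A
  dom : ∀ (K : Type u) [Field K] [Algebra R K], IsDomain (K ⊗[R] A)
  neg : D.root a' = -D.root a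
  two : f (D.root a) = 2
  red : ∀ b, (2 : ℤ) • D.root b = f (D.root b) • D.root a → b = a ∨ b = a'
  nodup : (Ln ++ Lp).Nodup
  compl : ∀ b, b ∈ Ln ++ Lp
  mem_neg : a' ∈ Ln
  mem_pos : a ∈ Lp
  inj : D.CellInj (Ln ++ Lp)
  mem_iff : ∀ {B : Type u} [CommRing B] [Algebra R B] (g : Pt R A B),
    (∃ x t, g = D.cell (Ln ++ Lp) x t) ↔ I.map g.hom.toRingHom = ⊤
  acts : D.Acts n (D.rf a f)

namespace RankOneHyp

variable {a a' : D.idx} {f : Module.Dual ℤ D.M} {Ln Lp : List D.idx} {I : Ideal A} {n : Pt R A R}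
  (H : RankOneHyp D a a' f Ln Lp I n)
include H

lemma ne : a ≠ a' := by
  intro h
  have h1 := H.neg
  rw [← h] at h1
  have h2 : f (D.root a) = f (-D.root a) := congrArg f h1
  rw [map_neg, H.two] at h2
  omega

lemma two' : f (D.root a') = -2 := by rw [H.neg, map_neg, H.two]

lemma rf_root : D.rf a f (D.root a) = D.root a' := by
  rw [rf_apply, H.two, H.neg, two_smul]; abel

/-- a cocharacter trivial exactly on `±a` -/
lemma exists_lam : ∃ lam : D.M →+ ℤ, lam (D.root a) = 0 ∧ lam (D.root a') = 0 ∧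
    ∀ b, lam (D.root b) = 0 → b = a ∨ b = a' := by
  obtain ⟨μ, hμ, hμ'⟩ := exists_cochar_orth (J := {b : D.idx // b ≠ a ∧ b ≠ a'})
    f.toAddMonoidHom (D.root a) H.two (fun b => D.root b.1) (fun b hb => by
      rcases H.red b.1 hb with h | h
      · exact b.2.1 h
      · exact b.2.2 h)
  refine ⟨μ, hμ, by rw [H.neg, map_neg, hμ, neg_zero], ?_⟩
  intro b hb
  by_contra hc
  rw [not_or] at hc
  exact hμ' ⟨b, hc⟩ hb

/-- (F3) for the pair `a'`, `a`. -/
lemma exists_conj : ∃ r : Rˣ, ∀ {B : Type u} [CommRing B] [Algebra R B] (y : B),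
    bp B n * D.uu a' B y * (bp B n)⁻¹ = D.uu a B (algebraMap R B r * y) := by
  obtain ⟨δ, hδ, hδ0⟩ := H.good _ H.nodup H.compl
  obtain ⟨lam, h0, h0', hlam⟩ := H.exists_lam
  refine conj_uu H.nodup H.compl hδ hδ0 H.inj H.acts H.rf_root ?_
  intro b hb
  have e : ∀ N : ℤ, (-f.toAddMonoidHom + N • lam) (D.rf a f (D.root b)) =
      f (D.root b) + N * lam (D.root b) := by
    intro N
    rw [rf_apply, AddMonoidHom.add_apply, AddMonoidHom.neg_apply, AddMonoidHom.smul_apply]
    simp only [map_sub, map_zsmul, LinearMap.toAddMonoidHom_coe, H.two, h0, smul_eq_mul]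
    ring
  have e' : ∀ N : ℤ, (-f.toAddMonoidHom + N • lam) (D.root a') = 2 := by
    intro N
    rw [AddMonoidHom.add_apply, AddMonoidHom.neg_apply, AddMonoidHom.smul_apply, h0']
    simp only [LinearMap.toAddMonoidHom_coe, H.two', smul_eq_mul]
    ring
  by_cases hl : lam (D.root b) = 0
  · rcases hlam b hl with h | h
    · exact absurd h hb
    · refine ⟨-f.toAddMonoidHom + (0 : ℤ) • lam, by rw [e']; norm_num, ?_⟩
      rw [e, h, H.two']
      norm_num
  · refine ⟨-f.toAddMonoidHom + (-(|f (D.root b)| * lam (D.root b))) • lam, by rw [e']; norm_num, ?_⟩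
    rw [e]
    have h1 : (1 : ℤ) ≤ lam (D.root b) * lam (D.root b) := by
      have := mul_self_pos.mpr hl
      omega
    nlinarith [abs_nonneg (f (D.root b)), le_abs_self (f (D.root b))]

/-- over an algebraically closed field, `n u_{a'}(y)` is in the cell for some nonzero `y` -/
lemma exists_ne {K : Type u} [Field K] [IsAlgClosed K] [Algebra R K] :
    ∃ (y y' z' : K) (s : TPt D.M K), y ≠ 0 ∧
      bp K n * D.uu a' K y = D.uu a' K y' * D.uu a K z' * D.i K s := by
  have := H.ft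
  have := H.dom K
  obtain ⟨lam, h0, h0', hlam⟩ := H.exists_lam
  obtain ⟨y, y', z', s, h⟩ := exists_levi H.good H.ne h0 h0' hlam (bp K n) (by
    rw [map_bp]
    refine H.acts fun m => ?_
    rw [ch_cochar, ch_cochar, rf_apply, map_sub, map_zsmul, h0, smul_zero, sub_zero])
  refine ⟨y, y', z', s, ?_, h⟩
  rintro rfl
  rw [D.uu_zero, mul_one] at h
  -- `n` inverts the cocharacter `f`, contradiction
  have h1 := H.acts (B := K[T;T⁻¹]) (t := D.cochar f.toAddMonoidHom)
    (t' := D.cochar (-f.toAddMonoidHom)) (fun m => by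
      rw [ch_cochar, ch_cochar, rf_apply]
      congr 1
      simp only [map_sub, map_zsmul, LinearMap.toAddMonoidHom_coe, H.two, AddMonoidHom.neg_apply,
        smul_eq_mul]
      ring)
  rw [← map_bp (lC R K), h, Pt.map_mul, Pt.map_mul, D.uu_nat, D.uu_nat, D.i_nat] at h1
  rw [← cell_two H.nodup H.mem_neg H.mem_pos, cell_mul_i, i_mul_cell] at h1
  obtain ⟨-, h2⟩ := H.inj h1
  have h3 : (D.cochar f.toAddMonoidHom : TPt D.M K[T;T⁻¹]) = D.cochar (-f.toAddMonoidHom) := by
    rw [TPt.mul_comm'] at h2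
    exact TPt.mul_right_cancel' h2
  have h4 := congrArg (TPt.ch (D.root a)) h3
  rw [ch_cochar, ch_cochar] at h4
  have h5 := congrArg (fun z : K[T;T⁻¹] => z.coeff 2) h4
  simp only [AddMonoidHom.neg_apply, LinearMap.toAddMonoidHom_coe, H.two] at h5
  simp only [LaurentPolynomial.T, AddMonoidAlgebra.coeff_single, Finsupp.single_apply] at h5
  norm_num at h5

/-- over an algebraically closed field, `n u_{a'}(y)` is in the cell for all nonzero `y` -/
lemma mem_cell_field {K : Type u} [Field K] [IsAlgClosed K] [Algebra R K] {y : K} (hy : y ≠ 0) :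
    ∃ x t, bp K n * D.uu a' K y = D.cell (Ln ++ Lp) x t := by
  obtain ⟨y0, y', z', s, hy0, h⟩ := H.exists_ne (K := K)
  obtain ⟨w, hw⟩ := IsAlgClosed.exists_pow_nat_eq (y0 / y) (n := 2) (by norm_num)
  have hw0 : w ≠ 0 := by
    rintro rfl
    rw [zero_pow two_ne_zero] at hw
    exact (div_ne_zero hy0 hy) hw.symm
  let wu : Kˣ := Units.mk0 w hw0
  set t : TPt D.M K := TPt.cow f wu with ht
  have h1 : D.i K t * D.uu a' K y0 * (D.i K t)⁻¹ = D.uu a' K y := by
    rw [D.rel, TPt.ch_cow, H.two']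
    congr 1
    rw [zpow_neg, Units.val_inv_eq_inv_val, Units.val_zpow_eq_zpow_val]
    change (w ^ (2 : ℤ))⁻¹ * y0 = y
    rw [zpow_ofNat, hw]
    field_simp
  have h2 : bp K n * D.i K t = D.i K (t.comp (AddMonoidHom.toMultiplicative (D.rf a f))) * bp K n :=
    H.acts fun m => rfl
  set t' : TPt D.M K := t.comp (AddMonoidHom.toMultiplicative (D.rf a f)) with ht'
  have e : bp K n * (D.i K t * D.uu a' K y0 * (D.i K t)⁻¹) =
      D.i K t' * (bp K n * D.uu a' K y0) * D.i K t⁻¹ := by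
    rw [← mul_assoc, ← mul_assoc, h2, i_inv']
    group
  rw [← h1, e, h, ← cell_two H.nodup H.mem_neg H.mem_pos, i_mul_cell, cell_mul_i]
  exact ⟨_, _, rfl⟩

/-- the geometric criterion for lying in the cell -/
lemma mem_cell_of_geom {g : Pt R A B}
    (hg : ∀ (K : Type u) [Field K] [IsAlgClosed K] [Algebra R K] (φ : B →ₐ[R] K),
      ∃ x t, Pt.map φ g = D.cell (Ln ++ Lp) x t) : ∃ x t, g = D.cell (Ln ++ Lp) x t := by
  rw [H.mem_iff]
  by_contra hI
  obtain ⟨m, hm, hle⟩ := Ideal.exists_le_maximal _ hI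
  let _ := Ideal.Quotient.field m
  let K := AlgebraicClosure (B ⧸ m)
  let φ : B →ₐ[R] K := (IsScalarTower.toAlgHom R (B ⧸ m) K).comp (Ideal.Quotient.mkₐ R m)
  have h1 := (H.mem_iff (Pt.map φ g)).mp (hg K φ)
  have h2 : I.map (Pt.map φ g).hom.toRingHom ≤ ⊥ := by
    rw [Ideal.map_le_iff_le_comap]
    intro x hx
    rw [Ideal.mem_comap, Ideal.mem_bot]
    have h3 : g.hom x ∈ m := hle (Ideal.mem_map_of_mem _ hx)
    change φ (g.hom x) = 0
    change (algebraMap (B ⧸ m) K) (Ideal.Quotient.mk m (g.hom x)) = 0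
    rw [Ideal.Quotient.eq_zero_iff_mem.mpr h3, map_zero]
  rw [h1, top_le_iff] at h2
  exact bot_ne_top h2

/-- the universal case of `n u_{a'}(y) ∈ cell` -/
lemma mem_cell_univ : ∃ x t, bp R[T;T⁻¹] n * D.uu a' R[T;T⁻¹] (T 1) =
    D.cell (Ln ++ Lp) x t := by
  apply H.mem_cell_of_geom
  intro K _ _ _ φ
  rw [Pt.map_mul, map_bp, D.uu_nat]
  apply H.mem_cell_field
  have h1 : IsUnit (T 1 : R[T;T⁻¹]) := ⟨uT R 1, rfl⟩
  exact (h1.map φ).ne_zero

end RankOneHyp

end Groth.Agent.Sga3B.Cell.Datum
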