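import Groth.Agent.Sga3B.CellN
import Groth.Agent.Sga3B.PinCell
import Mathlib.Algebra.Polynomial.Roots
import Mathlib.FieldTheory.IsAlgClosed.AlgebraicClosure

/-!
# Auxiliary results for the rank one relation: generic cocharacters, Laurent polynomials,
short cells, conjugation by elements normalising the torus
-/

set_option autoImplicit false
universe u

open Polynomial LaurentPolynomial

namespace Groth.Agent.Sga3B.Cell

/-- A linear form on a free `ℤ`-module not vanishing at finitely many given nonzero vectors. -/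
lemma exists_dual_ne_zero {M : Type} [AddCommGroup M] [Module.Free ℤ M] [Module.Finite ℤ M]
    {J : Type} [Finite J] (v : J → M) (hv : ∀ j, v j ≠ 0) : ∃ μ : M →+ ℤ, ∀ j, μ (v j) ≠ 0 := by
  classical
  have := Fintype.ofFinite J
  let b := Module.finBasis ℤ M
  let P : M → ℤ[X] := fun m => ∑ j : Fin (Module.finrank ℤ M),
    Polynomial.monomial (j : ℕ) (b.repr m j)
  have hP : ∀ m, m ≠ 0 → P m ≠ 0 := by
    intro m hm h
    apply hm
    apply b.repr.injective
    ext j
    have h1 := congrArg (fun p : ℤ[X] => p.coeff (j : ℕ)) h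
    simp only [P, Polynomial.finsetSum_coeff, Polynomial.coeff_monomial, Polynomial.coeff_zero] at h1
    rw [Finset.sum_eq_single j] at h1
    · simpa using h1
    · intro i _ hij
      rw [if_neg]
      intro h2
      exact hij (Fin.ext h2)
    · intro h2
      exact absurd (Finset.mem_univ j) h2
  have hprod : (∏ j, P (v j)) ≠ 0 := Finset.prod_ne_zero_iff.mpr fun j _ => hP _ (hv j)
  obtain ⟨N, hN⟩ : ∃ N : ℤ, (∏ j, P (v j)).eval N ≠ 0 := by
    by_contra! h
    exact hprod (Polynomial.funext fun N => by rw [h N, Polynomial.eval_zero])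
  refine ⟨AddMonoidHom.mk' (fun m => (P m).eval N) ?_, ?_⟩
  · intro m m'
    have h1 : P (m + m') = P m + P m' := by
      simp only [P, map_add, Finsupp.add_apply, Finset.sum_add_distrib]
    rw [h1, Polynomial.eval_add]
  · intro j
    rw [Polynomial.eval_prod, Finset.prod_ne_zero_iff] at hN
    exact hN j (Finset.mem_univ j)

/-- A cocharacter orthogonal to `r` and nonzero on finitely many vectors outside the line of `r`. -/
lemma exists_cochar_orth {M : Type} [AddCommGroup M] [Module.Free ℤ M] [Module.Finite ℤ M]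
    {J : Type} [Finite J] (f : M →+ ℤ) (r : M) (hr : f r = 2) (v : J → M)
    (hv : ∀ j, (2 : ℤ) • v j ≠ f (v j) • r) : ∃ μ : M →+ ℤ, μ r = 0 ∧ ∀ j, μ (v j) ≠ 0 := by
  obtain ⟨μ, hμ⟩ := exists_dual_ne_zero (fun j => (2 : ℤ) • v j - f (v j) • r)
    (fun j => sub_ne_zero.mpr (hv j))
  refine ⟨AddMonoidHom.mk' (fun m => μ ((2 : ℤ) • m - f m • r)) ?_, ?_, hμ⟩
  · intro m m'
    rw [← map_add]
    congr 1
    rw [map_add, smul_add, add_smul]
    abel
  · simp [hr]

section laurent

variable (R : Type u) [CommRing R] {B C : Type u} [CommRing B] [Algebra R B] [CommRing C] [Algebra R C]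

/-- evaluation of Laurent polynomials at a unit of an algebra -/
noncomputable def lev (φ : B →ₐ[R] C) (w : Cˣ) : B[T;T⁻¹] →ₐ[R] C where
  toRingHom := LaurentPolynomial.eval₂ (φ : B →+* C) w
  commutes' r := by
    change LaurentPolynomial.eval₂ (φ : B →+* C) w (algebraMap R B[T;T⁻¹] r) = _
    have h : algebraMap R B[T;T⁻¹] r = LaurentPolynomial.C (algebraMap R B r) := rfl
    rw [h, LaurentPolynomial.eval₂_C]
    exact φ.commutes r

@[simp] lemma lev_T (φ : B →ₐ[R] C) (w : Cˣ) (n : ℤ) : lev R φ w (T n) = ((w ^ n : Cˣ) : C) :=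
  LaurentPolynomial.eval₂_T _ _ _

@[simp] lemma lev_C (φ : B →ₐ[R] C) (w : Cˣ) (b : B) :
    lev R φ w (LaurentPolynomial.C b) = φ b :=
  LaurentPolynomial.eval₂_C _ _ _

lemma lev_comp_lC (φ : B →ₐ[R] C) (w : Cˣ) : (lev R φ w).comp (lC R B) = φ := by
  refine AlgHom.ext fun b => ?_
  rw [AlgHom.comp_apply, lC_apply, lev_C]

/-- a unit of `B[T;T⁻¹]` -/
noncomputable def uT (B : Type u) [CommRing B] (n : ℤ) : B[T;T⁻¹]ˣ where
  val := T n
  inv := T (-n)
  val_inv := by rw [← T_add, add_neg_cancel, T_zero]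
  inv_val := by rw [← T_add, neg_add_cancel, T_zero]

@[simp] lemma uT_val (n : ℤ) : ((uT B n : B[T;T⁻¹]ˣ) : B[T;T⁻¹]) = T n := rfl

lemma uT_zpow (n m : ℤ) : (uT B n) ^ m = uT B (n * m) := by
  apply Units.ext
  have h : ∀ k : ℕ, (((uT B n) ^ (k : ℤ) : B[T;T⁻¹]ˣ) : B[T;T⁻¹]) = T (n * k) := by
    intro k
    rw [zpow_natCast, Units.val_pow_eq_pow_val, uT_val, T_pow, mul_comm]
  rcases Int.eq_nat_or_neg m with ⟨k, rfl | rfl⟩
  · exact h k
  · rw [zpow_neg]
    have h1 : (uT B n) ^ (k : ℤ) = uT B (n * k) := Units.ext (h k)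
    rw [h1]
    change T (-(n * k)) = (T (n * -k) : B[T;T⁻¹])
    congr 1
    ring

/-- coefficients of a Laurent polynomial `z` with `z(T^e) = C b * T^d`, `e ≠ 0`. -/
lemma eq_of_lev_pow {e d : ℤ} (he : e ≠ 0) {z : B[T;T⁻¹]} {b : B} {j : ℤ} (hj : e * j = d)
    (h : lev R (lC R B) (uT B e) z = LaurentPolynomial.C b * T d) :
    z = LaurentPolynomial.C b * T j := by
  have hinj : Function.Injective (lev R (lC R B) (uT B e)) := by
    have h1 : ∀ z : B[T;T⁻¹], ∀ n : ℤ, (lev R (lC R B) (uT B e) z).coeff (e * n) = z.coeff n := by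
      intro z n
      induction z using LaurentPolynomial.induction_on' with
      | add p q hp hq => rw [map_add]; simp [hp, hq]
      | C_mul_T m a =>
        rw [map_mul (lev R (lC R B) (uT B e)), lev_C, lev_T, uT_zpow, uT_val, lC_apply]
        rw [← LaurentPolynomial.single_eq_C_mul_T, ← LaurentPolynomial.single_eq_C_mul_T,
          AddMonoidAlgebra.coeff_single, AddMonoidAlgebra.coeff_single, Finsupp.single_apply,
          Finsupp.single_apply]
        by_cases hmn : m = n
        · simp [hmn]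
        · rw [if_neg hmn, if_neg]
          intro h2
          exact hmn (mul_left_cancel₀ he h2)
    intro z z' hz
    apply AddMonoidAlgebra.ext
    apply Finsupp.ext
    intro n
    rw [← h1, hz, h1]
  apply hinj
  rw [h, map_mul, lev_C, lev_T, uT_zpow, uT_val, lC_apply, hj]

end laurent

end Groth.Agent.Sga3B.Cell
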