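import Groth.Agent.Sga3B.RankOneAux

/-!
# Conjugation of root groups by a point normalising the torus

`Datum.Acts n w`: the point `n` normalises the torus and acts on characters by `w`.
`Datum.conj_uu`: then `n u_c(y) n⁻¹ = u_{c'}(r y)` with `r` a unit, if `w (root c') = root c` (F3).
-/

set_option autoImplicit false
universe u

open Polynomial LaurentPolynomial

namespace Groth.Agent.Sga3B.Cell.Datum

open Groth.Agent.Sga3B.Cell

variable {R A : Type u} [CommRing R] [CommRing A] [Algebra R A] [PtGrp R A] (D : Datum R A)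
variable {B C : Type u} [CommRing B] [Algebra R B] [CommRing C] [Algebra R C]

/-- the base change of an `R`-point -/
def bp (B : Type u) [CommRing B] [Algebra R B] (n : Pt R A R) : Pt R A B :=
  Pt.map (Algebra.ofId R B) n

lemma map_bp (φ : B →ₐ[R] C) (n : Pt R A R) : Pt.map φ (bp B n) = bp C n := by
  rw [bp, Pt.map_map]
  congr 1
  exact Subsingleton.elim _ _

/-- The cell map ordered by `L` is a monomorphism. -/
def CellInj (L : List D.idx) : Prop := ∀ {B : Type u} [CommRing B] [Algebra R B]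
  {x x' : D.idx → B} {t t' : TPt D.M B}, D.cell L x t = D.cell L x' t' → x = x' ∧ t = t'

/-- The point `n` normalises the torus and acts on characters by `w`. -/
def Acts (n : Pt R A R) (w : D.M →+ D.M) : Prop :=
  ∀ {B : Type u} [CommRing B] [Algebra R B] {t t' : TPt D.M B},
    (∀ m, TPt.ch m t' = TPt.ch (w m) t) → bp B n * D.i B t = D.i B t' * bp B n

section single

/-- a product over a list with only one nontrivial factor -/
lemma prod_single {L : List D.idx} (hL : L.Nodup) {a : D.idx} (ha : a ∈ L) {x : D.idx → B}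
    (hx : ∀ c ∈ L, c ≠ a → x c = 0) :
    (L.map (fun c => D.uu c B (x c))).prod = D.uu a B (x a) := by
  obtain ⟨l₁, l₂, rfl⟩ := List.append_of_mem ha
  have h0 : ∀ l : List D.idx, (∀ c ∈ l, x c = 0) → (l.map (fun c => D.uu c B (x c))).prod = 1 := by
    intro l hl
    apply List.prod_eq_one
    intro y hy
    obtain ⟨c, hc, rfl⟩ := List.mem_map.mp hy
    rw [hl c hc, D.uu_zero]
  rw [List.nodup_append] at hL
  obtain ⟨-, h2, h3⟩ := hL
  rw [List.map_append, List.prod_append, List.map_cons, List.prod_cons, h0 l₁, h0 l₂, one_mul,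
    mul_one]
  · intro c hc
    refine hx c (by simp [hc]) ?_
    rintro rfl
    exact (List.nodup_cons.mp h2).1 hc
  · intro c hc
    refine hx c (by simp [hc]) ?_
    rintro rfl
    exact h3 c hc c (by simp) rfl

/-- coordinates with at most two nonzero entries -/
noncomputable def two (a' a : D.idx) (y z : B) : D.idx → B := by
  classical exact fun c => if c = a' then y else if c = a then z else 0

variable {D}

@[simp] lemma two_left (a' a : D.idx) (y z : B) : D.two a' a y z a' = y := by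
  simp [two]

lemma two_right {a' a : D.idx} (h : a ≠ a') (y z : B) : D.two a' a y z a = z := by
  simp [two, h]

lemma two_other {a' a : D.idx} (y z : B) {c : D.idx} (h : c ≠ a') (h' : c ≠ a) :
    D.two a' a y z c = 0 := by
  simp [two, h, h']

lemma cell_two {Ln Lp : List D.idx} {a' a : D.idx} (hnd : (Ln ++ Lp).Nodup) (ha' : a' ∈ Ln)
    (ha : a ∈ Lp) (y z : B) (t : TPt D.M B) :
    D.cell (Ln ++ Lp) (D.two a' a y z) t = D.uu a' B y * D.uu a B z * D.i B t := by
  rw [List.nodup_append] at hnd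
  obtain ⟨h1, h2, h3⟩ := hnd
  have hne : a ≠ a' := fun h => h3 a' ha' a ha h.symm
  unfold cell
  rw [List.map_append, List.prod_append, prod_single D h1 ha', prod_single D h2 ha, two_left,
    two_right hne]
  · intro c hc hca
    exact two_other _ _ (fun h => h3 a' ha' c hc h.symm) hca
  · intro c hc hca
    exact two_other _ _ hca (fun h => h3 c hc a ha h)

end single

section conj

variable {D}

/-- conjugating an equivariant curve -/
lemma Equi.conj {θ θ' : TPt D.M B[T;T⁻¹]} {h : Pt R A B}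
    (hh : Pt.map (lC R B) h * D.i _ θ * (Pt.map (lC R B) h)⁻¹ = D.i _ θ') {c : Pt R A B[X]}
    (hc : D.Equi θ c) : D.Equi θ' (Pt.map (pC R B) h * c * (Pt.map (pC R B) h)⁻¹) := by
  unfold Equi at *
  have e1 : (sigmaM R B).comp (pC R B) = (kapM R B).comp (lC R B) := by
    refine AlgHom.ext fun b => ?_
    ext1 d
    simp only [AlgHom.comp_apply, sigmaM_coeff, pC_apply, kapM_apply, Polynomial.coeff_C, lC_apply]
    by_cases hd : d = 0
    · simp [hd]
    · simp [hd]
  have e2 : (iotaM R B).comp (pC R B) = (kapM R B).comp (lC R B) := by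
    refine AlgHom.ext fun b => ?_
    ext1 d
    simp only [AlgHom.comp_apply, iotaM_coeff, pC_apply, kapM_apply, Polynomial.coeff_C, lC_apply]
    by_cases hd : d = 0
    · simp [hd]
    · simp [hd]
  have hh' := congrArg (Pt.map (kapM R B)) hh
  rw [Pt.map_mul, Pt.map_mul, Pt.map_inv, Pt.map_map, D.i_nat, D.i_nat] at hh'
  rw [Pt.map_mul, Pt.map_mul, Pt.map_inv, Pt.map_map, e1, hc, Pt.map_mul, Pt.map_mul, Pt.map_inv,
    Pt.map_map, e2, ← hh']
  group

/-- the standard curve in a root group -/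
lemma equi_uu {θ : TPt D.M B[T;T⁻¹]} {c : D.idx} {k : ℕ}
    (hθ : TPt.ch (D.root c) θ = T (k : ℤ)) (y : B) :
    D.Equi θ (D.uu c B[X] (Polynomial.C y * X ^ k)) := by
  unfold Equi
  rw [D.uu_nat, D.uu_nat, D.rel]
  congr 1
  rw [TPt.ch_map, hθ, kapM_apply]
  ext1 d
  rw [sigmaM_coeff]
  conv_rhs => rw [Polynomial.coeff_C_mul, iotaM_coeff, Polynomial.coeff_C_mul_X_pow]
  conv_lhs => rw [Polynomial.coeff_C_mul_X_pow]
  by_cases hd : d = k
  · rw [if_pos hd, hd, mul_comm]
  · rw [if_neg hd]; simp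

lemma Acts.conj_cochar {n : Pt R A R} {w : D.M →+ D.M} (hn : D.Acts n w) (μ : D.M →+ ℤ) :
    Pt.map (lC R B) (bp B n) * D.i _ (D.cochar μ) * (Pt.map (lC R B) (bp B n))⁻¹ =
      D.i _ (D.cochar (μ.comp w)) := by
  rw [map_bp, mul_inv_eq_iff_eq_mul]
  exact hn fun m => rfl

variable {L : List D.idx} {δ : D.CR}

/-- the conjugate of a curve in a root group -/
lemma conj_curve (hδ : D.EtOn L δ) (hδ0 : D.ev0 δ = 1) {n : Pt R A R} {w : D.M →+ D.M}
    (hn : D.Acts n w) {c : D.idx} {μ : D.M →+ ℤ} {k : ℕ} (hk : k ≠ 0) (hμ : μ (D.root c) = k)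
    (y : B) : ∃ y' : D.idx → B, (∀ b, μ (w (D.root b)) ≤ 0 → y' b = 0) ∧
      bp B[X] n * D.uu c B[X] (Polynomial.C y * X ^ k) * (bp B[X] n)⁻¹ =
        D.cell L (fun b => Polynomial.C (y' b) * X ^ (μ (w (D.root b))).toNat) 1 := by
  have h1 : D.Equi (D.cochar μ) (D.uu c B[X] (Polynomial.C y * X ^ k)) :=
    equi_uu (by rw [ch_cochar, hμ]) y
  have h2 := h1.conj (hn.conj_cochar μ)
  have h3 : ∀ a, TPt.ch (D.root a) (D.cochar (μ.comp w) : TPt D.M B[T;T⁻¹]) =
      T (μ (w (D.root a))) := fun a => rfl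
  rw [map_bp] at h2
  obtain ⟨y', hy', h4⟩ := h2.exists_eq (D := D) hδ hδ0 h3 (by
    rw [Pt.map_mul, Pt.map_mul, Pt.map_inv, D.uu_nat]
    simp [hk])
  exact ⟨y', hy', h4⟩

/-- `(F3)` conjugation by a point acting on the torus permutes the root groups. -/
theorem conj_uu (hL : L.Nodup) (hLc : ∀ b, b ∈ L) (hδ : D.EtOn L δ) (hδ0 : D.ev0 δ = 1)
    (hinj : D.CellInj L) {n : Pt R A R} {w : D.M →+ D.M} (hn : D.Acts n w) {c c' : D.idx}
    (hcc' : w (D.root c') = D.root c)
    (hsep : ∀ b, b ≠ c' → ∃ μ : D.M →+ ℤ, 0 < μ (D.root c) ∧ μ (w (D.root b)) ≤ 0) :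
    ∃ r : Rˣ, ∀ {B : Type u} [CommRing B] [Algebra R B] (y : B),
      bp B n * D.uu c B y * (bp B n)⁻¹ = D.uu c' B (algebraMap R B r * y) := by
  obtain ⟨μ₀, hμ₀⟩ : ∃ μ : D.M →+ ℤ, 0 < μ (D.root c) := by
    obtain ⟨μ, hμ⟩ := exists_dual_ne_zero (fun _ : Unit => D.root c) (fun _ => D.root_ne c)
    rcases lt_or_gt_of_ne (hμ ()) with h | h
    · exact ⟨-μ, by rw [AddMonoidHom.neg_apply]; omega⟩
    · exact ⟨μ, h⟩
  -- step 1: all coordinates but one vanish
  have key : ∀ {B : Type u} [CommRing B] [Algebra R B] (y : B) (x : D.idx → B),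
      bp B n * D.uu c B y * (bp B n)⁻¹ = D.cell L x 1 → ∀ b, b ≠ c' → x b = 0 := by
    intro B _ _ y x hx b hb
    obtain ⟨μ, hμ, hμb⟩ := hsep b hb
    obtain ⟨y', hy', hc⟩ := conj_curve (c := c) hδ hδ0 hn (μ := μ) (k := (μ (D.root c)).toNat)
      (by omega) (by omega) y
    have h1 := congrArg (Pt.map (pev R B 1)) hc
    rw [Pt.map_mul, Pt.map_mul, Pt.map_inv, D.uu_nat, map_bp, cell_nat, map_one] at h1
    simp only [pev_apply, Polynomial.eval_mul, Polynomial.eval_C, Polynomial.eval_pow,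
      Polynomial.eval_X, one_pow, mul_one] at h1
    rw [hx] at h1
    have h2 := (hinj h1).1
    rw [h2]
    exact hy' b hμb
  have key1 : ∀ {B : Type u} [CommRing B] [Algebra R B] (y : B), ∃ z : B,
      bp B n * D.uu c B y * (bp B n)⁻¹ = D.uu c' B z := by
    intro B _ _ y
    obtain ⟨y', hy', hc⟩ := conj_curve (c := c) hδ hδ0 hn (μ := μ₀) (k := (μ₀ (D.root c)).toNat)
      (by omega) (by omega) y
    have h1 := congrArg (Pt.map (pev R B 1)) hc
    rw [Pt.map_mul, Pt.map_mul, Pt.map_inv, D.uu_nat, map_bp, cell_nat, map_one] at h1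
    simp only [pev_apply, Polynomial.eval_mul, Polynomial.eval_C, Polynomial.eval_pow,
      Polynomial.eval_X, one_pow, mul_one] at h1
    refine ⟨y' c', ?_⟩
    rw [h1, cell, prod_single D hL (hLc c') (fun b _ hb => key y y' h1 b hb), i_one', mul_one]
  -- step 2: the universal case
  obtain ⟨P, hP⟩ := key1 (B := R[X]) X
  obtain ⟨y', hy', hc⟩ := conj_curve (c := c) hδ hδ0 hn (μ := μ₀) (k := (μ₀ (D.root c)).toNat)
      (by omega) (by omega) (1 : R)
  set k : ℕ := (μ₀ (D.root c)).toNat with hk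
  have hPk : D.uu c' R[X] (Polynomial.expand R k P) =
      D.uu c' R[X] (Polynomial.C (y' c') * X ^ k) := by
    have h1 := congrArg (Pt.map (Polynomial.expand R k : R[X] →ₐ[R] R[X])) hP
    rw [Pt.map_mul, Pt.map_mul, Pt.map_inv, D.uu_nat, map_bp, D.uu_nat, Polynomial.expand_X] at h1
    rw [← h1]
    rw [Polynomial.C_1, one_mul] at hc
    rw [hc, cell, prod_single D hL (hLc c'), i_one', mul_one]
    · simp only [hcc']
      rfl
    · intro b _ hb
      have h2 := key _ _ hc b hb
      exact h2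
  have hPr : P = Polynomial.C (y' c') * X := by
    have h1 := D.uu_inj c' hPk
    apply Polynomial.expand_injective (R := R) (n := k) (by omega)
    rw [h1, map_mul, Polynomial.expand_C, Polynomial.expand_X]
  set r : R := y' c' with hr
  have main : ∀ {B : Type u} [CommRing B] [Algebra R B] (y : B),
      bp B n * D.uu c B y * (bp B n)⁻¹ = D.uu c' B (algebraMap R B r * y) := by
    intro B _ _ y
    have h1 := congrArg (Pt.map (Polynomial.aeval y : R[X] →ₐ[R] B)) hP
    rw [Pt.map_mul, Pt.map_mul, Pt.map_inv, D.uu_nat, map_bp, D.uu_nat, hPr, Polynomial.aeval_X,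
      map_mul, Polynomial.aeval_X, Polynomial.aeval_C] at h1
    exact h1
  -- step 3: `r` is a unit
  have hu : IsUnit r := by
    rw [← Ideal.span_singleton_eq_top, ← Ideal.Quotient.subsingleton_iff]
    have h1 := main (B := R ⧸ Ideal.span {r}) 1
    have h2 : algebraMap R (R ⧸ Ideal.span {r}) r = 0 :=
      Ideal.Quotient.eq_zero_iff_mem.mpr (Ideal.mem_span_singleton_self r)
    rw [h2, zero_mul, D.uu_zero, mul_inv_eq_one, mul_eq_left] at h1
    have h3 : (1 : R ⧸ Ideal.span {r}) = 0 := by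
      apply D.uu_inj c
      rw [h1, D.uu_zero]
    exact subsingleton_of_zero_eq_one h3.symm
  exact ⟨hu.unit, main⟩

end conj

end Groth.Agent.Sga3B.Cell.Datum
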