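import Groth.Agent.Sga3B.RankOneConj

/-!
# Points centralising a cocharacter which is trivial on exactly one pair of opposite roots
-/

set_option autoImplicit false
universe u

open Polynomial LaurentPolynomial TensorProduct

namespace Groth.Agent.Sga3B.Cell.Datum

open Groth.Agent.Sga3B.Cell

variable {R A : Type u} [CommRing R] [CommRing A] [Algebra R A] [PtGrp R A] {D : Datum R A}
variable {B C : Type u} [CommRing B] [Algebra R B] [CommRing C] [Algebra R C]

/-- all indices: negative ones, then `a'`, `a`, then positive ones -/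
noncomputable def midList (k : D.idx → ℤ) (a' a : D.idx) : List D.idx :=
  (Finset.univ.filter (fun b => k b < 0)).toList ++
    ([a', a] ++ (Finset.univ.filter (fun b => 0 < k b)).toList)

lemma midList_nodup {k : D.idx → ℤ} {a' a : D.idx} (hne : a ≠ a') (ha : k a = 0) (ha' : k a' = 0) :
    (midList k a' a).Nodup := by
  unfold midList
  rw [List.nodup_append, List.nodup_append]
  refine ⟨Finset.nodup_toList _, ⟨by simp [hne.symm], Finset.nodup_toList _, ?_⟩, ?_⟩
  · intro b hb c hc hbc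
    subst hbc
    rw [Finset.mem_toList, Finset.mem_filter] at hc
    simp only [List.mem_cons, List.not_mem_nil, or_false] at hb
    rcases hb with rfl | rfl
    · omega
    · omega
  · intro b hb c hc hbc
    subst hbc
    rw [Finset.mem_toList, Finset.mem_filter] at hb
    rw [List.mem_append, Finset.mem_toList, Finset.mem_filter] at hc
    simp only [List.mem_cons, List.not_mem_nil, or_false] at hc
    rcases hc with (rfl | rfl) | hc
    · omega
    · omega
    · omega

lemma mem_midList {k : D.idx → ℤ} {a' a : D.idx} (h : ∀ b, k b = 0 → b = a ∨ b = a') (b : D.idx) :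
    b ∈ midList k a' a := by
  unfold midList
  rw [List.mem_append, List.mem_append, Finset.mem_toList, Finset.mem_toList, Finset.mem_filter,
    Finset.mem_filter]
  rcases lt_trichotomy (k b) 0 with hb | hb | hb
  · left; exact ⟨Finset.mem_univ _, hb⟩
  · right; left
    rcases h b hb with rfl | rfl <;> simp
  · right; right; exact ⟨Finset.mem_univ _, hb⟩

lemma prod_eq_one {L : List D.idx} {x : D.idx → B} (hx : ∀ c ∈ L, x c = 0) :
    (L.map (fun c => D.uu c B (x c))).prod = 1 := by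
  apply List.prod_eq_one
  intro y hy
  obtain ⟨c, hc, rfl⟩ := List.mem_map.mp hy
  rw [hx c hc, D.uu_zero]

lemma cell_midList {k : D.idx → ℤ} {a' a : D.idx} (ha : k a = 0) (ha' : k a' = 0)
    (x : D.idx → B) (t : TPt D.M B) :
    D.cell (midList k a' a) x t =
      D.cell (midList k a' a) (fun b => if k b < 0 then x b else 0) 1 *
        (D.uu a' B (x a') * D.uu a B (x a)) *
        D.cell (midList k a' a) (fun b => if 0 < k b then x b else 0) 1 * D.i B t := by
  have hN : ∀ y : D.idx → B, (∀ b, k b < 0 → y b = x b) →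
      ((Finset.univ.filter (fun b => k b < 0)).toList.map (fun c => D.uu c B (y c))) =
      ((Finset.univ.filter (fun b => k b < 0)).toList.map (fun c => D.uu c B (x c))) := by
    intro y hy
    apply List.map_congr_left
    intro b hb
    rw [Finset.mem_toList, Finset.mem_filter] at hb
    rw [hy b hb.2]
  have hP : ∀ y : D.idx → B, (∀ b, 0 < k b → y b = x b) →
      ((Finset.univ.filter (fun b => 0 < k b)).toList.map (fun c => D.uu c B (y c))) =
      ((Finset.univ.filter (fun b => 0 < k b)).toList.map (fun c => D.uu c B (x c))) := by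
    intro y hy
    apply List.map_congr_left
    intro b hb
    rw [Finset.mem_toList, Finset.mem_filter] at hb
    rw [hy b hb.2]
  unfold cell midList
  simp only [List.map_append, List.prod_append, List.map_cons, List.map_nil, List.prod_cons,
    List.prod_nil, mul_one, i_one', ha, ha', lt_irrefl, if_false, uu_zero, one_mul]
  rw [hN (fun b => if k b < 0 then x b else 0) (fun b hb => if_pos hb),
    hP (fun b => if 0 < k b then x b else 0) (fun b hb => if_pos hb),
    prod_eq_one (L := (Finset.univ.filter (fun b => 0 < k b)).toList)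
      (x := fun b => if k b < 0 then x b else 0) ?_,
    prod_eq_one (L := (Finset.univ.filter (fun b => k b < 0)).toList)
      (x := fun b => if 0 < k b then x b else 0) ?_]
  · simp only [mul_one, one_mul, mul_assoc]
  · intro b hb
    rw [Finset.mem_toList, Finset.mem_filter] at hb
    exact if_neg (by omega)
  · intro b hb
    rw [Finset.mem_toList, Finset.mem_filter] at hb
    exact if_neg (by omega)

/-- `U(-k) ∩ U(k) Z = 1` for points `Z` centralising the cocharacter. -/
lemma disjoint_UP_cent {L L' : List D.idx} {k : D.idx → ℤ} {θ : TPt D.M B[T;T⁻¹]}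
    (hθ : ∀ a, TPt.ch (D.root a) θ = T (k a)) {x y : D.idx → B} {ζ : Pt R A B}
    (hζ : Pt.map (lC R B) ζ * D.i _ θ = D.i _ θ * Pt.map (lC R B) ζ)
    (hx : ∀ a, -k a ≤ 0 → x a = 0) (hy : ∀ a, k a ≤ 0 → y a = 0)
    (h : D.cell L' x 1 = D.cell L y 1 * ζ) : D.cell L' x 1 = 1 ∧ D.cell L y 1 = 1 := by
  -- the opposite cocharacter point
  have hθ' : ∀ a, TPt.ch (D.root a) (TPt.map (linv R B) θ) = T (-k a) := by
    intro a
    rw [TPt.ch_map, hθ, linv_apply, LaurentPolynomial.invert_T]
  have h1 := lau_cell (L := L') (k := fun a => -k a) hθ' (y := x) (fun a ha => hx a (by omega)) 1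
  have h2 := lau_cell (L := L) hθ (y := y) (fun a ha => hy a (by omega)) 1
  have h3 := congrArg (Pt.map (linv R B)) h1
  rw [Pt.map_map, Pt.map_mul, Pt.map_mul, Pt.map_inv, D.i_nat, Pt.map_map, linv_comp_lC,
    TPt.map_map] at h3
  have h4 : (linv R B).comp (linv R B) = AlgHom.id R _ := by
    refine AlgHom.ext fun z => ?_
    simpa using LaurentPolynomial.involutive_invert z
  rw [h4, TPt.map_id, h] at h3
  have h7 : Pt.map (lau R B) (D.cell L (fun a => Polynomial.C (y a) * X ^ (k a).toNat)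
      (TPt.map (pC R B) 1) * Pt.map (pC R B) ζ) =
      D.i _ θ * Pt.map (lC R B) (D.cell L y 1 * ζ) * (D.i _ θ)⁻¹ := by
    rw [Pt.map_mul, h2, Pt.map_map, lau_comp_pC, Pt.map_mul]
    have h8 : Pt.map (lC R B) ζ = D.i _ θ * Pt.map (lC R B) ζ * (D.i _ θ)⁻¹ := by
      rw [← hζ]; group
    conv_lhs => rw [h8]
    group
  rw [← h7] at h3
  have h5 := const_of_both h3.symm
  constructor
  · have h6 := h5.2
    rw [D.eval1_cell, D.eval0_cell L' (k := fun a => -k a) hx, map_one] at h6
    exact h6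
  · have h6 := h5.1
    rw [Pt.map_mul, Pt.map_mul, D.eval1_cell, D.eval0_cell L hy, map_one] at h6
    rw [one_mul, Pt.map_map, Pt.map_map, pev_comp_pC, pev_comp_pC, Pt.map_id] at h6
    exact mul_eq_right.mp h6

lemma cochar_neg (lam : D.M →+ ℤ) : (D.cochar (-lam) : TPt D.M B[T;T⁻¹]) = (D.cochar lam)⁻¹ := by
  apply TPt.eq_inv_of_mul'
  apply TPt.ext_ch
  intro m
  rw [TPt.ch_mul, ch_cochar, ch_cochar, ← T_add]
  simp

lemma uu_comm_cochar {lam : D.M →+ ℤ} {a : D.idx} (ha : lam (D.root a) = 0) (x : B) :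
    Pt.map (lC R B) (D.uu a B x) * D.i _ (D.cochar lam) =
      D.i _ (D.cochar lam) * Pt.map (lC R B) (D.uu a B x) := by
  rw [D.uu_nat]
  have h := D.rel a (D.cochar lam : TPt D.M B[T;T⁻¹]) (lC R B x)
  rw [ch_cochar, ha, T_zero, one_mul] at h
  rw [← mul_inv_eq_iff_eq_mul.mp h]

/-- A point over an algebraically closed field which centralises a cocharacter trivial exactly on
`±a` is, up to a factor in `U_{a'}`, in the cell `U_{a'} U_a T`. -/
theorem exists_levi (hG : D.Good) [Algebra.FiniteType R A] {K : Type u} [Field K]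
    [IsAlgClosed K] [Algebra R K] [IsDomain (K ⊗[R] A)] {lam : D.M →+ ℤ} {a' a : D.idx}
    (hne : a ≠ a') (ha : lam (D.root a) = 0) (ha' : lam (D.root a') = 0)
    (hlam : ∀ b, lam (D.root b) = 0 → b = a ∨ b = a') (h : Pt R A K)
    (hh : Pt.map (lC R K) h * D.i _ (D.cochar lam) = D.i _ (D.cochar lam) * Pt.map (lC R K) h) :
    ∃ (y y' z' : K) (s : TPt D.M K), h * D.uu a' K y = D.uu a' K y' * D.uu a K z' * D.i K s := by
  set k : D.idx → ℤ := fun b => lam (D.root b) with hk
  set L := midList k a' a with hL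
  obtain ⟨δ, hδ, hδ0⟩ := hG L (midList_nodup hne ha ha') (mem_midList hlam)
  obtain ⟨x, x', t, t', -, -, hq⟩ := exists_quot hδ hδ0 h
  have hθ : ∀ b, TPt.ch (D.root b) (D.cochar lam : TPt D.M K[T;T⁻¹]) = T (k b) := fun b => rfl
  have hθn : ∀ b, TPt.ch (D.root b) (D.cochar (-lam) : TPt D.M K[T;T⁻¹]) = T (-k b) := fun b => rfl
  rw [hL, cell_midList ha ha', cell_midList ha ha' x' t', ← hL] at hq
  set V := D.cell L (fun b => if k b < 0 then x b else 0) 1 with hV
  set V' := D.cell L (fun b => if k b < 0 then x' b else 0) 1 with hV'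
  set U := D.cell L (fun b => if 0 < k b then x b else 0) 1 with hU
  set U' := D.cell L (fun b => if 0 < k b then x' b else 0) 1 with hU'
  set g := D.uu a' K (x a') * D.uu a K (x a) with hg
  set g' := D.uu a' K (x' a') * D.uu a K (x' a) with hg'
  have hVm : V ∈ D.UP L (fun b => -k b) K :=
    ⟨_, fun b hb => if_neg (by have h1 : -k b ≤ 0 := hb; omega), rfl⟩
  have hV'm : V' ∈ D.UP L (fun b => -k b) K :=
    ⟨_, fun b hb => if_neg (by have h1 : -k b ≤ 0 := hb; omega), rfl⟩
  have hUm : U ∈ D.UP L k K := ⟨_, fun b hb => if_neg (by omega), rfl⟩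
  have hU'm : U' ∈ D.UP L k K := ⟨_, fun b hb => if_neg (by omega), rfl⟩
  -- centralising elements
  have cent_g : ∀ u v : K, Pt.map (lC R K) (D.uu a' K u * D.uu a K v) * D.i _ (D.cochar lam) =
      D.i _ (D.cochar lam) * Pt.map (lC R K) (D.uu a' K u * D.uu a K v) := by
    intro u v
    rw [Pt.map_mul, mul_assoc, uu_comm_cochar ha, ← mul_assoc, uu_comm_cochar ha', mul_assoc]
  have conj_of_comm : ∀ (p : Pt R A K) (θ : TPt D.M K[T;T⁻¹]),
      Pt.map (lC R K) p * D.i _ θ = D.i _ θ * Pt.map (lC R K) p →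
      Pt.map (lC R K) p * D.i _ θ * (Pt.map (lC R K) p)⁻¹ = D.i _ θ := by
    intro p θ hp
    rw [hp]; group
  have comm_neg : ∀ (p : Pt R A K),
      Pt.map (lC R K) p * D.i _ (D.cochar lam) = D.i _ (D.cochar lam) * Pt.map (lC R K) p →
      Pt.map (lC R K) p * D.i _ (D.cochar (-lam)) = D.i _ (D.cochar (-lam)) * Pt.map (lC R K) p := by
    intro p hp
    rw [cochar_neg, i_inv', eq_inv_mul_iff_mul_eq, ← mul_assoc, ← hp]
    group
  have hcV := UP_conj hδ hδ0 (k := fun b => -k b) hθn hθn (conj_of_comm h _ (comm_neg h hh)) hVm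
  obtain ⟨y, hy0, hy⟩ := UP_mul hδ hδ0 (k := fun b => -k b) hθn (UP_inv hδ hδ0 hθn hV'm) hcV
  -- the positive part
  set s : TPt D.M K := t' * t⁻¹ with hs
  have hconj : D.i _ s * U⁻¹ * (D.i _ s)⁻¹ ∈ D.UP L k K := by
    obtain ⟨w, hw0, hw⟩ := UP_inv hδ hδ0 hθ hUm
    rw [hw, conj_cell]
    exact ⟨_, fun b hb => by rw [hw0 b hb, mul_zero], rfl⟩
  have hU1 := UP_mul hδ hδ0 hθ hU'm hconj
  set U1 := U' * (D.i _ s * U⁻¹ * (D.i _ s)⁻¹) with hU1def
  obtain ⟨z, hz0, hz⟩ := UP_conj hδ hδ0 hθ hθ (conj_of_comm g' _ (cent_g _ _)) hU1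
  -- the centralising factor
  set ζ : Pt R A K := g' * D.i K s * g⁻¹ * h⁻¹ with hζ
  have hs' : D.i K t' * (D.i K t)⁻¹ = D.i K s := by rw [hs, i_mul', i_inv']
  have hmain : V'⁻¹ * (h * V * h⁻¹) * (h * g) = g' * U1 * D.i K s := by
    have e1 : V'⁻¹ * (h * V * h⁻¹) * (h * g) =
        V'⁻¹ * (h * (V * g * U * D.i K t)) * (D.i K t)⁻¹ * U⁻¹ := by group
    have e2 : V'⁻¹ * (V' * g' * U' * D.i K t') * (D.i K t)⁻¹ * U⁻¹ =
        g' * U' * (D.i K t' * (D.i K t)⁻¹) * U⁻¹ := by group
    rw [e1, hq, e2, hs', hU1def]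
    group
  have hdec : D.cell L y 1 = D.cell L z 1 * ζ := by
    rw [← hy, ← hz, hζ]
    have e1 : V'⁻¹ * (h * V * h⁻¹) = (V'⁻¹ * (h * V * h⁻¹) * (h * g)) * g⁻¹ * h⁻¹ := by group
    rw [e1, hmain]
    group
  have comm_mul : ∀ (p q : Pt R A K),
      Pt.map (lC R K) p * D.i _ (D.cochar lam) = D.i _ (D.cochar lam) * Pt.map (lC R K) p →
      Pt.map (lC R K) q * D.i _ (D.cochar lam) = D.i _ (D.cochar lam) * Pt.map (lC R K) q →
      Pt.map (lC R K) (p * q) * D.i _ (D.cochar lam) =
        D.i _ (D.cochar lam) * Pt.map (lC R K) (p * q) := by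
    intro p q hp hq
    rw [Pt.map_mul, mul_assoc, hq, ← mul_assoc, hp, mul_assoc]
  have comm_inv : ∀ (p : Pt R A K),
      Pt.map (lC R K) p * D.i _ (D.cochar lam) = D.i _ (D.cochar lam) * Pt.map (lC R K) p →
      Pt.map (lC R K) p⁻¹ * D.i _ (D.cochar lam) =
        D.i _ (D.cochar lam) * Pt.map (lC R K) p⁻¹ := by
    intro p hp
    rw [Pt.map_inv, inv_mul_eq_iff_eq_mul, ← mul_assoc, hp]
    group
  have hζc : Pt.map (lC R K) ζ * D.i _ (D.cochar lam) = D.i _ (D.cochar lam) * Pt.map (lC R K) ζ := by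
    refine comm_mul _ _ (comm_mul _ _ (comm_mul _ _ (cent_g _ _) ?_) (comm_inv _ (cent_g _ _)))
      (comm_inv _ hh)
    rw [D.i_nat, ← i_mul', ← i_mul', TPt.mul_comm']
  obtain ⟨hone, hone'⟩ := disjoint_UP_cent hθ hζc hy0 hz0 hdec
  rw [← hz] at hone'
  have hU1one : U1 = 1 := by
    have e1 : U1 = g'⁻¹ * (g' * U1 * g'⁻¹) * g' := by group
    rw [e1, hone']; group
  rw [hy, hone, one_mul, hU1one, mul_one, hg, ← mul_assoc] at hmain
  refine ⟨x a', x' a', x' a + TPt.ch (D.root a) s * (-(x a)), s, ?_⟩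
  have e2 : h * D.uu a' K (x a') = g' * D.i K s * (D.uu a K (x a))⁻¹ := by
    rw [← hmain]; group
  rw [e2, hg', D.uu_add, ← D.rel, D.uu_neg]
  group

end Groth.Agent.Sga3B.Cell.Datum
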