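import Groth.Agent.S1134
import Mathlib.AlgebraicGeometry.Sites.Fpqc
import Mathlib.AlgebraicGeometry.Morphisms.Etale

/-!
# Étale descent of representability, part 1: the quasi-affine case

`F : (Over S)ᵒᵖ ⥤ Type u` an étale sheaf (`IsEtSheaf`), `p : S' ⟶ S` étale surjective quasi-compact, `A'` quasi-affine over
`S'` representing the restriction of `F` to `Over S'`.  Then `F` is representable.
-/

universe u

open CategoryTheory CategoryTheory.Limits AlgebraicGeometry Opposite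

namespace Groth.Agent.Sga3B.RepDescent

/-- The étale sheaf condition for a presheaf on `Over S`, for small families. -/
def IsEtSheaf {S : Scheme.{u}} (F : (Over S)ᵒᵖ ⥤ Type u) : Prop :=
  ∀ {T : Over S} {ι : Type u} (T' : ι → Over S) (f : ∀ i, T' i ⟶ T), (∀ i, Etale (f i).left) →
    (∀ t : T.left, ∃ (i : ι) (t' : (T' i).left), (f i).left t' = t) →
    ∀ x : ∀ i, F.obj (op (T' i)),
      (∀ (i j : ι) (R : Over S) (a : R ⟶ T' i) (b : R ⟶ T' j), a ≫ f i = b ≫ f j →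
        F.map a.op (x i) = F.map b.op (x j)) →
      ∃! y : F.obj (op T), ∀ i, F.map (f i).op y = x i

section single

variable {S : Scheme.{u}} {F : (Over S)ᵒᵖ ⥤ Type u} (hF : IsEtSheaf F)

include hF in
theorem IsEtSheaf.existsUnique {T T' : Over S} (f : T' ⟶ T) [Etale f.left] [Surjective f.left] (x : F.obj (op T'))
    (hx : ∀ (R : Over S) (a b : R ⟶ T'), a ≫ f = b ≫ f → F.map a.op x = F.map b.op x) :
    ∃! y : F.obj (op T), F.map f.op y = x := by
  obtain ⟨y, hy, hy'⟩ := hF (T := T) (ι := PUnit.{u+1}) (fun _ => T') (fun _ => f) (fun _ => inferInstance)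
    (fun t => ⟨PUnit.unit, f.left.surjective t⟩) (fun _ => x) (fun _ _ R a b h => hx R a b h)
  exact ⟨y, hy PUnit.unit, fun z hz => hy' z fun _ => hz⟩

include hF in
theorem IsEtSheaf.injective {T T' : Over S} (f : T' ⟶ T) [Etale f.left] [Surjective f.left] :
    Function.Injective (F.map f.op) := by
  intro y z h
  obtain ⟨w, hw, hw'⟩ := hF.existsUnique f (F.map f.op y) (fun R a b hab => by
    rw [← Functor.map_comp_apply, ← Functor.map_comp_apply, ← op_comp, ← op_comp, hab])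
  rw [hw' y rfl, hw' z h.symm]

end single

section points

variable {S S' : Scheme.{u}} (p : S' ⟶ S) (F : (Over S)ᵒᵖ ⥤ Type u)
  (A' : Over S') (r : ((Over.map p).op ⋙ F).RepresentableBy A')

/-- comparison morphism between `t` and the pushed forward point -/
noncomputable def cmp (t : Over S) (x₀ : t.left ⟶ S') (h : x₀ ≫ p = t.hom) :
    t ≅ (Over.map p).obj (Over.mk x₀) :=
  Over.isoMk (Iso.refl _) (by simp [h])

variable {p F A'}

/-- `T`-points of `A'` over `x₀` are sections of `F` over `T`. -/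
noncomputable def ptEquiv (t : Over S) (x₀ : t.left ⟶ S') (h : x₀ ≫ p = t.hom) :
    Desc.Lifts A' x₀ ≃ F.obj (op t) where
  toFun v := F.map (cmp p t x₀ h).hom.op (r.homEquiv (Over.homMk v.1 v.2 : Over.mk x₀ ⟶ A'))
  invFun y := ⟨(r.homEquiv.symm (F.map (cmp p t x₀ h).inv.op y) : Over.mk x₀ ⟶ A').left,
    Over.w (r.homEquiv.symm (F.map (cmp p t x₀ h).inv.op y) : Over.mk x₀ ⟶ A')⟩
  left_inv v := by
    apply Subtype.ext
    dsimp only
    rw [← Functor.map_comp_apply, ← op_comp, Iso.inv_hom_id, op_id, Functor.map_id_apply,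
      Equiv.symm_apply_apply]
    rfl
  right_inv y := by
    dsimp only
    have : (Over.homMk (r.homEquiv.symm (F.map (cmp p t x₀ h).inv.op y) : Over.mk x₀ ⟶ A').left
        (Over.w (r.homEquiv.symm (F.map (cmp p t x₀ h).inv.op y) : Over.mk x₀ ⟶ A')) : Over.mk x₀ ⟶ A') =
        r.homEquiv.symm (F.map (cmp p t x₀ h).inv.op y) := by
      ext; rfl
    rw [this, Equiv.apply_symm_apply, ← Functor.map_comp_apply, ← op_comp, Iso.hom_inv_id, op_id,
      Functor.map_id_apply]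

theorem ptEquiv_naturality {t t' : Over S} (g : t' ⟶ t) (x₀ : t.left ⟶ S') (h : x₀ ≫ p = t.hom)
    (v : Desc.Lifts A' x₀) (x₀' : t'.left ⟶ S') (h' : x₀' ≫ p = t'.hom) (hx : x₀' = g.left ≫ x₀)
    (v' : Desc.Lifts A' x₀') (hv : v'.1 = g.left ≫ v.1) :
    ptEquiv r t' x₀' h' v' = F.map g.op (ptEquiv r t x₀ h v) := by
  subst hx
  dsimp only [ptEquiv, Equiv.coe_fn_mk]
  have e1 : (Over.homMk v'.1 v'.2 : Over.mk (g.left ≫ x₀) ⟶ A') =
      (Over.homMk g.left rfl : Over.mk (g.left ≫ x₀) ⟶ Over.mk x₀) ≫ (Over.homMk v.1 v.2 : Over.mk x₀ ⟶ A') := by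
    ext; simp [hv]
  rw [e1, r.homEquiv_comp]
  change F.map _ (F.map _ _) = _
  rw [← Functor.map_comp_apply, ← Functor.map_comp_apply]
  congr 2

attribute [irreducible] ptEquiv

/-- The transition bijections on points of `A'`. -/
noncomputable def tr {T : Scheme.{u}} (x₀ x₁ : T ⟶ S') (h : x₀ ≫ p = x₁ ≫ p) :
    Desc.Lifts A' x₀ ≃ Desc.Lifts A' x₁ :=
  (ptEquiv r (Over.mk (x₁ ≫ p)) x₀ h).trans (ptEquiv r (Over.mk (x₁ ≫ p)) x₁ rfl).symm

theorem tr_eq_iff (t : Over S) (x₀ x₁ : t.left ⟶ S') (h₀ : x₀ ≫ p = t.hom) (h₁ : x₁ ≫ p = t.hom)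
    (h : x₀ ≫ p = x₁ ≫ p) (v₀ : Desc.Lifts A' x₀) (v₁ : Desc.Lifts A' x₁) :
    tr r x₀ x₁ h v₀ = v₁ ↔ ptEquiv r t x₀ h₀ v₀ = ptEquiv r t x₁ h₁ v₁ := by
  have e0 : ptEquiv r t x₀ h₀ v₀ = F.map (cmp p t x₁ h₁).hom.op (ptEquiv r (Over.mk (x₁ ≫ p)) x₀ h v₀) :=
    ptEquiv_naturality r (t := Over.mk (x₁ ≫ p)) (t' := t) (cmp p t x₁ h₁).hom x₀ h v₀ x₀ h₀ (by simp [cmp]) v₀
      (by simp [cmp])
  have e1 : ptEquiv r t x₁ h₁ v₁ = F.map (cmp p t x₁ h₁).hom.op (ptEquiv r (Over.mk (x₁ ≫ p)) x₁ rfl v₁) :=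
    ptEquiv_naturality r (t := Over.mk (x₁ ≫ p)) (t' := t) (cmp p t x₁ h₁).hom x₁ rfl v₁ x₁ h₁ (by simp [cmp]) v₁
      (by simp [cmp])
  rw [e0, e1, tr, Equiv.trans_apply, Equiv.symm_apply_eq]
  constructor
  · intro h; rw [h]
  · intro h
    have := congrArg (F.map (cmp p t x₁ h₁).inv.op) h
    rwa [← Functor.map_comp_apply, ← Functor.map_comp_apply, ← op_comp, Iso.inv_hom_id, op_id,
      Functor.map_id_apply, Functor.map_id_apply] at this

attribute [irreducible] tr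

theorem tr_natural {T T' : Scheme.{u}} (g : T' ⟶ T) (x₀ x₁ : T ⟶ S') (h : x₀ ≫ p = x₁ ≫ p)
    (h' : (g ≫ x₀) ≫ p = (g ≫ x₁) ≫ p) (v : Desc.Lifts A' x₀) (v' : Desc.Lifts A' (g ≫ x₀)) (hv : v'.1 = g ≫ v.1) :
    (tr r (g ≫ x₀) (g ≫ x₁) h' v').1 = g ≫ (tr r x₀ x₁ h v).1 := by
  have key : tr r (g ≫ x₀) (g ≫ x₁) h' v' =
      ⟨g ≫ (tr r x₀ x₁ h v).1, (Category.assoc _ _ _).trans (congrArg (g ≫ ·) (tr r x₀ x₁ h v).2)⟩ := by
    rw [tr_eq_iff r (Over.mk ((g ≫ x₁) ≫ p)) _ _ h' rfl]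
    have a0 : ptEquiv r (Over.mk ((g ≫ x₁) ≫ p)) (g ≫ x₀) h' v' =
        F.map (Over.homMk g (by simp) : Over.mk ((g ≫ x₁) ≫ p) ⟶ Over.mk (x₁ ≫ p)).op
          (ptEquiv r (Over.mk (x₁ ≫ p)) x₀ h v) :=
      ptEquiv_naturality r (t := Over.mk (x₁ ≫ p)) (t' := Over.mk ((g ≫ x₁) ≫ p)) (Over.homMk g (by simp)) x₀ h v
        (g ≫ x₀) h' rfl v' hv
    have a1 : ptEquiv r (Over.mk ((g ≫ x₁) ≫ p)) (g ≫ x₁) rfl
          ⟨g ≫ (tr r x₀ x₁ h v).1, (Category.assoc _ _ _).trans (congrArg (g ≫ ·) (tr r x₀ x₁ h v).2)⟩ =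
        F.map (Over.homMk g (by simp) : Over.mk ((g ≫ x₁) ≫ p) ⟶ Over.mk (x₁ ≫ p)).op
          (ptEquiv r (Over.mk (x₁ ≫ p)) x₁ rfl (tr r x₀ x₁ h v)) :=
      ptEquiv_naturality r (t := Over.mk (x₁ ≫ p)) (t' := Over.mk ((g ≫ x₁) ≫ p)) (Over.homMk g (by simp)) x₁ rfl _
        (g ≫ x₁) rfl rfl _ rfl
    exact a0.trans ((congrArg _ ((tr_eq_iff r (Over.mk (x₁ ≫ p)) x₀ x₁ h rfl h v _).1 rfl)).trans a1.symm)
  rw [key]

theorem tr_self {T : Scheme.{u}} (x : T ⟶ S') (v : Desc.Lifts A' x) : tr r x x rfl v = v :=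
  (tr_eq_iff r (Over.mk (x ≫ p)) x x rfl rfl rfl v v).2 rfl

theorem tr_comp {T : Scheme.{u}} (x₀ x₁ x₂ : T ⟶ S') (h₀₁ : x₀ ≫ p = x₁ ≫ p) (h₁₂ : x₁ ≫ p = x₂ ≫ p)
    (v : Desc.Lifts A' x₀) : tr r x₁ x₂ h₁₂ (tr r x₀ x₁ h₀₁ v) = tr r x₀ x₂ (h₀₁.trans h₁₂) v := by
  rw [tr_eq_iff r (Over.mk (x₂ ≫ p)) x₁ x₂ h₁₂ rfl]
  have h1 := (tr_eq_iff r (Over.mk (x₂ ≫ p)) x₀ x₂ (h₀₁.trans h₁₂) rfl (h₀₁.trans h₁₂) v _).1 rfl
  have h2 := (tr_eq_iff r (Over.mk (x₂ ≫ p)) x₀ x₁ (h₀₁.trans h₁₂) h₁₂ h₀₁ v _).1 rfl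
  rw [← h1, ← h2]

/-- The descent datum defined by `F` on `A'`. -/
noncomputable def ddOf : Desc.SchDD p where
  obj := A'
  φ _ x₀ x₁ h := tr r x₀ x₁ h
  φ_natural _ _ g x₀ x₁ h h' v v' hv := tr_natural r g x₀ x₁ h h' v v' hv
  φ_self _ x v := tr_self r x v
  φ_comp _ x₀ x₁ x₂ h₀₁ h₁₂ v := tr_comp r x₀ x₁ x₂ h₀₁ h₁₂ v

/-- `F`-sections over `W ×_S S'`. -/
noncomputable abbrev tW (p : S' ⟶ S) (W : Over S) : Over S := Over.mk (pullback.snd p W.hom ≫ W.hom)

/-- the projection `W ×_S S' ⟶ W` -/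
noncomputable abbrev πW (p : S' ⟶ S) (W : Over S) : tW p W ⟶ W := Over.homMk (pullback.snd p W.hom)

instance (p : S' ⟶ S) (W : Over S) [Etale p] : Etale (πW p W).left :=
  inferInstanceAs (Etale (pullback.snd p W.hom))

instance (p : S' ⟶ S) (W : Over S) [Surjective p] : Surjective (πW p W).left :=
  inferInstanceAs (Surjective (pullback.snd p W.hom))

section iso

variable (W : Over S) (e : (Desc.toDD p).obj W ≅ ddOf r)

/-- the isomorphism on underlying schemes -/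
noncomputable def jhom : pullback p W.hom ⟶ A'.left := e.hom.hom.left

/-- its inverse -/
noncomputable def jinv : A'.left ⟶ pullback p W.hom := e.inv.hom.left

theorem jhom_hom : jhom r W e ≫ A'.hom = pullback.fst p W.hom := Over.w e.hom.hom

theorem jinv_fst : jinv r W e ≫ pullback.fst p W.hom = A'.hom := Over.w e.inv.hom

theorem jhom_jinv : jhom r W e ≫ jinv r W e = 𝟙 _ := by
  have := congrArg (fun f => (Desc.SchDD.Hom.hom f).left) e.hom_inv_id
  exact this

theorem jinv_jhom : jinv r W e ≫ jhom r W e = 𝟙 _ := by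
  have := congrArg (fun f => (Desc.SchDD.Hom.hom f).left) e.inv_hom_id
  exact this

/-- the universal section over `W ×_S S'` -/
noncomputable def wuniv' : F.obj (op (tW p W)) :=
  ptEquiv r (tW p W) (pullback.fst p W.hom) pullback.condition ⟨jhom r W e, jhom_hom r W e⟩

theorem tr_jhom {R : Scheme.{u}} (a b : R ⟶ pullback p W.hom) (h : a ≫ pullback.snd p W.hom = b ≫ pullback.snd p W.hom)
    (hab : (a ≫ pullback.fst p W.hom) ≫ p = (b ≫ pullback.fst p W.hom) ≫ p) :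
    tr r (a ≫ pullback.fst p W.hom) (b ≫ pullback.fst p W.hom) hab
      ⟨a ≫ jhom r W e, by rw [Category.assoc, jhom_hom]⟩ = ⟨b ≫ jhom r W e, by rw [Category.assoc, jhom_hom]⟩ := by
  apply Subtype.ext
  have := e.hom.comm (a ≫ pullback.fst p W.hom) (b ≫ pullback.fst p W.hom) hab ⟨a, rfl⟩
    ⟨a ≫ jhom r W e, by change (_ ≫ _) ≫ A'.hom = _; rw [Category.assoc, jhom_hom]⟩ rfl
  refine this.trans ?_
  change (Desc.canMap p W _ _ hab _).1 ≫ jhom r W e = b ≫ jhom r W e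
  congr 1
  rw [Desc.canMap_val]
  apply pullback.hom_ext
  · exact pullback.lift_fst _ _ _
  · exact (pullback.lift_snd _ _ _).trans h

theorem tr_jinv {R : Scheme.{u}} (a b : R ⟶ A'.left) (x₀ x₁ : R ⟶ S') (ha : a ≫ A'.hom = x₀) (hb : b ≫ A'.hom = x₁)
    (hab : x₀ ≫ p = x₁ ≫ p) (h : tr r x₀ x₁ hab ⟨a, ha⟩ = ⟨b, hb⟩) :
    a ≫ jinv r W e ≫ pullback.snd p W.hom = b ≫ jinv r W e ≫ pullback.snd p W.hom := by
  have := e.inv.comm x₀ x₁ hab ⟨a, ha⟩
    ⟨a ≫ jinv r W e, by change (_ ≫ _) ≫ pullback.fst p W.hom = _; rw [Category.assoc, jinv_fst, ha]⟩ rfl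
  change (Desc.canMap p W _ _ hab _).1 = (tr r x₀ x₁ hab ⟨a, ha⟩).1 ≫ jinv r W e at this
  rw [h, Desc.canMap_val] at this
  have h2 := congrArg (· ≫ pullback.snd p W.hom) this
  dsimp only at h2
  rw [← Category.assoc, ← Category.assoc]
  exact (pullback.lift_snd _ _ _).symm.trans h2

theorem map_wuniv' (R : Over S) (a : R ⟶ tW p W) (h : (a.left ≫ pullback.fst p W.hom) ≫ p = R.hom)
    (h' : (a.left ≫ jhom r W e) ≫ A'.hom = a.left ≫ pullback.fst p W.hom) :
    F.map a.op (wuniv' r W e) = ptEquiv r R (a.left ≫ pullback.fst p W.hom) h ⟨a.left ≫ jhom r W e, h'⟩ :=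
  (ptEquiv_naturality r (t := tW p W) (t' := R) a (pullback.fst p W.hom) pullback.condition
    ⟨jhom r W e, jhom_hom r W e⟩ _ h rfl ⟨a.left ≫ jhom r W e, h'⟩ rfl).symm

theorem map_wuniv'_eq (R : Over S) (a b : R ⟶ tW p W) (h : a ≫ πW p W = b ≫ πW p W) :
    F.map a.op (wuniv' r W e) = F.map b.op (wuniv' r W e) := by
  have h1 : a.left ≫ pullback.snd p W.hom = b.left ≫ pullback.snd p W.hom := congrArg (·.left) h
  have ha : (a.left ≫ pullback.fst p W.hom) ≫ p = R.hom := by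
    rw [Category.assoc, pullback.condition]; exact Over.w a
  have hb : (b.left ≫ pullback.fst p W.hom) ≫ p = R.hom := by
    rw [Category.assoc, pullback.condition]; exact Over.w b
  have ha' : (a.left ≫ jhom r W e) ≫ A'.hom = a.left ≫ pullback.fst p W.hom := by rw [Category.assoc, jhom_hom]
  have hb' : (b.left ≫ jhom r W e) ≫ A'.hom = b.left ≫ pullback.fst p W.hom := by rw [Category.assoc, jhom_hom]
  rw [map_wuniv' r W e R a ha ha', map_wuniv' r W e R b hb hb']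
  exact (tr_eq_iff r R _ _ ha hb (ha.trans hb.symm) _ _).1 (tr_jhom r W e a.left b.left h1 (ha.trans hb.symm))

include r e in
theorem representableBy_aux [Etale p] [Surjective p] (hF : IsEtSheaf F) : Nonempty (F.RepresentableBy W) := by
  obtain ⟨w, hw, -⟩ := hF.existsUnique (πW p W) (wuniv' r W e) (map_wuniv'_eq r W e)
  have hjm : Mono (jhom r W e) := by
    have := jhom_jinv r W e
    exact (SplitMono.mk (jinv r W e) this).mono
  -- computation of the pulled back section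
  have key : ∀ (R : Over S) (m : R ⟶ W) (x₀ : R.left ⟶ S') (h : x₀ ≫ p = R.hom) (n : R.left ⟶ pullback p W.hom)
      (hn1 : n ≫ pullback.fst p W.hom = x₀) (hn2 : n ≫ pullback.snd p W.hom = m.left)
      (h' : (n ≫ jhom r W e) ≫ A'.hom = x₀), F.map m.op w = ptEquiv r R x₀ h ⟨n ≫ jhom r W e, h'⟩ := by
    intro R m x₀ h n hn1 hn2 h'
    subst hn1
    let n' : R ⟶ tW p W := Over.homMk n (by
      change n ≫ pullback.snd p W.hom ≫ W.hom = R.hom
      rw [← Category.assoc, hn2]; exact Over.w m)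
    have e1 : m = n' ≫ πW p W := by
      ext
      change m.left = n ≫ pullback.snd p W.hom
      rw [hn2]
    rw [e1, op_comp, Functor.map_comp_apply, hw]
    exact map_wuniv' r W e R n' h h'
  refine ⟨⟨fun {T} => Equiv.ofBijective (fun m => F.map m.op w) ⟨?_, ?_⟩, ?_⟩⟩
  · intro m₁ m₂ h
    dsimp only at h
    have hc : ∀ m : T ⟶ W, pullback.fst p T.hom ≫ p = (pullback.snd p T.hom ≫ m.left) ≫ W.hom := by
      intro m
      rw [Category.assoc, Over.w m, pullback.condition]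
    have h' := congrArg (F.map (πW p T).op) h
    rw [← Functor.map_comp_apply, ← Functor.map_comp_apply, ← op_comp, ← op_comp] at h'
    have hfst : pullback.fst p T.hom ≫ p = (tW p T).hom := pullback.condition
    have hl : ∀ m : T ⟶ W, (pullback.lift _ _ (hc m) ≫ jhom r W e) ≫ A'.hom = pullback.fst p T.hom := by
      intro m
      rw [Category.assoc, jhom_hom, pullback.lift_fst]
    rw [key (tW p T) (πW p T ≫ m₁) (pullback.fst p T.hom) hfst (pullback.lift _ _ (hc m₁)) (pullback.lift_fst _ _ _)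
        (pullback.lift_snd _ _ _) (hl m₁),
      key (tW p T) (πW p T ≫ m₂) (pullback.fst p T.hom) hfst (pullback.lift _ _ (hc m₂)) (pullback.lift_fst _ _ _)
        (pullback.lift_snd _ _ _) (hl m₂)] at h'
    have h2 := congrArg Subtype.val ((ptEquiv r (tW p T) (pullback.fst p T.hom) hfst).injective h')
    rw [cancel_mono] at h2
    have h3 := congrArg (· ≫ pullback.snd p W.hom) h2
    rw [pullback.lift_snd, pullback.lift_snd] at h3
    ext
    exact (cancel_epi (pullback.snd p T.hom)).1 h3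
  · intro y
    have hfst : pullback.fst p T.hom ≫ p = (tW p T).hom := pullback.condition
    obtain ⟨v, hv⟩ := (ptEquiv r (tW p T) (pullback.fst p T.hom) hfst).surjective (F.map (πW p T).op y)
    have hdesc : ∀ {Z : Scheme.{u}} (a b : Z ⟶ pullback p T.hom), a ≫ pullback.snd p T.hom = b ≫ pullback.snd p T.hom →
        a ≫ v.1 ≫ jinv r W e ≫ pullback.snd p W.hom = b ≫ v.1 ≫ jinv r W e ≫ pullback.snd p W.hom := by
      intro Z a b hab
      have h1 : (a ≫ pullback.fst p T.hom) ≫ p = (b ≫ pullback.snd p T.hom) ≫ T.hom := by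
        rw [Category.assoc, pullback.condition, ← Category.assoc, hab]
      have h2 : (b ≫ pullback.fst p T.hom) ≫ p = (b ≫ pullback.snd p T.hom) ≫ T.hom := by
        rw [Category.assoc, pullback.condition, ← Category.assoc]
      let R : Over S := Over.mk ((b ≫ pullback.snd p T.hom) ≫ T.hom)
      let a' : R ⟶ tW p T := Over.homMk a (by
        change a ≫ pullback.snd p T.hom ≫ T.hom = (b ≫ pullback.snd p T.hom) ≫ T.hom
        rw [← Category.assoc, hab])
      let b' : R ⟶ tW p T := Over.homMk b (by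
        change b ≫ pullback.snd p T.hom ≫ T.hom = (b ≫ pullback.snd p T.hom) ≫ T.hom
        rw [← Category.assoc])
      have hab' : a' ≫ πW p T = b' ≫ πW p T := by ext; exact hab
      have hv1 : (a ≫ v.1) ≫ A'.hom = a ≫ pullback.fst p T.hom :=
        (Category.assoc _ _ _).trans (congrArg (a ≫ ·) v.2)
      have hv2 : (b ≫ v.1) ≫ A'.hom = b ≫ pullback.fst p T.hom :=
        (Category.assoc _ _ _).trans (congrArg (b ≫ ·) v.2)
      have ea : ptEquiv r R (a ≫ pullback.fst p T.hom) h1 ⟨a ≫ v.1, hv1⟩ =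
          F.map a'.op (ptEquiv r (tW p T) (pullback.fst p T.hom) hfst v) :=
        ptEquiv_naturality r (t := tW p T) (t' := R) a' _ hfst v _ h1 rfl ⟨a ≫ v.1, hv1⟩ rfl
      have eb : ptEquiv r R (b ≫ pullback.fst p T.hom) h2 ⟨b ≫ v.1, hv2⟩ =
          F.map b'.op (ptEquiv r (tW p T) (pullback.fst p T.hom) hfst v) :=
        ptEquiv_naturality r (t := tW p T) (t' := R) b' _ hfst v _ h2 rfl ⟨b ≫ v.1, hv2⟩ rfl
      have eab : ptEquiv r R (a ≫ pullback.fst p T.hom) h1 ⟨a ≫ v.1, hv1⟩ =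
          ptEquiv r R (b ≫ pullback.fst p T.hom) h2 ⟨b ≫ v.1, hv2⟩ := by
        rw [ea, eb, hv, ← Functor.map_comp_apply, ← Functor.map_comp_apply, ← op_comp, ← op_comp, hab']
      have htr := (tr_eq_iff r R _ _ h1 h2 (h1.trans h2.symm) _ _).2 eab
      have := tr_jinv r W e (a ≫ v.1) (b ≫ v.1) _ _ hv1 hv2 (h1.trans h2.symm) htr
      simpa only [Category.assoc] using this
    let m : T.left ⟶ W.left := EffectiveEpi.desc (pullback.snd p T.hom)
      (v.1 ≫ jinv r W e ≫ pullback.snd p W.hom) hdesc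
    have hm : pullback.snd p T.hom ≫ m = v.1 ≫ jinv r W e ≫ pullback.snd p W.hom :=
      EffectiveEpi.fac _ _ _
    have hvA : v.1 ≫ A'.hom = pullback.fst p T.hom := v.2
    have hmW : m ≫ W.hom = T.hom := by
      rw [← cancel_epi (pullback.snd p T.hom), ← Category.assoc, hm, Category.assoc, Category.assoc,
        ← pullback.condition, ← Category.assoc (jinv r W e), jinv_fst, ← Category.assoc, hvA, pullback.condition]
    refine ⟨Over.homMk m hmW, ?_⟩
    apply hF.injective (πW p T)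
    dsimp only
    rw [← Functor.map_comp_apply, ← op_comp]
    have hvA' : ((v.1 ≫ jinv r W e) ≫ jhom r W e) ≫ A'.hom = pullback.fst p T.hom := by
      rw [Category.assoc v.1, jinv_jhom, Category.comp_id, hvA]
    rw [key (tW p T) (πW p T ≫ Over.homMk m hmW) (pullback.fst p T.hom) hfst (v.1 ≫ jinv r W e)
      (by rw [Category.assoc, jinv_fst, hvA]) (by
        change _ = pullback.snd p T.hom ≫ m
        rw [hm, Category.assoc]) hvA', ← hv]
    congr 1
    apply Subtype.ext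
    dsimp only
    rw [Category.assoc, jinv_jhom, Category.comp_id]
  · intro X X' f g
    exact (by simp : F.map (f ≫ g).op w = F.map f.op (F.map g.op w))

end iso

/-- Étale descent of representability, quasi-affine case. -/
theorem exists_representableBy_of_isQuasiAffine [Etale p] [Surjective p] [QuasiCompact p] (hF : IsEtSheaf F)
    (r : ((Over.map p).op ⋙ F).RepresentableBy A') (hA : Mor2.IsQuasiAffine A'.hom) :
    ∃ W : Over S, Nonempty (F.RepresentableBy W) := by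
  obtain ⟨W, ⟨e⟩⟩ := Groth.Agent.S1134.result p (ddOf r) hA
  exact ⟨W, representableBy_aux r W e hF⟩

end points

end Groth.Agent.Sga3B.RepDescent
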