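import Groth.Agent.Sga3B.RepDescent

/-!
# Étale descent of representability, part 2: stable opens and saturations
-/

universe u

open CategoryTheory CategoryTheory.Limits AlgebraicGeometry Opposite

namespace Groth.Agent.Sga3B.RepDescent

variable {S S' : Scheme.{u}} {p : S' ⟶ S} {F : (Over S)ᵒᵖ ⥤ Type u}
  {A' : Over S'} (r : ((Over.map p).op ⋙ F).RepresentableBy A')

/-- The point of `A'` over `x` defined by a section of `F`. -/
noncomputable def pt (t : Over S) (x : t.left ⟶ S') (hx : x ≫ p = t.hom) (y : F.obj (op t)) : t.left ⟶ A'.left :=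
  ((ptEquiv r t x hx).symm y).1

theorem pt_hom (t : Over S) (x : t.left ⟶ S') (hx : x ≫ p = t.hom) (y : F.obj (op t)) :
    pt r t x hx y ≫ A'.hom = x := ((ptEquiv r t x hx).symm y).2

theorem ptEquiv_pt (t : Over S) (x : t.left ⟶ S') (hx : x ≫ p = t.hom) (y : F.obj (op t)) :
    ptEquiv r t x hx ⟨pt r t x hx y, pt_hom r t x hx y⟩ = y := (ptEquiv r t x hx).apply_symm_apply y

theorem pt_ptEquiv (t : Over S) (x : t.left ⟶ S') (hx : x ≫ p = t.hom) (v : Desc.Lifts A' x) :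
    pt r t x hx (ptEquiv r t x hx v) = v.1 := congrArg Subtype.val ((ptEquiv r t x hx).symm_apply_apply v)

theorem pt_injective (t : Over S) (x : t.left ⟶ S') (hx : x ≫ p = t.hom) {y y' : F.obj (op t)}
    (h : pt r t x hx y = pt r t x hx y') : y = y' :=
  (ptEquiv r t x hx).symm.injective (Subtype.ext h)

theorem pt_map {t t' : Over S} (g : t' ⟶ t) (x : t.left ⟶ S') (hx : x ≫ p = t.hom) (y : F.obj (op t))
    (x' : t'.left ⟶ S') (hx' : x' ≫ p = t'.hom) (h : x' = g.left ≫ x) :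
    pt r t' x' hx' (F.map g.op y) = g.left ≫ pt r t x hx y := by
  have hv' : (g.left ≫ pt r t x hx y) ≫ A'.hom = x' := by rw [Category.assoc, pt_hom, h]
  have := ptEquiv_naturality r g x hx ⟨pt r t x hx y, pt_hom r t x hx y⟩ x' hx' h
    ⟨g.left ≫ pt r t x hx y, hv'⟩ rfl
  rw [ptEquiv_pt] at this
  rw [← this, pt_ptEquiv]

/-- A section of `F` "lies in `U`". -/
def InU (U : A'.left.Opens) (t : Over S) (y : F.obj (op t)) : Prop :=
  ∀ (R : Over S) (g : R ⟶ t) (x : R.left ⟶ S') (hx : x ≫ p = R.hom),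
    Set.range (pt r R x hx (F.map g.op y)) ⊆ (U : Set A'.left)

theorem InU.map {U : A'.left.Opens} {t : Over S} {y : F.obj (op t)} (h : InU r U t y) {t' : Over S} (g : t' ⟶ t) :
    InU r U t' (F.map g.op y) := by
  intro R g' x hx
  rw [← Functor.map_comp_apply, ← op_comp]
  exact h R (g' ≫ g) x hx

/-- The subfunctor of sections lying in `U`. -/
noncomputable def FU (U : A'.left.Opens) : (Over S)ᵒᵖ ⥤ Type u where
  obj t := {y : F.obj t // InU r U t.unop y}
  map g := ↾fun y => ⟨F.map g y.1, y.2.map r g.unop⟩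
  map_id t := ConcreteCategory.hom_ext _ _ fun y => Subtype.ext (Functor.map_id_apply F t y.1)
  map_comp f g := ConcreteCategory.hom_ext _ _ fun y => Subtype.ext (Functor.map_comp_apply F f g y.1)

theorem FU_map_val (U : A'.left.Opens) {t t' : (Over S)ᵒᵖ} (g : t ⟶ t') (y : (FU r U).obj t) :
    ((FU r U).map g y).1 = F.map g y.1 := rfl

theorem isEtSheaf_FU (hF : IsEtSheaf F) (U : A'.left.Opens) : IsEtSheaf (FU r U) := by
  intro T ι T' f hf hT x hx
  obtain ⟨y, hy, hy'⟩ := hF T' f hf hT (fun i => (x i).1) (fun i j R a b hab =>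
    congrArg Subtype.val (hx i j R a b hab))
  refine ⟨⟨y, ?_⟩, fun i => Subtype.ext (hy i), fun z hz => Subtype.ext (hy' z.1 fun i => congrArg Subtype.val (hz i))⟩
  rintro R g z hz _ ⟨ρ, rfl⟩
  obtain ⟨i, t', ht'⟩ := hT (g.left ρ)
  obtain ⟨ξ, hξ1, hξ2⟩ := Scheme.Pullback.exists_preimage_pullback (f := g.left) (g := (f i).left) ρ t' ht'.symm
  let R' : Over S := Over.mk (pullback.fst g.left (f i).left ≫ R.hom)
  let a : R' ⟶ R := Over.homMk (pullback.fst g.left (f i).left)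
  let b : R' ⟶ T' i := Over.homMk (pullback.snd g.left (f i).left) (by
    change pullback.snd g.left (f i).left ≫ (T' i).hom = pullback.fst g.left (f i).left ≫ R.hom
    rw [← Over.w g, ← Over.w (f i), ← Category.assoc, ← Category.assoc, pullback.condition])
  have hab : a ≫ g = b ≫ f i := by ext; exact pullback.condition
  have hz' : (a.left ≫ z) ≫ p = R'.hom := by rw [Category.assoc, hz]; rfl
  have h1 : pt r R' (a.left ≫ z) hz' (F.map b.op (x i).1) = a.left ≫ pt r R z hz (F.map g.op y) := by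
    rw [← pt_map r a z hz (F.map g.op y) _ hz' rfl, ← hy i, ← Functor.map_comp_apply, ← Functor.map_comp_apply,
      ← op_comp, ← op_comp, hab]
  have h2 := (x i).2 R' b (a.left ≫ z) hz' ⟨ξ, rfl⟩
  rw [h1] at h2
  have h3 : (a.left ≫ pt r R z hz (F.map g.op y)) ξ = pt r R z hz (F.map g.op y) ρ := by
    rw [Scheme.Hom.comp_apply]
    congr 1
  rw [h3] at h2
  exact h2

/-- An open of `A'` is stable under the transition maps. -/
def IsStable (U : A'.left.Opens) : Prop :=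
  ∀ ⦃T : Scheme.{u}⦄ (x₀ x₁ : T ⟶ S') (h : x₀ ≫ p = x₁ ≫ p) (v : Desc.Lifts A' x₀),
    Set.range v.1 ⊆ (U : Set A'.left) → Set.range (tr r x₀ x₁ h v).1 ⊆ (U : Set A'.left)

theorem IsStable.inU {U : A'.left.Opens} (hU : IsStable r U) (t : Over S) (x : t.left ⟶ S') (hx : x ≫ p = t.hom)
    (y : F.obj (op t)) (h : Set.range (pt r t x hx y) ⊆ (U : Set A'.left)) : InU r U t y := by
  intro R g x' hx'
  have hx2 : (g.left ≫ x) ≫ p = R.hom := by rw [Category.assoc, hx]; exact Over.w g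
  have h1 : Set.range (pt r R (g.left ≫ x) hx2 (F.map g.op y)) ⊆ (U : Set A'.left) := by
    rw [pt_map r g x hx y _ hx2 rfl]
    rintro _ ⟨ρ, rfl⟩
    rw [Scheme.Hom.comp_apply]
    exact h ⟨_, rfl⟩
  have h2 := hU (g.left ≫ x) x' (hx2.trans hx'.symm) ⟨_, pt_hom r R (g.left ≫ x) hx2 (F.map g.op y)⟩ h1
  have h3 : tr r (g.left ≫ x) x' (hx2.trans hx'.symm) ⟨_, pt_hom r R (g.left ≫ x) hx2 (F.map g.op y)⟩ =
      ⟨_, pt_hom r R x' hx' (F.map g.op y)⟩ := by
    rw [tr_eq_iff r R _ _ hx2 hx', ptEquiv_pt, ptEquiv_pt]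
  rw [h3] at h2
  exact h2

/-- A point of `A'` with image in `U`, as a point of `U`. -/
noncomputable def liftU {X T : Scheme.{u}} (U : X.Opens) (v : T ⟶ X) (h : Set.range v ⊆ (U : Set X)) : T ⟶ U :=
  IsOpenImmersion.lift U.ι v (by rw [Scheme.Opens.range_ι]; exact h)

@[reassoc (attr := simp)]
theorem liftU_ι {X T : Scheme.{u}} (U : X.Opens) (v : T ⟶ X) (h : Set.range v ⊆ (U : Set X)) :
    liftU U v h ≫ U.ι = v := IsOpenImmersion.lift_fac _ _ _

theorem range_comp_ι_subset {T : Scheme.{u}} {X : Scheme.{u}} (U : X.Opens) (w : T ⟶ U) :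
    Set.range (w ≫ U.ι) ⊆ (U : Set X) := by
  rintro _ ⟨t, rfl⟩
  have : (w ≫ U.ι) t = U.ι (w t) := Scheme.Hom.comp_apply _ _ _
  rw [this]
  exact (w t).2

/-- The inclusion of an open, over `S'`. -/
noncomputable abbrev ιU (U : A'.left.Opens) : Over.mk (U.ι ≫ A'.hom) ⟶ A' := Over.homMk U.ι

theorem ptEquiv_left (X : Over S') (w : X ⟶ A') :
    ptEquiv r ((Over.map p).obj X) X.hom rfl ⟨w.left, Over.w w⟩ = r.homEquiv w := by
  unfold ptEquiv
  dsimp only [Equiv.coe_fn_mk]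
  have h1 : (Over.homMk w.left (Over.w w) : Over.mk X.hom ⟶ A') =
      (Over.homMk (𝟙 _) (by simp) : Over.mk X.hom ⟶ X) ≫ w := by ext; simp
  rw [h1, r.homEquiv_comp]
  change F.map _ (F.map _ _) = _
  rw [← Functor.map_comp_apply]
  have h2 : ((Over.map p).map (Over.homMk (𝟙 _) (by simp) : Over.mk X.hom ⟶ X)).op ≫
      (cmp p ((Over.map p).obj X) X.hom rfl).hom.op = 𝟙 (op ((Over.map p).obj X)) := by
    rw [← op_comp, ← op_id]
    congr 1
  exact (congrArg (fun g => F.map g (r.homEquiv w)) h2).trans (Functor.map_id_apply F _ _)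

theorem pt_homEquiv (X : Over S') (w : X ⟶ A') :
    pt r ((Over.map p).obj X) X.hom rfl (r.homEquiv w) = w.left := by
  rw [← ptEquiv_left, pt_ptEquiv]

theorem range_pt_subset (U : A'.left.Opens) (X : Over S')
    (y : {y : F.obj (op ((Over.map p).obj X)) // InU r U ((Over.map p).obj X) y}) :
    Set.range (pt r ((Over.map p).obj X) X.hom rfl y.1) ⊆ (U : Set A'.left) := by
  have h1 := y.2 ((Over.map p).obj X) (𝟙 _) X.hom rfl
  rw [op_id, Functor.map_id_apply] at h1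
  exact h1

/-- The point of `U` attached to a section of `FU`. -/
noncomputable def invU (U : A'.left.Opens) (X : Over S')
    (y : {y : F.obj (op ((Over.map p).obj X)) // InU r U ((Over.map p).obj X) y}) :
    X ⟶ Over.mk (U.ι ≫ A'.hom) :=
  Over.homMk (liftU U (pt r ((Over.map p).obj X) X.hom rfl y.1) (range_pt_subset r U X y)) (by
      change _ ≫ U.ι ≫ A'.hom = X.hom
      rw [liftU_ι_assoc]
      exact pt_hom _ _ _ _ _)

theorem invU_ι (U : A'.left.Opens) (X : Over S')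
    (y : {y : F.obj (op ((Over.map p).obj X)) // InU r U ((Over.map p).obj X) y}) :
    invU r U X y ≫ ιU U = r.homEquiv.symm y.1 := by
  apply Over.OverMorphism.ext
  refine (liftU_ι U _ (range_pt_subset r U X y)).trans ?_
  rw [← pt_homEquiv r X, Equiv.apply_symm_apply]

instance (U : A'.left.Opens) : Mono (ιU U) :=
  (Over.forget S').mono_of_mono_map (inferInstanceAs (Mono U.ι))

/-- Points of `U` are sections of `FU`. -/
noncomputable def repFUEquiv (U : A'.left.Opens) (hU : IsStable r U) (X : Over S') :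
    (X ⟶ Over.mk (U.ι ≫ A'.hom)) ≃
      {y : F.obj (op ((Over.map p).obj X)) // InU r U ((Over.map p).obj X) y} where
  toFun v := ⟨r.homEquiv (v ≫ ιU U), hU.inU r ((Over.map p).obj X) X.hom rfl _ (by
    rw [pt_homEquiv]
    exact range_comp_ι_subset U v.left)⟩
  invFun y := invU r U X y
  left_inv v := by
    rw [← cancel_mono (ιU U), invU_ι, Equiv.symm_apply_apply]
  right_inv y := by
    apply Subtype.ext
    dsimp only
    rw [invU_ι, Equiv.apply_symm_apply]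

/-- `FU` restricted to `S'` is represented by `U`. -/
noncomputable def repFU (U : A'.left.Opens) (hU : IsStable r U) :
    ((Over.map p).op ⋙ FU r U).RepresentableBy (Over.mk (U.ι ≫ A'.hom)) where
  homEquiv {X} := repFUEquiv r U hU X
  homEquiv_comp f g := by
    apply Subtype.ext
    change r.homEquiv ((f ≫ g) ≫ ιU U) = F.map _ (r.homEquiv (g ≫ ιU U))
    rw [Category.assoc, r.homEquiv_comp]
    rfl

theorem tr_natural' {T T' : Scheme.{u}} (g : T' ⟶ T) (x₀ x₁ : T ⟶ S') (h : x₀ ≫ p = x₁ ≫ p) (x₀' x₁' : T' ⟶ S')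
    (h' : x₀' ≫ p = x₁' ≫ p) (hx₀ : x₀' = g ≫ x₀) (hx₁ : x₁' = g ≫ x₁)
    (v : Desc.Lifts A' x₀) (v' : Desc.Lifts A' x₀') (hv : v'.1 = g ≫ v.1) :
    (tr r x₀' x₁' h' v').1 = g ≫ (tr r x₀ x₁ h v).1 := by
  subst hx₀ hx₁
  exact tr_natural r g x₀ x₁ h h' v v' hv

section saturation

/-- The "groupoid" `A' ×_S S'`. -/
noncomputable abbrev RA (p : S' ⟶ S) (A' : Over S') : Scheme.{u} := pullback (A'.hom ≫ p) p

/-- the target map -/
noncomputable def tA : RA p A' ⟶ A'.left :=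
  (tr r (pullback.fst (A'.hom ≫ p) p ≫ A'.hom) (pullback.snd (A'.hom ≫ p) p)
    (by rw [Category.assoc, pullback.condition]) ⟨pullback.fst _ _, rfl⟩).1

theorem tA_hom : tA r ≫ A'.hom = pullback.snd (A'.hom ≫ p) p :=
  (tr r (pullback.fst (A'.hom ≫ p) p ≫ A'.hom) (pullback.snd (A'.hom ≫ p) p)
    (by rw [Category.assoc, pullback.condition]) ⟨pullback.fst _ _, rfl⟩).2

theorem lift_tA {T : Scheme.{u}} (a : T ⟶ A'.left) (x₀ x₁ : T ⟶ S') (h : x₀ ≫ p = x₁ ≫ p) (h' : a ≫ A'.hom = x₀)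
    (h'' : a ≫ A'.hom ≫ p = x₁ ≫ p) :
    pullback.lift a x₁ h'' ≫ tA r = (tr r x₀ x₁ h ⟨a, h'⟩).1 := by
  exact (tr_natural' r (pullback.lift a x₁ h'') (pullback.fst (A'.hom ≫ p) p ≫ A'.hom)
    (pullback.snd (A'.hom ≫ p) p) (by rw [Category.assoc, pullback.condition]) x₀ x₁ h
    (by rw [← Category.assoc, pullback.lift_fst, h']) (pullback.lift_snd _ _ _).symm
    ⟨pullback.fst _ _, rfl⟩ ⟨a, h'⟩ (pullback.lift_fst _ _ _).symm).symm

/-- the involution of the groupoid -/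
noncomputable def σA : RA p A' ⟶ RA p A' :=
  pullback.lift (tA r) (pullback.fst (A'.hom ≫ p) p ≫ A'.hom) (by
    rw [← Category.assoc, tA_hom, Category.assoc, pullback.condition])

theorem σA_fst : σA r ≫ pullback.fst (A'.hom ≫ p) p = tA r := pullback.lift_fst _ _ _

theorem σA_tA : σA r ≫ tA r = pullback.fst (A'.hom ≫ p) p := by
  have h0 : pullback.snd (A'.hom ≫ p) p ≫ p = (pullback.fst (A'.hom ≫ p) p ≫ A'.hom) ≫ p := by
    rw [Category.assoc, pullback.condition]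
  have h1 := lift_tA r (tA r) (pullback.snd (A'.hom ≫ p) p) (pullback.fst (A'.hom ≫ p) p ≫ A'.hom)
    h0 (tA_hom r) (by
    rw [← Category.assoc, tA_hom, Category.assoc, pullback.condition])
  refine h1.trans ?_
  have h2 : (⟨tA r, tA_hom r⟩ : Desc.Lifts A' (pullback.snd (A'.hom ≫ p) p)) =
      tr r (pullback.fst (A'.hom ≫ p) p ≫ A'.hom) (pullback.snd (A'.hom ≫ p) p) h0.symm ⟨pullback.fst _ _, rfl⟩ := rfl
  rw [h2, tr_comp, tr_self]

theorem σA_σA : σA r ≫ σA r = 𝟙 _ := by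
  apply pullback.hom_ext
  · rw [Category.assoc, σA_fst, σA_tA, Category.id_comp]
  · have : σA r ≫ pullback.snd (A'.hom ≫ p) p = pullback.fst (A'.hom ≫ p) p ≫ A'.hom := pullback.lift_snd _ _ _
    rw [Category.assoc, this, ← Category.assoc, σA_fst, tA_hom, Category.id_comp]

instance : IsIso (σA r) := ⟨σA r, σA_σA r, σA_σA r⟩

instance [Etale p] : Etale (tA r) := by
  rw [← σA_fst]
  infer_instance

/-- The saturation of an open. -/
noncomputable def sat [Etale p] (U : A'.left.Opens) : A'.left.Opens :=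
  ⟨tA r '' (pullback.fst (A'.hom ≫ p) p ⁻¹' (U : Set A'.left)),
    (tA r).isOpenMap _ ((pullback.fst (A'.hom ≫ p) p).continuous.isOpen_preimage _ U.2)⟩

theorem le_sat [Etale p] (U : A'.left.Opens) : U ≤ sat r U := by
  intro a ha
  have h1 : pullback.lift (𝟙 A'.left) A'.hom (by simp) ≫ tA r = 𝟙 _ := by
    rw [lift_tA r (𝟙 A'.left) A'.hom A'.hom rfl (Category.id_comp _)]
    rw [tr_self]
  refine ⟨(pullback.lift (𝟙 A'.left) A'.hom (by simp) : A'.left ⟶ RA p A') a, ?_, ?_⟩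
  · rw [Set.mem_preimage, ← Scheme.Hom.comp_apply, pullback.lift_fst]
    exact ha
  · rw [← Scheme.Hom.comp_apply, h1]
    rfl

theorem isCompact_sat [Etale p] [QuasiCompact p] (U : A'.left.Opens) (hU : IsCompact (U : Set A'.left)) :
    IsCompact (sat r U : Set A'.left) :=
  ((pullback.fst (A'.hom ≫ p) p).isCompact_preimage hU).image (tA r).continuous

theorem isStable_sat [Etale p] (U : A'.left.Opens) : IsStable r (sat r U) := by
  rintro T x₀ x₁ h v hv _ ⟨τ, rfl⟩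
  obtain ⟨ρ, hρ, hρ'⟩ := hv ⟨τ, rfl⟩
  obtain ⟨ξ, hξ1, hξ2⟩ := Scheme.Pullback.exists_preimage_pullback (f := v.1) (g := tA r) τ ρ hρ'.symm
  let s' := pullback.fst (A'.hom ≫ p) p
  let Ξ := pullback v.1 (tA r)
  let π₁ : Ξ ⟶ T := pullback.fst v.1 (tA r)
  let π₂ : Ξ ⟶ RA p A' := pullback.snd v.1 (tA r)
  -- the source point
  let a : Ξ ⟶ A'.left := π₂ ≫ s'
  have hc : π₁ ≫ v.1 = π₂ ≫ tA r := pullback.condition
  have e1 : (π₂ ≫ s') ≫ A'.hom ≫ p = (π₁ ≫ x₁) ≫ p := by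
    have h1 : (π₁ ≫ v.1) ≫ A'.hom = π₁ ≫ x₀ := (Category.assoc _ _ _).trans (congrArg (π₁ ≫ ·) v.2)
    rw [Category.assoc, show s' ≫ A'.hom ≫ p = pullback.snd (A'.hom ≫ p) p ≫ p from pullback.condition, ← tA_hom r,
      Category.assoc π₁, ← h, ← Category.assoc π₁, ← h1, hc]
    simp only [Category.assoc]
  have e2 : (a ≫ A'.hom) ≫ p = (π₁ ≫ x₁) ≫ p := by rw [Category.assoc]; exact e1
  have e3 : (π₁ ≫ x₀) ≫ p = (π₁ ≫ x₁) ≫ p := by rw [Category.assoc, Category.assoc, h]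
  have hv2 : (π₁ ≫ v.1) ≫ A'.hom = π₁ ≫ x₀ := (Category.assoc _ _ _).trans (congrArg (π₁ ≫ ·) v.2)
  have e4 : (a ≫ A'.hom) ≫ p = (π₁ ≫ x₀) ≫ p := e2.trans e3.symm
  -- `π₁ ≫ v` is the transport of `a`
  have e5 : tr r (a ≫ A'.hom) (π₁ ≫ x₀) e4 ⟨a, rfl⟩ = ⟨π₁ ≫ v.1, hv2⟩ := by
    apply Subtype.ext
    have h1 := lift_tA r a (a ≫ A'.hom) (π₁ ≫ x₀) e4 rfl (by rw [← Category.assoc]; exact e4)
    rw [← h1]
    change _ = π₁ ≫ v.1
    rw [hc]
    congr 1
    apply pullback.hom_ext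
    · rw [pullback.lift_fst]
    · rw [pullback.lift_snd, ← hv2, hc, Category.assoc, tA_hom]
  have e6 : (tr r (π₁ ≫ x₀) (π₁ ≫ x₁) e3 ⟨π₁ ≫ v.1, hv2⟩).1 = π₁ ≫ (tr r x₀ x₁ h v).1 :=
    tr_natural r π₁ x₀ x₁ h e3 v _ rfl
  have e7 : (pullback.lift a (π₁ ≫ x₁) e1 : Ξ ⟶ RA p A') ≫ tA r = π₁ ≫ (tr r x₀ x₁ h v).1 := by
    rw [lift_tA r a (a ≫ A'.hom) (π₁ ≫ x₁) e2 rfl e1, ← e6, ← e5, tr_comp]
  refine ⟨(pullback.lift a (π₁ ≫ x₁) e1 : Ξ ⟶ RA p A') ξ, ?_, ?_⟩
  · rw [Set.mem_preimage, ← Scheme.Hom.comp_apply, pullback.lift_fst]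
    change (π₂ ≫ s') ξ ∈ _
    rw [Scheme.Hom.comp_apply]
    change s' (pullback.snd v.1 (tA r) ξ) ∈ _
    rw [hξ2]
    exact hρ
  · rw [← Scheme.Hom.comp_apply, e7, Scheme.Hom.comp_apply]
    congr 1

end saturation

end Groth.Agent.Sga3B.RepDescent
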