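import Groth.Agent.Sga3B.RepDescent2

/-!
# Étale descent of representability, part 3: the local atlas
-/

universe u

open CategoryTheory CategoryTheory.Limits AlgebraicGeometry Opposite

namespace Groth.Agent.Sga3B.RepDescent

theorem isQuasiAffine_of_isAffine {X Y : Scheme.{u}} [IsAffine Y] [X.IsQuasiAffine] (f : X ⟶ Y) :
    Mor2.IsQuasiAffine f := by
  have hq : QuasiCompact f := by
    rw [quasiCompact_iff_compactSpace]
    infer_instance
  refine ⟨hq, fun V hV => ?_⟩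
  have : CompactSpace (f ⁻¹ᵁ V : Scheme.{u}) := isCompact_iff_compactSpace.1 (f.isCompact_preimage hV.isCompact)
  exact Scheme.IsQuasiAffine.of_isImmersion (f ⁻¹ᵁ V).ι

/-- An atlas of a presheaf on `Over S`: a jointly surjective family of open subfunctors which are representable. -/
structure Atlas {S : Scheme.{u}} (F : (Over S)ᵒᵖ ⥤ Type u) where
  /-- index type -/
  ι : Type u
  /-- charts -/
  W : ι → Over S
  /-- the universal sections -/
  w : ∀ i, F.obj (op (W i))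
  injective : ∀ (i : ι) (R : Over S), Function.Injective (fun m : R ⟶ W i => F.map m.op (w i))
  /-- the opens defined by a section -/
  opens : ∀ (T : Over S) (_ : F.obj (op T)) (_ : ι), T.left.Opens
  exists_iff : ∀ (T : Over S) (y : F.obj (op T)) (i : ι) (R : Over S) (g : R ⟶ T),
    (∃ m : R ⟶ W i, F.map m.op (w i) = F.map g.op y) ↔ Set.range g.left ⊆ (opens T y i : Set T.left)
  cover : ∀ (T : Over S) (y : F.obj (op T)) (τ : T.left), ∃ i, τ ∈ opens T y i

variable {S S' : Scheme.{u}} {p : S' ⟶ S} {F : (Over S)ᵒᵖ ⥤ Type u}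
  {A' : Over S'} (r : ((Over.map p).op ⋙ F).RepresentableBy A')

theorem IsStable.mem {U : A'.left.Opens} (hU : IsStable r U) {T : Scheme.{u}} (x₀ x₁ : T ⟶ S')
    (h : x₀ ≫ p = x₁ ≫ p) (v : Desc.Lifts A' x₀) (τ : T) (hτ : v.1 τ ∈ U) : (tr r x₀ x₁ h v).1 τ ∈ U := by
  let V : T.Opens := v.1 ⁻¹ᵁ U
  have hv : (V.ι ≫ v.1) ≫ A'.hom = V.ι ≫ x₀ := (Category.assoc _ _ _).trans (congrArg (V.ι ≫ ·) v.2)
  have h' : (V.ι ≫ x₀) ≫ p = (V.ι ≫ x₁) ≫ p := by rw [Category.assoc, Category.assoc, h]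
  have h1 := hU (V.ι ≫ x₀) (V.ι ≫ x₁) h' ⟨V.ι ≫ v.1, hv⟩ (by
    rintro _ ⟨a, rfl⟩
    rw [Scheme.Hom.comp_apply]
    exact a.2)
  rw [tr_natural r V.ι x₀ x₁ h h' v ⟨V.ι ≫ v.1, hv⟩ rfl] at h1
  have h2 := h1 ⟨(⟨τ, hτ⟩ : V), rfl⟩
  rw [Scheme.Hom.comp_apply] at h2
  exact h2

/-- the point of `A'` over `T ×_S S'` defined by a section over `T` -/
noncomputable def ptv (T : Over S) (y : F.obj (op T)) : pullback p T.hom ⟶ A'.left :=
  pt r (tW p T) (pullback.fst p T.hom) pullback.condition (F.map (πW p T).op y)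

theorem pt_eq_ptv (T : Over S) (y : F.obj (op T)) (R : Over S) (g : R ⟶ T) (x : R.left ⟶ S') (hx : x ≫ p = R.hom)
    (h : x ≫ p = g.left ≫ T.hom) :
    pt r R x hx (F.map g.op y) = pullback.lift x g.left h ≫ ptv r T y := by
  let κ : R ⟶ tW p T := Over.homMk (pullback.lift x g.left h) (by
    change _ ≫ pullback.snd p T.hom ≫ T.hom = _
    rw [← Category.assoc, pullback.lift_snd, ← h, hx])
  have hκ : κ ≫ πW p T = g := by
    ext
    exact pullback.lift_snd _ _ _
  have h1 : F.map g.op y = F.map κ.op (F.map (πW p T).op y) := by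
    rw [← Functor.map_comp_apply, ← op_comp, hκ]
  rw [h1]
  exact pt_map r κ (pullback.fst p T.hom) pullback.condition _ x hx (pullback.lift_fst _ _ _).symm

theorem ptv_mem_iff {U : A'.left.Opens} (hU : IsStable r U) (T : Over S) (y : F.obj (op T)) (τ₁ τ₂ : ↥(pullback p T.hom))
    (h : pullback.snd p T.hom τ₁ = pullback.snd p T.hom τ₂) (h₁ : ptv r T y τ₁ ∈ U) : ptv r T y τ₂ ∈ U := by
  obtain ⟨ξ, hξ1, hξ2⟩ := Scheme.Pullback.exists_preimage_pullback (f := pullback.snd p T.hom)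
    (g := pullback.snd p T.hom) τ₁ τ₂ h
  let q₁ := pullback.fst (pullback.snd p T.hom) (pullback.snd p T.hom)
  let q₂ := pullback.snd (pullback.snd p T.hom) (pullback.snd p T.hom)
  have hq : q₁ ≫ pullback.snd p T.hom = q₂ ≫ pullback.snd p T.hom := pullback.condition
  let R : Over S := Over.mk ((q₁ ≫ pullback.snd p T.hom) ≫ T.hom)
  let g : R ⟶ T := Over.homMk (q₁ ≫ pullback.snd p T.hom) rfl
  have hx₁ : (q₁ ≫ pullback.fst p T.hom) ≫ p = R.hom := by
    rw [Category.assoc, pullback.condition, ← Category.assoc]; rfl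
  have hx₂ : (q₂ ≫ pullback.fst p T.hom) ≫ p = R.hom := by
    rw [Category.assoc, pullback.condition, ← Category.assoc, ← hq]; rfl
  have e1 : pt r R (q₁ ≫ pullback.fst p T.hom) hx₁ (F.map g.op y) = q₁ ≫ ptv r T y := by
    rw [pt_eq_ptv r T y R g _ hx₁ hx₁]
    congr 1
    apply pullback.hom_ext
    · exact pullback.lift_fst _ _ _
    · exact pullback.lift_snd _ _ _
  have e2 : pt r R (q₂ ≫ pullback.fst p T.hom) hx₂ (F.map g.op y) = q₂ ≫ ptv r T y := by
    rw [pt_eq_ptv r T y R g _ hx₂ hx₂]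
    congr 1
    apply pullback.hom_ext
    · exact pullback.lift_fst _ _ _
    · exact (pullback.lift_snd _ _ _).trans hq
  have h3 : tr r (q₁ ≫ pullback.fst p T.hom) (q₂ ≫ pullback.fst p T.hom) (hx₁.trans hx₂.symm)
      ⟨_, pt_hom r R _ hx₁ (F.map g.op y)⟩ = ⟨_, pt_hom r R _ hx₂ (F.map g.op y)⟩ := by
    rw [tr_eq_iff r R _ _ hx₁ hx₂, ptEquiv_pt, ptEquiv_pt]
  have h4 := hU.mem r (q₁ ≫ pullback.fst p T.hom) (q₂ ≫ pullback.fst p T.hom) (hx₁.trans hx₂.symm)
      ⟨_, pt_hom r R _ hx₁ (F.map g.op y)⟩ ξ (by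
    dsimp only
    rw [e1, Scheme.Hom.comp_apply]
    rw [hξ1]
    exact h₁)
  rw [h3] at h4
  dsimp only at h4
  rw [e2, Scheme.Hom.comp_apply] at h4
  change ptv r T y (q₂ ξ) ∈ U at h4
  rw [hξ2] at h4
  exact h4

/-- The open of `T` where a section lies in `U`. -/
noncomputable def opU [Etale p] (U : A'.left.Opens) (T : Over S) (y : F.obj (op T)) : T.left.Opens :=
  ⟨pullback.snd p T.hom '' (ptv r T y ⁻¹' (U : Set A'.left)),
    (pullback.snd p T.hom).isOpenMap _ ((ptv r T y).continuous.isOpen_preimage _ U.2)⟩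

theorem inU_iff [Etale p] [Surjective p] {U : A'.left.Opens} (hU : IsStable r U) (T : Over S) (y : F.obj (op T))
    (R : Over S) (g : R ⟶ T) : InU r U R (F.map g.op y) ↔ Set.range g.left ⊆ (opU r U T y : Set T.left) := by
  constructor
  · rintro h _ ⟨ρ, rfl⟩
    obtain ⟨ρ', hρ'⟩ := (pullback.snd p R.hom).surjective ρ
    have h1 := h (tW p R) (πW p R) (pullback.fst p R.hom) pullback.condition
    rw [← Functor.map_comp_apply, ← op_comp] at h1
    have hc : pullback.fst p R.hom ≫ p = (πW p R ≫ g).left ≫ T.hom := by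
      rw [Over.w (πW p R ≫ g)]
      exact pullback.condition
    rw [pt_eq_ptv r T y (tW p R) (πW p R ≫ g) (pullback.fst p R.hom) pullback.condition hc] at h1
    have h2 := h1 ⟨ρ', rfl⟩
    rw [Scheme.Hom.comp_apply] at h2
    refine ⟨_, h2, ?_⟩
    rw [← Scheme.Hom.comp_apply, pullback.lift_snd]
    change (pullback.snd p R.hom ≫ g.left) ρ' = _
    rw [Scheme.Hom.comp_apply, hρ']
  · intro h R' g' x hx
    rintro _ ⟨ρ, rfl⟩
    rw [← Functor.map_comp_apply, ← op_comp]
    have hc : x ≫ p = (g' ≫ g).left ≫ T.hom := by rw [Over.w (g' ≫ g), hx]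
    rw [pt_eq_ptv r T y R' (g' ≫ g) x hx hc, Scheme.Hom.comp_apply]
    obtain ⟨τ', h1, h2⟩ := h ⟨g'.left ρ, rfl⟩
    refine ptv_mem_iff r hU T y τ' _ ?_ h1
    rw [h2, ← Scheme.Hom.comp_apply (pullback.lift x (g' ≫ g).left hc), pullback.lift_snd]
    rfl

include r in
/-- The local atlas. -/
theorem exists_atlas [IsAffine S'] [Etale p] [Surjective p] [QuasiCompact p] (hF : IsEtSheaf F)
    (hA : ∀ U : A'.left.Opens, IsCompact (U : Set A'.left) → (U : Scheme.{u}).IsQuasiAffine) :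
    Nonempty (Atlas F) := by
  let ι : Type u := {U : A'.left.Opens // IsCompact (U : Set A'.left)}
  have h1 : ∀ i : ι, ∃ W : Over S, Nonempty ((FU r (sat r i.1)).RepresentableBy W) := by
    intro i
    have := hA (sat r i.1) (isCompact_sat r i.1 i.2)
    exact exists_representableBy_of_isQuasiAffine (isEtSheaf_FU r hF _) (repFU r _ (isStable_sat r i.1))
      (isQuasiAffine_of_isAffine ((sat r i.1).ι ≫ A'.hom))
  choose W hW using h1
  let ρ : ∀ i : ι, (FU r (sat r i.1)).RepresentableBy (W i) := fun i => (hW i).some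
  let w' : ∀ i : ι, (FU r (sat r i.1)).obj (op (W i)) := fun i => (ρ i).homEquiv (𝟙 (W i))
  have hw : ∀ (i : ι) (R : Over S) (m : R ⟶ W i), ((ρ i).homEquiv m).1 = F.map m.op (w' i).1 := by
    intro i R m
    have := (ρ i).homEquiv_eq m
    rw [this]
    rfl
  refine ⟨{ ι := ι, W := W, w := fun i => (w' i).1, injective := ?_, opens := fun T y i => opU r (sat r i.1) T y,
            exists_iff := ?_, cover := ?_ }⟩
  · intro i R m₁ m₂ h
    dsimp only at h
    rw [← hw, ← hw] at h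
    exact (ρ i).homEquiv.injective (Subtype.ext h)
  · intro T y i R g
    rw [← inU_iff r (isStable_sat r i.1) T y R g]
    constructor
    · rintro ⟨m, hm⟩
      rw [← hm, ← hw]
      exact ((ρ i).homEquiv m).2
    · intro h
      obtain ⟨m, hm⟩ := (ρ i).homEquiv.surjective ⟨F.map g.op y, h⟩
      refine ⟨m, ?_⟩
      rw [← hw, hm]
  · intro T y τ
    obtain ⟨τ', hτ'⟩ := (pullback.snd p T.hom).surjective τ
    obtain ⟨V, hV, hmem, -⟩ := exists_isAffineOpen_mem_and_subset (x := ptv r T y τ') (U := ⊤) trivial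
    exact ⟨⟨V, hV.isCompact⟩, τ', le_sat r V hmem, hτ'⟩

end Groth.Agent.Sga3B.RepDescent
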