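import Groth.Agent.Sga3B.RepDescent3
import Mathlib.AlgebraicGeometry.Sites.Representability

/-!
# Étale descent of representability, part 4: Zariski gluing
-/

universe u

open CategoryTheory CategoryTheory.Limits AlgebraicGeometry Opposite

namespace Groth.Agent.Sga3B.RepDescent

variable {S : Scheme.{u}}

/-- comparison of two equal structure morphisms -/
noncomputable def cst {T : Scheme.{u}} {t t' : T ⟶ S} (h : t = t') : Over.mk t ⟶ Over.mk t' :=
  Over.homMk (𝟙 T) (by simp [h])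

theorem sig_ext (F : (Over S)ᵒᵖ ⥤ Type u) {T : Scheme.{u}} {z z' : Σ t : T ⟶ S, F.obj (op (Over.mk t))}
    (h : z.1 = z'.1) (h2 : z.2 = F.map (cst h).op z'.2) : z = z' := by
  obtain ⟨t, y⟩ := z
  obtain ⟨t', y'⟩ := z'
  dsimp only at h
  subst h
  have : (cst (rfl : t = t)) = 𝟙 _ := by ext; rfl
  dsimp only at h2
  rw [this, op_id, Functor.map_id_apply] at h2
  rw [h2]

theorem sig_snd (F : (Over S)ᵒᵖ ⥤ Type u) {T : Scheme.{u}} {z z' : Σ t : T ⟶ S, F.obj (op (Over.mk t))}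
    (h : z = z') : z.2 = F.map (cst (congrArg Sigma.fst h)).op z'.2 := by
  subst h
  have : (cst (rfl : z.1 = z.1)) = 𝟙 _ := by ext; rfl
  rw [this, op_id, Functor.map_id_apply]

/-- The presheaf on all schemes attached to a presheaf on `Over S`. -/
noncomputable def tot (F : (Over S)ᵒᵖ ⥤ Type u) : Scheme.{u}ᵒᵖ ⥤ Type u where
  obj T := Σ t : T.unop ⟶ S, F.obj (op (Over.mk t))
  map {T T'} g := ↾fun z => ⟨g.unop ≫ z.1,
    F.map (Over.homMk g.unop rfl : Over.mk (g.unop ≫ z.1) ⟶ Over.mk z.1).op z.2⟩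
  map_id T := by
    refine ConcreteCategory.hom_ext _ _ fun z => ?_
    refine sig_ext F (Category.id_comp _) ?_
    change F.map _ z.2 = F.map _ z.2
    congr 2
  map_comp f g := by
    refine ConcreteCategory.hom_ext _ _ fun z => ?_
    refine sig_ext F (Category.assoc _ _ _) ?_
    change F.map _ z.2 = F.map _ (F.map _ (F.map _ z.2))
    rw [← Functor.map_comp_apply, ← Functor.map_comp_apply]
    congr 2

theorem tot_map (F : (Over S)ᵒᵖ ⥤ Type u) {T T' : Scheme.{u}} (g : T' ⟶ T) (z : Σ t : T ⟶ S, F.obj (op (Over.mk t))) :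
    (tot F).map g.op z = (⟨g ≫ z.1, F.map (Over.homMk g rfl : Over.mk (g ≫ z.1) ⟶ Over.mk z.1).op z.2⟩ :
      Σ t : T' ⟶ S, F.obj (op (Over.mk t))) := rfl

theorem isSheaf_tot {F : (Over S)ᵒᵖ ⥤ Type u} (hF : IsEtSheaf F) :
    Presieve.IsSheaf Scheme.zariskiTopology (tot F) := by
  rw [Scheme.zariskiTopology, Scheme.grothendieckTopology,
    Precoverage.isSheaf_toGrothendieck_iff_of_isStableUnderBaseChange_of_small.{u}]
  intro T (𝒰 : Scheme.OpenCover.{u} T)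
  rw [Presieve.isSheafFor_arrows_iff]
  intro z hz
  -- glue the structure morphisms
  let zt : ∀ i, 𝒰.X i ⟶ S := fun i => (z i : Σ t : 𝒰.X i ⟶ S, F.obj (op (Over.mk t))).1
  let zy : ∀ i, F.obj (op (Over.mk (zt i))) := fun i => (z i : Σ t : 𝒰.X i ⟶ S, F.obj (op (Over.mk t))).2
  have hzi : ∀ i, z i = (⟨zt i, zy i⟩ : Σ t : 𝒰.X i ⟶ S, F.obj (op (Over.mk t))) := fun i => rfl
  obtain ⟨t, ht⟩ : ∃ t : T ⟶ S, ∀ i, 𝒰.f i ≫ t = zt i :=
    ⟨𝒰.glueMorphisms zt (fun i j => congrArg Sigma.fst (hz i j _ (pullback.fst _ _) (pullback.snd _ _)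
      pullback.condition)), fun i => 𝒰.ι_glueMorphisms _ _ _⟩
  obtain ⟨y, hy, hy'⟩ := hF (T := Over.mk t) (fun i => Over.mk (𝒰.f i ≫ t)) (fun i => Over.homMk (𝒰.f i) rfl)
    (fun i => by
      change Etale (𝒰.f i)
      infer_instance) (fun τ => by
      obtain ⟨i, x, hx⟩ := 𝒰.exists_eq τ
      exact ⟨i, x, hx⟩) (fun i => F.map (cst (ht i)).op (zy i)) (by
      intro i j R a b hab
      let al : R.left ⟶ 𝒰.X i := a.left
      let bl : R.left ⟶ 𝒰.X j := b.left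
      have h1 : al ≫ 𝒰.f i = bl ≫ 𝒰.f j := congrArg (·.left) hab
      have h2 := hz i j R.left al bl h1
      have h3 := sig_snd F
        (z := ⟨al ≫ zt i, F.map (Over.homMk al rfl : Over.mk (al ≫ zt i) ⟶ Over.mk (zt i)).op (zy i)⟩)
        (z' := ⟨bl ≫ zt j, F.map (Over.homMk bl rfl : Over.mk (bl ≫ zt j) ⟶ Over.mk (zt j)).op (zy j)⟩) h2
      dsimp only at h3
      have ha : al ≫ zt i = R.hom := by rw [← ht i]; exact Over.w a
      let c : R ⟶ Over.mk (al ≫ zt i) := Over.homMk (𝟙 _) (by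
        change 𝟙 _ ≫ (al ≫ zt i) = R.hom
        rw [Category.id_comp, ha])
      have h4 := congrArg (F.map c.op) h3
      rw [← Functor.map_comp_apply, ← Functor.map_comp_apply, ← Functor.map_comp_apply] at h4
      rw [← Functor.map_comp_apply, ← Functor.map_comp_apply]
      refine Eq.trans ?_ (h4.trans ?_)
      · congr 2
      · congr 2)
  refine ⟨(⟨t, y⟩ : Σ t : T ⟶ S, F.obj (op (Over.mk t))), ?_, ?_⟩
  · intro i
    exact sig_ext F (ht i) (hy i)
  · intro z' hz'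
    obtain ⟨t', y', rfl⟩ : ∃ (t' : T ⟶ S) (y' : F.obj (op (Over.mk t'))),
      z' = (⟨t', y'⟩ : Σ t : T ⟶ S, F.obj (op (Over.mk t))) := ⟨z'.1, z'.2, rfl⟩
    have h1 : t' = t := 𝒰.hom_ext _ _ fun i => by
      rw [ht i]
      exact congrArg Sigma.fst (hz' i)
    subst h1
    have h2 : y' = y := hy' y' fun i => sig_snd F (hz' i)
    rw [h2]

section atlas

variable {F : (Over S)ᵒᵖ ⥤ Type u} (a : Atlas F)

/-- The morphism to the total presheaf attached to a section. -/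
noncomputable def ofSec {X : Scheme.{u}} (t : X ⟶ S) (y : F.obj (op (Over.mk t))) : yoneda.obj X ⟶ tot F :=
  yonedaEquiv.symm (⟨t, y⟩ : Σ t : X ⟶ S, F.obj (op (Over.mk t)))

theorem ofSec_app {X : Scheme.{u}} (t : X ⟶ S) (y : F.obj (op (Over.mk t))) (T : Scheme.{u}) (m : T ⟶ X) :
    (ofSec t y).app (op T) m =
      (⟨m ≫ t, F.map (Over.homMk m rfl : Over.mk (m ≫ t) ⟶ Over.mk t).op y⟩ :
        Σ t : T ⟶ S, F.obj (op (Over.mk t))) := by
  rw [ofSec, yonedaEquiv_symm_app_apply]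
  rfl

theorem exists_ofSec {X : Scheme.{u}} (g : yoneda.obj X ⟶ tot F) :
    ∃ (t : X ⟶ S) (y : F.obj (op (Over.mk t))), g = ofSec t y := by
  refine ⟨(yonedaEquiv g : Σ t : X ⟶ S, F.obj (op (Over.mk t))).1,
    (yonedaEquiv g : Σ t : X ⟶ S, F.obj (op (Over.mk t))).2, ?_⟩
  rw [ofSec]
  exact (yonedaEquiv.symm_apply_apply g).symm

theorem ofSec_isOpenImmersion (i : a.ι) : IsOpenImmersion.presheaf (ofSec (a.W i).hom (a.w i)) := by
  refine MorphismProperty.relative.of_exists fun T g => ?_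
  obtain ⟨t, y, rfl⟩ := exists_ofSec g
  let O : T.Opens := a.opens (Over.mk t) y i
  let gι : Over.mk (O.ι ≫ t) ⟶ Over.mk t := Over.homMk O.ι rfl
  obtain ⟨m, hm⟩ := (a.exists_iff (Over.mk t) y i (Over.mk (O.ι ≫ t)) gι).2 (by
    change Set.range O.ι ⊆ _
    rw [Scheme.Opens.range_ι])
  refine ⟨O, yoneda.map m.left, O.ι, ?_, inferInstanceAs (IsOpenImmersion O.ι)⟩
  refine IsPullback.of_forall_isPullback_app fun R' => ?_
  obtain ⟨R', rfl⟩ : ∃ R, R' = op R := ⟨R'.unop, rfl⟩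
  rw [Types.isPullback_iff]
  have hmW : m.left ≫ (a.W i).hom = O.ι ≫ t := Over.w m
  refine ⟨?_, ?_, ?_⟩
  · refine ConcreteCategory.hom_ext _ _ fun (k : R' ⟶ O) => ?_
    change (ofSec (a.W i).hom (a.w i)).app (op R') (k ≫ m.left) = (ofSec t y).app (op R') (k ≫ O.ι)
    rw [ofSec_app, ofSec_app]
    have h1 : (k ≫ m.left) ≫ (a.W i).hom = (k ≫ O.ι) ≫ t := by rw [Category.assoc, hmW, Category.assoc]
    refine sig_ext F h1 ?_
    change F.map _ (a.w i) = F.map _ (F.map _ y)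
    have h2 : (Over.homMk (k ≫ m.left) rfl : Over.mk ((k ≫ m.left) ≫ (a.W i).hom) ⟶ Over.mk (a.W i).hom) =
        cst h1 ≫ (Over.homMk k (by simp) : Over.mk ((k ≫ O.ι) ≫ t) ⟶ Over.mk (O.ι ≫ t)) ≫ m := by
      ext
      simp [cst]
    have h3 : (Over.homMk (k ≫ O.ι) rfl : Over.mk ((k ≫ O.ι) ≫ t) ⟶ Over.mk t) =
        (Over.homMk k (by simp) : Over.mk ((k ≫ O.ι) ≫ t) ⟶ Over.mk (O.ι ≫ t)) ≫ gι := by
      ext
      simp [gι]
    rw [h2, h3, op_comp, op_comp, op_comp, Functor.map_comp_apply, Functor.map_comp_apply, Functor.map_comp_apply, hm]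
  · rintro (k₁ : R' ⟶ O) (k₂ : R' ⟶ O) ⟨-, h⟩
    change k₁ ≫ O.ι = k₂ ≫ O.ι at h
    exact (cancel_mono O.ι).1 h
  · intro (x₂ : R' ⟶ (a.W i).left) (x₃ : R' ⟶ T) h
    rw [ofSec_app, ofSec_app] at h
    have h1 : x₂ ≫ (a.W i).hom = x₃ ≫ t := congrArg Sigma.fst h
    have h2 := sig_snd F h
    dsimp only at h2
    let mm : Over.mk (x₃ ≫ t) ⟶ a.W i := Over.homMk x₂ h1
    let gg : Over.mk (x₃ ≫ t) ⟶ Over.mk t := Over.homMk x₃ rfl
    have h3 : F.map mm.op (a.w i) = F.map gg.op y := by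
      have h4 := congrArg (F.map (cst h1.symm).op) h2
      rw [← Functor.map_comp_apply, ← Functor.map_comp_apply, ← Functor.map_comp_apply] at h4
      refine Eq.trans ?_ (h4.trans ?_)
      · congr 2
      · congr 2
    have h5 := (a.exists_iff (Over.mk t) y i (Over.mk (x₃ ≫ t)) gg).1 ⟨mm, h3⟩
    let k : R' ⟶ O := liftU O x₃ h5
    have hk : k ≫ O.ι = x₃ := liftU_ι O x₃ h5
    refine ⟨k, ?_, hk⟩
    change k ≫ m.left = x₂
    let kk : Over.mk (x₃ ≫ t) ⟶ Over.mk (O.ι ≫ t) := Over.homMk k (by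
      change k ≫ O.ι ≫ t = x₃ ≫ t
      rw [← Category.assoc, hk])
    have h6 : kk ≫ gι = gg := by
      ext
      exact hk
    have h7 : kk ≫ m = mm := by
      apply a.injective i
      dsimp only
      rw [op_comp, Functor.map_comp_apply, hm, h3, ← Functor.map_comp_apply, ← op_comp, h6]
    exact congrArg (·.left) h7

theorem isLocallySurjective_desc :
    Presheaf.IsLocallySurjective Scheme.zariskiTopology (Sigma.desc (fun i => ofSec (a.W i).hom (a.w i))) := by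
  refine ⟨fun {T} z => ?_⟩
  obtain ⟨t, y, rfl⟩ : ∃ (t : T ⟶ S) (y : F.obj (op (Over.mk t))),
    z = (⟨t, y⟩ : Σ t : T ⟶ S, F.obj (op (Over.mk t))) := ⟨z.1, z.2, rfl⟩
  let 𝒰 : T.OpenCover := Scheme.openCoverOfIsOpenCover T (fun i => a.opens (Over.mk t) y i)
    (by
      rw [TopologicalSpace.IsOpenCover, eq_top_iff]
      intro τ _
      obtain ⟨i, hi⟩ := a.cover (Over.mk t) y τ
      exact TopologicalSpace.Opens.mem_iSup.2 ⟨i, hi⟩)
  refine GrothendieckTopology.superset_covering _ ?_ 𝒰.mem_grothendieckTopology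
  rintro R' _ ⟨_, b, _, ⟨i⟩, rfl⟩
  let O : T.Opens := a.opens (Over.mk t) y i
  let b' : R' ⟶ O := b
  let gι : Over.mk (O.ι ≫ t) ⟶ Over.mk t := Over.homMk O.ι rfl
  obtain ⟨m, hm⟩ := (a.exists_iff (Over.mk t) y i (Over.mk (O.ι ≫ t)) gι).2 (by
    change Set.range O.ι ⊆ _
    rw [Scheme.Opens.range_ι])
  have hmW : m.left ≫ (a.W i).hom = O.ι ≫ t := Over.w m
  refine ⟨(Sigma.ι (fun i => yoneda.obj (a.W i).left) i).app (op R') (b' ≫ m.left), ?_⟩
  have e1 : (Sigma.desc (fun i => ofSec (a.W i).hom (a.w i))).app (op R')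
      ((Sigma.ι (fun i => yoneda.obj (a.W i).left) i).app (op R') (b' ≫ m.left)) =
      (ofSec (a.W i).hom (a.w i)).app (op R') (b' ≫ m.left) := by
    rw [← NatTrans.comp_app_apply, Sigma.ι_desc]
  refine e1.trans ?_
  rw [ofSec_app]
  change _ = (⟨(b' ≫ O.ι) ≫ t, F.map (Over.homMk (b' ≫ O.ι) rfl : Over.mk ((b' ≫ O.ι) ≫ t) ⟶ Over.mk t).op y⟩ :
    Σ t : R' ⟶ S, F.obj (op (Over.mk t)))
  have h1 : (b' ≫ m.left) ≫ (a.W i).hom = (b' ≫ O.ι) ≫ t := by rw [Category.assoc, hmW, Category.assoc]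
  refine sig_ext F h1 ?_
  change F.map _ (a.w i) = F.map _ (F.map _ y)
  have h2 : (Over.homMk (b' ≫ m.left) rfl : Over.mk ((b' ≫ m.left) ≫ (a.W i).hom) ⟶ Over.mk (a.W i).hom) =
      cst h1 ≫ (Over.homMk b' (by simp) : Over.mk ((b' ≫ O.ι) ≫ t) ⟶ Over.mk (O.ι ≫ t)) ≫ m := by
    ext
    simp [cst]
  have h3 : (Over.homMk (b' ≫ O.ι) rfl : Over.mk ((b' ≫ O.ι) ≫ t) ⟶ Over.mk t) =
      (Over.homMk b' (by simp) : Over.mk ((b' ≫ O.ι) ≫ t) ⟶ Over.mk (O.ι ≫ t)) ≫ gι := by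
    ext
    simp [gι]
  rw [h2, h3, op_comp, op_comp, op_comp, Functor.map_comp_apply, Functor.map_comp_apply, Functor.map_comp_apply, hm]

include a in
/-- A Zariski-local atlas gives representability. -/
theorem exists_representableBy_of_atlas (hF : IsEtSheaf F) : ∃ A : Over S, Nonempty (F.RepresentableBy A) := by
  let G : Sheaf Scheme.zariskiTopology.{u} (Type u) := ⟨tot F, (isSheaf_iff_isSheaf_of_type _ _).2 (isSheaf_tot hF)⟩
  let f : (i : a.ι) → yoneda.obj (a.W i).left ⟶ G.1 := fun i => ofSec (a.W i).hom (a.w i)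
  have hf : ∀ i, IsOpenImmersion.presheaf (f i) := ofSec_isOpenImmersion a
  have : Presheaf.IsLocallySurjective Scheme.zariskiTopology (Sigma.desc f) := isLocallySurjective_desc a
  let ρ : (tot F).RepresentableBy _ := Scheme.LocalRepresentability.representableBy (F := G) (f := f) hf
  obtain ⟨t, y, hz⟩ : ∃ (t : _ ⟶ S) (y : F.obj (op (Over.mk t))),
    ρ.homEquiv (𝟙 _) = (⟨t, y⟩ : Σ t : _ ⟶ S, F.obj (op (Over.mk t))) :=
      ⟨(ρ.homEquiv (𝟙 _) : Σ t : _ ⟶ S, F.obj (op (Over.mk t))).1,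
        (ρ.homEquiv (𝟙 _) : Σ t : _ ⟶ S, F.obj (op (Over.mk t))).2, rfl⟩
  have hρ : ∀ {T : Scheme.{u}} (m : T ⟶ _), ρ.homEquiv m =
      (⟨m ≫ t, F.map (Over.homMk m rfl : Over.mk (m ≫ t) ⟶ Over.mk t).op y⟩ :
        Σ t : T ⟶ S, F.obj (op (Over.mk t))) := by
    intro T m
    rw [ρ.homEquiv_eq m, hz]
    rfl
  refine ⟨Over.mk t, ⟨⟨fun {T} => Equiv.ofBijective (fun m => F.map m.op y) ⟨?_, ?_⟩, ?_⟩⟩⟩
  · intro m₁ m₂ h
    dsimp only at h
    apply Over.OverMorphism.ext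
    apply ρ.homEquiv.injective
    rw [hρ, hρ]
    have e1 : m₁.left ≫ t = T.hom := Over.w m₁
    have e2 : m₂.left ≫ t = T.hom := Over.w m₂
    refine sig_ext F (e1.trans e2.symm) ?_
    let c : Over.mk (m₁.left ≫ t) ⟶ T := Over.homMk (𝟙 _) (by
      change 𝟙 _ ≫ T.hom = m₁.left ≫ t
      rw [Category.id_comp, e1])
    have h4 := congrArg (F.map c.op) h
    rw [← Functor.map_comp_apply, ← Functor.map_comp_apply] at h4
    rw [← Functor.map_comp_apply]
    refine Eq.trans ?_ (h4.trans ?_)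
    · congr 2
    · congr 2
  · intro y'
    obtain ⟨m, hm⟩ := ρ.homEquiv.surjective (⟨T.hom, y'⟩ : Σ t : T.left ⟶ S, F.obj (op (Over.mk t)))
    rw [hρ] at hm
    have h1 : m ≫ t = T.hom := congrArg Sigma.fst hm
    have h2 := sig_snd F hm
    dsimp only at h2
    refine ⟨Over.homMk m h1, ?_⟩
    dsimp only
    let c : T ⟶ Over.mk (m ≫ t) := Over.homMk (𝟙 _) (by
      change 𝟙 _ ≫ m ≫ t = T.hom
      rw [Category.id_comp, h1])
    have h4 := congrArg (F.map c.op) h2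
    rw [← Functor.map_comp_apply, ← Functor.map_comp_apply] at h4
    refine Eq.trans ?_ (h4.trans ?_)
    · congr 2
    · have : (cst (congrArg Sigma.fst hm)).op ≫ c.op = 𝟙 (op T) := by
        apply Quiver.Hom.unop_inj
        ext
        simp [cst, c]
      exact (congrArg (fun g => F.map g y') this).trans (Functor.map_id_apply F _ _)
  · intro X X' f g
    exact (by simp : F.map (f ≫ g).op y = F.map f.op (F.map g.op y))

end atlas

end Groth.Agent.Sga3B.RepDescent
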