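import Groth.Agent.Sga3B.RepDescent4

/-!
# Étale descent of representability, part 5: general étale covers
-/

universe u

open CategoryTheory CategoryTheory.Limits AlgebraicGeometry Opposite

namespace Groth.Agent.Sga3B.RepDescent

theorem isEtSheaf_restrict {S V : Scheme.{u}} {F : (Over S)ᵒᵖ ⥤ Type u} (hF : IsEtSheaf F) (v : V ⟶ S) :
    IsEtSheaf ((Over.map v).op ⋙ F) := by
  intro T ι T' f hf hT x hx
  obtain ⟨y, hy, hy'⟩ := hF (T := (Over.map v).obj T) (fun i => (Over.map v).obj (T' i))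
    (fun i => (Over.map v).map (f i)) hf hT x (by
      intro i j R a b hab
      have h1 : a.left ≫ (f i).left = b.left ≫ (f j).left := congrArg (·.left) hab
      have hb : b.left ≫ (T' j).hom = a.left ≫ (T' i).hom := by
        rw [← Over.w (f i), ← Over.w (f j), ← Category.assoc, ← Category.assoc, h1]
      let R' : Over V := Over.mk (a.left ≫ (T' i).hom)
      let a' : R' ⟶ T' i := Over.homMk a.left rfl
      let b' : R' ⟶ T' j := Over.homMk b.left hb
      have h2 : a' ≫ f i = b' ≫ f j := by ext; exact h1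
      have h3 := hx i j R' a' b' h2
      have ha : (a.left ≫ (T' i).hom) ≫ v = R.hom := by
        rw [Category.assoc]; exact Over.w a
      let c : R ⟶ (Over.map v).obj R' := Over.homMk (𝟙 _) (by
        change 𝟙 _ ≫ (a.left ≫ (T' i).hom) ≫ v = R.hom
        rw [Category.id_comp, ha])
      have h4 := congrArg (F.map c.op) h3
      change F.map c.op (F.map _ (x i)) = F.map c.op (F.map _ (x j)) at h4
      rw [← Functor.map_comp_apply, ← Functor.map_comp_apply] at h4
      refine Eq.trans ?_ (h4.trans ?_)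
      · congr 2
      · congr 2)
  exact ⟨y, hy, hy'⟩

section glue

variable {S : Scheme.{u}} {F : (Over S)ᵒᵖ ⥤ Type u} (V : S.Opens)

/-- restriction of an object over `S` to an open -/
noncomputable abbrev resO (T : Over S) : Over (V : Scheme.{u}) := Over.mk (T.hom ∣_ V)

/-- inclusion of the restriction -/
noncomputable def resι (T : Over S) : (Over.map V.ι).obj (resO V T) ⟶ T :=
  Over.homMk (T.hom ⁻¹ᵁ V).ι (morphismRestrict_ι T.hom V).symm

/-- a morphism over `S` to `T` landing in `V`, lifted -/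
theorem exists_lift_resO {T R : Over S} (g : R ⟶ T) (h : Set.range g.left ⊆ ((T.hom ⁻¹ᵁ V : T.left.Opens) : Set T.left)) :
    ∃ (R' : Over (V : Scheme.{u})) (e : R ≅ (Over.map V.ι).obj R') (g' : R' ⟶ resO V T),
      g = e.hom ≫ (Over.map V.ι).map g' ≫ resι V T := by
  let gl : R.left ⟶ (T.hom ⁻¹ᵁ V : T.left.Opens) := liftU (T.hom ⁻¹ᵁ V) g.left h
  have hgl : gl ≫ (T.hom ⁻¹ᵁ V).ι = g.left := liftU_ι _ _ _
  let R' : Over (V : Scheme.{u}) := Over.mk (gl ≫ (T.hom ∣_ V))
  have h1 : (gl ≫ (T.hom ∣_ V)) ≫ V.ι = R.hom := by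
    rw [Category.assoc, morphismRestrict_ι, ← Category.assoc, hgl]
    exact Over.w g
  refine ⟨R', Over.isoMk (Iso.refl _) (by
    change 𝟙 _ ≫ (gl ≫ (T.hom ∣_ V)) ≫ V.ι = R.hom
    rw [Category.id_comp, h1]), Over.homMk gl rfl, ?_⟩
  apply Over.OverMorphism.ext
  change g.left = 𝟙 _ ≫ gl ≫ (T.hom ⁻¹ᵁ V).ι
  rw [Category.id_comp, hgl]

theorem exists_lift_map {W : Over (V : Scheme.{u})} {R : Over S} (m : R ⟶ (Over.map V.ι).obj W) :
    ∃ (R' : Over (V : Scheme.{u})) (e : R ≅ (Over.map V.ι).obj R') (m' : R' ⟶ W),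
      m = e.hom ≫ (Over.map V.ι).map m' := by
  let ml : R.left ⟶ W.left := m.left
  let R' : Over (V : Scheme.{u}) := Over.mk (ml ≫ W.hom)
  have h1 : (ml ≫ W.hom) ≫ V.ι = R.hom := by rw [Category.assoc]; exact Over.w m
  refine ⟨R', Over.isoMk (Iso.refl _) (by
    change 𝟙 _ ≫ (ml ≫ W.hom) ≫ V.ι = R.hom
    rw [Category.id_comp, h1]), Over.homMk ml rfl, ?_⟩
  apply Over.OverMorphism.ext
  change m.left = 𝟙 _ ≫ ml
  rw [Category.id_comp]

theorem map_ι_faithful {R' W : Over (V : Scheme.{u})} (m : (Over.map V.ι).obj R' ⟶ (Over.map V.ι).obj W) :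
    ∃ m' : R' ⟶ W, m = (Over.map V.ι).map m' := by
  have h1 : m.left ≫ W.hom = R'.hom := by
    rw [← cancel_mono V.ι, Category.assoc]
    exact Over.w m
  exact ⟨Over.homMk m.left h1, by apply Over.OverMorphism.ext; rfl⟩

theorem resι_mem {R' : Over (V : Scheme.{u})} {T : Over S} (g : (Over.map V.ι).obj R' ⟶ T) :
    Set.range g.left ⊆ ((T.hom ⁻¹ᵁ V : T.left.Opens) : Set T.left) := by
  rintro _ ⟨ρ, rfl⟩
  have h : g.left ≫ T.hom = R'.hom ≫ V.ι := Over.w g
  change T.hom (g.left ρ) ∈ V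
  rw [← Scheme.Hom.comp_apply, h, Scheme.Hom.comp_apply]
  exact (R'.hom ρ).2

theorem exists_lift_resO' {T : Over S} {R' : Over (V : Scheme.{u})} (g : (Over.map V.ι).obj R' ⟶ T) :
    ∃ g' : R' ⟶ resO V T, g = (Over.map V.ι).map g' ≫ resι V T := by
  let gl : R'.left ⟶ (T.hom ⁻¹ᵁ V : T.left.Opens) := liftU (T.hom ⁻¹ᵁ V) g.left (resι_mem V g)
  have hgl : gl ≫ (T.hom ⁻¹ᵁ V).ι = g.left := liftU_ι _ _ _
  have h1 : gl ≫ (T.hom ∣_ V) = R'.hom := by
    rw [← cancel_mono V.ι, Category.assoc, morphismRestrict_ι, ← Category.assoc, hgl]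
    exact Over.w g
  exact ⟨Over.homMk gl h1, by apply Over.OverMorphism.ext; exact hgl.symm⟩

theorem range_iff {T R : Over S} {R' : Over (V : Scheme.{u})} (e : R ≅ (Over.map V.ι).obj R') (g' : R' ⟶ resO V T)
    (O : (resO V T).left.Opens) :
    Set.range (e.hom ≫ (Over.map V.ι).map g' ≫ resι V T).left ⊆ (((T.hom ⁻¹ᵁ V).ι ''ᵁ O : T.left.Opens) : Set T.left) ↔
      Set.range g'.left ⊆ (O : Set (resO V T).left) := by
  have hl : (e.hom ≫ (Over.map V.ι).map g' ≫ resι V T).left = e.hom.left ≫ g'.left ≫ (T.hom ⁻¹ᵁ V).ι := rfl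
  have he : e.inv.left ≫ e.hom.left = 𝟙 R'.left := congrArg (·.left) e.inv_hom_id
  constructor
  · rintro h _ ⟨ρ, rfl⟩
    have h1 := h ⟨e.inv.left ρ, rfl⟩
    rw [hl, Scheme.Hom.comp_apply, Scheme.Hom.comp_apply, ← Scheme.Hom.comp_apply e.inv.left, he] at h1
    obtain ⟨x, hx, hx'⟩ := h1
    have h2 := (T.hom ⁻¹ᵁ V).ι.isOpenEmbedding.injective hx'
    change x = g'.left ρ at h2
    rw [← h2]
    exact hx
  · rintro h _ ⟨ρ, rfl⟩
    rw [hl, Scheme.Hom.comp_apply, Scheme.Hom.comp_apply]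
    exact ⟨_, h ⟨_, rfl⟩, rfl⟩

/-- Gluing atlases over an open cover of the base. -/
noncomputable def Atlas.glue {J : Type u} (V : J → S.Opens) (hV : ∀ s : S, ∃ j, s ∈ V j)
    (a : ∀ j, Atlas ((Over.map (V j).ι).op ⋙ F)) : Atlas F where
  ι := Σ j, (a j).ι
  W i := (Over.map (V i.1).ι).obj ((a i.1).W i.2)
  w i := (a i.1).w i.2
  injective := by
    rintro ⟨j, i⟩ R m₁ m₂ h
    obtain ⟨R', e, m', rfl⟩ := exists_lift_map (V j) m₁
    obtain ⟨m'', hm''⟩ := map_ι_faithful (V j) (e.inv ≫ m₂)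
    have hm2 : m₂ = e.hom ≫ (Over.map (V j).ι).map m'' := by rw [← hm'', Iso.hom_inv_id_assoc]
    have h1 : F.map ((Over.map (V j).ι).map m').op ((a j).w i) = F.map ((Over.map (V j).ι).map m'').op ((a j).w i) := by
      have h2 := congrArg (F.map e.inv.op) h
      dsimp only at h2
      rw [hm2, ← Functor.map_comp_apply, ← Functor.map_comp_apply, ← op_comp, ← op_comp, Iso.inv_hom_id_assoc,
        Iso.inv_hom_id_assoc] at h2
      exact h2
    have h3 : m' = m'' := (a j).injective i R' h1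
    rw [hm2, h3]
  opens T y i := (T.hom ⁻¹ᵁ V i.1).ι ''ᵁ ((a i.1).opens (resO (V i.1) T) (F.map (resι (V i.1) T).op y) i.2)
  exists_iff := by
    rintro T y ⟨j, i⟩ R g
    dsimp only
    constructor
    · rintro ⟨m, hm⟩
      obtain ⟨R', e, m', rfl⟩ := exists_lift_map (V j) m
      obtain ⟨g', hg'⟩ := exists_lift_resO' (V j) (e.inv ≫ g)
      have hg : g = e.hom ≫ (Over.map (V j).ι).map g' ≫ resι (V j) T := by rw [← hg', Iso.hom_inv_id_assoc]
      subst hg
      rw [range_iff]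
      refine ((a j).exists_iff (resO (V j) T) (F.map (resι (V j) T).op y) i R' g').1 ⟨m', ?_⟩
      change F.map ((Over.map (V j).ι).map m').op ((a j).w i) =
        F.map ((Over.map (V j).ι).map g').op (F.map (resι (V j) T).op y)
      have h2 := congrArg (F.map e.inv.op) hm
      rw [← Functor.map_comp_apply, ← Functor.map_comp_apply, ← op_comp, ← op_comp, Iso.inv_hom_id_assoc,
        Iso.inv_hom_id_assoc, op_comp, Functor.map_comp_apply] at h2
      exact h2
    · intro h
      have h0 : Set.range g.left ⊆ ((T.hom ⁻¹ᵁ V j : T.left.Opens) : Set T.left) := by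
        refine h.trans ?_
        rw [Scheme.Hom.coe_image]
        rintro _ ⟨x, -, rfl⟩
        exact x.2
      obtain ⟨R', e, g', rfl⟩ := exists_lift_resO (V j) g h0
      rw [range_iff] at h
      obtain ⟨m', hm'⟩ := ((a j).exists_iff (resO (V j) T) (F.map (resι (V j) T).op y) i R' g').2 h
      change F.map ((Over.map (V j).ι).map m').op ((a j).w i) =
        F.map ((Over.map (V j).ι).map g').op (F.map (resι (V j) T).op y) at hm'
      refine ⟨e.hom ≫ (Over.map (V j).ι).map m', ?_⟩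
      rw [op_comp, Functor.map_comp_apply, hm', op_comp, op_comp, Functor.map_comp_apply, Functor.map_comp_apply]
  cover := by
    intro T y τ
    obtain ⟨j, hj⟩ := hV (T.hom τ)
    obtain ⟨i, hi⟩ := (a j).cover (resO (V j) T) (F.map (resι (V j) T).op y) ⟨τ, hj⟩
    exact ⟨⟨j, i⟩, ⟨τ, hj⟩, hi, rfl⟩

end glue

section restr

variable {S V B O : Scheme.{u}} {F : (Over S)ᵒᵖ ⥤ Type u} (v : V ⟶ S) (j : B ⟶ V) (q : B ⟶ O) (o : O ⟶ S)
  (hc : j ≫ v = q ≫ o) {A' : Over V} (r : ((Over.map v).op ⋙ F).RepresentableBy A')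

/-- comparison iso -/
noncomputable def cmp2 (T : Over B) : (Over.map o).obj ((Over.map q).obj T) ≅ (Over.map v).obj ((Over.map j).obj T) :=
  Over.isoMk (Iso.refl _) (by
    change 𝟙 _ ≫ (T.hom ≫ j) ≫ v = (T.hom ≫ q) ≫ o
    rw [Category.id_comp, Category.assoc, hc, Category.assoc])

/-- Base change of a representing object. -/
noncomputable def repRestrict :
    ((Over.map q).op ⋙ (Over.map o).op ⋙ F).RepresentableBy ((Over.pullback j).obj A') where
  homEquiv {T} := ((Over.mapPullbackAdj j).homEquiv T A').symm.trans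
    (r.homEquiv.trans (F.mapIso (cmp2 v j q o hc T).op).toEquiv)
  homEquiv_comp {T T'} f g := by
    change F.map _ (r.homEquiv (((Over.mapPullbackAdj j).homEquiv T A').symm (f ≫ g))) =
      F.map _ (F.map _ (r.homEquiv (((Over.mapPullbackAdj j).homEquiv T' A').symm g)))
    rw [Adjunction.homEquiv_naturality_left_symm, r.homEquiv_comp]
    change F.map _ (F.map _ _) = _
    rw [← Functor.map_comp_apply, ← Functor.map_comp_apply]
    congr 2

end restr

theorem isQuasiAffine_of_image {X Y : Scheme.{u}} (φ : X ⟶ Y) [IsOpenImmersion φ]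
    (h : ∀ U : Y.Opens, IsCompact (U : Set Y) → (U : Scheme.{u}).IsQuasiAffine) (U : X.Opens)
    (hU : IsCompact (U : Set X)) : (U : Scheme.{u}).IsQuasiAffine := by
  have h1 : IsCompact ((φ ''ᵁ U : Y.Opens) : Set Y) := by
    rw [Scheme.Hom.coe_image]
    exact hU.image φ.continuous
  have h2 := h _ h1
  have h3 : CompactSpace U := isCompact_iff_compactSpace.1 hU
  exact Scheme.IsQuasiAffine.of_isImmersion (φ.isoImage U).hom

/-- **Étale descent of representability.** -/
theorem exists_representableBy_of_etale {S : Scheme.{u}} {F : (Over S)ᵒᵖ ⥤ Type u} (hF : IsEtSheaf F)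
    (h : ∀ s : S, ∃ (V : Scheme.{u}) (v : V ⟶ S), Etale v ∧ s ∈ Set.range v ∧ ∃ (A' : Over V),
      Nonempty (((Over.map v).op ⋙ F).RepresentableBy A') ∧
      ∀ U : A'.left.Opens, IsCompact (U : Set A'.left) → (U : Scheme.{u}).IsQuasiAffine) :
    ∃ A : Over S, Nonempty (F.RepresentableBy A) := by
  have key : ∀ s : S, ∃ O : S.Opens, s ∈ O ∧ Nonempty (Atlas ((Over.map O.ι).op ⋙ F)) := by
    intro s
    obtain ⟨V, v, hv, ⟨b, rfl⟩, A', ⟨r⟩, hA⟩ := h s
    obtain ⟨V₀, hV₀, hsV₀, -⟩ := exists_isAffineOpen_mem_and_subset (x := v b) (U := ⊤) trivial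
    obtain ⟨B, hB, hbB, hBV⟩ := exists_isAffineOpen_mem_and_subset (x := b) (U := v ⁻¹ᵁ V₀) hsV₀
    let O : S.Opens := ⟨v '' (B : Set V), v.isOpenMap _ B.2⟩
    have hO : Set.range (B.ι ≫ v) ⊆ (O : Set S) := by
      rintro _ ⟨x, rfl⟩
      rw [Scheme.Hom.comp_apply]
      exact ⟨x.1, x.2, rfl⟩
    let q : (B : Scheme.{u}) ⟶ O := liftU O (B.ι ≫ v) hO
    have hq : q ≫ O.ι = B.ι ≫ v := liftU_ι _ _ _
    have hOV : O ≤ V₀ := by
      rintro _ ⟨x, hx, rfl⟩
      exact hBV hx
    have : IsAffine (B : Scheme.{u}) := hB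
    have : IsAffine (V₀ : Scheme.{u}) := hV₀
    have hsep : (O : Scheme.{u}).IsSeparated := by
      have h1 : IsSeparated (S.homOfLE hOV ≫ terminal.from _) := inferInstance
      have h2 : S.homOfLE hOV ≫ terminal.from _ = terminal.from _ := by ext
      rw [h2] at h1
      exact ⟨h1⟩
    have hqe : Etale q := by
      have h1 : Etale (q ≫ O.ι) := by rw [hq]; infer_instance
      exact Etale.of_comp q O.ι
    have hqs : Surjective q := ⟨by
      rintro ⟨_, x, hx, rfl⟩
      refine ⟨⟨x, hx⟩, ?_⟩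
      apply O.ι.isOpenEmbedding.injective
      rw [← Scheme.Hom.comp_apply, hq]
      rfl⟩
    have hqc : QuasiCompact q := by
      have h1 : QuasiCompact (q ≫ terminal.from _) := by
        have h2 : q ≫ terminal.from _ = terminal.from _ := by ext
        rw [h2]
        infer_instance
      exact QuasiCompact.of_comp q (terminal.from _)
    refine ⟨O, ⟨b, hbB, rfl⟩, ?_⟩
    exact exists_atlas (repRestrict v B.ι q O.ι hq.symm r) (isEtSheaf_restrict hF O.ι)
      (isQuasiAffine_of_image (pullback.fst A'.hom B.ι) hA)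
  choose O hO a using key
  exact exists_representableBy_of_atlas (Atlas.glue O (fun s => ⟨s, hO s⟩) (fun s => (a s).some)) hF

end Groth.Agent.Sga3B.RepDescent
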