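import Groth.Agent.Sga3B.RepDescent5
import Groth.Agent.Sga3B.IsoFam

/-!
# Étale descent of representability, part 6: functors of families of homomorphisms
-/

set_option autoImplicit false
universe u

open CategoryTheory CategoryTheory.Limits MonoidalCategory CartesianMonoidalCategory MonObj GrpObj AlgebraicGeometry
  Opposite

namespace Groth.Agent.Sga3B.RepDescent

/-- Étale families are effectively epimorphic. -/
theorem exists_glue {T X : Scheme.{u}} {J : Type u} (T' : J → Scheme.{u}) (f : ∀ i, T' i ⟶ T)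
    (hf : ∀ i, Etale (f i)) (hT : ∀ t : T, ∃ (i : J) (t' : T' i), f i t' = t) (x : ∀ i, T' i ⟶ X)
    (hx : ∀ (i j : J) (R : Scheme.{u}) (a : R ⟶ T' i) (b : R ⟶ T' j), a ≫ f i = b ≫ f j → a ≫ x i = b ≫ x j) :
    ∃! y : T ⟶ X, ∀ i, f i ≫ y = x i := by
  have h1 : Presieve.ofArrows T' f ∈ Scheme.fppfPrecoverage T := by
    rw [Scheme.fppfPrecoverage, Scheme.ofArrows_mem_precoverage_iff]
    refine ⟨fun t => ?_, fun i => ?_⟩
    · obtain ⟨i, t', h⟩ := hT t
      exact ⟨i, t', h⟩
    · have := hf i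
      exact ⟨inferInstance, inferInstance⟩
  have h2 : Presieve.IsSheafFor (yoneda.obj X) (Presieve.ofArrows T' f) := by
    have h3 : Presieve.IsSheaf Scheme.fppfTopology (yoneda.obj X) :=
      GrothendieckTopology.Subcanonical.isSheaf_of_isRepresentable _
    exact h3.isSheafFor _ (Precoverage.generate_mem_toGrothendieck h1)
  rw [Presieve.isSheafFor_arrows_iff] at h2
  exact h2 x fun i j R a b hab => hx i j R a b hab

theorem isEtSheaf_yoneda {S : Scheme.{u}} (H : Over S) : IsEtSheaf (yoneda.obj H) := by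
  intro T J T' f hf hT x hx
  let x' : ∀ i, T' i ⟶ H := x
  obtain ⟨y, hy, hy'⟩ := exists_glue (fun i => (T' i).left) (fun i => (f i).left) hf hT (fun i => (x' i).left) (by
    intro i j R a b hab
    have hb : b ≫ (T' j).hom = a ≫ (T' i).hom := by
      rw [← Over.w (f i), ← Over.w (f j), ← Category.assoc, ← Category.assoc, hab]
    let R' : Over S := Over.mk (a ≫ (T' i).hom)
    let a' : R' ⟶ T' i := Over.homMk a rfl
    let b' : R' ⟶ T' j := Over.homMk b hb
    have h1 := hx i j R' a' b' (by ext; exact hab)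
    exact congrArg (·.left) (h1 : a' ≫ x' i = b' ≫ x' j))
  have hyS : y ≫ H.hom = T.hom := by
    obtain ⟨z, hz, hz'⟩ := exists_glue (X := S) (fun i => (T' i).left) (fun i => (f i).left) hf hT
      (fun i => (T' i).hom) (by
        intro i j R a b hab
        rw [← Over.w (f i), ← Over.w (f j), ← Category.assoc, ← Category.assoc, hab])
    rw [hz' (y ≫ H.hom) fun i => by rw [← Category.assoc, hy i]; exact Over.w (x' i)]
    exact (hz' T.hom fun i => Over.w (f i)).symm
  refine ⟨(Over.homMk y hyS : T ⟶ H), ?_, ?_⟩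
  · intro i
    exact Over.OverMorphism.ext (hy i)
  · intro z hz
    let z' : T ⟶ H := z
    exact Over.OverMorphism.ext (hy' z'.left fun i => congrArg (·.left) (hz i : f i ≫ z' = x' i))

variable {S : Scheme.{u}} (G H : Over S)

/-- The functor of families of morphisms. -/
noncomputable def famF : (Over S)ᵒᵖ ⥤ Type u := (tensorLeft G).op ⋙ yoneda.obj H

theorem famF_map {T T' : Over S} (f : T' ⟶ T) (φ : G ⊗ T ⟶ H) : (famF G H).map f.op φ = (G ◁ f) ≫ φ := rfl

theorem isPullback_whisker {X Y : Over S} (f : X ⟶ Y) :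
    IsPullback (G ◁ f).left (snd G X).left (snd G Y).left f.left := by
  have h : IsPullback (G ◁ f) (snd G X) (snd G Y) f := by
    refine ⟨⟨by simp⟩, ⟨PullbackCone.IsLimit.mk _ (fun s => lift (s.fst ≫ fst _ _) s.snd) ?_ ?_ ?_⟩⟩
    · intro s
      apply CartesianMonoidalCategory.hom_ext
      · simp
      · simp [s.condition]
    · intro s
      simp
    · intro s m h1 h2
      apply CartesianMonoidalCategory.hom_ext
      · simp [← h1]
      · simp [← h2]
  exact h.map (Over.forget _)

theorem range_whisker {X Y : Over S} (f : X ⟶ Y) :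
    Set.range (G ◁ f).left = (snd G Y).left ⁻¹' Set.range f.left := by
  have h := isPullback_whisker G f
  rw [← Scheme.Pullback.range_fst]
  ext x
  constructor
  · rintro ⟨y, rfl⟩
    refine ⟨h.isoPullback.hom y, ?_⟩
    rw [← Scheme.Hom.comp_apply, h.isoPullback_hom_fst]
  · rintro ⟨y, rfl⟩
    refine ⟨h.isoPullback.inv y, ?_⟩
    rw [← Scheme.Hom.comp_apply, h.isoPullback_inv_fst]

theorem etale_whiskerLeft {T T' : Over S} (f : T' ⟶ T) [Etale f.left] : Etale (G ◁ f).left :=
  MorphismProperty.of_isPullback (P := @Etale) (isPullback_whisker G f).flip inferInstance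

theorem isEtSheaf_famF : IsEtSheaf (famF G H) := by
  intro T J T' f hf hT x hx
  let x' : ∀ i, G ⊗ T' i ⟶ H := x
  have h0 : ∀ i, Etale (G ◁ f i).left := fun i => by
    have := hf i
    exact etale_whiskerLeft G (f i)
  refine isEtSheaf_yoneda H (T := G ⊗ T) (fun i => G ⊗ T' i) (fun i => G ◁ f i) h0 ?_ x ?_
  · intro t
    obtain ⟨i, t', ht'⟩ := hT ((snd G T).left t)
    have h1 : t ∈ Set.range (G ◁ f i).left := by
      rw [range_whisker]
      exact ⟨t', ht'⟩
    exact ⟨i, h1⟩
  · intro i j R a b hab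
    have h1 : a ≫ fst _ _ = b ≫ fst _ _ := by
      have := congrArg (· ≫ fst _ _) hab
      simpa using this
    have h2 : (a ≫ snd _ _) ≫ f i = (b ≫ snd _ _) ≫ f j := by
      have := congrArg (· ≫ snd _ _) hab
      simpa using this
    have h3 : (G ◁ (a ≫ snd _ _)) ≫ x' i = (G ◁ (b ≫ snd _ _)) ≫ x' j := hx i j R _ _ h2
    have ha : a = lift (a ≫ fst _ _) (𝟙 R) ≫ (G ◁ (a ≫ snd _ _)) := by
      rw [lift_whiskerLeft, Category.id_comp, ← comp_lift, lift_fst_snd, Category.comp_id]
    have hb : b = lift (a ≫ fst _ _) (𝟙 R) ≫ (G ◁ (b ≫ snd _ _)) := by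
      rw [lift_whiskerLeft, Category.id_comp, h1, ← comp_lift, lift_fst_snd, Category.comp_id]
    change a ≫ x' i = b ≫ x' j
    rw [ha, hb, Category.assoc, h3, Category.assoc]

end Groth.Agent.Sga3B.RepDescent
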