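import Groth.Agent.Sga3B.RepDescent6

/-!
# Étale descent of representability, part 7: the functors of homomorphisms and of isomorphisms are étale sheaves
-/

set_option autoImplicit false
universe u

open CategoryTheory CategoryTheory.Limits MonoidalCategory CartesianMonoidalCategory MonObj GrpObj AlgebraicGeometry
  Opposite

namespace Groth.Agent.Sga3B.RepDescent

variable {S : Scheme.{u}}

/-- A subfunctor cut out by a predicate. -/
noncomputable def subF (F : (Over S)ᵒᵖ ⥤ Type u) (P : ∀ T : Over S, F.obj (op T) → Prop)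
    (hP : ∀ {T T' : Over S} (f : T' ⟶ T) (y : F.obj (op T)), P T y → P T' (F.map f.op y)) :
    (Over S)ᵒᵖ ⥤ Type u where
  obj T := {y : F.obj T // P T.unop y}
  map f := ↾fun y => ⟨F.map f y.1, hP f.unop y.1 y.2⟩
  map_id T := by
    refine ConcreteCategory.hom_ext _ _ fun z => ?_
    apply Subtype.ext
    change F.map (𝟙 T) z.1 = z.1
    rw [Functor.map_id_apply]
  map_comp f g := by
    refine ConcreteCategory.hom_ext _ _ fun z => ?_
    apply Subtype.ext
    change F.map (f ≫ g) z.1 = F.map g (F.map f z.1)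
    rw [Functor.map_comp_apply]

theorem subF_map (F : (Over S)ᵒᵖ ⥤ Type u) (P : ∀ T : Over S, F.obj (op T) → Prop)
    (hP : ∀ {T T' : Over S} (f : T' ⟶ T) (y : F.obj (op T)), P T y → P T' (F.map f.op y)) {T T' : Over S}
    (f : T' ⟶ T) (y : {y : F.obj (op T) // P T y}) :
    (subF F P hP).map f.op y = (⟨F.map f.op y.1, hP f y.1 y.2⟩ : {y : F.obj (op T') // P T' y}) := rfl

theorem isEtSheaf_subF {F : (Over S)ᵒᵖ ⥤ Type u} (hF : IsEtSheaf F) {P : ∀ T : Over S, F.obj (op T) → Prop}
    (hP : ∀ {T T' : Over S} (f : T' ⟶ T) (y : F.obj (op T)), P T y → P T' (F.map f.op y))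
    (h : ∀ {T : Over S} {J : Type u} (T' : J → Over S) (f : ∀ i, T' i ⟶ T), (∀ i, Etale (f i).left) →
      (∀ t : T.left, ∃ (i : J) (t' : (T' i).left), (f i).left t' = t) → ∀ y : F.obj (op T),
        (∀ i, P (T' i) (F.map (f i).op y)) → P T y) : IsEtSheaf (subF F P hP) := by
  intro T J T' f hf hT x hx
  obtain ⟨y, hy, hy'⟩ := hF T' f hf hT (fun i => (x i).1) (fun i j R a b hab => congrArg Subtype.val (hx i j R a b hab))
  have hyP : P T y := h T' f hf hT y fun i => by
    rw [hy i]
    exact (x i).2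
  exact ⟨⟨y, hyP⟩, fun i => Subtype.ext (hy i), fun z hz => Subtype.ext (hy' z.1 fun i => congrArg Subtype.val (hz i))⟩

/-- Equality of morphisms can be tested on a pulled back étale cover. -/
theorem hom_ext_cover {T X H : Over S} {J : Type u} (T' : J → Over S) (f : ∀ i, T' i ⟶ T)
    (hf : ∀ i, Etale (f i).left) (hT : ∀ t : T.left, ∃ (i : J) (t' : (T' i).left), (f i).left t' = t)
    (t : X ⟶ T) (a b : X ⟶ H)
    (h : ∀ (i : J) (R : Over S) (p : R ⟶ X) (q : R ⟶ T' i), p ≫ t = q ≫ f i → p ≫ a = p ≫ b) : a = b := by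
  let R : J → Over S := fun i => Over.mk (pullback.fst t.left (f i).left ≫ X.hom)
  let p : ∀ i, R i ⟶ X := fun i => Over.homMk (pullback.fst t.left (f i).left) rfl
  let q : ∀ i, R i ⟶ T' i := fun i => Over.homMk (pullback.snd t.left (f i).left) (by
    change pullback.snd t.left (f i).left ≫ (T' i).hom = pullback.fst t.left (f i).left ≫ X.hom
    rw [← Over.w (f i), ← Category.assoc, ← pullback.condition, Category.assoc, Over.w t])
  have hpq : ∀ i, p i ≫ t = q i ≫ f i := fun i => Over.OverMorphism.ext pullback.condition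
  have hp : ∀ i, Etale (p i).left := fun i => by
    have := hf i
    change Etale (pullback.fst t.left (f i).left)
    infer_instance
  have hpT : ∀ x : X.left, ∃ (i : J) (x' : (R i).left), (p i).left x' = x := by
    intro x
    obtain ⟨i, t', ht'⟩ := hT (t.left x)
    obtain ⟨z, hz, -⟩ := Scheme.Pullback.exists_preimage_pullback x t' ht'.symm
    exact ⟨i, z, hz⟩
  obtain ⟨y, hy, hy'⟩ := isEtSheaf_yoneda H R p hp hpT (fun i => p i ≫ a) (by
    intro i j W c d hcd
    change c ≫ p i ≫ a = d ≫ p j ≫ a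
    rw [← Category.assoc, hcd, Category.assoc])
  rw [hy' a fun i => rfl]
  exact (hy' b fun i => (h i (R i) (p i) (q i) (hpq i)).symm).symm

section fam

variable (G H : Over S) [GrpObj G] [GrpObj H]

theorem isHomFamily_of_cover {T : Over S} {J : Type u} (T' : J → Over S) (f : ∀ i, T' i ⟶ T)
    (hf : ∀ i, Etale (f i).left) (hT : ∀ t : T.left, ∃ (i : J) (t' : (T' i).left), (f i).left t' = t)
    (φ : G ⊗ T ⟶ H) (h : ∀ i, AutFam.IsHomFamily G H ((G ◁ f i) ≫ φ)) : AutFam.IsHomFamily G H φ := by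
  intro X g₁ g₂ t
  refine hom_ext_cover T' f hf hT t _ _ fun i R p q hpq => ?_
  have h1 := h i R (p ≫ g₁) (p ≫ g₂) q
  simp only [← Category.assoc, lift_whiskerLeft] at h1
  rw [← hpq] at h1
  rw [MonObj.comp_mul, ← Category.assoc, ← Category.assoc, ← Category.assoc, comp_lift, comp_lift, comp_lift,
    MonObj.comp_mul]
  exact h1

omit [GrpObj G] [GrpObj H] in
/-- inverse families are unique -/
theorem inv_unique {T : Over S} {φ : G ⊗ T ⟶ H} {ψ ψ' : H ⊗ T ⟶ G}
    (h1 : ∀ (X : Over S) (g : X ⟶ G) (t : X ⟶ T), lift (lift g t ≫ φ) t ≫ ψ = g)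
    (h2 : ∀ (X : Over S) (g' : X ⟶ H) (t : X ⟶ T), lift (lift g' t ≫ ψ') t ≫ φ = g') : ψ = ψ' := by
  have h3 := h1 _ (lift (fst H T) (snd H T) ≫ ψ') (snd H T)
  rw [h2] at h3
  rw [lift_fst_snd, Category.id_comp, Category.id_comp] at h3
  exact h3

theorem isIsoFamily_of_cover {T : Over S} {J : Type u} (T' : J → Over S) (f : ∀ i, T' i ⟶ T)
    (hf : ∀ i, Etale (f i).left) (hT : ∀ t : T.left, ∃ (i : J) (t' : (T' i).left), (f i).left t' = t)
    (φ : G ⊗ T ⟶ H) (h : ∀ i, AutFam.IsIsoFamily G H ((G ◁ f i) ≫ φ)) : AutFam.IsIsoFamily G H φ := by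
  refine ⟨isHomFamily_of_cover G H T' f hf hT φ fun i => (h i).1, ?_⟩
  choose ψ h1 h2 using fun i => (h i).2
  obtain ⟨Ψ, hΨ, -⟩ := isEtSheaf_famF H G T' f hf hT ψ (by
    intro i j R a b hab
    change (H ◁ a) ≫ ψ i = (H ◁ b) ≫ ψ j
    refine inv_unique G H (φ := (G ◁ (a ≫ f i)) ≫ φ) ?_ ?_
    · intro X g t
      have := h1 i X g (t ≫ a)
      simp only [← Category.assoc, lift_whiskerLeft] at this ⊢
      exact this
    · intro X g t
      have := h2 j X g (t ≫ b)
      simp only [← Category.assoc, lift_whiskerLeft] at this ⊢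
      simp only [Category.assoc] at this ⊢
      rw [hab]
      exact this)
  have hΨ' : ∀ i, (H ◁ f i) ≫ Ψ = ψ i := hΨ
  refine ⟨Ψ, ?_, ?_⟩
  · intro X g t
    refine hom_ext_cover T' f hf hT t _ _ fun i R p q hpq => ?_
    have := h1 i R (p ≫ g) q
    rw [← hΨ' i] at this
    simp only [← Category.assoc, lift_whiskerLeft] at this
    rw [← hpq] at this
    simp only [← Category.assoc, comp_lift]
    exact this
  · intro X g t
    refine hom_ext_cover T' f hf hT t _ _ fun i R p q hpq => ?_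
    have := h2 i R (p ≫ g) q
    rw [← hΨ' i] at this
    simp only [← Category.assoc, lift_whiskerLeft] at this
    rw [← hpq] at this
    simp only [← Category.assoc, comp_lift]
    exact this

/-- the predicate `IsHomFamily` on sections of `famF` -/
def homP (T : Over S) (φ : (famF G H).obj (op T)) : Prop := AutFam.IsHomFamily G H (T := T) φ

/-- the predicate `IsIsoFamily` on sections of `famF` -/
def isoP (T : Over S) (φ : (famF G H).obj (op T)) : Prop := AutFam.IsIsoFamily G H (T := T) φ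

theorem homP_map {T T' : Over S} (f : T' ⟶ T) (φ : (famF G H).obj (op T)) (h : homP G H T φ) :
    homP G H T' ((famF G H).map f.op φ) := by
  have h' : AutFam.IsHomFamily G H (T := T) φ := h
  exact IsoFam.isHomFamily_pull h' f

theorem isoP_map {T T' : Over S} (f : T' ⟶ T) (φ : (famF G H).obj (op T)) (h : isoP G H T φ) :
    isoP G H T' ((famF G H).map f.op φ) := by
  have h' : AutFam.IsIsoFamily G H (T := T) φ := h
  exact IsoFam.isIsoFamily_pull h' f

/-- The functor `Hom_{S-gr}(G, H)`. -/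
noncomputable def homF : (Over S)ᵒᵖ ⥤ Type u := subF (famF G H) (homP G H) (homP_map G H)

/-- The functor `Isom_{S-gr}(G, H)`. -/
noncomputable def isomF : (Over S)ᵒᵖ ⥤ Type u := subF (famF G H) (isoP G H) (isoP_map G H)

theorem isEtSheaf_homF : IsEtSheaf (homF G H) := by
  apply isEtSheaf_subF (isEtSheaf_famF G H)
  intro T J T' f hf hT y h
  exact isHomFamily_of_cover G H T' f hf hT y h

theorem isEtSheaf_isomF : IsEtSheaf (isomF G H) := by
  apply isEtSheaf_subF (isEtSheaf_famF G H)
  intro T J T' f hf hT y h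
  exact isIsoFamily_of_cover G H T' f hf hT y h

end fam

end Groth.Agent.Sga3B.RepDescent
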