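import Groth.Agent.Sga3B.RepDescent7

/-!
# Étale descent of representability, part 8: families over a base change
-/

set_option autoImplicit false
universe u

open CategoryTheory CategoryTheory.Limits MonoidalCategory CartesianMonoidalCategory MonObj GrpObj AlgebraicGeometry
  Opposite

namespace Groth.Agent.Sga3B.RepDescent

open BcPts

section bridge

variable {S V : Scheme.{u}} (v : V ⟶ S)

section dn

variable {T : Over V} {R : Over S} (t : R ⟶ (Over.map v).obj T)

/-- An object over `S` with a map to an object coming from `V` comes from `V`. -/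
noncomputable def dn : Over V := Over.mk ((t.left : R.left ⟶ T.left) ≫ T.hom)

/-- the identification -/
noncomputable def dnIso : (Over.map v).obj (dn v t) ≅ R :=
  Over.isoMk (Iso.refl _) (by
    change 𝟙 _ ≫ R.hom = ((t.left : R.left ⟶ T.left) ≫ T.hom) ≫ v
    rw [Category.id_comp, Category.assoc]
    exact (Over.w t).symm)

/-- the descended map -/
noncomputable def dnHom : dn v t ⟶ T := Over.homMk t.left rfl

theorem dnIso_hom_comp : (dnIso v t).hom ≫ t = (Over.map v).map (dnHom v t) := by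
  apply Over.OverMorphism.ext
  change 𝟙 _ ≫ t.left = t.left
  exact Category.id_comp _

theorem dnIso_inv_comp : (dnIso v t).inv ≫ (Over.map v).map (dnHom v t) = t := by
  rw [Iso.inv_comp_eq, dnIso_hom_comp]

theorem exists_dn {X : Over V} (m : (Over.map v).obj X ⟶ R) (x : X ⟶ T) (h : m ≫ t = (Over.map v).map x) :
    ∃ m' : X ⟶ dn v t, m ≫ (dnIso v t).inv = (Over.map v).map m' ∧ m' ≫ dnHom v t = x := by
  have h' : (m.left : X.left ⟶ R.left) ≫ (t.left : R.left ⟶ T.left) = x.left := congrArg (·.left) h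
  let ml : X.left ⟶ (dn v t).left := m.left
  have hw : ml ≫ (dn v t).hom = X.hom := by
    change (m.left : X.left ⟶ R.left) ≫ (t.left : R.left ⟶ T.left) ≫ T.hom = X.hom
    rw [← Category.assoc, h', Over.w]
  refine ⟨Over.homMk ml hw, ?_, ?_⟩
  · apply Over.OverMorphism.ext
    change m.left ≫ 𝟙 _ = m.left
    exact Category.comp_id _
  · exact Over.OverMorphism.ext h'

end dn

variable {G H : Over S}

/-- The family over `V` attached to a family over `S`. -/
noncomputable def toV {T : Over V} (φ : G ⊗ (Over.map v).obj T ⟶ H) : Red.bc v G ⊗ T ⟶ Red.bc v H :=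
  bcEquiv v _ H (lift ((bcEquiv v _ G).symm (fst _ _)) ((Over.map v).map (snd _ _)) ≫ φ)

lemma lift_toV {T X : Over V} (φ : G ⊗ (Over.map v).obj T ⟶ H) (p : X ⟶ Red.bc v G) (t : X ⟶ T) :
    lift p t ≫ toV v φ = bcEquiv v X H (lift ((bcEquiv v X G).symm p) ((Over.map v).map t) ≫ φ) := by
  rw [toV, ← comp_bcEquiv, ← Category.assoc, comp_lift, ← comp_bcEquiv_symm, lift_fst, ← Functor.map_comp, lift_snd]

/-- The family over `S` attached to a family over `V`. -/
noncomputable def ofV {T : Over V} (ψ : Red.bc v G ⊗ T ⟶ Red.bc v H) : G ⊗ (Over.map v).obj T ⟶ H :=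
  (dnIso v (snd G _)).inv ≫ (bcEquiv v _ H).symm
    (lift (bcEquiv v _ G ((dnIso v (snd G ((Over.map v).obj T))).hom ≫ fst _ _)) (dnHom v (snd G _)) ≫ ψ)

lemma lift_ofV {T X : Over V} (ψ : Red.bc v G ⊗ T ⟶ Red.bc v H) (g : (Over.map v).obj X ⟶ G) (t : X ⟶ T) :
    lift g ((Over.map v).map t) ≫ ofV v ψ = (bcEquiv v X H).symm (lift (bcEquiv v X G g) t ≫ ψ) := by
  obtain ⟨m', hm, hm'⟩ := exists_dn v (snd G ((Over.map v).obj T)) (lift g ((Over.map v).map t)) t (lift_snd _ _)
  rw [ofV, ← Category.assoc, hm, ← comp_bcEquiv_symm, ← Category.assoc, comp_lift, hm', ← comp_bcEquiv,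
    ← hm, Category.assoc, Iso.inv_hom_id_assoc, lift_fst]

lemma lift_ofV' {T : Over V} (ψ : Red.bc v G ⊗ T ⟶ Red.bc v H) {R : Over S} (g : R ⟶ G) (t : R ⟶ (Over.map v).obj T) :
    lift g t ≫ ofV v ψ = (dnIso v t).inv ≫ (bcEquiv v (dn v t) H).symm
      (lift (bcEquiv v (dn v t) G ((dnIso v t).hom ≫ g)) (dnHom v t) ≫ ψ) := by
  rw [← lift_ofV, ← dnIso_hom_comp, ← comp_lift, Category.assoc, Iso.inv_hom_id_assoc]

lemma toV_ofV {T : Over V} (ψ : Red.bc v G ⊗ T ⟶ Red.bc v H) : toV v (ofV v ψ) = ψ := by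
  have h := lift_toV v (ofV v ψ) (fst _ _) (snd _ _)
  rw [lift_ofV, Equiv.apply_symm_apply, Equiv.apply_symm_apply, lift_fst_snd, Category.id_comp, Category.id_comp] at h
  exact h

lemma lift_eq_toV {T X : Over V} (φ : G ⊗ (Over.map v).obj T ⟶ H) (g : (Over.map v).obj X ⟶ G) (t : X ⟶ T) :
    lift g ((Over.map v).map t) ≫ φ = (bcEquiv v X H).symm (lift (bcEquiv v X G g) t ≫ toV v φ) := by
  rw [lift_toV, Equiv.symm_apply_apply, Equiv.symm_apply_apply]

lemma ofV_toV {T : Over V} (φ : G ⊗ (Over.map v).obj T ⟶ H) : ofV v (toV v φ) = φ := by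
  have h := lift_ofV' v (toV v φ) (fst G _) (snd G _)
  rw [← lift_eq_toV, lift_fst_snd, Category.id_comp, ← dnIso_hom_comp, ← comp_lift, lift_fst_snd, Category.comp_id,
    Iso.inv_hom_id_assoc] at h
  exact h

lemma toV_pull {T T' : Over V} (f : T' ⟶ T) (φ : G ⊗ (Over.map v).obj T ⟶ H) :
    toV v ((G ◁ (Over.map v).map f) ≫ φ) = (Red.bc v G ◁ f) ≫ toV v φ := by
  have h1 := lift_toV v ((G ◁ (Over.map v).map f) ≫ φ) (fst _ _) (snd _ _)
  have h2 := lift_toV v φ (fst (Red.bc v G) T') (snd (Red.bc v G) T' ≫ f)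
  rw [lift_fst_snd, Category.id_comp] at h1
  have h3 : Red.bc v G ◁ f = lift (fst (Red.bc v G) T') (snd (Red.bc v G) T' ≫ f) := by
    apply CartesianMonoidalCategory.hom_ext <;> simp
  rw [h1, h3, h2, ← Category.assoc, lift_whiskerLeft, Functor.map_comp]

lemma ofV_pull {T T' : Over V} (f : T' ⟶ T) (ψ : Red.bc v G ⊗ T ⟶ Red.bc v H) :
    ofV v ((Red.bc v G ◁ f) ≫ ψ) = (G ◁ (Over.map v).map f) ≫ ofV v ψ := by
  have h := toV_pull v f (ofV v ψ)
  rw [toV_ofV] at h
  rw [← h, ofV_toV]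

variable [GrpObj G] [GrpObj H]

theorem isHomFamily_toV {T : Over V} {φ : G ⊗ (Over.map v).obj T ⟶ H} (h : AutFam.IsHomFamily G H φ) :
    AutFam.IsHomFamily (Red.bc v G) (Red.bc v H) (toV v φ) := by
  intro X g₁ g₂ t
  rw [lift_toV, lift_toV, lift_toV, ← bcEquiv_mul, ← h]
  congr 3
  exact (bcMulEquiv v _ G).symm.map_mul _ _

theorem isHomFamily_ofV {T : Over V} {ψ : Red.bc v G ⊗ T ⟶ Red.bc v H}
    (h : AutFam.IsHomFamily (Red.bc v G) (Red.bc v H) ψ) : AutFam.IsHomFamily G H (ofV v ψ) := by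
  intro X g₁ g₂ t
  rw [lift_ofV', lift_ofV', lift_ofV', MonObj.comp_mul, bcEquiv_mul, h, ← MonObj.comp_mul]
  congr 1
  exact (bcMulEquiv v _ H).symm.map_mul _ _

theorem isIsoFamily_toV {T : Over V} {φ : G ⊗ (Over.map v).obj T ⟶ H} (h : AutFam.IsIsoFamily G H φ) :
    AutFam.IsIsoFamily (Red.bc v G) (Red.bc v H) (toV v φ) := by
  obtain ⟨h1, ψ, h2, h3⟩ := h
  refine ⟨isHomFamily_toV v h1, toV v ψ, ?_, ?_⟩
  · intro X g t
    rw [lift_toV, lift_toV, Equiv.symm_apply_apply, h2, Equiv.apply_symm_apply]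
  · intro X g t
    rw [lift_toV, lift_toV, Equiv.symm_apply_apply, h3, Equiv.apply_symm_apply]

theorem isIsoFamily_ofV {T : Over V} {ψ : Red.bc v G ⊗ T ⟶ Red.bc v H}
    (h : AutFam.IsIsoFamily (Red.bc v G) (Red.bc v H) ψ) : AutFam.IsIsoFamily G H (ofV v ψ) := by
  obtain ⟨h1, χ, h2, h3⟩ := h
  refine ⟨isHomFamily_ofV v h1, ofV v χ, ?_, ?_⟩
  · intro X g t
    rw [lift_ofV', lift_ofV', Iso.hom_inv_id_assoc, Equiv.apply_symm_apply, h2, Equiv.symm_apply_apply,
      Iso.inv_hom_id_assoc]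
  · intro X g t
    rw [lift_ofV', lift_ofV', Iso.hom_inv_id_assoc, Equiv.apply_symm_apply, h3, Equiv.symm_apply_apply,
      Iso.inv_hom_id_assoc]

variable (G H)

/-- The functor of homomorphisms commutes with base change. -/
noncomputable def homFIso : homF (Red.bc v G) (Red.bc v H) ≅ (Over.map v).op ⋙ homF G H :=
  NatIso.ofComponents (fun T => Equiv.toIso
    { toFun := fun ψ => (⟨ofV (T := T.unop) v ψ.1, isHomFamily_ofV v ψ.2⟩ :
          {y : (famF G H).obj (op ((Over.map v).obj T.unop)) // homP G H _ y})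
      invFun := fun φ => (⟨toV (T := T.unop) v φ.1, isHomFamily_toV v φ.2⟩ :
          {y : (famF (Red.bc v G) (Red.bc v H)).obj (op T.unop) // homP (Red.bc v G) (Red.bc v H) _ y})
      left_inv := fun ψ => Subtype.ext (toV_ofV (T := T.unop) v ψ.1)
      right_inv := fun φ => Subtype.ext (ofV_toV (T := T.unop) v φ.1) }) (by
    intro T T' f
    refine ConcreteCategory.hom_ext _ _ fun ψ => ?_
    apply Subtype.ext
    exact ofV_pull (T := T.unop) v f.unop ψ.1)

/-- The functor of isomorphisms commutes with base change. -/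
noncomputable def isomFIso : isomF (Red.bc v G) (Red.bc v H) ≅ (Over.map v).op ⋙ isomF G H :=
  NatIso.ofComponents (fun T => Equiv.toIso
    { toFun := fun ψ => (⟨ofV (T := T.unop) v ψ.1, isIsoFamily_ofV v ψ.2⟩ :
          {y : (famF G H).obj (op ((Over.map v).obj T.unop)) // isoP G H _ y})
      invFun := fun φ => (⟨toV (T := T.unop) v φ.1, isIsoFamily_toV v φ.2⟩ :
          {y : (famF (Red.bc v G) (Red.bc v H)).obj (op T.unop) // isoP (Red.bc v G) (Red.bc v H) _ y})
      left_inv := fun ψ => Subtype.ext (toV_ofV (T := T.unop) v ψ.1)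
      right_inv := fun φ => Subtype.ext (ofV_toV (T := T.unop) v φ.1) }) (by
    intro T T' f
    refine ConcreteCategory.hom_ext _ _ fun ψ => ?_
    apply Subtype.ext
    exact ofV_pull (T := T.unop) v f.unop ψ.1)

end bridge

section rep

variable {S : Scheme.{u}} {G H : Over S} [GrpObj G] [GrpObj H]

/-- A representing family gives a representing object of the functor of homomorphisms. -/
noncomputable def repHom {A : Over S} {υ : G ⊗ A ⟶ H} (h : AutFam.RepresentsHom G H A υ) :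
    (homF G H).RepresentableBy A where
  homEquiv {T} := Equiv.ofBijective (fun a => (⟨(G ◁ a) ≫ υ, IsoFam.isHomFamily_pull h.1 a⟩ :
      {y : (famF G H).obj (op T) // homP G H _ y})) (by
    constructor
    · intro a b hab
      exact (h.2 T ((G ◁ b) ≫ υ) (IsoFam.isHomFamily_pull h.1 b)).unique (congrArg Subtype.val hab) rfl
    · rintro ⟨φ, hφ⟩
      obtain ⟨a, ha, -⟩ := h.2 T φ hφ
      exact ⟨a, Subtype.ext ha⟩)
  homEquiv_comp {T T'} f g := by
    apply Subtype.ext
    change (G ◁ (f ≫ g)) ≫ υ = (G ◁ f) ≫ (G ◁ g) ≫ υ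
    rw [MonoidalCategory.whiskerLeft_comp, Category.assoc]

/-- A representing family gives a representing object of the functor of isomorphisms. -/
noncomputable def repIsom {A : Over S} {υ : G ⊗ A ⟶ H} (h : AutFam.RepresentsIsom G H A υ) :
    (isomF G H).RepresentableBy A where
  homEquiv {T} := Equiv.ofBijective (fun a => (⟨(G ◁ a) ≫ υ, IsoFam.isIsoFamily_pull h.1 a⟩ :
      {y : (famF G H).obj (op T) // isoP G H _ y})) (by
    constructor
    · intro a b hab
      exact (h.2 T ((G ◁ b) ≫ υ) (IsoFam.isIsoFamily_pull h.1 b)).unique (congrArg Subtype.val hab) rfl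
    · rintro ⟨φ, hφ⟩
      obtain ⟨a, ha, -⟩ := h.2 T φ hφ
      exact ⟨a, Subtype.ext ha⟩)
  homEquiv_comp {T T'} f g := by
    apply Subtype.ext
    change (G ◁ (f ≫ g)) ≫ υ = (G ◁ f) ≫ (G ◁ g) ≫ υ
    rw [MonoidalCategory.whiskerLeft_comp, Category.assoc]

theorem exists_representsHom {A : Over S} (r : (homF G H).RepresentableBy A) :
    ∃ υ : G ⊗ A ⟶ H, AutFam.RepresentsHom G H A υ := by
  let υ : {y : (famF G H).obj (op A) // homP G H A y} := r.homEquiv (𝟙 A)
  refine ⟨υ.1, υ.2, fun T φ hφ => ?_⟩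
  let φ' : {y : (famF G H).obj (op T) // homP G H T y} := ⟨φ, hφ⟩
  have h0 : ∀ a : T ⟶ A, (r.homEquiv a : {y : (famF G H).obj (op T) // homP G H T y}).1 = (G ◁ a) ≫ υ.1 := fun a => by
    rw [r.homEquiv_eq a]
    rfl
  refine ⟨r.homEquiv.symm φ', ?_, ?_⟩
  · dsimp only
    rw [← h0, Equiv.apply_symm_apply]
  · intro b hb
    rw [Equiv.eq_symm_apply]
    apply Subtype.ext
    rw [h0]
    exact hb

theorem exists_representsIsom {A : Over S} (r : (isomF G H).RepresentableBy A) :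
    ∃ υ : G ⊗ A ⟶ H, AutFam.RepresentsIsom G H A υ := by
  let υ : {y : (famF G H).obj (op A) // isoP G H A y} := r.homEquiv (𝟙 A)
  refine ⟨υ.1, υ.2, fun T φ hφ => ?_⟩
  let φ' : {y : (famF G H).obj (op T) // isoP G H T y} := ⟨φ, hφ⟩
  have h0 : ∀ a : T ⟶ A, (r.homEquiv a : {y : (famF G H).obj (op T) // isoP G H T y}).1 = (G ◁ a) ≫ υ.1 := fun a => by
    rw [r.homEquiv_eq a]
    rfl
  refine ⟨r.homEquiv.symm φ', ?_, ?_⟩
  · dsimp only
    rw [← h0, Equiv.apply_symm_apply]
  · intro b hb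
    rw [Equiv.eq_symm_apply]
    apply Subtype.ext
    rw [h0]
    exact hb

end rep

end Groth.Agent.Sga3B.RepDescent
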