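import Groth.Agent.Sga3B.RootGa

/-!
# The certificate over an algebraically closed field

`RootCert p` lists the facts on a reductive group `G = Spec A` over an algebraically closed field
with maximal torus `p : A →ₐc[K] K[M]` which are used to split reductive groups over a base.
-/

set_option autoImplicit false

open WithConv
open Groth.Agent.Sga3B.RootCoact Groth.Agent.Sga3B.RootOrb Groth.Agent.Sga3B.RootGr
open Groth.Agent.Sga3B.RootGa

universe u

namespace Groth.Agent.Sga3B.RootCert

variable {K : Type u} [CommRing K] {A : Type u} [CommRing A] [HopfAlgebra K A]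
variable {M : Type} [AddCommGroup M]
variable (p : A →ₐc[K] MonoidAlgebra K (Multiplicative M))

/-- `m` occurs in the cotangent space `I / I ^ 2` (conjugation by `D(M)` through `p`). -/
def IsWt (m : M) : Prop := ∃ x ∈ gr (conjCoact p) m, x ∈ aug K A ∧ x ∉ aug K A ^ 2

/-- Facts over an algebraically closed field consumed for the splitting over a base. -/
structure Cert : Prop where
  /-- `D(M) → G` is a closed immersion -/
  surj : Function.Surjective p
  /-- the scheme theoretic centralizer of the torus is the torus -/
  cent : ∀ y : A, p y = 0 → y ∈ JP p (⊥ : AddSubmonoid M)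
  /-- the weight spaces of nonzero weight have dimension at most one -/
  one : ∀ m : M, m ≠ 0 → ∀ x ∈ gr (conjCoact p) m, x ∉ aug K A ^ 2 →
    ∀ y ∈ gr (conjCoact p) m, ∃ r : K, y - r • x ∈ aug K A ^ 2
  /-- proportional roots are equal or opposite -/
  prop : ∀ a b : M, a ≠ 0 → b ≠ 0 → IsWt p a → IsWt p b →
    ∀ k l : ℤ, k ≠ 0 → l ≠ 0 → k • a = l • b → b = a ∨ b = -a
  /-- for each root `a` there is a point normalizing the torus, acting nontrivially on it, and
  centralizing the identity component of the kernel of `a` -/
  refl : ∀ a : M, a ≠ 0 → IsWt p a → ∃ (n : WithConv (A →ₐ[K] K)) (w : M →+ M),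
    w ≠ AddMonoidHom.id M ∧
    (∀ m : M, (∀ k l : ℤ, k ≠ 0 → k • m ≠ l • a) → ∀ y ∈ gr (conjCoact p) m, n.ofConv y = 0) ∧
    ∀ t : Multiplicative M →* Kˣ,
      n * torPt p t * n⁻¹ = torPt p (t.comp (AddMonoidHom.toMultiplicative w))

end Groth.Agent.Sga3B.RootCert
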