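import Groth.Agent.Sga3B.CellEt

/-!
# Comparison of two split tori with root homomorphisms in the same group (Datum level)

* `Datum.conj`: conjugate of a datum by a point.
* `exists_root_eq`: if the torus of `D` is contained in the torus of `D'` (through `ψ : D'.M →+ D.M`)
  then the image of a root of `D'` is a root of `D` (weights of the tangent space).
* `psi_injective`, `psi_surjective`: over an algebraically closed field `ψ` is bijective.
-/

set_option autoImplicit false
universe u

open LaurentPolynomial TensorProduct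

namespace Groth.Agent.Sga3B.RootCmp

open Groth.Agent.Sga3B.Cell

/-- A linear form on a finitely generated free abelian group which does not vanish on finitely many
given nonzero elements. -/
theorem exists_regular {M ι : Type} [AddCommGroup M] [Module.Free ℤ M] [Module.Finite ℤ M] [Finite ι]
    (v : ι → M) (hv : ∀ i, v i ≠ 0) : ∃ lam : M →+ ℤ, ∀ i, lam (v i) ≠ 0 := by
  classical
  cases nonempty_fintype ι
  have key : ∀ s : Finset ι, ∃ lam : M →+ ℤ, ∀ i ∈ s, lam (v i) ≠ 0 := by
    intro s
    induction s using Finset.induction_on with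
    | empty => exact ⟨0, by simp⟩
    | insert j s hj ih =>
      obtain ⟨lam, hlam⟩ := ih
      obtain ⟨μ, hμ⟩ : ∃ μ : M →+ ℤ, μ (v j) ≠ 0 := by
        by_contra h
        push Not at h
        apply hv j
        apply (Module.Free.chooseBasis ℤ M).repr.injective
        rw [map_zero]
        ext k
        exact h (((Module.Free.chooseBasis ℤ M).coord k).toAddMonoidHom)
      set N : ℤ := 1 + ∑ i, |lam (v i)| with hN
      have hNi : ∀ i, |lam (v i)| < N := by
        intro i
        have := Finset.single_le_sum (f := fun i => |lam (v i)|) (fun i _ => abs_nonneg _)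
          (Finset.mem_univ i)
        omega
      refine ⟨lam + N • μ, ?_⟩
      intro i hi h0
      have h1 : lam (v i) + N * μ (v i) = 0 := by simpa using h0
      by_cases hμi : μ (v i) = 0
      · rw [hμi, mul_zero, add_zero] at h1
        rcases Finset.mem_insert.mp hi with rfl | hi
        · exact hμ hμi
        · exact hlam i hi h1
      · have h2 : |lam (v i)| = N * |μ (v i)| := by
          have h3 : lam (v i) = -(N * μ (v i)) := by omega
          rw [h3, abs_neg, abs_mul, abs_of_pos]
          have := hNi i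
          have := abs_nonneg (lam (v i))
          omega
        have h4 : 1 ≤ |μ (v i)| := Int.one_le_abs hμi
        have h5 := hNi i
        have h6 := abs_nonneg (lam (v i))
        nlinarith
  obtain ⟨lam, h⟩ := key Finset.univ
  exact ⟨lam, fun i => h i (Finset.mem_univ i)⟩

section up

variable {R A : Type u} [CommRing R] [CommRing A] [Algebra R A]

/-- An `R`-point seen as a `B`-point. -/
noncomputable def up (B : Type u) [CommRing B] [Algebra R B] (g : Pt R A R) : Pt R A B :=
  Pt.map (Algebra.ofId R B) g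

lemma map_up {B C : Type u} [CommRing B] [Algebra R B] [CommRing C] [Algebra R C] (φ : B →ₐ[R] C)
    (g : Pt R A R) : Pt.map φ (up B g) = up C g := by
  apply Pt.ext
  intro a
  exact φ.commutes _

lemma up_self (g : Pt R A R) : up R g = g := by
  apply Pt.ext
  intro a
  rfl

variable [PtGrp R A]

lemma up_mul (B : Type u) [CommRing B] [Algebra R B] (g h : Pt R A R) :
    up B (g * h) = up B g * up B h := Pt.map_mul _ _ _

lemma up_inv (B : Type u) [CommRing B] [Algebra R B] (g : Pt R A R) :
    up B g⁻¹ = (up B g)⁻¹ := Pt.map_inv _ _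

/-- the identity point -/
def idPt (R A : Type u) [CommRing R] [CommRing A] [Algebra R A] : Pt R A A := Pt.mk (AlgHom.id R A)

omit [PtGrp R A] in
lemma map_idPt {B : Type u} [CommRing B] [Algebra R B] (h : Pt R A B) :
    Pt.map h.hom (idPt R A) = h := rfl

/-- the automorphism of the coordinate ring of conjugation by a point -/
noncomputable def conjHom (g : Pt R A R) : A →ₐ[R] A := (up A g * idPt R A * (up A g)⁻¹).hom

lemma hom_conj (g : Pt R A R) {B : Type u} [CommRing B] [Algebra R B] (h : Pt R A B) :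
    (up B g * h * (up B g)⁻¹).hom = h.hom.comp (conjHom g) := by
  have h1 : Pt.map h.hom (up A g * idPt R A * (up A g)⁻¹) = up B g * h * (up B g)⁻¹ := by
    rw [Pt.map_mul, Pt.map_mul, Pt.map_inv, map_up, map_idPt]
  rw [← h1]
  rfl

lemma conjHom_comp_inv (g : Pt R A R) : (conjHom g).comp (conjHom g⁻¹) = AlgHom.id R A := by
  have h1 := hom_conj g⁻¹ (up A g * idPt R A * (up A g)⁻¹)
  have h2 : up A g⁻¹ * (up A g * idPt R A * (up A g)⁻¹) * (up A g⁻¹)⁻¹ = idPt R A := by
    rw [up_inv]; group
  rw [h2] at h1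
  exact h1.symm

lemma conjHom_surjective (g : Pt R A R) : Function.Surjective (conjHom g) := fun a =>
  ⟨conjHom g⁻¹ a, congrArg (fun k : A →ₐ[R] A => k a) (conjHom_comp_inv g)⟩

/-- Conjugate of a datum by a point: torus `g⁻¹ T g`... here `h ↦ g h g⁻¹`. -/
noncomputable abbrev conj (D : Datum R A) (g : Pt R A R) : Datum R A where
  M := D.M
  idx := D.idx
  root := D.root
  i B _ _ := (MulAut.conj (up B g)).toMonoidHom.comp (D.i B)
  i_nat {B C} _ _ _ _ φ t := by
    change Pt.map φ (up B g * D.i B t * (up B g)⁻¹) = up C g * D.i C (TPt.map φ t) * (up C g)⁻¹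
    rw [Pt.map_mul, Pt.map_mul, Pt.map_inv, map_up, D.i_nat]
  i_inj B _ _ := by
    intro s t h
    apply D.i_inj B
    exact (MulAut.conj (up B g)).injective h
  uu a B _ _ x := up B g * D.uu a B x * (up B g)⁻¹
  uu_add a {B} _ _ x y := by
    rw [D.uu_add]; group
  uu_nat a {B C} _ _ _ _ φ x := by
    rw [Pt.map_mul, Pt.map_mul, Pt.map_inv, map_up, D.uu_nat]
  uu_surj a := by
    rw [hom_conj]
    exact (D.uu_surj a).comp (conjHom_surjective g)
  rel a {B} _ _ t x := by
    change up B g * D.i B t * (up B g)⁻¹ * (up B g * D.uu a B x * (up B g)⁻¹) *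
      (up B g * D.i B t * (up B g)⁻¹)⁻¹ = _
    rw [← D.rel]
    group
  root_inj := D.root_inj
  root_ne := D.root_ne

lemma conj_i (D : Datum R A) (g : Pt R A R) {B : Type u} [CommRing B] [Algebra R B] (t : TPt D.M B) :
    (conj D g).i B t = up B g * D.i B t * (up B g)⁻¹ := rfl

end up

section weights

variable {R A : Type u} [CommRing R] [CommRing A] [Algebra R A] [PtGrp R A] {D D' : Datum R A}

/-- The torus of `D` is contained in the torus of `D'` through `ψ`. -/
def TLe (D D' : Datum R A) (ψ : D'.M →+ D.M) : Prop :=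
  ∀ (B : Type u) [CommRing B] [Algebra R B] (t : TPt D.M B),
    D.i B t = D'.i B (t.comp (AddMonoidHom.toMultiplicative ψ))

lemma isNilpotent_ker_tfst (R B : Type u) [CommRing R] [CommRing B] [Algebra R B] :
    IsNilpotent (RingHom.ker (tfst R B : TrivSqZeroExt B B →+* B)) := by
  refine ⟨2, ?_⟩
  suffices h : RingHom.ker (tfst R B : TrivSqZeroExt B B →+* B) *
      RingHom.ker (tfst R B : TrivSqZeroExt B B →+* B) = 0 from
    (sq (RingHom.ker (tfst R B : TrivSqZeroExt B B →+* B))).trans h
  rw [Ideal.zero_eq_bot, eq_bot_iff, Ideal.mul_le]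
  intro x hx y hy
  rw [Ideal.mem_bot]
  have hx' : x.fst = 0 := hx
  have hy' : y.fst = 0 := hy
  apply TrivSqZeroExt.ext
  · rw [TrivSqZeroExt.fst_mul, hx', zero_mul, TrivSqZeroExt.fst_zero]
  · rw [TrivSqZeroExt.snd_mul, hx', hy']
    simp

lemma isUnit_ev_of_fst {δ : D.CR} (hδ0 : D.ev0 δ = 1) {B : Type u} [CommRing B] [Algebra R B]
    (x : D.idx → TrivSqZeroExt B B) (t : TPt D.M (TrivSqZeroExt B B)) (hx : ∀ a, (x a).fst = 0)
    (ht : TPt.map (tfst R B) t = 1) : IsUnit (D.ev x t δ) := by
  have h1 : tfst R B (D.ev x t δ) = 1 := by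
    have h2 := congrArg (fun k : D.CR →ₐ[R] B => k δ) (D.comp_ev (tfst R B) x t)
    simp only [AlgHom.comp_apply] at h2
    rw [h2, ht]
    have h3 : (fun a => tfst R B (x a)) = fun _ => (0 : B) := funext fun a => hx a
    rw [h3, Datum.ev_zero_one_eq, hδ0, map_one]
  have h4 : IsUnit (D.ev x t δ).fst := by
    have : (D.ev x t δ).fst = 1 := h1
    rw [this]; exact isUnit_one
  exact (TrivSqZeroExt.isUnit_iff_isUnit_fst).mpr h4

lemma exists_tangent {L : List D.idx} {δ : D.CR} (hδ : D.EtOn L δ) (hδ0 : D.ev0 δ = 1)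
    {g : Pt R A (TrivSqZeroExt R R)} (hg : Pt.map (tfst R R) g = 1) :
    ∃ (x : D.idx → TrivSqZeroExt R R) (t : TPt D.M (TrivSqZeroExt R R)),
      (∀ a, (x a).fst = 0) ∧ TPt.map (tfst R R) t = 1 ∧ D.cell L x t = g := by
  have hu0 : IsUnit (D.ev (fun _ => (0 : R)) 1 δ) := by
    rw [Datum.ev_zero_one_eq, hδ0, map_one]; exact isUnit_one
  obtain ⟨x, t, hx, ht, hcell⟩ := Datum.EtOn.exists_lift (D := D) hδ (φ := tfst R R)
    (TrivSqZeroExt.fst_surjective) (isNilpotent_ker_tfst R R) (x₀ := fun _ => (0 : R)) (t₀ := 1) hu0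
    (g := g) (by rw [hg, Datum.cell_zero, map_one])
  exact ⟨x, t, hx, ht, hcell⟩

/-- the tangent vector of a root homomorphism, transported -/
lemma tangent_unique {L : List D.idx} {δ : D.CR} (hδ : D.EtOn L δ) (hδ0 : D.ev0 δ = 1)
    (χ : MonoidAlgebra R (Multiplicative D.M))
    {x : D.idx → TrivSqZeroExt R R} {t : TPt D.M (TrivSqZeroExt R R)}
    (hx : ∀ a, (x a).fst = 0) (ht : TPt.map (tfst R R) t = 1)
    (h : D.cell L (fun a => D.rho (R := R) χ (x a)) (TPt.map (D.rho (R := R) χ) t) =
      D.cell L (fun a => TPt.ch (D.root a) (TPt.map (tinl R _) (D.sU (B := R))) *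
        D.rho (R := R) 1 (x a)) (TPt.map (D.rho (R := R) 1) t)) :
    (∀ a, χ * algebraMap R _ (x a).snd =
        MonoidAlgebra.single (Multiplicative.ofAdd (D.root a)) (1 : R) * algebraMap R _ (x a).snd) ∧
    (∀ m, χ * algebraMap R _ (TPt.ch m t).snd = algebraMap R _ (TPt.ch m t).snd) := by
  have h3 := Datum.EtOn.unique (D := D) hδ (φ := tfst R (MonoidAlgebra R (Multiplicative D.M)))
    (isNilpotent_ker_tfst R _)
    (by
      intro a
      have hxa : (x a).fst = 0 := hx a
      change (D.rho (R := R) χ (x a)).fst = (TPt.ch (D.root a) _ * D.rho (R := R) 1 (x a)).fst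
      rw [TrivSqZeroExt.fst_mul, Datum.fst_rho, Datum.fst_rho, hxa, map_zero, mul_zero])
    (by
      apply TPt.ext_ch
      intro m
      rw [TPt.ch_map, TPt.ch_map, TPt.ch_map, TPt.ch_map]
      change (D.rho (R := R) χ (TPt.ch m t)).fst = (D.rho (R := R) 1 (TPt.ch m t)).fst
      rw [Datum.fst_rho, Datum.fst_rho])
    (by
      apply isUnit_ev_of_fst hδ0
      · intro a
        have hxa : (x a).fst = 0 := hx a
        rw [Datum.fst_rho, hxa, map_zero]
      · apply TPt.ext_ch
        intro m
        have h4 := congrArg (TPt.ch m) ht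
        rw [TPt.ch_map, TPt.ch_one] at h4
        rw [TPt.ch_map, TPt.ch_map, TPt.ch_one]
        change (D.rho (R := R) χ (TPt.ch m t)).fst = 1
        rw [Datum.fst_rho]
        have h5 : (TPt.ch m t).fst = 1 := h4
        rw [h5, map_one])
    h
  obtain ⟨hxe, hte⟩ := h3
  constructor
  · intro a
    have h4 := congrArg TrivSqZeroExt.snd (congrFun hxe a)
    have hxa : (x a).fst = 0 := hx a
    rw [TrivSqZeroExt.snd_mul, Datum.snd_rho, Datum.snd_rho, Datum.fst_rho, hxa] at h4
    rw [h4]
    simp [TPt.ch_map, Datum.ch_sU]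
  · intro m
    have h4 := congrArg (TPt.ch m) hte
    rw [TPt.ch_map, TPt.ch_map] at h4
    have h5 := congrArg TrivSqZeroExt.snd h4
    rw [Datum.snd_rho, Datum.snd_rho, one_mul] at h5
    exact h5

lemma eq_zero_of_single_mul {Γ : Type} [CommMonoid Γ] {g h : Γ} (hgh : g ≠ h) {r : R}
    (e : MonoidAlgebra.single g (1 : R) * algebraMap R (MonoidAlgebra R Γ) r =
      MonoidAlgebra.single h (1 : R) * algebraMap R (MonoidAlgebra R Γ) r) : r = 0 := by
  classical
  have h6 := congrArg (fun z : MonoidAlgebra R Γ => z.coeff g) e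
  simp only [MonoidAlgebra.coe_algebraMap, Function.comp_apply, MonoidAlgebra.single_mul_single,
    MonoidAlgebra.coeff_single, mul_one, one_mul, Algebra.algebraMap_self, RingHom.id_apply] at h6
  rwa [Finsupp.single_eq_same, Finsupp.single_eq_of_ne hgh] at h6

lemma rho_inr (χ : MonoidAlgebra R (Multiplicative D.M)) :
    D.rho (R := R) χ (TrivSqZeroExt.inr (1 : R)) = TrivSqZeroExt.inr χ := by
  apply TrivSqZeroExt.ext
  · rw [Datum.fst_rho, TrivSqZeroExt.fst_inr, TrivSqZeroExt.fst_inr, map_zero]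
  · rw [Datum.snd_rho, TrivSqZeroExt.snd_inr, TrivSqZeroExt.snd_inr, map_one, mul_one]

/-- weights of the tangent space -/
theorem exists_root_eq [Nontrivial R] (hD : D.Good) {ψ : D'.M →+ D.M} (hψ : TLe D D' ψ) (b : D'.idx)
    (hb : ψ (D'.root b) ≠ 0) : ∃ a, D.root a = ψ (D'.root b) := by
  classical
  by_contra hcon
  push Not at hcon
  obtain ⟨δ, hδ, hδ0⟩ := hD (Finset.univ.toList) (Finset.nodup_toList _) (by simp)
  have hg0 : Pt.map (tfst R R) (D'.uu b (TrivSqZeroExt R R) (TrivSqZeroExt.inr 1)) = 1 := by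
    rw [D'.uu_nat]
    have : tfst R R (TrivSqZeroExt.inr (1 : R)) = 0 := TrivSqZeroExt.fst_inr (M := R) R (1 : R)
    rw [this, Datum.uu_zero]
  obtain ⟨x, t, hx, ht, hcell⟩ := exists_tangent hδ hδ0 hg0
  have h1 : D.cell Finset.univ.toList (fun a => D.rho (R := R)
      (MonoidAlgebra.single (Multiplicative.ofAdd (ψ (D'.root b))) 1) (x a)) (TPt.map (D.rho (R := R)
      (MonoidAlgebra.single (Multiplicative.ofAdd (ψ (D'.root b))) 1)) t) =
      D'.uu b _ (TrivSqZeroExt.inr
        (MonoidAlgebra.single (Multiplicative.ofAdd (ψ (D'.root b))) (1 : R))) := by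
    rw [← Datum.cell_nat, hcell, D'.uu_nat, rho_inr]
  have h2 : D.cell Finset.univ.toList (fun a => TPt.ch (D.root a) (TPt.map (tinl R _) (D.sU (B := R)))
      * D.rho (R := R) 1 (x a)) (TPt.map (D.rho (R := R) 1) t) = D'.uu b _ (TrivSqZeroExt.inr
        (MonoidAlgebra.single (Multiplicative.ofAdd (ψ (D'.root b))) (1 : R))) := by
    rw [← Datum.conj_cell, ← Datum.cell_nat, hcell, D'.uu_nat, hψ, D'.rel, rho_inr]
    have e : TPt.ch (D'.root b) ((TPt.map (tinl R _) (D.sU (B := R))).comp
        (AddMonoidHom.toMultiplicative ψ)) = TrivSqZeroExt.inl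
        (MonoidAlgebra.single (Multiplicative.ofAdd (ψ (D'.root b))) (1 : R)) := rfl
    rw [e]
    congr 1
    apply TrivSqZeroExt.ext
    · rw [TrivSqZeroExt.fst_mul, TrivSqZeroExt.fst_inr, mul_zero, TrivSqZeroExt.fst_inr]
    · rw [TrivSqZeroExt.snd_mul, TrivSqZeroExt.snd_inr, TrivSqZeroExt.fst_inr,
        TrivSqZeroExt.fst_inl, TrivSqZeroExt.snd_inl, TrivSqZeroExt.snd_inr]
      simp
  obtain ⟨h3, h4⟩ := tangent_unique hδ hδ0 _ hx ht (h1.trans h2.symm)
  have hx0 : ∀ a, x a = 0 := by
    intro a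
    apply TrivSqZeroExt.ext
    · exact hx a
    · exact eq_zero_of_single_mul (fun hh => hcon a (congrArg Multiplicative.toAdd hh).symm) (h3 a)
  have ht1 : t = 1 := by
    apply TPt.ext_ch
    intro m
    have h7 := congrArg (TPt.ch m) ht
    rw [TPt.ch_map, TPt.ch_one] at h7
    rw [TPt.ch_one]
    apply TrivSqZeroExt.ext
    · exact h7
    · rw [TrivSqZeroExt.snd_one]
      apply eq_zero_of_single_mul (g := Multiplicative.ofAdd (ψ (D'.root b)))
        (h := (1 : Multiplicative D.M))
      · intro hh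
        exact hb (congrArg Multiplicative.toAdd hh)
      · rw [h4 m, ← MonoidAlgebra.one_def, one_mul]
  have h8 : D'.uu b (TrivSqZeroExt R R) (TrivSqZeroExt.inr 1) = 1 := by
    rw [← hcell, ht1]
    have : x = fun _ => 0 := funext hx0
    rw [this, Datum.cell_zero, map_one]
  have h9 : (TrivSqZeroExt.inr 1 : TrivSqZeroExt R R) = 0 := by
    apply D'.uu_inj b
    rw [h8, Datum.uu_zero]
  have h10 := congrArg TrivSqZeroExt.snd h9
  simp at h10

/-- the universal torus point -/
lemma ch_sU_comp {ψ : D'.M →+ D.M} {B : Type u} [CommRing B] (m : D'.M) (t : TPt D.M B) :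
    TPt.ch m (t.comp (AddMonoidHom.toMultiplicative ψ)) = TPt.ch (ψ m) t := rfl

lemma comp_toMul_mul {M N : Type} [AddCommGroup M] [AddCommGroup N] {B : Type u} [CommRing B]
    (s t : TPt M B) (ψ : N →+ M) :
    (s * t : TPt M B).comp (AddMonoidHom.toMultiplicative ψ) =
      (s.comp (AddMonoidHom.toMultiplicative ψ)) * (t.comp (AddMonoidHom.toMultiplicative ψ)) := rfl

lemma _root_.Groth.Agent.Sga3B.Cell.TPt.inv_mul_cancel_left' {M : Type} [AddCommGroup M] {B : Type u}
    [CommRing B] (s t : TPt M B) : s⁻¹ * (s * t) = t := inv_mul_cancel_left s t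

theorem psi_surjective [Nontrivial R] {ψ : D'.M →+ D.M} (hψ : TLe D D' ψ) : Function.Surjective ψ := by
  set Q := D.M ⧸ ψ.range with hQ
  let t : TPt D.M (MonoidAlgebra R (Multiplicative Q)) :=
    MonoidHom.toHomUnits ((MonoidAlgebra.of R (Multiplicative Q)).comp
      (AddMonoidHom.toMultiplicative (QuotientAddGroup.mk' ψ.range)))
  have ht : ∀ m, TPt.ch m t = MonoidAlgebra.single (Multiplicative.ofAdd
      (QuotientAddGroup.mk' ψ.range m)) (1 : R) := fun m => rfl
  have h1 : t.comp (AddMonoidHom.toMultiplicative ψ) = 1 := by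
    apply TPt.ext_ch
    intro m
    rw [ch_sU_comp, ht, TPt.ch_one]
    have : QuotientAddGroup.mk' ψ.range (ψ m) = 0 := by
      rw [QuotientAddGroup.mk'_apply, QuotientAddGroup.eq_zero_iff]
      exact ⟨m, rfl⟩
    rw [this]
    rfl
  have h2 : t = 1 := by
    apply D.i_inj
    rw [hψ, h1, map_one, map_one]
  intro m
  have h3 := congrArg (TPt.ch m) h2
  rw [ht, TPt.ch_one] at h3
  have h4 : Multiplicative.ofAdd (QuotientAddGroup.mk' ψ.range m) = 1 := by
    by_contra hne
    have h5 := congrArg (fun z : MonoidAlgebra R (Multiplicative Q) => z.coeff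
      (Multiplicative.ofAdd (QuotientAddGroup.mk' ψ.range m))) h3
    simp only [MonoidAlgebra.one_def, MonoidAlgebra.coeff_single] at h5
    rw [Finsupp.single_eq_same, Finsupp.single_eq_of_ne hne] at h5
    exact one_ne_zero h5
  have h6 : QuotientAddGroup.mk' ψ.range m = 0 := congrArg Multiplicative.toAdd h4
  rw [QuotientAddGroup.mk'_apply, QuotientAddGroup.eq_zero_iff] at h6
  exact h6

end weights

section closed

variable {K A : Type u} [Field K] [IsAlgClosed K] [CommRing A] [Algebra K A] [PtGrp K A]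
  [Algebra.FiniteType K A] [IsDomain (K ⊗[K] A)] {D D' : Datum K A}

lemma exists_tpt_ne_one {M : Type} [AddCommGroup M] [Module.Free ℤ M] [Module.Finite ℤ M]
    {m : M} (hm : m ≠ 0) : ∃ s : TPt M K, TPt.ch m s ≠ 1 := by
  obtain ⟨μ, hμ⟩ := exists_regular (ι := Unit) (fun _ => m) (fun _ => hm)
  have hμ := hμ ()
  classical
  have hinf : Infinite K := inferInstance
  obtain ⟨x, hx0, hx⟩ : ∃ x : K, x ≠ 0 ∧ x ^ (μ m).natAbs ≠ 1 := by
    by_contra hcon
    push Not at hcon
    have hfin : Set.Finite {x : K | x ^ (μ m).natAbs = 1} := by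
      have h1 : {x : K | x ^ (μ m).natAbs = 1} ⊆
          ((Polynomial.X ^ (μ m).natAbs - Polynomial.C (1 : K)).roots.toFinset : Set K) := by
        intro x hx
        have hx' : x ^ (μ m).natAbs = 1 := hx
        have hne : (Polynomial.X ^ (μ m).natAbs - Polynomial.C (1 : K)) ≠ 0 :=
          Polynomial.X_pow_sub_C_ne_zero (by omega) _
        rw [Finset.mem_coe, Multiset.mem_toFinset, Polynomial.mem_roots hne]
        simp [hx']
      exact (Finset.finite_toSet _).subset h1
    have hfin2 : Set.Finite (Set.univ : Set K) := by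
      refine (hfin.insert 0).subset ?_
      intro x _
      by_cases hx : x = 0
      · exact Or.inl hx
      · exact Or.inr (hcon x hx)
    exact Set.infinite_univ hfin2
  let y : Kˣ := Units.mk0 x hx0
  let s : TPt M K := (zpowersHom Kˣ y).comp (AddMonoidHom.toMultiplicative μ)
  refine ⟨s, ?_⟩
  intro h
  have h1 : y ^ (μ m) = 1 := Units.ext h
  apply hx
  have h2 : y ^ (μ m).natAbs = 1 := by
    rcases Int.natAbs_eq (μ m) with h3 | h3
    · rw [h3, zpow_natCast] at h1
      exact h1
    · rw [h3, zpow_neg, inv_eq_one, zpow_natCast] at h1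
      exact h1
  have h4 := congrArg Units.val h2
  simpa [y] using h4

theorem psi_injective (hD : D.Good) {ψ : D'.M →+ D.M} (hψ : TLe D D' ψ) : Function.Injective ψ := by
  rw [injective_iff_map_eq_zero]
  intro m hm
  by_contra hm0
  obtain ⟨s, hs⟩ := exists_tpt_ne_one (K := K) hm0
  obtain ⟨lam, hlam⟩ := exists_regular D.root D.root_ne
  have hh : Pt.map (lC K K) (D'.i K s) * D.i _ (D.cochar lam) * (Pt.map (lC K K) (D'.i K s))⁻¹ =
      D.i _ (D.cochar lam) := by
    rw [D'.i_nat, hψ, ← Datum.i_inv', ← Datum.i_mul', ← Datum.i_mul']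
    congr 1
    rw [TPt.mul_comm']
    exact TPt.inv_mul_cancel_left' _ _
  obtain ⟨t, ht, -⟩ := Datum.exists_eq_i_of_conj (D := D) hD lam hlam (D'.i K s)
    (θ' := D.cochar lam) (fun a => rfl) hh
  rw [hψ] at ht
  have h1 := D'.i_inj K ht
  apply hs
  rw [h1, ch_sU_comp, hm, TPt.ch_zero]

/-- A point normalising the torus and fixing the roots acts trivially on the torus. -/
theorem eq_id_of_conj (hD : D.Good) (w : D.M →+ D.M) (hw : ∀ a, w (D.root a) = D.root a)
    (h : Pt K A K) (hh : ∀ (B : Type u) [CommRing B] [Algebra K B] (t : TPt D.M B),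
      up B h * D.i B t * (up B h)⁻¹ = D.i B (t.comp (AddMonoidHom.toMultiplicative w))) :
    ∀ m, w m = m := by
  obtain ⟨lam, hlam⟩ := exists_regular D.root D.root_ne
  have e : Pt.map (lC K K) h = up _ h := by
    apply Pt.ext
    intro f
    rfl
  obtain ⟨s, hs, -⟩ := Datum.exists_eq_i_of_conj (D := D) hD lam hlam h
    (θ' := (D.cochar lam).comp (AddMonoidHom.toMultiplicative w))
    (fun a => by rw [ch_sU_comp, hw]; rfl) (by rw [e]; exact hh _ _)
  intro m
  let t : TPt D.M (MonoidAlgebra K (Multiplicative D.M)) := D.sU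
  have h1 := hh _ t
  have h2 : up (MonoidAlgebra K (Multiplicative D.M)) h = D.i _ (TPt.map (Algebra.ofId K _) s) := by
    rw [hs, up, D.i_nat]
  rw [h2, ← Datum.i_inv', ← Datum.i_mul', ← Datum.i_mul'] at h1
  have h3 := D.i_inj _ h1
  have h4 := congrArg (TPt.ch m) h3
  rw [TPt.mul_comm', TPt.inv_mul_cancel_left', ch_sU_comp, Datum.ch_sU, Datum.ch_sU] at h4
  by_contra hne
  have h5 := congrArg (fun z : MonoidAlgebra K (Multiplicative D.M) => z.coeff
      (Multiplicative.ofAdd m)) h4
  simp only [MonoidAlgebra.coeff_single] at h5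
  rw [Finsupp.single_eq_same, Finsupp.single_eq_of_ne] at h5
  · exact one_ne_zero h5
  · intro h6
    exact hne (congrArg Multiplicative.toAdd h6).symm

end closed

end Groth.Agent.Sga3B.RootCmp
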