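import Groth.Agent.Sga3B.RootCmp
import Mathlib.LinearAlgebra.RootSystem.Hom

/-!
# Reflections of two splittings of the same torus agree; the root data are equivalent
-/

set_option autoImplicit false
universe u

open LaurentPolynomial TensorProduct

namespace Groth.Agent.Sga3B.RootCmp

open Groth.Agent.Sga3B.Cell

/-- a transvection permuting a finite set of vectors fixes them -/
lemma fix_of_transvection {M ι : Type} [AddCommGroup M] [Module.Free ℤ M] [Finite ι] (root : ι → M)
    {β : M} (hβ : β ≠ 0) (c : M →+ ℤ) (hc : c β = 0)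
    (hw : ∀ i, ∃ j, root j = root i + c (root i) • β) (i : ι) : c (root i) = 0 := by
  by_contra hne
  have key : ∀ n : ℕ, ∃ j, root j = root i + ((n : ℤ) * c (root i)) • β := by
    intro n
    induction n with
    | zero => exact ⟨i, by simp⟩
    | succ n ih =>
      obtain ⟨j, hj⟩ := ih
      obtain ⟨k, hk⟩ := hw j
      refine ⟨k, ?_⟩
      have hcj : c (root j) = c (root i) := by
        rw [hj, map_add, map_zsmul, hc, smul_zero, add_zero]
      rw [hk, hcj, hj, add_assoc, ← add_smul]
      congr 2
      push_cast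
      ring
  choose f hf using key
  apply not_injective_infinite_finite f
  intro n m hnm
  have h1 := hf n
  rw [hnm, hf m] at h1
  have h2 := add_left_cancel h1
  have h3 := smul_left_injective ℤ hβ h2
  have h4 := mul_right_cancel₀ hne h3
  exact_mod_cast h4.symm

section closed

variable {K A : Type u} [Field K] [IsAlgClosed K] [CommRing A] [Algebra K A] [PtGrp K A]
  [Algebra.FiniteType K A] [IsDomain (K ⊗[K] A)] {D D' : Datum K A}

/-- `n` acts on the torus of `D` through `s`. -/
def Acts {R A : Type u} [CommRing R] [CommRing A] [Algebra R A] [PtGrp R A] (D : Datum R A)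
    (n : Pt R A R) (s : D.M →+ D.M) : Prop :=
  ∀ (B : Type u) [CommRing B] [Algebra R B] (t : TPt D.M B),
    up B n * D.i B t * (up B n)⁻¹ = D.i B (t.comp (AddMonoidHom.toMultiplicative s))

/-- The reflections agree. -/
theorem coroot_eq (hD : D.Good) (e : D'.M ≃+ D.M) (he : TLe D D' (e : D'.M →+ D.M))
    (hroots : ∀ b, ∃ a, D.root a = e (D'.root b)) (hroots' : ∀ a, ∃ b, D.root a = e (D'.root b))
    {a : D.idx} {b : D'.idx} (hab : D.root a = e (D'.root b))
    (f : D.M →+ ℤ) (f' : D'.M →+ ℤ) (hf : f (D.root a) = 2) (hf' : f' (D'.root b) = 2)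
    (s : D.M →+ D.M) (s' : D'.M →+ D'.M) (hs : ∀ m, s m = m - f m • D.root a)
    (hs' : ∀ m, s' m = m - f' m • D'.root b)
    (hsp : ∀ c, ∃ c', D.root c' = s (D.root c)) (hsp' : ∀ c, ∃ c', D'.root c' = s' (D'.root c))
    {n n' : Pt K A K} (hn : Acts D n s) (hn' : Acts D' n' s') :
    ∀ m, f (e m) = f' m := by
  set β := D.root a with hβ
  let F' : D.M →+ ℤ := f'.comp (e.symm : D.M →+ D'.M)
  have hF' : ∀ m, F' m = f' (e.symm m) := fun m => rfl
  let U : D.M →+ D.M := ((e : D'.M →+ D.M).comp s').comp (e.symm : D.M →+ D'.M)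
  have hU : ∀ m, U m = m - F' m • β := by
    intro m
    change e (s' (e.symm m)) = _
    rw [hs', map_sub, map_zsmul, ← hab, AddEquiv.apply_symm_apply, hF']
  have hFβ : F' β = 2 := by
    rw [hF', hab, AddEquiv.symm_apply_apply, hf']
  let c : D.M →+ ℤ := f - F'
  have hcdef : ∀ m, c m = f m - F' m := fun m => rfl
  have hw : ∀ m, U (s m) = m + c m • β := by
    intro m
    rw [hU, hs, map_sub, map_zsmul, hFβ, hcdef]
    simp only [sub_smul, smul_eq_mul]
    module
  have hcβ : c β = 0 := by rw [hcdef, hf, hFβ, sub_self]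
  have hUp : ∀ i, ∃ j, D.root j = U (D.root i) := by
    intro i
    obtain ⟨k, hk⟩ := hroots' i
    obtain ⟨l, hl⟩ := hsp' k
    obtain ⟨j, hj⟩ := hroots l
    refine ⟨j, ?_⟩
    rw [hj, hl]
    change _ = e (s' (e.symm (D.root i)))
    rw [hk, AddEquiv.symm_apply_apply]
  have hc0 : ∀ i, c (D.root i) = 0 := by
    apply fix_of_transvection D.root (D.root_ne a) c hcβ
    intro i
    obtain ⟨k, hk⟩ := hsp i
    obtain ⟨j, hj⟩ := hUp k
    refine ⟨j, ?_⟩
    rw [hj, hk, hw]
  have hid := eq_id_of_conj hD (U.comp s) (fun i => by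
    change U (s (D.root i)) = _
    rw [hw, hc0, zero_smul, add_zero]) (n * n') (by
    intro B _ _ t
    have h1 : up B n' * D.i B t * (up B n')⁻¹ = D.i B (t.comp (AddMonoidHom.toMultiplicative U)) := by
      rw [he, hn', he]
      congr 1
      apply TPt.ext_ch
      intro m
      change TPt.ch (e (s' m)) t = TPt.ch (e (s' (e.symm (e m)))) t
      rw [AddEquiv.symm_apply_apply]
    have h2 : up B (n * n') * D.i B t * (up B (n * n'))⁻¹ =
        up B n * (up B n' * D.i B t * (up B n')⁻¹) * (up B n)⁻¹ := by
      rw [up_mul]; group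
    rw [h2, h1, hn]
    rfl)
  intro m
  have h1 := hid (e m)
  change U (s (e m)) = e m at h1
  rw [hw] at h1
  have h2 : c (e m) • β = 0 := by
    rw [add_eq_left] at h1
    exact h1
  have h3 : c (e m) = 0 := by
    rcases smul_eq_zero.mp h2 with h | h
    · exact h
    · exact absurd h (D.root_ne a)
  rw [hcdef, sub_eq_zero, hF', AddEquiv.symm_apply_apply] at h3
  exact h3

end closed

section equiv

variable {ι ι' M M' : Type} [AddCommGroup M] [AddCommGroup M']

/-- equivalence of root data from an isomorphism of character groups matching roots and coroots -/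
theorem exists_rootPairing_equiv (P : RootPairing ι ℤ M (Module.Dual ℤ M))
    (P' : RootPairing ι' ℤ M' (Module.Dual ℤ M')) (hP : P.toLinearMap = Module.Dual.eval ℤ M)
    (hP' : P'.toLinearMap = Module.Dual.eval ℤ M') (e : M' ≃+ M)
    (h1 : ∀ b, ∃ a, P.root a = e (P'.root b)) (h2 : ∀ a, ∃ b, P.root a = e (P'.root b))
    (h3 : ∀ a b, P.root a = e (P'.root b) → ∀ m, P.coroot a (e m) = P'.coroot b m) :
    ∃ E : RootPairing.Equiv P' P, E.weightMap = (e.toIntLinearEquiv : M' →ₗ[ℤ] M) := by
  choose f hf using h1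
  have hinj : Function.Injective f := by
    intro b b' h
    apply P'.root.injective
    apply e.injective
    rw [← hf, ← hf, h]
  have hsurj : Function.Surjective f := by
    intro a
    obtain ⟨b, hb⟩ := h2 a
    refine ⟨b, ?_⟩
    apply P.root.injective
    rw [hf, hb]
  refine ⟨{ weightMap := (e.toIntLinearEquiv : M' →ₗ[ℤ] M)
            coweightMap := (e.toIntLinearEquiv : M' →ₗ[ℤ] M).dualMap
            indexEquiv := Equiv.ofBijective f ⟨hinj, hsurj⟩
            weight_coweight_transpose := ?_
            root_weightMap := ?_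
            coroot_coweightMap := ?_
            bijective_weightMap := ?_
            bijective_coweightMap := ?_ }, rfl⟩
  · apply LinearMap.ext
    intro x
    apply LinearMap.ext
    intro m
    change P.toLinearMap (e m) x =
      P'.toLinearMap m ((e.toIntLinearEquiv : M' →ₗ[ℤ] M).dualMap x)
    rw [hP, hP']
    rfl
  · funext b
    exact (hf b).symm
  · funext a
    apply LinearMap.ext
    intro m
    change P.coroot a (e m) = P'.coroot ((Equiv.ofBijective f ⟨hinj, hsurj⟩).symm a) m
    apply h3
    conv_lhs => rw [← (Equiv.ofBijective f ⟨hinj, hsurj⟩).apply_symm_apply a]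
    rw [Equiv.ofBijective_apply, hf]
  · exact e.bijective
  · exact e.toIntLinearEquiv.dualMap.bijective

end equiv

end Groth.Agent.Sga3B.RootCmp
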