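import Groth.Agent.Sga3B.RootCmp2
import Mathlib.RingTheory.Bialgebra.MonoidAlgebra
import Mathlib.RingTheory.HopfAlgebra.GroupLike

/-!
# The homomorphism of character groups attached to an inclusion of split tori, and the comparison theorem
-/

set_option autoImplicit false
universe u

open LaurentPolynomial TensorProduct

namespace Groth.Agent.Sga3B.RootCmp

open Groth.Agent.Sga3B.Cell

section psi

variable {R A : Type u} [CommRing R] [CommRing A] [Algebra R A] [PtGrp R A] {D D' : Datum R A}

lemma map_evT_sU {B : Type u} [CommRing B] [Algebra R B] (t : TPt D.M B) :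
    TPt.map (D.evT t) (D.sU (B := R)) = t := by
  apply TPt.ext_ch
  intro m
  rw [TPt.ch_map, Datum.ch_sU, Datum.evT_single, map_one, one_mul]
  rfl

lemma evT_map_sU {B : Type u} [CommRing B] [Algebra R B]
    (I : MonoidAlgebra R (Multiplicative D.M) →ₐ[R] B) : D.evT (TPt.map I (D.sU (B := R))) = I := by
  apply MonoidAlgebra.algHom_ext
  · intro g
    rw [Datum.evT_single, map_one, one_mul]
    rfl
  · exact Subsingleton.elim _ _

lemma mul_key {u : TPt D'.M (MonoidAlgebra R (Multiplicative D.M))}
    (hmul : ∀ (B : Type u) [CommRing B] [Algebra R B] (s t : TPt D.M B),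
      TPt.map (D.evT (s * t)) u = TPt.map (D.evT s) u * TPt.map (D.evT t) u)
    {B : Type u} [CommRing B] [Algebra R B]
    (I₁ I₂ J : MonoidAlgebra R (Multiplicative D.M) →ₐ[R] B)
    (hJ : ∀ g, J (MonoidAlgebra.single g 1) = I₁ (MonoidAlgebra.single g 1) *
      I₂ (MonoidAlgebra.single g 1)) (m : D'.M) :
    J (TPt.ch m u) = I₁ (TPt.ch m u) * I₂ (TPt.ch m u) := by
  have e3 : D.evT (TPt.map I₁ (D.sU (B := R)) * TPt.map I₂ (D.sU (B := R))) = J := by
    apply MonoidAlgebra.algHom_ext
    · intro g
      rw [Datum.evT_single, map_one, one_mul]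
      change I₁ (MonoidAlgebra.single g 1) * I₂ (MonoidAlgebra.single g 1) = _
      rw [hJ]
    · exact Subsingleton.elim _ _
  have h1 := congrArg (TPt.ch m) (hmul B (TPt.map I₁ (D.sU (B := R))) (TPt.map I₂ (D.sU (B := R))))
  rw [TPt.ch_map, TPt.ch_mul, TPt.ch_map, TPt.ch_map, evT_map_sU, evT_map_sU, e3] at h1
  exact h1

/-- an inclusion of split tori (on points) comes from a homomorphism of character groups -/
theorem exists_psi [IsDomain R] (h : ∀ (B : Type u) [CommRing B] [Algebra R B] (t : TPt D.M B),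
    ∃ t' : TPt D'.M B, D.i B t = D'.i B t') : ∃ ψ : D'.M →+ D.M, TLe D D' ψ := by
  obtain ⟨u, hu⟩ := h (MonoidAlgebra R (Multiplicative D.M)) D.sU
  -- the transported point for every torus point
  have hF : ∀ (B : Type u) [CommRing B] [Algebra R B] (t : TPt D.M B),
      D.i B t = D'.i B (TPt.map (D.evT t) u) := by
    intro B _ _ t
    rw [← D'.i_nat, ← hu, D.i_nat, map_evT_sU]
  have hmul : ∀ (B : Type u) [CommRing B] [Algebra R B] (s t : TPt D.M B),
      TPt.map (D.evT (s * t)) u = TPt.map (D.evT s) u * TPt.map (D.evT t) u := by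
    intro B _ _ s t
    apply D'.i_inj
    rw [Datum.i_mul', ← hF, ← hF, ← hF, Datum.i_mul']
  have hone : TPt.map (D.evT (1 : TPt D.M R)) u = 1 := by
    apply D'.i_inj
    rw [← hF, map_one, map_one]
  have hgl : ∀ m : D'.M, IsGroupLikeElem R (TPt.ch m u) := by
    intro m
    constructor
    · have e : D.evT (1 : TPt D.M R) = Bialgebra.counitAlgHom R _ := by
        apply MonoidAlgebra.algHom_ext
        · intro g
          rw [Datum.evT_single]
          simp
        · exact Subsingleton.elim _ _
      have h1 := congrArg (TPt.ch m) hone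
      rw [TPt.ch_map, TPt.ch_one, e] at h1
      exact h1
    · exact (mul_key hmul (Algebra.TensorProduct.includeLeft :
        MonoidAlgebra R (Multiplicative D.M) →ₐ[R] MonoidAlgebra R (Multiplicative D.M) ⊗[R]
          MonoidAlgebra R (Multiplicative D.M)) Algebra.TensorProduct.includeRight
        (Bialgebra.comulAlgHom R _) (fun g => by simp) m).trans (by simp)
  have hex : ∀ m : D'.M, ∃ g : D.M, MonoidAlgebra.single (Multiplicative.ofAdd g) (1 : R) = TPt.ch m u := by
    intro m
    obtain ⟨g, hg⟩ := MonoidAlgebra.isGroupLikeElem_iff_mem_range_single_one.1 (hgl m)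
    exact ⟨g.toAdd, hg⟩
  choose ψ hψ using hex
  have hinj : ∀ g h : D.M, MonoidAlgebra.single (Multiplicative.ofAdd g) (1 : R) =
      MonoidAlgebra.single (Multiplicative.ofAdd h) (1 : R) → g = h := by
    intro g h e
    by_contra hne
    have h5 := congrArg (fun z : MonoidAlgebra R (Multiplicative D.M) => z.coeff
      (Multiplicative.ofAdd g)) e
    simp only [MonoidAlgebra.coeff_single] at h5
    rw [Finsupp.single_eq_same, Finsupp.single_eq_of_ne] at h5
    · exact one_ne_zero h5
    · intro h6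
      exact hne (congrArg Multiplicative.toAdd h6)
  let Ψ : D'.M →+ D.M := AddMonoidHom.mk' ψ (by
    intro a b
    apply hinj
    rw [hψ, TPt.ch_add, ← hψ, ← hψ, MonoidAlgebra.single_mul_single, one_mul, ofAdd_add])
  refine ⟨Ψ, ?_⟩
  intro B _ _ t
  rw [hF]
  congr 1
  apply TPt.ext_ch
  intro m
  rw [TPt.ch_map, ← hψ, Datum.evT_single, map_one, one_mul]
  rfl

end psi

section closed

variable {K A : Type u} [Field K] [IsAlgClosed K] [CommRing A] [Algebra K A] [PtGrp K A]
  [Algebra.FiniteType K A] [IsDomain (K ⊗[K] A)]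

/-- Two splittings with the same torus: the root data agree through the identification of the
character groups. -/
theorem exists_equiv_of_tle {D D' : Datum K A} (hD : D.Good)
    {ψ : D'.M →+ D.M} (hψ : TLe D D' ψ)
    (hrev : ∀ a, ∃ b, D.root a = ψ (D'.root b))
    (P : RootPairing D.idx ℤ D.M (Module.Dual ℤ D.M)) (hP : P.toLinearMap = Module.Dual.eval ℤ D.M)
    (hr : ∀ a, P.root a = D.root a)
    (hn : ∀ a, ∃ n, Acts D n (P.reflection a).toLinearMap.toAddMonoidHom)
    (P' : RootPairing D'.idx ℤ D'.M (Module.Dual ℤ D'.M))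
    (hP' : P'.toLinearMap = Module.Dual.eval ℤ D'.M) (hr' : ∀ a, P'.root a = D'.root a)
    (hn' : ∀ a, ∃ n, Acts D' n (P'.reflection a).toLinearMap.toAddMonoidHom) :
    ∃ E : RootPairing.Equiv P' P, ∀ m, E.weightMap m = ψ m := by
  have hinj := psi_injective hD hψ
  have hsurj := psi_surjective (R := K) hψ
  let e : D'.M ≃+ D.M := AddEquiv.ofBijective ψ ⟨hinj, hsurj⟩
  have he : TLe D D' (e : D'.M →+ D.M) := hψ
  have hroots : ∀ b, ∃ a, D.root a = e (D'.root b) := by
    intro b
    apply exists_root_eq hD hψ b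
    rw [Ne, map_eq_zero_iff ψ hinj]
    exact D'.root_ne b
  have hroots' : ∀ a, ∃ b, D.root a = e (D'.root b) := hrev
  have hrefl : ∀ a m, (P.reflection a).toLinearMap.toAddMonoidHom m =
      m - P.coroot a m • D.root a := by
    intro a m
    change P.reflection a m = _
    rw [RootPairing.reflection_apply, hr]
    congr 2
    change P.toLinearMap m (P.coroot a) = _
    rw [hP]; rfl
  have hrefl' : ∀ a m, (P'.reflection a).toLinearMap.toAddMonoidHom m =
      m - P'.coroot a m • D'.root a := by
    intro a m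
    change P'.reflection a m = _
    rw [RootPairing.reflection_apply, hr']
    congr 2
    change P'.toLinearMap m (P'.coroot a) = _
    rw [hP']; rfl
  obtain ⟨E, hE⟩ := exists_rootPairing_equiv P P' hP hP' e
    (fun b => by obtain ⟨a, ha⟩ := hroots b; exact ⟨a, by rw [hr, hr', ha]⟩)
    (fun a => by obtain ⟨b, hb⟩ := hroots' a; exact ⟨b, by rw [hr, hr', hb]⟩)
    (by
      intro a b hab m
      rw [hr, hr'] at hab
      obtain ⟨n, hn⟩ := hn a
      obtain ⟨n', hn'⟩ := hn' b
      exact coroot_eq hD e he hroots hroots' hab (P.coroot a).toAddMonoidHom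
        (P'.coroot b).toAddMonoidHom
        (by
          have h := P.root_coroot_two a
          rw [hP, hr] at h
          exact h)
        (by
          have h := P'.root_coroot_two b
          rw [hP', hr'] at h
          exact h)
        (P.reflection a).toLinearMap.toAddMonoidHom (P'.reflection b).toLinearMap.toAddMonoidHom
        (hrefl a) (hrefl' b)
        (fun c => ⟨P.reflectionPerm a c, by
          rw [← hr, ← hr, RootPairing.root_reflectionPerm]; rfl⟩)
        (fun c => ⟨P'.reflectionPerm b c, by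
          rw [← hr', ← hr', RootPairing.root_reflectionPerm]; rfl⟩) hn hn' m)
  refine ⟨E, fun m => ?_⟩
  rw [hE]; rfl

/-- The comparison theorem at the level of points: conjugate tori. -/
theorem exists_equiv {D D' : Datum K A} (hD : D.Good) (hD' : D'.Good) (g : Pt K A K)
    {ψ : D'.M →+ D.M}
    (hψ : ∀ (B : Type u) [CommRing B] [Algebra K B] (t : TPt D.M B),
      up B g * D.i B t * (up B g)⁻¹ = D'.i B (t.comp (AddMonoidHom.toMultiplicative ψ)))
    (P : RootPairing D.idx ℤ D.M (Module.Dual ℤ D.M)) (hP : P.toLinearMap = Module.Dual.eval ℤ D.M)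
    (hr : ∀ a, P.root a = D.root a)
    (hn : ∀ a, ∃ n, Acts D n (P.reflection a).toLinearMap.toAddMonoidHom)
    (P' : RootPairing D'.idx ℤ D'.M (Module.Dual ℤ D'.M))
    (hP' : P'.toLinearMap = Module.Dual.eval ℤ D'.M) (hr' : ∀ a, P'.root a = D'.root a)
    (hn' : ∀ a, ∃ n, Acts D' n (P'.reflection a).toLinearMap.toAddMonoidHom) :
    ∃ E : RootPairing.Equiv P' P, ∀ m, E.weightMap m = ψ m := by
  have hψ' : TLe D (conj D' g⁻¹) ψ := by
    intro B _ _ t
    change D.i B t = up B g⁻¹ * D'.i B (t.comp (AddMonoidHom.toMultiplicative ψ)) * (up B g⁻¹)⁻¹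
    rw [up_inv, ← hψ]
    group
  have hinj : Function.Injective ψ := psi_injective (D' := conj D' g⁻¹) hD hψ'
  have hsurj : Function.Surjective ψ := psi_surjective (D' := conj D' g⁻¹) hψ'
  let e : D'.M ≃+ D.M := AddEquiv.ofBijective ψ ⟨hinj, hsurj⟩
  have hsymm : TLe D' (conj D g) (e.symm : D.M →+ D'.M) := by
    intro B _ _ t
    change D'.i B t = up B g * D.i B (t.comp (AddMonoidHom.toMultiplicative
      (e.symm : D.M →+ D'.M))) * (up B g)⁻¹
    rw [hψ]
    congr 1
    apply TPt.ext_ch
    intro m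
    change TPt.ch m t = TPt.ch (e.symm (e m)) t
    rw [AddEquiv.symm_apply_apply]
  refine exists_equiv_of_tle (D := D) (D' := conj D' g⁻¹) hD hψ' ?_ P hP hr hn P' hP' hr' ?_
  · intro a
    obtain ⟨b, hb⟩ := exists_root_eq hD' hsymm a (by
      change e.symm (D.root a) ≠ 0
      rw [Ne, EmbeddingLike.map_eq_zero_iff]
      exact D.root_ne a)
    refine ⟨b, ?_⟩
    change D'.root b = e.symm (D.root a) at hb
    change D.root a = e (D'.root b)
    rw [hb, AddEquiv.apply_symm_apply]
  · intro a
    obtain ⟨n, hn⟩ := hn' a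
    refine ⟨g⁻¹ * n * g, ?_⟩
    intro B _ _ t
    have h := hn B t
    change up B (g⁻¹ * n * g) * (up B g⁻¹ * D'.i B t * (up B g⁻¹)⁻¹) * (up B (g⁻¹ * n * g))⁻¹ =
      up B g⁻¹ * D'.i B (t.comp (AddMonoidHom.toMultiplicative
        (P'.reflection a).toLinearMap.toAddMonoidHom)) * (up B g⁻¹)⁻¹
    rw [← h, up_mul, up_mul, up_inv]
    group

end closed

end Groth.Agent.Sga3B.RootCmp
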