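import Groth.Agent.Sga3B.RootCmp3

/-!
# Corollary: the comparison of root data for two data with the same torus, in index form
-/

set_option autoImplicit false
universe u

open LaurentPolynomial TensorProduct

namespace Groth.Agent.Sga3B.RootCmp

open Groth.Agent.Sga3B.Cell

variable {K A : Type u} [Field K] [IsAlgClosed K] [CommRing A] [Algebra K A] [PtGrp K A]
  [Algebra.FiniteType K A] [IsDomain (K ⊗[K] A)]

/-- Same torus (through `θ`): the root data agree. -/
theorem exists_equiv_same {D D' : Datum K A} (hD : D.Good) (hD' : D'.Good)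
    {ψ : D'.M →+ D.M} (hψ : TLe D D' ψ)
    (P : RootPairing D.idx ℤ D.M (Module.Dual ℤ D.M)) (hP : P.toLinearMap = Module.Dual.eval ℤ D.M)
    (hr : ∀ a, P.root a = D.root a)
    (hn : ∀ a, ∃ n, Acts D n (P.reflection a).toLinearMap.toAddMonoidHom)
    (P' : RootPairing D'.idx ℤ D'.M (Module.Dual ℤ D'.M))
    (hP' : P'.toLinearMap = Module.Dual.eval ℤ D'.M) (hr' : ∀ a, P'.root a = D'.root a)
    (hn' : ∀ a, ∃ n, Acts D' n (P'.reflection a).toLinearMap.toAddMonoidHom) :
    ∃ E : RootPairing.Equiv P' P, ∀ m, E.weightMap m = ψ m := by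
  refine exists_equiv hD hD' 1 ?_ P hP hr hn P' hP' hr' hn'
  intro B _ _ t
  have h1 : up B (1 : Pt K A K) = 1 := Pt.map_one _
  rw [h1, one_mul, inv_one, mul_one, hψ]

/-- Index form of `exists_equiv_same`. -/
theorem exists_indexEquiv {D D' : Datum K A} (hD : D.Good) (hD' : D'.Good)
    {ψ : D'.M →+ D.M} (hψ : TLe D D' ψ)
    (P : RootPairing D.idx ℤ D.M (Module.Dual ℤ D.M)) (hP : P.toLinearMap = Module.Dual.eval ℤ D.M)
    (hr : ∀ a, P.root a = D.root a)
    (hn : ∀ a, ∃ n, Acts D n (P.reflection a).toLinearMap.toAddMonoidHom)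
    (P' : RootPairing D'.idx ℤ D'.M (Module.Dual ℤ D'.M))
    (hP' : P'.toLinearMap = Module.Dual.eval ℤ D'.M) (hr' : ∀ a, P'.root a = D'.root a)
    (hn' : ∀ a, ∃ n, Acts D' n (P'.reflection a).toLinearMap.toAddMonoidHom) :
    ∃ e : D'.idx ≃ D.idx, (∀ b, ψ (P'.root b) = P.root (e b)) ∧
      ∀ b m, P.coroot (e b) (ψ m) = P'.coroot b m := by
  obtain ⟨E, hE⟩ := exists_equiv_same hD hD' hψ P hP hr hn P' hP' hr' hn'
  refine ⟨E.indexEquiv, ?_, ?_⟩
  · intro b
    rw [← hE]
    exact congrFun E.root_weightMap b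
  · intro b m
    have h1 := congrFun E.coroot_coweightMap (E.indexEquiv b)
    simp only [Function.comp_apply, Equiv.symm_apply_apply] at h1
    have h2 := RootPairing.Hom.weight_coweight_transpose_apply P' P (P.coroot (E.indexEquiv b)) E.toHom
    have h3 := congrArg (fun f => f m) h2
    change P.toLinearMap (E.weightMap m) (P.coroot (E.indexEquiv b)) =
      P'.toLinearMap m (E.coweightMap (P.coroot (E.indexEquiv b))) at h3
    rw [h1, hP, hP', hE] at h3
    exact h3

/-- Tori conjugate by a point (weak form): the root data are equivalent. -/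
theorem exists_equiv_of_conj {D D' : Datum K A} (hD : D.Good) (hD' : D'.Good) (g : Pt K A K)
    (hg : ∀ (B : Type u) [CommRing B] [Algebra K B] (t : TPt D.M B),
      ∃ t' : TPt D'.M B, up B g * D.i B t * (up B g)⁻¹ = D'.i B t')
    (P : RootPairing D.idx ℤ D.M (Module.Dual ℤ D.M)) (hP : P.toLinearMap = Module.Dual.eval ℤ D.M)
    (hr : ∀ a, P.root a = D.root a)
    (hn : ∀ a, ∃ n, Acts D n (P.reflection a).toLinearMap.toAddMonoidHom)
    (P' : RootPairing D'.idx ℤ D'.M (Module.Dual ℤ D'.M))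
    (hP' : P'.toLinearMap = Module.Dual.eval ℤ D'.M) (hr' : ∀ a, P'.root a = D'.root a)
    (hn' : ∀ a, ∃ n, Acts D' n (P'.reflection a).toLinearMap.toAddMonoidHom) :
    ∃ (ψ : D'.M →+ D.M) (E : RootPairing.Equiv P' P), (∀ m, E.weightMap m = ψ m) ∧
      ∀ (B : Type u) [CommRing B] [Algebra K B] (t : TPt D.M B),
        up B g * D.i B t * (up B g)⁻¹ = D'.i B (t.comp (AddMonoidHom.toMultiplicative ψ)) := by
  obtain ⟨ψ, hψ⟩ := exists_psi (D := conj D g) (D' := D') hg
  obtain ⟨E, hE⟩ := exists_equiv hD hD' g (ψ := ψ) hψ P hP hr hn P' hP' hr' hn'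
  exact ⟨ψ, E, hE, hψ⟩

end Groth.Agent.Sga3B.RootCmp
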