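import Groth.Agent.Sga3B.RootCmp4
import Groth.Agent.Sga3B.PinModel

/-!
# From statements about all `S`-schemes to statements about points of the coordinate ring
-/

set_option autoImplicit false
universe u

open CategoryTheory MonoidalCategory CartesianMonoidalCategory MonObj GrpObj AlgebraicGeometry

namespace Groth.Agent.Sga3B.RootCmpSch

open Cell DSPts GaPts PinMod RootCmp

variable {S : Scheme.{u}} {G : Over S} [GrpObj G] {R A : Type u} [CommRing R] [CommRing A]
  [Algebra R A] [PtGrp R A] {s : Spec (CommRingCat.of R) ⟶ S}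
  (pts : ∀ (B : Type u) [CommRing B] [Algebra R B], Pt R A B ≃* (tB s B ⟶ G))
  (pts_nat : ∀ {B C : Type u} [CommRing B] [Algebra R B] [CommRing C] [Algebra R C] (φ : B →ₐ[R] C)
    (g : Pt R A B), tMap s φ ≫ pts B g = pts C (Pt.map φ g))

include pts_nat in
/-- a section of `G` over `S` as an `R`-point of the coordinate ring -/
lemma pts_up (n : 𝟙_ (Over S) ⟶ G) (B : Type u) [CommRing B] [Algebra R B] :
    pts B (up B ((pts R).symm (toUnit (tB s R) ≫ n))) = toUnit (tB s B) ≫ n := by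
  rw [up, ← pts_nat, MulEquiv.apply_symm_apply, ← Category.assoc]
  congr 1
  exact toUnit_unique _ _

variable {M M' : Type} [AddCommGroup M] [AddCommGroup M']

lemma chΓ_comp {B : Type u} [CommRing B] [Algebra R B] (t : TPt M B) (φ : M' →+ M) :
    (chΓ s t).comp (AddMonoidHom.toMultiplicative φ) =
      chΓ s (t.comp (AddMonoidHom.toMultiplicative φ)) := rfl

include pts_nat in
/-- reflections -/
theorem exists_acts (j : Red.DS S M ⟶ G)
    (i : ∀ (B : Type u) [CommRing B] [Algebra R B], TPt M B →* Pt R A B)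
    (hi : ∀ (B : Type u) [CommRing B] [Algebra R B] (t : TPt M B),
      pts B (i B t) = dsEquiv (tB s B) M (chΓ s t) ≫ j)
    (n : 𝟙_ (Over S) ⟶ G) (φ : M →+ M)
    (hn : ∀ (X : Over S) (x : X ⟶ Red.DS S M),
      (toUnit X ≫ n) * (x ≫ j) * (toUnit X ≫ n)⁻¹ = x ≫ Red.DSmap S φ ≫ j) :
    ∃ n₀ : Pt R A R, ∀ (B : Type u) [CommRing B] [Algebra R B] (t : TPt M B),
      up B n₀ * i B t * (up B n₀)⁻¹ = i B (t.comp (AddMonoidHom.toMultiplicative φ)) := by
  refine ⟨(pts R).symm (toUnit (tB s R) ≫ n), ?_⟩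
  intro B _ _ t
  apply (pts B).injective
  rw [map_mul, map_mul, map_inv, pts_up pts pts_nat, hi, hi, hn, ← Category.assoc, dsEquiv_DSmap,
    chΓ_comp]

include pts_nat in
/-- conjugation of tori -/
theorem exists_conj (j : Red.DS S M ⟶ G) (j' : Red.DS S M' ⟶ G)
    (i : ∀ (B : Type u) [CommRing B] [Algebra R B], TPt M B →* Pt R A B)
    (i' : ∀ (B : Type u) [CommRing B] [Algebra R B], TPt M' B →* Pt R A B)
    (hi : ∀ (B : Type u) [CommRing B] [Algebra R B] (t : TPt M B),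
      pts B (i B t) = dsEquiv (tB s B) M (chΓ s t) ≫ j)
    (hi' : ∀ (B : Type u) [CommRing B] [Algebra R B] (t : TPt M' B),
      pts B (i' B t) = dsEquiv (tB s B) M' (chΓ s t) ≫ j')
    (g : 𝟙_ (Over S) ⟶ G)
    (hg : ∀ (X : Over S) (x : X ⟶ Red.DS S M), ∃ x' : X ⟶ Red.DS S M',
      (toUnit X ≫ g) * (x ≫ j) * (toUnit X ≫ g)⁻¹ = x' ≫ j') :
    ∃ g₀ : Pt R A R, ∀ (B : Type u) [CommRing B] [Algebra R B] (t : TPt M B),
      ∃ t' : TPt M' B, up B g₀ * i B t * (up B g₀)⁻¹ = i' B t' := by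
  refine ⟨(pts R).symm (toUnit (tB s R) ≫ g), ?_⟩
  intro B _ _ t
  obtain ⟨x', hx'⟩ := hg (tB s B) (dsEquiv (tB s B) M (chΓ s t))
  obtain ⟨t', ht'⟩ := exists_chΓ s x'
  refine ⟨t', ?_⟩
  apply (pts B).injective
  rw [map_mul, map_mul, map_inv, pts_up pts pts_nat, hi, hi', hx', ht']

end Groth.Agent.Sga3B.RootCmpSch
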