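import Mathlib.LinearAlgebra.RootSystem.Basic
import Mathlib.LinearAlgebra.Dual.Lemmas
import Mathlib.LinearAlgebra.FreeModule.Finite.Basic
import Mathlib.Data.Int.Basic

/-!
# A root datum from a finite set of reflections

`M` a finitely generated free abelian group, `Φ` a finite set of nonzero elements, for each
`a ∈ Φ` a linear form `f a` with `f a a = 2` such that the reflection `x ↦ x - f a x • a` maps `Φ`
to `Φ`; if all these reflections lie in a finite submonoid of `End M` then `(Φ, f)` is a
root datum.
-/

set_option autoImplicit false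

namespace Groth.Agent.Sga3B.RootDatum879

section Unip

variable {M : Type*} [AddCommGroup M]

/-- `x ↦ x - f x • a` -/
def refl (a : M) (f : M →+ ℤ) : M →+ M where
  toFun x := x - f x • a
  map_zero' := by simp
  map_add' x y := by rw [map_add, add_smul]; abel

@[simp] lemma refl_apply (a : M) (f : M →+ ℤ) (x : M) : refl a f x = x - f x • a := rfl

/-- `refl` as an element of the monoid `AddMonoid.End M` -/
def reflE (a : M) (f : M →+ ℤ) : AddMonoid.End M := refl a f

/-- a transvection `x ↦ x + h x • b` with `h b = 0` contained in a finite submonoid is trivial. -/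
lemma eq_zero_of_unip (W : Submonoid (AddMonoid.End M)) [Finite W] (b : M) (h : M →+ ℤ)
    (hb : h b = 0) (τ : AddMonoid.End M) (hτ : ∀ x, τ x = x + h x • b) (hW : τ ∈ W) (x : M) :
    ∃ n : ℕ, n ≠ 0 ∧ (n : ℤ) • (h x • b) = 0 := by
  have hpow : ∀ (n : ℕ) (x : M), (τ ^ n) x = x + (n : ℤ) • (h x • b) := by
    intro n
    induction n with
    | zero => intro x; simp
    | succ n ih =>
      intro x
      rw [pow_succ]
      change (τ ^ n) (τ x) = _
      rw [ih, hτ, map_add, map_zsmul, hb, smul_zero, add_zero, Nat.cast_succ, add_smul, one_smul]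
      abel
  obtain ⟨k, l, hkl, he⟩ := Finite.exists_ne_map_eq_of_infinite
    (fun n : ℕ => (⟨τ ^ n, Submonoid.pow_mem W hW n⟩ : W))
  wlog hlt : k < l generalizing k l
  · exact this l k hkl.symm he.symm (by omega)
  have he' : τ ^ k = τ ^ l := congrArg Subtype.val he
  have h1 := DFunLike.congr_fun he' x
  rw [hpow, hpow] at h1
  refine ⟨l - k, by omega, ?_⟩
  have h2 : (k : ℤ) • (h x • b) = (l : ℤ) • (h x • b) := add_left_cancel h1
  have h3 : ((l - k : ℕ) : ℤ) = (l : ℤ) - k := by omega
  rw [h3, sub_smul, ← h2, sub_self]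

end Unip

variable {M : Type} [AddCommGroup M] [Module.Finite ℤ M] [Module.Free ℤ M]
variable (Φ : Finset M) (f : {a // a ∈ Φ} → (M →+ ℤ))

/-- Two reflections in the same vector inside a finite monoid coincide. -/
lemma form_unique (W : Submonoid (AddMonoid.End M)) [Finite W] {b : M}
    (g g' : M →+ ℤ) (hg : g b = 2) (hg' : g' b = 2)
    (hW : (reflE b g) ∈ W) (hW' : (reflE b g') ∈ W) : g = g' := by
  have hb : b ≠ 0 := by rintro rfl; rw [map_zero] at hg; omega
  have h2 := fun x => eq_zero_of_unip W b (g' - g)
    (by rw [AddMonoidHom.sub_apply, hg, hg', sub_self])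
    ((reflE b g) * (reflE b g'))
    (fun x => by
      change refl b g (refl b g' x) = _
      rw [refl_apply, refl_apply, map_sub, map_zsmul, hg, AddMonoidHom.sub_apply, sub_smul,
        sub_smul, smul_eq_mul, mul_comm, mul_smul]
      rw [two_smul]; abel) (Submonoid.mul_mem W hW hW') x
  ext x
  obtain ⟨n, hn, h3⟩ := h2 x
  rw [smul_smul] at h3
  have h4 : (n : ℤ) * (g' - g) x = 0 := by
    rcases smul_eq_zero.mp h3 with h | h
    · exact h
    · exact absurd h hb
  rcases mul_eq_zero.mp h4 with h | h
  · omega
  · rw [AddMonoidHom.sub_apply] at h; omega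

/-- The root datum. -/
theorem exists_rootPairing (hf : ∀ a : {a // a ∈ Φ}, f a a = 2)
    (hs : ∀ a b : {a // a ∈ Φ}, (b : M) - f a b • (a : M) ∈ Φ)
    (W : Submonoid (AddMonoid.End M)) [Finite W]
    (hW : ∀ a : {a // a ∈ Φ}, (reflE (a : M) (f a)) ∈ W) :
    ∃ P : RootPairing {a // a ∈ Φ} ℤ M (Module.Dual ℤ M),
      P.toLinearMap = Module.Dual.eval ℤ M ∧ (∀ a, P.root a = a) ∧
      (∀ a x, P.coroot a x = f a x) := by
  let co : {a // a ∈ Φ} → Module.Dual ℤ M := fun a => (f a).toIntLinearMap
  have hco : ∀ a x, co a x = f a x := fun a x => rfl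
  have hinj : Function.Injective co := by
    intro a b hab
    have hab' : f a = f b := by
      ext x
      have := DFunLike.congr_fun hab x
      exact this
    have h2 := eq_zero_of_unip W ((a : M) - b) (f a)
      (by rw [map_sub, hf]; nth_rw 1 [hab']; rw [hf, sub_self])
      ((reflE (a : M) (f a)) * (reflE (b : M) (f b)))
      (fun x => by
        change refl (a : M) (f a) (refl (b : M) (f b) x) = _
        rw [refl_apply, refl_apply, ← hab', map_sub, map_zsmul]
        have : f a (b : M) = 2 := by rw [hab', hf]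
        rw [this, sub_smul, smul_eq_mul, mul_comm, mul_smul, two_smul, smul_sub]
        abel) (Submonoid.mul_mem W (hW a) (hW b)) (a : M)
    obtain ⟨n, hn, h3⟩ := h2
    rw [hf, smul_smul] at h3
    rcases smul_eq_zero.mp h3 with h | h
    · omega
    · exact Subtype.ext (sub_eq_zero.mp h)
  let pe : M →ₗ[ℤ] Module.Dual ℤ M →ₗ[ℤ] ℤ := Module.Dual.eval ℤ M
  have : pe.IsPerfPair := inferInstanceAs (Module.Dual.eval ℤ M).IsPerfPair
  have hr : ∀ a : {a // a ∈ Φ}, Set.MapsTo (Module.preReflection (a : M) (pe.flip (co a)))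
      (Set.range (Subtype.val : {a // a ∈ Φ} → M)) (Set.range (Subtype.val : {a // a ∈ Φ} → M)) := by
    rintro a _ ⟨b, rfl⟩
    refine ⟨⟨_, hs a b⟩, ?_⟩
    rw [Module.preReflection_apply]
    rfl
  have hc : ∀ a : {a // a ∈ Φ}, Set.MapsTo (Module.preReflection (co a) (pe (a : M)))
      (Set.range co) (Set.range co) := by
    rintro a _ ⟨b, rfl⟩
    refine ⟨⟨_, hs a b⟩, ?_⟩
    rw [Module.preReflection_apply]
    set c : {a // a ∈ Φ} := ⟨_, hs a b⟩ with hcdef
    -- the form `f b ∘ s_a`
    have key : f c = (f b).comp (refl (a : M) (f a)) := by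
      refine form_unique W (b := (c : M)) _ _ (hf c) ?_ (hW c) ?_
      · rw [AddMonoidHom.comp_apply, refl_apply]
        have : (c : M) - f a (c : M) • (a : M) = b := by
          change (b : M) - f a b • (a : M) - f a ((b : M) - f a b • (a : M)) • (a : M) = b
          rw [map_sub, map_zsmul, hf, smul_eq_mul, sub_smul, mul_smul, two_smul, smul_add]
          abel
        rw [this, hf]
      · have : (reflE (c : M) ((f b).comp (refl (a : M) (f a)))) =
            (reflE (a : M) (f a)) * (reflE (b : M) (f b)) *
              (reflE (a : M) (f a)) := by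
          ext x
          change x - f b (refl (a : M) (f a) x) • (c : M) =
            refl (a : M) (f a) (refl (b : M) (f b) (refl (a : M) (f a) x))
          set y := refl (a : M) (f a) x with hy
          rw [refl_apply (b : M), map_sub (refl (a : M) (f a)), map_zsmul]
          have h5 : refl (a : M) (f a) y = x := by
            rw [hy, refl_apply, refl_apply, map_sub, map_zsmul, hf, smul_eq_mul, sub_smul,
              mul_smul, two_smul, smul_add]
            abel
          rw [h5]
          rfl
        rw [this]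
        exact Submonoid.mul_mem W (Submonoid.mul_mem W (hW a) (hW b)) (hW a)
    ext x
    rw [hco, key]
    change f b (x - f a x • (a : M)) = f b x - f b (a : M) * f a x
    rw [map_sub, map_zsmul, smul_eq_mul, mul_comm]
  refine ⟨RootPairing.mk' pe ⟨Subtype.val, Subtype.val_injective⟩ ⟨co, hinj⟩
    (fun a => ?_) hr hc, rfl, fun a => rfl, fun a x => rfl⟩
  exact hf a

end Groth.Agent.Sga3B.RootDatum879
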