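import Groth.Agent.Sga3B.RootGa
import Mathlib.LinearAlgebra.LinearIndependent.Basic
import Mathlib.LinearAlgebra.Dual.Lemmas
import Mathlib.FieldTheory.IsAlgClosed.Basic

/-!
# Points normalizing a split torus over an infinite field

`K` infinite field, `p : A →ₐc[K] K[M]`, `M` free.

* `eq_zero_of_evT`: `K`-points of the torus are dense;
* `NormRel p n w`: `n * t * n⁻¹ = t ∘ w` for all `K`-points `t` of the torus;
  `NormRel.all`: the same for all `C`-points.
* `finite_normRel`: only finitely many endomorphisms `w` of `M` occur.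
-/

set_option autoImplicit false

open TensorProduct WithConv
open Groth.Agent.Books.DynBasic (mapPt mapPt_apply mapPt_injective)
open Groth.Agent.Sga3B.RootCoact Groth.Agent.Sga3B.RootOrb Groth.Agent.Sga3B.RootGr
open Groth.Agent.Sga3B.RootGa

universe u

namespace Groth.Agent.Sga3B.RootDens136

section Dens

variable {K : Type u} [Field K] [Infinite K] {M : Type} [AddCommGroup M] [Module.Free ℤ M]

lemma exists_zpow_ne_one {n : ℤ} (hn : n ≠ 0) : ∃ t : Kˣ, t ^ n ≠ 1 := by
  classical
  by_contra h
  push Not at h
  have hn' : 0 < n.natAbs := Int.natAbs_pos.mpr hn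
  have h1 : ∀ t : Kˣ, t ^ n.natAbs = 1 := by
    intro t
    rcases Int.natAbs_eq n with h2 | h2
    · rw [← zpow_natCast, ← h2, h t]
    · have := h t
      rw [h2, zpow_neg, inv_eq_one, zpow_natCast] at this
      exact this
  have hp : (Polynomial.X ^ n.natAbs - 1 : Polynomial K) ≠ 0 := by
    have := Polynomial.X_pow_sub_C_ne_zero hn' (1 : K)
    simpa using this
  have hfin : Set.Finite {x : K | x ^ n.natAbs = 1} := by
    refine Set.Finite.subset (Polynomial.finite_setOfPred_isRoot hp) ?_
    intro x hx
    simp only [Set.mem_ofPred_eq] at hx ⊢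
    rw [Polynomial.IsRoot.def, Polynomial.eval_sub, Polynomial.eval_pow, Polynomial.eval_X,
      Polynomial.eval_one, hx, sub_self]
  have huniv : (Set.univ : Set K) ⊆ {x : K | x ^ n.natAbs = 1} ∪ {0} := by
    intro x _
    by_cases hx : x = 0
    · right; exact hx
    · left
      have := h1 (Units.mk0 x hx)
      have h2 := congrArg Units.val this
      simpa using h2
  exact Set.infinite_univ ((hfin.union (Set.finite_singleton 0)).subset huniv)

lemma exists_char_ne_one {m : M} (hm : m ≠ 0) :
    ∃ t : Multiplicative M →* Kˣ, t (Multiplicative.ofAdd m) ≠ 1 := by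
  obtain ⟨f, hf⟩ : ∃ f : Module.Dual ℤ M, f m ≠ 0 := by
    by_contra h
    push Not at h
    exact hm ((Module.forall_dual_apply_eq_zero_iff ℤ m).1 h)
  obtain ⟨s, hs⟩ := exists_zpow_ne_one (K := K) hf
  exact ⟨(zpowersHom Kˣ s).comp (AddMonoidHom.toMultiplicative f.toAddMonoidHom), hs⟩

/-- the evaluation character -/
def evChar (m : Multiplicative M) : (Multiplicative M →* Kˣ) →* K where
  toFun t := (t m : K)
  map_one' := rfl
  map_mul' _ _ := rfl

lemma evChar_injective : Function.Injective (evChar (K := K) (M := M)) := by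
  intro m n hmn
  by_contra h
  have hne : (m.toAdd - n.toAdd : M) ≠ 0 := by
    rw [sub_ne_zero]
    exact fun h' => h (Multiplicative.toAdd.injective h')
  obtain ⟨t, ht⟩ := exists_char_ne_one (K := K) hne
  apply ht
  have h1 : (t m : K) = t n := DFunLike.congr_fun hmn t
  have h2 : t m = t n := Units.ext h1
  rw [ofAdd_sub, map_div]
  change t m / t n = 1
  rw [h2, div_self']

/-- density of the `K`-points of the torus -/
theorem eq_zero_of_evT {f : MonoidAlgebra K (Multiplicative M)}
    (h : ∀ t : Multiplicative M →* Kˣ, evT K t f = 0) : f = 0 := by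
  classical
  have hli := (linearIndependent_monoidHom (Multiplicative M →* Kˣ) K).comp
    (evChar (K := K) (M := M)) evChar_injective
  rw [linearIndependent_iff'] at hli
  have h1 := hli f.coeff.support f.coeff (by
    funext t
    rw [Finset.sum_apply]
    have h2 := h t
    rw [evT, MonoidAlgebra.lift_apply] at h2
    exact h2)
  ext m
  by_cases hm : m ∈ f.coeff.support
  · exact h1 m hm
  · exact Finsupp.notMem_support_iff.1 hm

theorem ext_evT {f g : MonoidAlgebra K (Multiplicative M)}
    (h : ∀ t : Multiplicative M →* Kˣ, evT K t f = evT K t g) : f = g := by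
  rw [← sub_eq_zero]
  apply eq_zero_of_evT
  intro t
  rw [map_sub, h, sub_self]

end Dens

section Norm

variable {K : Type u} [Field K] {A : Type u} [CommRing A] [HopfAlgebra K A]
variable {M : Type} [AddCommGroup M]
variable (p : A →ₐc[K] MonoidAlgebra K (Multiplicative M))

/-- `n` normalizes the torus through `w` (on `K`-points). -/
def NormRel (n : WithConv (A →ₐ[K] K)) (w : M →+ M) : Prop :=
  ∀ t : Multiplicative M →* Kˣ,
    n * torPt p t * n⁻¹ = torPt p (t.comp (AddMonoidHom.toMultiplicative w))

variable {p}

theorem NormRel.all [Infinite K] [Module.Free ℤ M] {n : WithConv (A →ₐ[K] K)} {w : M →+ M}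
    (h : NormRel p n w) {C : Type u} [CommRing C] [Algebra K C] (t : Multiplicative M →* Cˣ) :
    mapPt (Algebra.ofId K C) n * torPt p t * (mapPt (Algebra.ofId K C) n)⁻¹ =
      torPt p (t.comp (AddMonoidHom.toMultiplicative w)) := by
  let B := MonoidAlgebra K (Multiplicative M)
  -- the universal case
  have huniv : mapPt (Algebra.ofId K B) n * torPt p (tau M K) * (mapPt (Algebra.ofId K B) n)⁻¹ =
      torPt p ((tau M K).comp (AddMonoidHom.toMultiplicative w)) := by
    apply WithConv.ofConv_injective
    apply AlgHom.ext
    intro y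
    apply ext_evT
    intro s
    have h1 : mapPt (evT K s) (mapPt (Algebra.ofId K B) n * torPt p (tau M K) *
        (mapPt (Algebra.ofId K B) n)⁻¹) =
        mapPt (evT K s) (torPt p ((tau M K).comp (AddMonoidHom.toMultiplicative w))) := by
      rw [map_mul, map_mul, map_inv, mapPt_torPt, mapPt_torPt]
      have h2 : mapPt (evT K s) (mapPt (Algebra.ofId K B) n) = n := by
        apply WithConv.ofConv_injective
        apply AlgHom.ext
        intro a
        rw [mapPt_apply, mapPt_apply]
        exact (evT K s).commutes _
      have h3 : (Units.map ((evT K s : B →ₐ[K] K) : B →* K)).comp (tau M K) = s := by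
        refine MonoidHom.ext fun m => Units.ext ?_
        change evT K s (MonoidAlgebra.single m 1) = _
        rw [evT_single, one_smul]
      rw [h2, ← MonoidHom.comp_assoc, h3]
      exact h s
    exact DFunLike.congr_fun (congrArg WithConv.ofConv h1) y
  have h1 := congrArg (mapPt (evT K t)) huniv
  rw [map_mul, map_mul, map_inv, mapPt_torPt, mapPt_torPt] at h1
  have h2 : mapPt (evT K t) (mapPt (Algebra.ofId K B) n) = mapPt (Algebra.ofId K C) n := by
    apply WithConv.ofConv_injective
    apply AlgHom.ext
    intro a
    rw [mapPt_apply, mapPt_apply, mapPt_apply]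
    exact (evT K t).commutes _
  have h3 : (Units.map ((evT K t : B →ₐ[K] C) : B →* C)).comp (tau M K) = t := by
    refine MonoidHom.ext fun m => Units.ext ?_
    change evT K t (MonoidAlgebra.single m 1) = _
    rw [evT_single, one_smul]
  rw [h2, ← MonoidHom.comp_assoc, h3] at h1
  exact h1

theorem NormRel.mul {n n' : WithConv (A →ₐ[K] K)} {w w' : M →+ M}
    (h : NormRel p n w) (h' : NormRel p n' w') : NormRel p (n * n') (w'.comp w) := by
  intro t
  rw [mul_inv_rev]
  calc n * n' * torPt p t * (n'⁻¹ * n⁻¹) = n * (n' * torPt p t * n'⁻¹) * n⁻¹ := by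
        simp only [mul_assoc]
    _ = _ := by rw [h' t, h]; rfl

theorem NormRel.one : NormRel p 1 (AddMonoidHom.id M) := by
  intro t
  rw [one_mul, inv_one, mul_one]
  rfl

theorem torPt_injective (hp : Function.Surjective p) {C : Type u} [CommRing C] [Algebra K C] :
    Function.Injective (torPt p (C := C)) := by
  intro s t h
  have h1 : evT K s = evT K t := by
    apply AlgHom.ext
    intro f
    obtain ⟨y, rfl⟩ := hp f
    exact DFunLike.congr_fun (congrArg WithConv.ofConv h) y
  refine MonoidHom.ext fun m => Units.ext ?_
  have h2 := DFunLike.congr_fun h1 (MonoidAlgebra.single m 1)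
  rw [evT_single, evT_single, one_smul, one_smul] at h2
  exact h2

/-- The unit `single (mk m)` gives an injectivity principle: `M → N` is determined by pulling back
characters of `N`. -/
theorem ext_of_comp {N : Type} [AddCommGroup N] {w w' : M →+ N}
    (h : (tau N K).comp (AddMonoidHom.toMultiplicative w) =
      (tau N K).comp (AddMonoidHom.toMultiplicative w')) : w = w' := by
  ext m
  have h1 := congrArg Units.val (DFunLike.congr_fun h (Multiplicative.ofAdd m))
  change MonoidAlgebra.single (Multiplicative.ofAdd (w m)) (1 : K) =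
    MonoidAlgebra.single (Multiplicative.ofAdd (w' m)) 1 at h1
  have h2 := congrArg (fun f => f.coeff (Multiplicative.ofAdd (w m))) h1
  simp only [MonoidAlgebra.coeff_single, Finsupp.single_eq_same] at h2
  by_contra h3
  rw [Finsupp.single_eq_of_ne] at h2
  · exact one_ne_zero h2
  · exact fun h4 => h3 (Multiplicative.ofAdd.injective h4)

theorem NormRel.surjective [Infinite K] [Module.Free ℤ M] (hp : Function.Surjective p)
    {n : WithConv (A →ₐ[K] K)} {w : M →+ M} (h : NormRel p n w) : Function.Surjective w := by
  rw [← AddMonoidHom.range_eq_top]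
  by_contra hne
  -- the universal character of M / w M
  let N := M ⧸ w.range
  let q : M →+ N := QuotientAddGroup.mk' w.range
  have h1 := h.all ((tau N K).comp (AddMonoidHom.toMultiplicative q))
  have h2 : ((tau N K).comp (AddMonoidHom.toMultiplicative q)).comp
      (AddMonoidHom.toMultiplicative w) = 1 := by
    refine MonoidHom.ext fun m => Units.ext ?_
    change MonoidAlgebra.single (Multiplicative.ofAdd (q (w m.toAdd))) (1 : K) = 1
    have : q (w m.toAdd) = 0 := (QuotientAddGroup.eq_zero_iff _).2 ⟨_, rfl⟩
    rw [this]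
    rfl
  rw [h2, map_one, mul_inv_eq_one] at h1
  have h3 : torPt p ((tau N K).comp (AddMonoidHom.toMultiplicative q)) =
      torPt p (1 : Multiplicative M →* (MonoidAlgebra K (Multiplicative N))ˣ) := by
    rw [map_one]
    exact left_eq_mul.1 h1.symm
  have h4 := torPt_injective hp h3
  have h5 : (tau N K).comp (AddMonoidHom.toMultiplicative q) =
      (tau N K).comp (AddMonoidHom.toMultiplicative (0 : M →+ N)) := by
    rw [h4]
    refine MonoidHom.ext fun m => Units.ext ?_
    rfl
  have h6 : q = 0 := ext_of_comp h5
  apply hne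
  rw [eq_top_iff]
  intro m _
  have h7 : q m = 0 := by rw [h6]; rfl
  exact (QuotientAddGroup.eq_zero_iff _).1 h7

/-- supports of left and right translates are bounded -/
theorem exists_finset_left (z : WithConv (A →ₐ[K] MonoidAlgebra K (Multiplicative M))) (y : A) :
    ∃ F : Finset (Multiplicative M), ∀ n : WithConv (A →ₐ[K] K),
      ((mapPt (Algebra.ofId K _) n * z).ofConv y).coeff.support ⊆ F := by
  classical
  have key : ∀ x : A ⊗[K] A, ∃ F : Finset (Multiplicative M), ∀ n : WithConv (A →ₐ[K] K),
      (Algebra.TensorProduct.lmul' K (Algebra.TensorProduct.map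
        (mapPt (Algebra.ofId K (MonoidAlgebra K (Multiplicative M))) n).ofConv z.ofConv
          x)).coeff.support ⊆ F := by
    intro x
    induction x using TensorProduct.induction_on with
    | zero => exact ⟨∅, fun n => by simp⟩
    | tmul a b =>
      refine ⟨(z.ofConv b).coeff.support, fun n => ?_⟩
      rw [Algebra.TensorProduct.map_tmul, Algebra.TensorProduct.lmul'_apply_tmul, mapPt_apply]
      change (algebraMap K _ (n.ofConv a) * z.ofConv b).coeff.support ⊆ _
      rw [← Algebra.smul_def]
      exact Finsupp.support_smul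
    | add x y hx hy =>
      obtain ⟨F, hF⟩ := hx
      obtain ⟨F', hF'⟩ := hy
      refine ⟨F ∪ F', fun n => ?_⟩
      rw [map_add, map_add, MonoidAlgebra.coeff_add]
      exact Finsupp.support_add.trans (Finset.union_subset_union (hF n) (hF' n))
  obtain ⟨F, hF⟩ := key (Coalgebra.comul (R := K) y)
  refine ⟨F, fun n => ?_⟩
  rw [convMul_apply']
  exact hF n

theorem exists_finset_both (z : WithConv (A →ₐ[K] MonoidAlgebra K (Multiplicative M))) (y : A) :
    ∃ F : Finset (Multiplicative M), ∀ n n' : WithConv (A →ₐ[K] K),
      ((mapPt (Algebra.ofId K _) n * z * mapPt (Algebra.ofId K _) n').ofConv y).coeff.support ⊆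
        F := by
  classical
  have key : ∀ x : A ⊗[K] A, ∃ F : Finset (Multiplicative M), ∀ n n' : WithConv (A →ₐ[K] K),
      (Algebra.TensorProduct.lmul' K (Algebra.TensorProduct.map
        (mapPt (Algebra.ofId K (MonoidAlgebra K (Multiplicative M))) n * z).ofConv
        (mapPt (Algebra.ofId K (MonoidAlgebra K (Multiplicative M))) n').ofConv
          x)).coeff.support ⊆ F := by
    intro x
    induction x using TensorProduct.induction_on with
    | zero => exact ⟨∅, fun n n' => by simp⟩
    | tmul a b =>
      obtain ⟨F, hF⟩ := exists_finset_left z a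
      refine ⟨F, fun n n' => ?_⟩
      rw [Algebra.TensorProduct.map_tmul, Algebra.TensorProduct.lmul'_apply_tmul, mapPt_apply]
      change ((mapPt (Algebra.ofId K (MonoidAlgebra K (Multiplicative M))) n * z).ofConv a *
        algebraMap K (MonoidAlgebra K (Multiplicative M)) (n'.ofConv b)).coeff.support ⊆ _
      rw [mul_comm, ← Algebra.smul_def]
      exact Finsupp.support_smul.trans (hF n)
    | add x y hx hy =>
      obtain ⟨F, hF⟩ := hx
      obtain ⟨F', hF'⟩ := hy
      refine ⟨F ∪ F', fun n n' => ?_⟩
      rw [map_add, map_add, MonoidAlgebra.coeff_add]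
      exact Finsupp.support_add.trans (Finset.union_subset_union (hF n n') (hF' n n'))
  obtain ⟨F, hF⟩ := key (Coalgebra.comul (R := K) y)
  refine ⟨F, fun n n' => ?_⟩
  rw [convMul_apply']
  exact hF n n'

/-- orbits of characters are finite -/
theorem exists_finset_orbit [Infinite K] [Module.Free ℤ M] (hp : Function.Surjective p) (m : M) :
    ∃ F : Finset M, ∀ (n : WithConv (A →ₐ[K] K)) (w : M →+ M), NormRel p n w → w m ∈ F := by
  classical
  obtain ⟨y, hy⟩ := hp (MonoidAlgebra.single (Multiplicative.ofAdd m) 1)
  obtain ⟨F, hF⟩ := exists_finset_both (torPt p (tau M K)) y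
  refine ⟨F.image Multiplicative.toAdd, fun n w h => ?_⟩
  have h1 := hF n n⁻¹
  rw [map_inv, h.all (tau M K), torPt_apply, hy, evT_single, one_smul] at h1
  rw [Finset.mem_image]
  refine ⟨Multiplicative.ofAdd (w m), h1 ?_, rfl⟩
  change _ ∈ (MonoidAlgebra.single (Multiplicative.ofAdd (w m)) (1 : K)).coeff.support
  rw [Finsupp.mem_support_iff, MonoidAlgebra.coeff_single, Finsupp.single_eq_same]
  exact one_ne_zero

/-- Only finitely many endomorphisms of `M` are induced by points normalizing the torus. -/
theorem finite_normRel [Infinite K] [Module.Free ℤ M] [Module.Finite ℤ M]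
    (hp : Function.Surjective p) :
    {w : M →+ M | ∃ n : WithConv (A →ₐ[K] K), NormRel p n w}.Finite := by
  classical
  choose F hF using exists_finset_orbit (p := p) hp
  let b := Module.Free.chooseBasis ℤ M
  let I := Module.Free.ChooseBasisIndex ℤ M
  let r : (M →+ M) → (I → M) := fun w i => w (b i)
  have hr : Function.Injective r := by
    intro w w' h
    have : (w.toIntLinearMap) = w'.toIntLinearMap := b.ext fun i => congrFun h i
    ext m
    exact DFunLike.congr_fun this m
  refine Set.Finite.of_finite_image (f := r) ?_ hr.injOn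
  refine Set.Finite.subset (Set.Finite.pi (fun i : I => (F (b i)).finite_toSet)) ?_
  rintro _ ⟨w, ⟨n, hn⟩, rfl⟩
  intro i _
  exact hF (b i) n w hn

end Norm

end Groth.Agent.Sga3B.RootDens136
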