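import Groth.Agent.Sga3B.RootTors878
import Groth.Agent.Sga3B.RootBC136

/-!
# Surjectivity and centralizers from fibres

* `surjective_of_fibres`: `p : A →ₐc[R] R[M]` is surjective if it is so on the closed fibres.
* `cent_of_fibres'`: the centralizer of the torus is the torus if this holds on the geometric
  fibres `K(s)`, `s : PrimeSpectrum R`.
-/

set_option autoImplicit false

open TensorProduct WithConv
open Groth.Agent.Books.DynBasic (mapPt mapPt_apply mapPt_injective)
open Groth.Agent.Sga3B.RootCoact Groth.Agent.Sga3B.RootOrb Groth.Agent.Sga3B.RootGr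
open Groth.Agent.Sga3B.RootTors878 Groth.Agent.Sga3B.RootBC136

universe u

namespace Groth.Agent.Sga3B.RootSurj878

section Surj

variable {R : Type u} [CommRing R] {A : Type u} [CommRing A] [HopfAlgebra R A]
variable {M : Type} [AddCommGroup M]
variable (p : A →ₐc[R] MonoidAlgebra R (Multiplicative M))

/-- `p` is surjective as soon as for every maximal ideal every group element is, up to a nonzero
scalar, a coefficient of a value of `p`. -/
theorem surjective_of_coeff
    (h : ∀ (𝔪 : Ideal R), 𝔪.IsMaximal → ∀ m : M, ∃ a : A,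
      (p a).coeff (Multiplicative.ofAdd m) ∉ 𝔪) : Function.Surjective p := by
  have key : ∀ m : M, ∃ a : A, p a = MonoidAlgebra.single (Multiplicative.ofAdd m) 1 := by
    intro m
    let I : Ideal R :=
      { carrier := {r | ∃ a : A, p a = MonoidAlgebra.single (Multiplicative.ofAdd m) r}
        zero_mem' := ⟨0, by rw [map_zero, MonoidAlgebra.single_zero]⟩
        add_mem' := by
          rintro r s ⟨a, ha⟩ ⟨b, hb⟩
          exact ⟨a + b, by rw [map_add, ha, hb, MonoidAlgebra.single_add]⟩
        smul_mem' := by
          rintro r s ⟨a, ha⟩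
          exact ⟨r • a, by rw [map_smul, ha, MonoidAlgebra.smul_single]⟩ }
    have hI : I = ⊤ := by
      by_contra hne
      obtain ⟨𝔪, h𝔪, hle⟩ := Ideal.exists_le_maximal I hne
      obtain ⟨a, ha⟩ := h 𝔪 h𝔪 m
      exact ha (hle (single_coeff_mem_range p a m))
    have : (1 : R) ∈ I := by rw [hI]; trivial
    exact this
  intro f
  induction f using MonoidAlgebra.induction_linear with
  | zero => exact ⟨0, map_zero p⟩
  | add x y hx hy =>
    obtain ⟨a, rfl⟩ := hx
    obtain ⟨b, rfl⟩ := hy
    exact ⟨a + b, map_add p a b⟩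
  | single m r =>
    obtain ⟨m, rfl⟩ := Multiplicative.ofAdd.surjective m
    obtain ⟨a, ha⟩ := key m
    exact ⟨r • a, by rw [map_smul, ha, MonoidAlgebra.smul_single, smul_eq_mul, mul_one]⟩

/-- `p` is surjective if it is surjective on the closed fibres. -/
theorem surjective_of_fibres
    (h : ∀ (𝔪 : Ideal R), 𝔪.IsMaximal → ∃ (K : Type u) (_ : Field K) (_ : Algebra R K),
      (∀ r ∈ 𝔪, algebraMap R K r = 0) ∧ Function.Surjective (bcP K p)) :
    Function.Surjective p := by
  apply surjective_of_coeff
  intro 𝔪 h𝔪 m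
  by_contra hcon
  push Not at hcon
  obtain ⟨K, _, _, hK, hs⟩ := h 𝔪 h𝔪
  obtain ⟨y, hy⟩ := hs (MonoidAlgebra.single (Multiplicative.ofAdd m) 1)
  have h0 : ∀ y : K ⊗[R] A, (bcP K p y).coeff (Multiplicative.ofAdd m) = 0 := by
    intro y
    induction y using TensorProduct.induction_on with
    | zero => simp
    | add x y hx hy => rw [map_add, MonoidAlgebra.coeff_add, Finsupp.add_apply, hx, hy, add_zero]
    | tmul k a => rw [coeff_bcP, hK _ (hcon a), mul_zero]
  have h1 := h0 y
  rw [hy, MonoidAlgebra.coeff_single, Finsupp.single_eq_same] at h1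
  exact one_ne_zero h1

end Surj

section Fibres

variable {R : Type u} [CommRing R] {Z T : Type u} [CommRing Z] [CommRing T] [Algebra R Z]
  [Algebra R T]

/-- injectivity of `K ⊗ g` only depends on the kernel of `R → K` -/
theorem lTensor_injective_iff {N P : Type u} [AddCommGroup N] [Module R N] [AddCommGroup P]
    [Module R P] (g : N →ₗ[R] P) (s : Ideal R) [s.IsPrime] (K : Type u) [Field K] [Algebra R K]
    (hK : RingHom.ker (algebraMap R K) = s) :
    Function.Injective (g.lTensor K) ↔ Function.Injective (g.lTensor s.ResidueField) := by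
  let κ := s.ResidueField
  let φ : κ →ₐ[R] K := Ideal.ResidueField.liftₐ s (Algebra.ofId R K) (by
      intro x hx
      rw [← hK] at hx
      exact hx) (by
      intro x hx
      rw [Submonoid.mem_comap, IsUnit.mem_submonoid_iff, isUnit_iff_ne_zero]
      intro h0
      apply hx
      rw [← hK]
      exact h0)
  algebraize [φ.toRingHom]
  have hst : IsScalarTower R κ K := IsScalarTower.of_algebraMap_eq' φ.comp_algebraMap.symm
  let eN := AlgebraTensorModule.cancelBaseChange R κ κ K N
  let eP := AlgebraTensorModule.cancelBaseChange R κ κ K P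
  have h1 : ∀ x, eP ((g.baseChange κ).lTensor K x) = g.lTensor K (eN x) := by
    intro x
    induction x using TensorProduct.induction_on with
    | zero => simp
    | add x y hx hy => simp only [map_add, hx, hy]
    | tmul k y =>
      induction y using TensorProduct.induction_on with
      | zero => simp
      | add x y hx hy => simp only [map_add, tmul_add, hx, hy]
      | tmul c n => simp [eN, eP]
  have h2 : Function.Injective ((g.baseChange κ).lTensor K) ↔ Function.Injective (g.baseChange κ) :=
    Module.FaithfullyFlat.lTensor_injective_iff_injective κ K (g.baseChange κ)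
  have h3 : Function.Injective ((g.baseChange κ).lTensor K) ↔ Function.Injective (g.lTensor K) := by
    constructor
    · intro h x y hxy
      have h4 := h1 (eN.symm x)
      have h5 := h1 (eN.symm y)
      rw [LinearEquiv.apply_symm_apply] at h4 h5
      apply eN.symm.injective
      apply h
      apply eP.injective
      rw [h4, h5, hxy]
    · intro h x y hxy
      apply eN.injective
      apply h
      rw [← h1, ← h1, hxy]
  rw [← h3, h2]
  rfl

/-- `injective_of_fibres` with one field for every prime of `R`. -/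
theorem injective_of_fibres' [Module.Projective R T] (f : Z →ₐ[R] T)
    (hf : Function.Surjective f) (hker : (RingHom.ker f).FG)
    (h : ∀ s : PrimeSpectrum R, ∃ (K : Type u) (_ : Field K) (_ : Algebra R K),
      RingHom.ker (algebraMap R K) = s.asIdeal ∧
      Function.Injective (f.toLinearMap.lTensor K)) : Function.Injective f := by
  apply injective_of_fibres f hf hker
  intro L _ _ _
  let s : PrimeSpectrum R := ⟨RingHom.ker (algebraMap R L), RingHom.ker_isPrime _⟩
  have hs : s.asIdeal.IsPrime := s.isPrime
  obtain ⟨K, _, _, hK, hinj⟩ := h s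
  exact (lTensor_injective_iff _ s.asIdeal L rfl).2 ((lTensor_injective_iff _ s.asIdeal K hK).1 hinj)

end Fibres

section Cent

variable {R : Type u} [CommRing R] {A : Type u} [CommRing A] [HopfAlgebra R A]
variable {M : Type} [AddCommGroup M]
variable (p : A →ₐc[R] MonoidAlgebra R (Multiplicative M))

lemma isBC_bcP (K : Type u) [CommRing K] [Algebra R K] :
    IsBC (Algebra.TensorProduct.includeRight : A →ₐ[R] K ⊗[R] A) p (bcP K p) := by
  intro a m
  change (bcP K p ((1 : K) ⊗ₜ a)).coeff m = _
  rw [coeff_bcP, one_mul]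

/-- the ideal of the centralizer commutes with base change -/
theorem JP_bcP (K : Type u) [CommRing K] [Algebra R K] (Ψ : AddSubmonoid M) :
    JP (bcP K p) Ψ = (JP p Ψ).map (Algebra.TensorProduct.includeRight : A →ₐ[R] K ⊗[R] A) :=
  map_JP (isHopfBC_includeRight R A K) (span_includeRight K) (isBC_bcP p K) Ψ

/-- injectivity of `K ⊗ (A ⧸ JP) → K ⊗ R[M]` -/
theorem injective_lTensor_of_cent (K : Type u) [CommRing K] [Algebra R K]
    (f : A ⧸ JP p (⊥ : AddSubmonoid M) →ₐ[R] MonoidAlgebra R (Multiplicative M))
    (hf : ∀ a, f (Ideal.Quotient.mk _ a) = p a)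
    (h : ∀ y, bcP K p y = 0 → y ∈ JP (bcP K p) (⊥ : AddSubmonoid M)) :
    Function.Injective (f.toLinearMap.lTensor K) := by
  let J := JP p (⊥ : AddSubmonoid M)
  rw [← LinearMap.ker_eq_bot, eq_bot_iff]
  intro z hz
  have hq : Function.Surjective
      ((Ideal.Quotient.mkₐ R J).toLinearMap.lTensor K) :=
    LinearMap.lTensor_surjective K (Ideal.Quotient.mkₐ_surjective R J)
  obtain ⟨y, rfl⟩ := hq z
  have h1 : (f.toLinearMap.lTensor K) (((Ideal.Quotient.mkₐ R J).toLinearMap.lTensor K) y) =
      ((p : A →ₐ[R] MonoidAlgebra R (Multiplicative M)).toLinearMap.lTensor K) y := by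
    rw [← LinearMap.comp_apply, ← LinearMap.lTensor_comp]
    congr 2
    apply LinearMap.ext
    intro a
    exact hf a
  rw [LinearMap.mem_ker, h1] at hz
  let L : K ⊗[R] MonoidAlgebra R (Multiplicative M) →ₐ[K] MonoidAlgebra K (Multiplicative M) :=
    Algebra.TensorProduct.lift (Algebra.ofId K _) (monBC R M K) (fun _ _ => Commute.all _ _)
  have h2 : ∀ y : K ⊗[R] A, bcP K p y =
      L (((p : A →ₐ[R] MonoidAlgebra R (Multiplicative M)).toLinearMap.lTensor K) y) := by
    intro y
    induction y using TensorProduct.induction_on with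
    | zero => simp
    | add x y hx hy => simp only [map_add, hx, hy]
    | tmul k a =>
      rw [bcP_tmul, LinearMap.lTensor_tmul]
      change _ = L (k ⊗ₜ p a)
      rw [Algebra.TensorProduct.lift_tmul, Algebra.smul_def]
      rfl
  have h3 : y ∈ JP (bcP K p) (⊥ : AddSubmonoid M) := h y (by rw [h2, hz, map_zero])
  rw [JP_bcP] at h3
  let Q : K ⊗[R] A →ₐ[R] K ⊗[R] (A ⧸ J) :=
    Algebra.TensorProduct.map (AlgHom.id R K) (Ideal.Quotient.mkₐ R J)
  have h4 : J.map (Algebra.TensorProduct.includeRight : A →ₐ[R] K ⊗[R] A) ≤ RingHom.ker Q := by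
    rw [Ideal.map_le_iff_le_comap]
    intro j hj
    change Q (1 ⊗ₜ j) = 0
    rw [Algebra.TensorProduct.map_tmul]
    change _ ⊗ₜ Ideal.Quotient.mk J j = _
    rw [Ideal.Quotient.eq_zero_iff_mem.2 hj, TensorProduct.tmul_zero]
  exact h4 h3

/-- **The centralizer of the torus is the torus** if this holds on one geometric fibre over every
point of `Spec R`. -/
theorem cent_of_fibres' [AddGroup.FG M] [Algebra.FiniteType R A] (hp : Function.Surjective p)
    (h : ∀ s : PrimeSpectrum R, ∃ (K : Type u) (_ : Field K) (_ : Algebra R K),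
      RingHom.ker (algebraMap R K) = s.asIdeal ∧
      ∀ y, bcP K p y = 0 → y ∈ JP (bcP K p) (⊥ : AddSubmonoid M)) :
    ∀ y, p y = 0 → y ∈ JP p (⊥ : AddSubmonoid M) := by
  let J := JP p (⊥ : AddSubmonoid M)
  let f : A ⧸ J →ₐ[R] MonoidAlgebra R (Multiplicative M) :=
    Ideal.Quotient.liftₐ J (p : A →ₐ[R] MonoidAlgebra R (Multiplicative M))
      (fun y hy => apply_eq_zero_of_mem_JP p hy)
  have hf : Function.Surjective f := by
    intro x
    obtain ⟨a, rfl⟩ := hp x
    exact ⟨Ideal.Quotient.mk _ a, rfl⟩
  have := finitePresentation_monoidAlgebra M R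
  have hproj : Module.Projective R (MonoidAlgebra R (Multiplicative M)) := inferInstance
  have hinj : Function.Injective f := by
    apply injective_of_fibres' f hf (ker_fg f hf)
    intro s
    obtain ⟨K, _, _, hK, hc⟩ := h s
    exact ⟨K, _, _, hK, injective_lTensor_of_cent p K f (fun a => rfl) hc⟩
  intro y hy
  have h3 : f (Ideal.Quotient.mk J y) = f 0 := by
    rw [map_zero]
    exact hy
  exact Ideal.Quotient.eq_zero_iff_mem.1 (hinj h3)

end Cent

end Groth.Agent.Sga3B.RootSurj878
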