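import Groth.Agent.Sga3B.RootWt136
import Groth.Agent.Sga3B.RootSurj878
import Groth.Agent.VarietyB.AlgClosedTensor

/-!
# Extension of the certificate to larger algebraically closed fields
-/

set_option autoImplicit false

open TensorProduct WithConv
open Groth.Agent.Books.DynBasic (mapPt mapPt_apply mapPt_injective)
open Groth.Agent.Sga3B.RootCoact Groth.Agent.Sga3B.RootOrb Groth.Agent.Sga3B.RootGr
open Groth.Agent.Sga3B.RootGa Groth.Agent.Sga3B.RootCert Groth.Agent.Sga3B.RootDens136
open Groth.Agent.Sga3B.RootRefl136 Groth.Agent.Sga3B.RootBC136 Groth.Agent.Sga3B.RootWt136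

universe u

namespace Groth.Agent.Sga3B.RootExt136

section Cent

variable {R : Type u} [CommRing R] {A : Type u} [CommRing A] [HopfAlgebra R A]
variable {M : Type} [AddCommGroup M]
variable (p : A →ₐc[R] MonoidAlgebra R (Multiplicative M))
variable (K : Type u) [CommRing K] [Algebra R K]

/-- The kernel of the base change of a surjection. -/
lemma mem_map_of_bcP_eq_zero (hp : Function.Surjective p) {x : K ⊗[R] A} (hx : bcP K p x = 0) :
    x ∈ (RingHom.ker p).map (Algebra.TensorProduct.includeRight : A →ₐ[R] K ⊗[R] A) := by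
  let f : A →ₗ[R] MonoidAlgebra R (Multiplicative M) := (p : A →ₐ[R] _).toLinearMap
  have h1 : ∀ x : K ⊗[R] A,
      bcP K p x = Sga3A.BCIso.scalarBialg R K (Multiplicative M) (f.lTensor K x) := by
    intro x
    induction x using TensorProduct.induction_on with
    | zero => simp
    | tmul k a => rfl
    | add x y hx' hy' => simp only [map_add, hx', hy']
  have h0 : f.lTensor K x = 0 := by
    have h2 := h1 x
    rw [hx] at h2
    have h3 : Sga3A.BCIso.scalarBialg R K (Multiplicative M) (f.lTensor K x) =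
        Sga3A.BCIso.scalarBialg R K (Multiplicative M) 0 := by rw [← h2, map_zero]
    exact (Sga3A.BCIso.scalarBialg R K (Multiplicative M)).injective h3
  have key : ∀ z : K ⊗[R] (LinearMap.ker f), (LinearMap.ker f).subtype.lTensor K z ∈
      (RingHom.ker p).map (Algebra.TensorProduct.includeRight : A →ₐ[R] K ⊗[R] A) := by
    intro z
    induction z using TensorProduct.induction_on with
    | zero => rw [map_zero]; exact zero_mem _
    | add x y hx hy => rw [map_add]; exact add_mem hx hy
    | tmul k a =>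
      rw [LinearMap.lTensor_tmul]
      have : k ⊗ₜ[R] ((LinearMap.ker f).subtype a) = (k ⊗ₜ[R] (1 : A)) *
          (Algebra.TensorProduct.includeRight (a : A) : K ⊗[R] A) := by
        rw [Algebra.TensorProduct.includeRight_apply, Algebra.TensorProduct.tmul_mul_tmul,
          mul_one, one_mul]
        rfl
      rw [this]
      exact Ideal.mul_mem_left _ _ (Ideal.mem_map_of_mem _ a.2)
  obtain ⟨z, rfl⟩ := (lTensor_exact K (LinearMap.exact_subtype_ker_map f) hp x).1 h0
  exact key z

/-- The centralizer condition is stable under base change. -/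
theorem cent_bc (hp : Function.Surjective p) (hc : ∀ y, p y = 0 → y ∈ JP p (⊥ : AddSubmonoid M))
    (x : K ⊗[R] A) (hx : bcP K p x = 0) : x ∈ JP (bcP K p) (⊥ : AddSubmonoid M) := by
  have h1 := mem_map_of_bcP_eq_zero p K hp hx
  rw [RootSurj878.JP_bcP]
  exact Ideal.map_mono (fun y hy => hc y hy) h1

end Cent

section Field

variable {R : Type u} [CommRing R] {A : Type u} [CommRing A] [HopfAlgebra R A]
variable {M : Type} [AddCommGroup M]
variable (p : A →ₐc[R] MonoidAlgebra R (Multiplicative M))
variable (K₀ K : Type u) [Field K₀] [Algebra R K₀] [Field K] [Algebra R K] [Algebra K₀ K]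
  [IsScalarTower R K₀ K]

lemma finrank_ext (V : Type u) [AddCommGroup V] [Module R V] :
    Module.finrank K (K ⊗[R] V) = Module.finrank K₀ (K₀ ⊗[R] V) := by
  rw [← (AlgebraTensorModule.cancelBaseChange R K₀ K K V).finrank_eq]
  exact Module.finrank_baseChange

/-- If the weight space is at most one-dimensional, then two homogeneous elements are
proportional modulo `I ^ 2`. -/
lemma one_of_finrank_le_one (m : M) [Module.Finite R (W p m)]
    (h : Module.finrank K (K ⊗[R] (W p m)) ≤ 1) :
    ∀ x ∈ gr (conjCoact (bcP K p)) m, x ∉ aug K (K ⊗[R] A) ^ 2 →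
      ∀ y ∈ gr (conjCoact (bcP K p)) m, ∃ r : K, y - r • x ∈ aug K (K ⊗[R] A) ^ 2 := by
  intro x hx hx2 y hy
  obtain ⟨v, hv⟩ := finrank_le_one_iff.1 h
  obtain ⟨c, hc⟩ := hv (piW p K m x)
  obtain ⟨d, hd⟩ := hv (piW p K m y)
  have hc0 : c ≠ 0 := by
    rintro rfl
    rw [zero_smul] at hc
    exact hx2 ((piW_eq_zero_iff p K hx).1 hc.symm)
  refine ⟨d / c, ?_⟩
  rw [← piW_eq_zero_iff p K (sub_mem hy (Submodule.smul_mem _ _ hx)), map_sub, map_smul, ← hc, ← hd,
    smul_smul, div_mul_cancel₀ _ hc0, sub_self]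

variable {K₀} in
/-- The point of `K ⊗ A` attached to a point of `K₀ ⊗ A`. -/
lemma exists_extPt (n : WithConv (K₀ ⊗[R] A →ₐ[K₀] K₀)) :
    ∃ n' : WithConv (K ⊗[R] A →ₐ[K] K), resPt R K K n' =
      resPt R K₀ K (mapPt (Algebra.ofId K₀ K) n) :=
  resPt_surjective K _

/-- Extension of the certificate. -/
theorem cert_ext [IsAlgClosed K₀] [Module.Free ℤ M] (hp : Function.Surjective p)
    (hc : ∀ y, p y = 0 → y ∈ JP p (⊥ : AddSubmonoid M)) [hfin : ∀ m, Module.Finite R (W p m)]
    (h : Cert (bcP K₀ p)) : Cert (bcP K p) where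
  surj := bcP_surjective K p hp
  cent := cent_bc p K hp hc
  one := by
    intro m hm
    apply one_of_finrank_le_one
    rw [finrank_ext K₀ K]
    exact RootWt136.finrank_le_one p K₀ m (h.one m hm)
  prop := by
    intro a b ha hb hwa hwb
    apply h.prop a b ha hb
    · rw [isWt_iff p K₀ ha, ← Module.finrank_pos_iff (R := K₀), ← finrank_ext K₀ K,
        Module.finrank_pos_iff, ← isWt_iff p K ha]
      exact hwa
    · rw [isWt_iff p K₀ hb, ← Module.finrank_pos_iff (R := K₀), ← finrank_ext K₀ K,
        Module.finrank_pos_iff, ← isWt_iff p K hb]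
      exact hwb
  refl := by
    intro a ha hwa
    have hwa0 : IsWt (bcP K₀ p) a := by
      rw [isWt_iff p K₀ ha, ← Module.finrank_pos_iff (R := K₀), ← finrank_ext K₀ K,
        Module.finrank_pos_iff, ← isWt_iff p K ha]
      exact hwa
    obtain ⟨n, w, hw, hn, hrel⟩ := h.refl a ha hwa0
    obtain ⟨n', hn'⟩ := exists_extPt K n
    refine ⟨n', w, hw, ?_, ?_⟩
    · intro m hm y hy
      rw [gr_bc] at hy
      induction hy using Submodule.span_induction with
      | zero => rw [map_zero]
      | add x y _ _ hx hy => rw [map_add, hx, hy, add_zero]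
      | smul k x _ hx => rw [map_smul, hx, smul_zero]
      | mem x hx =>
        obtain ⟨b, hb, rfl⟩ := hx
        have h1 := DFunLike.congr_fun (congrArg WithConv.ofConv hn') b
        rw [resPt_apply, resPt_apply, mapPt_apply, hn m hm _ (tmul_mem_gr K₀ p p hb 1),
          map_zero] at h1
        exact h1
    · intro t
      apply resPt_injective (R := R) K
      have hrel' : NormRel (bcP K₀ p) n w := hrel
      have h1 := hrel'.all (C := K) t
      have h2 := congrArg (resPt R K₀ K) h1
      rw [map_mul, map_mul, map_inv, resPt_torPt, resPt_torPt, ← hn'] at h2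
      rw [map_mul, map_mul, map_inv, resPt_torPt, resPt_torPt]
      exact h2

/-- Extension of integrality. -/
theorem isDomain_ext [IsAlgClosed K₀] [Algebra.FiniteType K₀ (K₀ ⊗[R] A)]
    [IsDomain (K₀ ⊗[R] A)] : IsDomain (K ⊗[R] A) := by
  have h1 : IsDomain ((K₀ ⊗[R] A) ⊗[K₀] K) :=
    VarietyB.AlgClosedTensor.isDomain_tensorProduct K₀ (K₀ ⊗[R] A) K
  let e : (K₀ ⊗[R] A) ⊗[K₀] K ≃+* K ⊗[R] A :=
    ((Algebra.TensorProduct.comm K₀ (K₀ ⊗[R] A) K).toRingEquiv).trans
      (Algebra.TensorProduct.cancelBaseChange R K₀ K K A).toRingEquiv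
  exact e.symm.toMulEquiv.isDomain _

end Field

end Groth.Agent.Sga3B.RootExt136
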