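import Groth.Agent.Sga3B.CellN
import Groth.Agent.Sga3B.PinComb829

/-!
# Homogeneous families of points

`Fam D S w`: a natural family `v(x)`, `x ∈ 𝔸^S`, of points of the group with `t v(x) t⁻¹ = v(w(t) x)` and
`v(0) = 1`.  If some functional is positive on all the weights `w s`, then `v(x) = ∏ u_b(y_b(x))` with
polynomials `y_b ∈ R[X_s]` all whose monomials `X^n` satisfy `∑ n_s w_s = b`.
Consequences: root homomorphisms are unique up to a scalar; the commutator formula.
-/

set_option autoImplicit false
universe u

open Polynomial LaurentPolynomial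

namespace Groth.Agent.Sga3B.Cell.Datum

open Groth.Agent.Sga3B.Cell

section coeff

variable {R W : Type u} [CommRing R] [CommRing W] [Algebra R W] {S : Type}

/-- coefficients after a diagonal substitution -/
lemma coeff_aeval_C_mul_X (c : S → W) (p : MvPolynomial S R) (n : S →₀ ℕ) :
    MvPolynomial.coeff n (MvPolynomial.aeval (fun s => MvPolynomial.C (c s) * MvPolynomial.X s) p :
      MvPolynomial S W) = (n.prod fun s e => c s ^ e) * algebraMap R W (MvPolynomial.coeff n p) := by
  classical
  induction p using MvPolynomial.induction_on' with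
  | monomial m a =>
    rw [MvPolynomial.aeval_monomial, MvPolynomial.coeff_monomial]
    have h1 : (m.prod fun s e => (MvPolynomial.C (c s) * MvPolynomial.X s : MvPolynomial S W) ^ e) =
        MvPolynomial.monomial m (m.prod fun s e => c s ^ e) := by
      simp only [mul_pow]
      rw [Finsupp.prod_mul, MvPolynomial.monomial_eq]
      congr 1
      rw [Finsupp.prod, Finsupp.prod, map_prod]
      simp
    rw [h1, MvPolynomial.algebraMap_apply, MvPolynomial.coeff_C_mul, MvPolynomial.coeff_monomial]
    by_cases h : m = n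
    · subst h
      rw [if_pos rfl, if_pos rfl, mul_comm]
    · rw [if_neg h, if_neg h, mul_zero, map_zero, mul_zero]
  | add p q hp hq =>
    rw [map_add, MvPolynomial.coeff_add, hp, hq, MvPolynomial.coeff_add, map_add, mul_add]

end coeff

variable {R A : Type u} [CommRing R] [CommRing A] [Algebra R A] [PtGrp R A] (D : Datum R A)

/-- A natural family of points parametrised by `𝔸^S`, homogeneous of weights `w`, trivial at the
origin. -/
structure Fam (S : Type) (w : S → D.M) where
  /-- the points -/
  v : ∀ (B : Type u) [CommRing B] [Algebra R B], (S → B) → Pt R A B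
  nat : ∀ {B C : Type u} [CommRing B] [Algebra R B] [CommRing C] [Algebra R C] (φ : B →ₐ[R] C)
    (x : S → B), Pt.map φ (v B x) = v C (fun s => φ (x s))
  zero : ∀ (B : Type u) [CommRing B] [Algebra R B], v B (fun _ => 0) = 1
  rel : ∀ {B : Type u} [CommRing B] [Algebra R B] (t : TPt D.M B) (x : S → B),
    D.i B t * v B x * (D.i B t)⁻¹ = v B (fun s => TPt.ch (w s) t * x s)

variable {D}

/-- **Homogeneous families are products of root group elements.** -/
theorem Fam.exists_eq {S : Type} {w : S → D.M} (F : D.Fam S w) {L : List D.idx} {δ : D.CR}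
    (hδ : D.EtOn L δ) (hδ0 : D.ev0 δ = 1) (lam : D.M →+ ℤ) (hlam : ∀ s, 0 < lam (w s)) :
    ∃ y : D.idx → MvPolynomial S R,
      (∀ b, lam (D.root b) ≤ 0 → y b = 0) ∧
      (∀ b n, MvPolynomial.coeff n (y b) ≠ 0 → (n.sum fun s e => e • w s) = D.root b) ∧
      ∀ (B : Type u) [CommRing B] [Algebra R B] (x : S → B),
        F.v B x = D.cell L (fun b => MvPolynomial.aeval x (y b)) 1 := by
  classical
  set B₀ := MvPolynomial S R with hB₀
  have hθ : ∀ (B : Type u) [CommRing B], ∀ b,
    TPt.ch (D.root b) (D.cochar lam : TPt D.M B[T;T⁻¹]) = T (lam (D.root b)) := fun B _ b => rfl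
  -- the curve
  let c : Pt R A B₀[X] := F.v _ (fun s => Polynomial.C (MvPolynomial.X s : B₀) * X ^ (lam (w s)).toNat)
  have hc : D.Equi (D.cochar lam) c := by
    unfold Equi
    rw [F.nat, F.nat, F.rel]
    congr 1
    funext s
    rw [TPt.ch_map, ch_cochar, kapM_apply]
    ext1 d
    rw [sigmaM_coeff]
    conv_rhs => rw [Polynomial.coeff_C_mul, iotaM_coeff, Polynomial.coeff_C_mul_X_pow]
    conv_lhs => rw [Polynomial.coeff_C_mul_X_pow]
    by_cases hd : d = (lam (w s)).toNat
    · have h0 := hlam s
      have : (d : ℤ) = lam (w s) := by omega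
      rw [if_pos hd, this, mul_comm]
    · rw [if_neg hd]; simp
  have hc0 : Pt.map (pev R B₀ 0) c = 1 := by
    rw [F.nat, ← F.zero]
    congr 1
    funext s
    have h0 := hlam s
    have : (lam (w s)).toNat ≠ 0 := by omega
    simp [this]
  have hc1 : Pt.map (pev R B₀ 1) c = F.v B₀ (fun s => MvPolynomial.X s) := by
    rw [F.nat]
    congr 1
    funext s
    simp
  obtain ⟨y, hy0, hy⟩ := hc.exists_eq (D := D) hδ hδ0 (hθ _)
    (k := fun b => lam (D.root b)) hc0
  have hg : F.v B₀ (fun s => MvPolynomial.X s) = D.cell L y 1 := by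
    rw [← hc1, hy]
    have h1 := D.eval1_cell L (k := fun b => lam (D.root b)) y 1
    rwa [map_one] at h1
  refine ⟨y, hy0, ?_, ?_⟩
  · -- torus equivariance
    let W : Type u := MonoidAlgebra R (Multiplicative D.M)
    let B₁ : Type u := MvPolynomial S W
    let χ : D.M → W := fun m => MonoidAlgebra.single (Multiplicative.ofAdd m) (1 : R)
    let t : TPt D.M B₁ := MonoidHom.toHomUnits
      ((MvPolynomial.C (σ := S) (R := W) : W →* B₁).comp (MonoidAlgebra.of R (Multiplicative D.M)))
    have ht : ∀ m, TPt.ch m t = MvPolynomial.C (χ m) := fun m => rfl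
    let σ : B₀ →ₐ[R] B₁ := MvPolynomial.aeval
      (fun s => (MvPolynomial.C (χ (w s)) * MvPolynomial.X s : B₁))
    let ι : B₀ →ₐ[R] B₁ := MvPolynomial.aeval
      (fun s => (MvPolynomial.C (1 : W) * MvPolynomial.X s : B₁))
    have h1 : Pt.map σ (D.cell L y 1) = D.i B₁ t * Pt.map ι (D.cell L y 1) * (D.i B₁ t)⁻¹ := by
      rw [← hg, F.nat, F.nat, F.rel]
      congr 1
      funext s
      rw [ht, MvPolynomial.aeval_X, MvPolynomial.aeval_X, map_one, one_mul]
    rw [cell_nat, cell_nat, conj_cell, map_one, map_one] at h1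
    have h2 := (cell_inj (k := fun b => lam (D.root b)) hδ hδ0 (hθ B₁)
      (fun b hb => by rw [hy0 b hb, map_zero])
      (fun b hb => by rw [hy0 b hb, map_zero, mul_zero]) h1).1
    intro b n hn
    have h3 := congrArg (MvPolynomial.coeff n) (congrFun h2 b)
    simp only [ht] at h3
    rw [MvPolynomial.coeff_C_mul, coeff_aeval_C_mul_X, coeff_aeval_C_mul_X] at h3
    have e1 : (n.prod fun s e => χ (w s) ^ e) = χ (n.sum fun s e => e • w s) := by
      simp only [χ, Finsupp.prod, Finsupp.sum]
      rw [ofAdd_sum]
      have : ∀ (T : Finset S), (∏ s ∈ T, MonoidAlgebra.single (Multiplicative.ofAdd (w s)) (1 : R) ^ n s) =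
          MonoidAlgebra.single (∏ s ∈ T, Multiplicative.ofAdd (n s • w s)) (1 : R) := by
        intro T
        induction T using Finset.induction_on with
        | empty => simp [MonoidAlgebra.one_def]
        | insert s T hs ih =>
          rw [Finset.prod_insert hs, Finset.prod_insert hs, ih, MonoidAlgebra.single_pow,
            MonoidAlgebra.single_mul_single, one_pow, one_mul, ofAdd_nsmul]
      exact this _
    have e2 : (n.prod fun (_ : S) (e : ℕ) => (1 : W) ^ e) = 1 := by simp [Finsupp.prod]
    rw [e1, e2, one_mul] at h3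
    have e3 : ∀ (m : D.M) (r : R), χ m * algebraMap R W r =
        MonoidAlgebra.single (Multiplicative.ofAdd m) r := by
      intro m r
      simp [χ, W, MonoidAlgebra.coe_algebraMap, MonoidAlgebra.single_mul_single]
    rw [e3, e3] at h3
    have h4 := congrArg (fun z : W => z.coeff (Multiplicative.ofAdd (n.sum fun s e => e • w s))) h3
    simp only [MonoidAlgebra.coeff_single, Finsupp.single_apply, if_true] at h4
    by_contra hne
    rw [if_neg (fun h => hne (Multiplicative.ofAdd.injective h).symm)] at h4
    exact hn h4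
  · intro B _ _ x
    have h1 := F.nat (MvPolynomial.aeval x : B₀ →ₐ[R] B) (fun s => MvPolynomial.X s)
    rw [hg, cell_nat, map_one] at h1
    simp only [MvPolynomial.aeval_X] at h1
    exact h1.symm

end Groth.Agent.Sga3B.Cell.Datum
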