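import Groth.Agent.Sga3B.RootTors878b
import Mathlib.RingTheory.Smooth.Flat

/-!
# Transporters between tori are smooth

`p q : A →ₐc[R] R[M]`, `A` smooth over `R`: the transporter `A ⧸ JT p q` is smooth over `R`. It is
faithfully flat if its fibres over the closed points of `Spec R` are nonempty.
-/

set_option autoImplicit false

open TensorProduct WithConv
open Groth.Agent.Books.DynBasic (mapPt mapPt_apply mapPt_injective)
open Groth.Agent.Sga3B.RootCoact Groth.Agent.Sga3B.RootOrb Groth.Agent.Sga3B.RootGr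
open Groth.Agent.Sga3B.RootTors878 Groth.Agent.Sga3B.RootTors878b

universe u

namespace Groth.Agent.Sga3B.RootFix878

section FG

variable {R : Type u} [CommRing R] {A : Type u} [CommRing A] [Algebra R A]
variable {M : Type} [AddCommGroup M] (c : Coact R A M)

/-- the ideal of the fixed points of a coaction is finitely generated -/
theorem fg_of_finiteType [Algebra.FiniteType R A] :
    (Ideal.span {a | ∃ m : M, m ≠ 0 ∧ a ∈ gr c m}).FG := by
  classical
  obtain ⟨S, hS⟩ := (Algebra.FiniteType.out : (⊤ : Subalgebra R A).FG)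
  let T : Finset A := S.biUnion fun s => (supp c s).image fun m => pr c m s
  let T' : Finset A := S.biUnion fun s => ((supp c s).filter fun m => m ≠ 0).image fun m => pr c m s
  have hT : Algebra.adjoin R (T : Set A) = ⊤ := by
    rw [eq_top_iff, ← hS, Algebra.adjoin_le_iff]
    intro s hs
    have h1 := sum_pr c s
    change s ∈ Algebra.adjoin R (T : Set A)
    rw [← h1]
    refine sum_mem fun m hm => Algebra.subset_adjoin ?_
    rw [Finset.mem_coe, Finset.mem_biUnion]
    exact ⟨s, hs, Finset.mem_image_of_mem _ hm⟩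
  refine ⟨T', le_antisymm ?_ ?_⟩
  · rw [Ideal.span_le]
    intro x hx
    rw [Finset.mem_coe, Finset.mem_biUnion] at hx
    obtain ⟨s, _, hx⟩ := hx
    rw [Finset.mem_image] at hx
    obtain ⟨m, hm, rfl⟩ := hx
    exact Ideal.subset_span ⟨m, (Finset.mem_filter.1 hm).2, pr_mem_gr c m s⟩
  · rw [Ideal.span_le]
    rintro a ⟨m, hm, ha⟩
    let J : Ideal A := Ideal.span T'
    let f : A →ₐ[R] MonoidAlgebra (A ⧸ J) (Multiplicative M) :=
      (MonoidAlgebra.mapAlgHom (Multiplicative M) (Ideal.Quotient.mkₐ R J)).comp c.rho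
    let g : A →ₐ[R] MonoidAlgebra (A ⧸ J) (Multiplicative M) :=
      (cst R M (A ⧸ J)).comp (Ideal.Quotient.mkₐ R J)
    have hfgr : ∀ n : M, ∀ x ∈ gr c n, f x = MonoidAlgebra.single (Multiplicative.ofAdd n)
        (Ideal.Quotient.mk J x) := by
      intro n x hx
      change MonoidAlgebra.mapAlgHom (Multiplicative M) (Ideal.Quotient.mkₐ R J) (c.rho x) = _
      rw [(mem_gr c).1 hx, MonoidAlgebra.mapAlgHom_single]
      rfl
    have hfg : f = g := by
      apply AlgHom.ext_of_adjoin_eq_top hT
      intro x hx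
      rw [Finset.mem_coe, Finset.mem_biUnion] at hx
      obtain ⟨s, hs, hx⟩ := hx
      rw [Finset.mem_image] at hx
      obtain ⟨n, hn, rfl⟩ := hx
      rw [hfgr n _ (pr_mem_gr c n s)]
      change _ = MonoidAlgebra.single 1 (Ideal.Quotient.mk J (pr c n s))
      by_cases h0 : n = 0
      · subst h0; rfl
      · have : Ideal.Quotient.mk J (pr c n s) = 0 := by
          rw [Ideal.Quotient.eq_zero_iff_mem]
          apply Ideal.subset_span
          rw [Finset.mem_coe, Finset.mem_biUnion]
          exact ⟨s, hs, Finset.mem_image_of_mem _ (Finset.mem_filter.2 ⟨hn, h0⟩)⟩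
        rw [this, MonoidAlgebra.single_zero, MonoidAlgebra.single_zero]
    have h1 := DFunLike.congr_fun hfg a
    rw [hfgr m a ha] at h1
    change _ = MonoidAlgebra.single 1 (Ideal.Quotient.mk J a) at h1
    have h2 := congrArg (fun f => f.coeff (Multiplicative.ofAdd m)) h1
    simp only [MonoidAlgebra.coeff_single] at h2
    rw [Finsupp.single_eq_same, Finsupp.single_eq_of_ne] at h2
    · exact Ideal.Quotient.eq_zero_iff_mem.1 h2
    · intro h3
      exact hm (Multiplicative.ofAdd.injective h3)

end FG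

section Smooth

variable {R : Type u} [CommRing R] {A : Type u} [CommRing A] [HopfAlgebra R A]
variable {M : Type} [AddCommGroup M]
variable (p q : A →ₐc[R] MonoidAlgebra R (Multiplicative M))

instance formallySmooth_JT [Algebra.FormallySmooth R A] :
    Algebra.FormallySmooth R (A ⧸ JT p q) := by
  apply formallySmooth_quotient
  intro C _ _ N hN g₀ hg₀
  let g₁ : A →ₐ[R] C := Algebra.FormallySmooth.lift N ⟨2, hN⟩ g₀
  have hg₁ : (Ideal.Quotient.mkₐ R N).comp g₁ = g₀ := Algebra.FormallySmooth.comp_lift N ⟨2, hN⟩ g₀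
  have hg₁' : ∀ a, Ideal.Quotient.mk N (g₁ a) = g₀ a := DFunLike.congr_fun hg₁
  have hgr : ∀ m : M, m ≠ 0 → ∀ a ∈ gr (coact p q) m, g₁ a ∈ N := by
    intro m hm a ha
    rw [← Ideal.Quotient.eq_zero_iff_mem, hg₁']
    exact hg₀ a (Ideal.subset_span ⟨m, hm, ha⟩)
  obtain ⟨g, hg⟩ := exists_diag (coact p q) N hN ((cst R M C).comp g₁) (by
    intro i a ha k hk
    change (MonoidAlgebra.single 1 (g₁ a)).coeff (Multiplicative.ofAdd k) ∈ N
    by_cases h0 : k = 0
    · subst h0
      rw [ofAdd_zero, MonoidAlgebra.coeff_single, Finsupp.single_eq_same]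
      exact hgr i (Ne.symm hk) a ha
    · rw [MonoidAlgebra.coeff_single, Finsupp.single_eq_of_ne]
      · exact zero_mem _
      · intro h3
        exact h0 (Multiplicative.ofAdd.injective h3))
  have hg0 : ∀ a ∈ gr (coact p q) 0, g a = g₁ a := by
    intro a ha
    rw [hg 0 a ha]
    change (MonoidAlgebra.single 1 (g₁ a)).coeff 1 = _
    rw [MonoidAlgebra.coeff_single, Finsupp.single_eq_same]
  have hgm : ∀ m ≠ 0, ∀ a ∈ gr (coact p q) m, g a = 0 := by
    intro m hm a ha
    rw [hg m a ha]
    change (MonoidAlgebra.single 1 (g₁ a)).coeff (Multiplicative.ofAdd m) = 0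
    rw [MonoidAlgebra.coeff_single, Finsupp.single_eq_of_ne]
    intro h3
    exact hm (Multiplicative.ofAdd.injective h3)
  refine ⟨g, (fix_iff (toConv g)).1 ((fixed_iff p q (toConv g)).2 hgm), ?_⟩
  apply AlgHom.ext
  intro a
  induction a using induction_gr (coact p q) with
  | h0 => rw [map_zero, map_zero]
  | hadd a b ha hb => rw [map_add, map_add, ha, hb]
  | h m a ha =>
    change Ideal.Quotient.mk N (g a) = g₀ a
    by_cases hm : m = 0
    · subst hm
      rw [hg0 a ha, hg₁']
    · rw [hgm m hm a ha, map_zero]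
      exact (hg₀ a (Ideal.subset_span ⟨m, hm, ha⟩)).symm

instance finitePresentation_JT [Algebra.FinitePresentation R A] :
    Algebra.FinitePresentation R (A ⧸ JT p q) :=
  Algebra.FinitePresentation.quotient (fg_of_finiteType (coact p q))

instance smooth_JT [Algebra.Smooth R A] : Algebra.Smooth R (A ⧸ JT p q) where

/-- the transporter is faithfully flat if it has points over all closed points -/
theorem faithfullyFlat_JT [Algebra.Smooth R A]
    (h : ∀ m : Ideal R, m.IsMaximal → ∃ (K : Type u) (_ : Field K) (_ : Algebra R K)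
      (g : WithConv (A →ₐ[R] K)), Fix p q g ∧ ∀ r ∈ m, algebraMap R K r = 0) :
    Module.FaithfullyFlat R (A ⧸ JT p q) where
  submodule_ne_top := by
    intro m hm h1
    obtain ⟨K, _, _, g, hg, hK⟩ := h m hm
    let G : A ⧸ JT p q →ₐ[R] K := Ideal.Quotient.liftₐ _ g.ofConv ((fix_iff g).1 hg)
    have h2 : ∀ x ∈ m • (⊤ : Submodule R (A ⧸ JT p q)), G x = 0 := by
      intro x hx
      induction hx using Submodule.smul_induction_on' with
      | smul r hr n _ => rw [map_smul, Algebra.smul_def, hK r hr, zero_mul]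
      | add x _ y _ hx hy => rw [map_add, hx, hy, add_zero]
    have h3 := h2 1 (by rw [h1]; exact Submodule.mem_top)
    rw [map_one] at h3
    exact one_ne_zero h3

end Smooth

variable {R : Type u} [CommRing R] {A : Type u} [CommRing A] [HopfAlgebra R A]
variable {M : Type} [AddCommGroup M]
variable {p q : A →ₐc[R] MonoidAlgebra R (Multiplicative M)}

/-- **Conjugacy of homomorphisms `D(M) → G` over `R` with `Pic R = 0`** when they are conjugate over
the closed points of `Spec R` and `Z_G(p) = D(M)`. -/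
theorem exists_conj [Subsingleton (CommRing.Pic R)] [Module.Free ℤ M] [Algebra.Smooth R A]
    (hp : Function.Surjective p) (hc : ∀ y, p y = 0 → y ∈ JP p (⊥ : AddSubmonoid M))
    (h : ∀ m : Ideal R, m.IsMaximal → ∃ (K : Type u) (_ : Field K) (_ : Algebra R K)
      (g : WithConv (A →ₐ[R] K)), Fix p q g ∧ ∀ r ∈ m, algebraMap R K r = 0) :
    ∃ g : WithConv (A →ₐ[R] R), Fix p q g := by
  have := faithfullyFlat_JT p q h
  exact exists_transport hp hc

end Groth.Agent.Sga3B.RootFix878
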