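import Mathlib.RingTheory.Smooth.Basic
import Mathlib.RingTheory.Ideal.Cotangent
import Mathlib.RingTheory.MvPolynomial.Ideal
import Mathlib.RingTheory.GradedAlgebra.Basic

/-!
# Formally smooth algebras along a section, graded case

* `ker_le_pow`: `f : P → B` with `B` formally smooth over `R` and `P/𝔪² ≃ B/I²` implies
  `ker f ≤ 𝔪 ^ n` for all `n`.
* `injective_aeval`: coordinates `x s ∈ I` whose classes form a basis of `I/I²` are algebraically
  independent.
-/

set_option autoImplicit false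

open MvPolynomial

universe u v w

namespace Groth.Agent.Sga3B.RootSym

section Ker

variable {R : Type*} [CommRing R] {P : Type*} [CommRing P] [Algebra R P]
  {B : Type*} [CommRing B] [Algebra R B]

/-- An algebra map which is an isomorphism modulo squares and whose target is formally smooth
is injective modulo all powers. -/
theorem ker_le_pow [Algebra.FormallySmooth R B] (f : P →ₐ[R] B) (𝔪 : Ideal P) (I : Ideal B)
    (hsurj : ∀ b : B, ∃ p : P, f p - b ∈ I ^ 2) (hinj : ∀ p : P, f p ∈ I ^ 2 → p ∈ 𝔪 ^ 2)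
    (hle : ∀ p ∈ 𝔪, f p ∈ I) (n : ℕ) : RingHom.ker f ≤ 𝔪 ^ n := by
  -- the map `B → P / 𝔪 ^ 2`
  have hinj2 : ∀ p ∈ 𝔪 ^ 2, f p ∈ I ^ 2 := by
    intro p hp
    have : (𝔪 ^ 2).map f ≤ I ^ 2 := by
      rw [Ideal.map_pow]
      exact Ideal.pow_right_mono (Ideal.map_le_iff_le_comap.2 hle) 2
    exact this (Ideal.mem_map_of_mem f hp)
  let F : P →ₐ[R] B ⧸ I ^ 2 := (Ideal.Quotient.mkₐ R (I ^ 2)).comp f
  have hFs : Function.Surjective F := by
    intro b
    obtain ⟨b, rfl⟩ := Ideal.Quotient.mk_surjective b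
    obtain ⟨p, hp⟩ := hsurj b
    exact ⟨p, Ideal.Quotient.eq.2 hp⟩
  have hFk : RingHom.ker F = 𝔪 ^ 2 := by
    ext p
    rw [RingHom.mem_ker]
    change Ideal.Quotient.mk (I ^ 2) (f p) = 0 ↔ _
    rw [Ideal.Quotient.eq_zero_iff_mem]
    exact ⟨hinj p, hinj2 p⟩
  -- lifting
  rcases le_or_gt n 2 with hn | hn
  · refine le_trans ?_ (Ideal.pow_le_pow_right hn)
    intro p hp
    apply hinj
    rw [RingHom.mem_ker] at hp
    rw [hp]
    exact zero_mem _
  have hle2 : 𝔪 ^ n ≤ RingHom.ker F := hFk ▸ Ideal.pow_le_pow_right hn.le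
  let G : P ⧸ 𝔪 ^ n →ₐ[R] B ⧸ I ^ 2 := Ideal.Quotient.liftₐ (𝔪 ^ n) F (fun a ha => hle2 ha)
  have hGs : Function.Surjective G := by
    intro b
    obtain ⟨p, hp⟩ := hFs b
    exact ⟨Ideal.Quotient.mk _ p, hp⟩
  have hGk : ∀ p : P, G (Ideal.Quotient.mk _ p) = 0 → p ∈ 𝔪 ^ 2 := by
    intro p hp
    rw [← hFk]
    exact hp
  have hGnil : IsNilpotent (RingHom.ker (G : P ⧸ 𝔪 ^ n →+* B ⧸ I ^ 2)) := by
    refine ⟨n, ?_⟩
    rw [Ideal.zero_eq_bot, eq_bot_iff]
    have : RingHom.ker (G : P ⧸ 𝔪 ^ n →+* B ⧸ I ^ 2) ≤ 𝔪.map (Ideal.Quotient.mk (𝔪 ^ n)) := by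
      intro p hp
      obtain ⟨p, rfl⟩ := Ideal.Quotient.mk_surjective p
      exact Ideal.mem_map_of_mem _ (Ideal.pow_le_self two_ne_zero (hGk p hp))
    refine (Ideal.pow_right_mono this n).trans ?_
    rw [← Ideal.map_pow, Ideal.map_quotient_self]
  let ψ : B →ₐ[R] P ⧸ 𝔪 ^ n :=
    Algebra.FormallySmooth.liftOfSurjective (Ideal.Quotient.mkₐ R (I ^ 2)) G hGs hGnil
  have hψ : ∀ b, G (ψ b) = Ideal.Quotient.mk _ b := fun b =>
    Algebra.FormallySmooth.liftOfSurjective_apply (Ideal.Quotient.mkₐ R (I ^ 2)) G hGs hGnil b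
  -- difference
  let q := Ideal.Quotient.mk (𝔪 ^ n)
  let δ : P → P ⧸ 𝔪 ^ n := fun p => ψ (f p) - q p
  have h2 : ∀ p, δ p ∈ (𝔪 ^ 2).map q := by
    intro p
    obtain ⟨p', hp'⟩ := Ideal.Quotient.mk_surjective (δ p)
    rw [← hp']
    apply Ideal.mem_map_of_mem
    apply hGk
    rw [hp']
    change G (ψ (f p) - q p) = 0
    rw [map_sub, hψ]
    change Ideal.Quotient.mk _ (f p) - F p = 0
    exact sub_self _
  have hd : ∀ d : ℕ, ∀ p ∈ 𝔪 ^ (d + 1), δ p ∈ (𝔪 ^ (d + 2)).map q := by
    intro d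
    induction d with
    | zero => intro p _; exact h2 p
    | succ d ih =>
      intro p hp
      rw [pow_succ] at hp
      induction hp using Submodule.mul_induction_on' with
      | mem_mul_mem a ha b hb =>
        have e : δ (a * b) = δ a * ψ (f b) + q a * δ b := by
          simp only [δ, map_mul]; ring
        rw [e]
        refine add_mem ?_ ?_
        · have hfb : ψ (f b) ∈ 𝔪.map q := by
            have h3 : ψ (f b) = δ b + q b := by simp [δ]
            rw [h3]
            exact add_mem (Ideal.map_mono (Ideal.pow_le_self two_ne_zero) (h2 b))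
              (Ideal.mem_map_of_mem _ hb)
          have := Ideal.mul_mem_mul (ih a ha) hfb
          rw [← Ideal.map_mul, ← pow_succ] at this
          exact this
        · have := Ideal.mul_mem_mul (Ideal.mem_map_of_mem q ha) (h2 b)
          rw [← Ideal.map_mul, ← pow_add] at this
          exact this
      | add x _ y _ hx hy =>
        have e : δ (x + y) = δ x + δ y := by simp only [δ, map_add]; ring
        rw [e]
        exact add_mem hx hy
  -- conclusion
  intro p hp
  have hp0 : f p = 0 := hp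
  have key : ∀ d : ℕ, d + 1 ≤ n → p ∈ 𝔪 ^ (d + 1) := by
    intro d
    induction d with
    | zero =>
      intro _
      rw [zero_add, pow_one]
      apply Ideal.pow_le_self two_ne_zero
      apply hinj
      rw [hp0]
      exact zero_mem _
    | succ d ih =>
      intro hdn
      have h3 := hd d p (ih (by omega))
      have h4 : δ p = q (-p) := by simp only [δ, hp0, map_zero, zero_sub, map_neg]
      rw [h4, Ideal.mem_quotient_iff_mem_sup, sup_eq_left.2 (Ideal.pow_le_pow_right hdn)] at h3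
      exact neg_mem_iff.1 h3
  obtain ⟨m, rfl⟩ : ∃ m, n = m + 1 := ⟨n - 1, by omega⟩
  exact key m le_rfl

end Ker

end Groth.Agent.Sga3B.RootSym
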