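import Groth.Agent.Sga3B.RootGr
import Groth.Agent.Sga3B.RootSym
import Mathlib.RingTheory.Polynomial.Basic

/-!
# Root groups

Let `A` be a formally smooth Hopf algebra over a ring `R`, `p : D(M) → G = Spec A` a homomorphism
and `a : M` a weight such that the part of weight `a` of the cotangent space `I / I ^ 2` is free of
rank one and the part of weight `n • a`, `n ≥ 2`, is zero. Then there is a closed subgroup
`U_a ≃ 𝔾_a` of `G` on which `D(M)` acts through the character `a`.
-/

set_option autoImplicit false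

open TensorProduct WithConv Polynomial
open Groth.Agent.Books.DynBasic (mapPt mapPt_apply mapPt_injective)
open Groth.Agent.Sga3B.RootCoact Groth.Agent.Sga3B.RootOrb Groth.Agent.Sga3B.RootGr

universe u

namespace Groth.Agent.Sga3B.RootGa

section Gen

variable {R : Type u} [CommRing R] {A : Type u} [CommRing A] [HopfAlgebra R A]
variable {M : Type} [AddCommGroup M]
variable (p : A →ₐc[R] MonoidAlgebra R (Multiplicative M))
variable {C : Type u} [CommRing C] [Algebra R C]

variable (R A) in
/-- the augmentation ideal -/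
noncomputable abbrev aug : Ideal A := RingHom.ker (Bialgebra.counitAlgHom R A)

lemma mem_aug {a : A} : a ∈ aug R A ↔ Coalgebra.counit (R := R) a = 0 := Iff.rfl

lemma bot_pointed : ∀ m ∈ (⊥ : AddSubmonoid M), -m ∈ (⊥ : AddSubmonoid M) → m = 0 :=
  fun _ hm _ => hm

lemma counit_gr {m : M} (hm : m ≠ 0) {a : A} (ha : a ∈ gr (conjCoact p) m) :
    Coalgebra.counit (R := R) a = 0 := by
  have h : (1 : WithConv (A →ₐ[R] R)) ∈ PSub p ⊥ R := one_mem _
  rw [mem_PSub] at h
  exact h m hm a ha

lemma counit_pr_zero (a : A) :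
    Coalgebra.counit (R := R) (pr (conjCoact p) 0 a) = Coalgebra.counit (R := R) a := by
  have hg1 := lim_one (C := R) p (bot_pointed (M := M))
  have h := DFunLike.congr_fun (congrArg WithConv.ofConv hg1) a
  rw [lim_apply] at h
  exact h

lemma pr_mem_aug (m : M) {a : A} (ha : a ∈ aug R A) : pr (conjCoact p) m a ∈ aug R A := by
  rw [mem_aug] at ha ⊢
  by_cases hm : m = 0
  · subst hm
    rw [counit_pr_zero, ha]
  · exact counit_gr p hm (pr_mem_gr _ _ _)

/-- induction on the square of the augmentation ideal -/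
lemma induction_sq {Q : A → Prop} (h0 : Q 0) (hadd : ∀ a b, Q a → Q b → Q (a + b))
    (h : ∀ i j : M, ∀ u ∈ gr (conjCoact p) i, ∀ v ∈ gr (conjCoact p) j, u ∈ aug R A → v ∈ aug R A →
      Q (u * v)) {y : A} (hy : y ∈ aug R A ^ 2) : Q y := by
  rw [sq] at hy
  induction hy using Submodule.mul_induction_on' with
  | mem_mul_mem u hu v hv =>
    rw [← sum_pr (conjCoact p) u, ← sum_pr (conjCoact p) v, Finset.sum_mul_sum]
    refine Finset.sum_induction _ Q hadd h0 fun i _ => ?_
    refine Finset.sum_induction _ Q hadd h0 fun j _ => ?_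
    exact h i j _ (pr_mem_gr _ _ _) _ (pr_mem_gr _ _ _) (pr_mem_aug p i hu) (pr_mem_aug p j hv)
  | add x _ y _ hx hy => exact hadd x y hx hy

/-- `I ^ 2` is homogeneous -/
lemma pr_mem_sq (m : M) {y : A} (hy : y ∈ aug R A ^ 2) : pr (conjCoact p) m y ∈ aug R A ^ 2 := by
  classical
  refine induction_sq p (Q := fun y => pr (conjCoact p) m y ∈ aug R A ^ 2) ?_ ?_ ?_ hy
  · simp
  · intro a b ha hb
    rw [map_add]; exact add_mem ha hb
  · intro i j u hu v hv hu' hv'
    rw [pr_of_mem (conjCoact p) (mul_mem_gr _ hu hv)]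
    split_ifs
    · rw [sq]; exact Ideal.mul_mem_mul hu' hv'
    · exact zero_mem _

/-- tensors of total degree `m` -/
def T2 (m : M) : Submodule R (A ⊗[R] A) :=
  Submodule.span R {w | ∃ i j : M, i + j = m ∧ ∃ y ∈ gr (conjCoact p) i,
    ∃ z ∈ gr (conjCoact p) j, w = y ⊗ₜ[R] z}

lemma tmul_mem_T2 {i j m : M} (h : i + j = m) {y z : A} (hy : y ∈ gr (conjCoact p) i)
    (hz : z ∈ gr (conjCoact p) j) : y ⊗ₜ[R] z ∈ T2 p m :=
  Submodule.subset_span ⟨i, j, h, y, hy, z, hz, rfl⟩

lemma convMul_apply' (g h : WithConv (A →ₐ[R] C)) (a : A) :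
    (g * h).ofConv a = Algebra.TensorProduct.lmul' R
      (Algebra.TensorProduct.map g.ofConv h.ofConv (Coalgebra.comul (R := R) a)) := by
  rw [AlgHom.convMul_def]
  rfl

/-- The comultiplication is homogeneous. -/
lemma comul_mem {m : M} {a : A} (ha : a ∈ gr (conjCoact p) m) :
    Coalgebra.comul (R := R) a ∈ T2 p m := by
  classical
  let g : WithConv (A →ₐ[R] A ⊗[R] A) := toConv Algebra.TensorProduct.includeLeft
  let h : WithConv (A →ₐ[R] A ⊗[R] A) := toConv Algebra.TensorProduct.includeRight
  have hgh : (g * h).ofConv = Bialgebra.comulAlgHom R A := by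
    ext b
    rw [convMul_apply']
    change _ = Coalgebra.comul (R := R) b
    generalize Coalgebra.comul (R := R) b = w
    induction w using TensorProduct.induction_on with
    | zero => simp
    | tmul y z => simp [g, h]
    | add x y hx hy => rw [map_add, map_add, hx, hy]
  have key : ∀ w : A ⊗[R] A, ∀ k : M, ((Algebra.TensorProduct.lmul' R
      (Algebra.TensorProduct.map (orbHom p g).ofConv (orbHom p h).ofConv w)).coeff
        (Multiplicative.ofAdd k)) ∈ T2 p k := by
    intro w k
    induction w using TensorProduct.induction_on with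
    | zero => simp
    | add x y hx hy => rw [map_add, map_add, MonoidAlgebra.coeff_add, Finsupp.add_apply]; exact add_mem hx hy
    | tmul y z =>
      rw [Algebra.TensorProduct.map_tmul, Algebra.TensorProduct.lmul'_apply_tmul]
      induction y using induction_gr (conjCoact p) with
      | h0 => simp
      | hadd y y' hy hy' =>
        rw [map_add, add_mul, MonoidAlgebra.coeff_add, Finsupp.add_apply]; exact add_mem hy hy'
      | h i y hy =>
        induction z using induction_gr (conjCoact p) with
        | h0 => simp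
        | hadd z z' hz hz' =>
          rw [map_add, mul_add, MonoidAlgebra.coeff_add, Finsupp.add_apply]; exact add_mem hz hz'
        | h j z hz =>
          rw [orbHom_apply, orbHom_apply, orbU_apply_of_mem p p g hy, orbU_apply_of_mem p p h hz,
            MonoidAlgebra.single_mul_single, MonoidAlgebra.coeff_single, Finsupp.single_apply]
          split_ifs with hk
          · have : i + j = k := by
              rw [← ofAdd_add] at hk
              exact Multiplicative.ofAdd.injective hk
            change (Algebra.TensorProduct.includeLeft (R := R) (S := R) (A := A) (B := A) y) *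
              (Algebra.TensorProduct.includeRight (R := R) (A := A) (B := A) z) ∈ _
            rw [Algebra.TensorProduct.includeLeft_apply, Algebra.TensorProduct.includeRight_apply,
              Algebra.TensorProduct.tmul_mul_tmul, one_mul, mul_one]
            exact tmul_mem_T2 p this hy hz
          · exact zero_mem _
  have h1 := key (Coalgebra.comul a) m
  rw [← convMul_apply', ← map_mul, orbHom_apply, orbU_apply_of_mem p p (g * h) ha, hgh,
    MonoidAlgebra.coeff_single, Finsupp.single_eq_same] at h1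
  exact h1

end Gen

section Root

variable {R : Type u} [CommRing R] {A : Type u} [CommRing A] [HopfAlgebra R A]
variable {M : Type} [AddCommGroup M]
variable (p : A →ₐc[R] MonoidAlgebra R (Multiplicative M))
variable {C : Type u} [CommRing C] [Algebra R C]
variable (a : M)

/-- the monoid `ℕ a` -/
abbrev psi : AddSubmonoid M := AddSubmonoid.multiples a

variable {a}

lemma nsmul_mem_psi (n : ℕ) : n • a ∈ psi a := ⟨n, rfl⟩

variable (ha : ∀ n : ℕ, n • a = 0 → n = 0)

include ha

lemma nsmul_inj {m n : ℕ} (h : m • a = n • a) : m = n := by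
  wlog hmn : m ≤ n generalizing m n
  · exact (this h.symm (by omega)).symm
  have : (n - m) • a = 0 := by
    rw [sub_nsmul _ hmn, h, add_neg_cancel]
  have := ha _ this
  omega

lemma psi_pointed : ∀ m ∈ psi a, -m ∈ psi a → m = 0 := by
  rintro m ⟨k, rfl⟩ ⟨l, hl⟩
  simp only at hl ⊢
  have : (k + l) • a = 0 := by
    rw [add_nsmul, hl, add_neg_cancel]
  have := ha _ this
  have hk : k = 0 := by omega
  rw [hk, zero_nsmul]

/-- `i + j = n • a` with `i ∈ ψ`, `j ∈ ψ` -/
lemma nsmul_split {n k l : ℕ} (h : k • a + l • a = n • a) : k + l = n := by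
  rw [← add_nsmul] at h
  exact nsmul_inj ha h

/-- Values on sums: points of the root group are additive on elements of weight `a`. -/
lemma mul_apply_of_mem {x : A} (hx : x ∈ gr (conjCoact p) a)
    {g h : WithConv (A →ₐ[R] C)} (hg : g ∈ USub p (psi_pointed ha) C)
    (hh : h ∈ USub p (psi_pointed ha) C) :
    (g * h).ofConv x = g.ofConv x + h.ofConv x := by
  have ha0 : a ≠ 0 := fun h0 => by
    have := ha 1 (by rw [one_nsmul, h0])
    omega
  rw [mem_USub] at hg hh
  let L1 : A ⊗[R] A →ₗ[R] C := h.ofConv.toLinearMap ∘ₗ (TensorProduct.lid R A).toLinearMap ∘ₗ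
    (Coalgebra.counit (R := R) (A := A)).rTensor A
  let L2 : A ⊗[R] A →ₗ[R] C := g.ofConv.toLinearMap ∘ₗ (TensorProduct.rid R A).toLinearMap ∘ₗ
    (Coalgebra.counit (R := R) (A := A)).lTensor A
  let L : A ⊗[R] A →ₗ[R] C := (Algebra.TensorProduct.lmul' R).toLinearMap ∘ₗ
    (Algebra.TensorProduct.map g.ofConv h.ofConv).toLinearMap
  have hL1 : ∀ y z, L1 (y ⊗ₜ z) = (algebraMap R C (Coalgebra.counit (R := R) y)) * h.ofConv z := by
    intro y z
    change h.ofConv ((TensorProduct.lid R A) ((Coalgebra.counit (R := R) (A := A)).rTensor A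
      (y ⊗ₜ z))) = _
    rw [LinearMap.rTensor_tmul, TensorProduct.lid_tmul, map_smul, Algebra.smul_def]
  have hL2 : ∀ y z, L2 (y ⊗ₜ z) = g.ofConv y * (algebraMap R C (Coalgebra.counit (R := R) z)) := by
    intro y z
    change g.ofConv ((TensorProduct.rid R A) ((Coalgebra.counit (R := R) (A := A)).lTensor A
      (y ⊗ₜ z))) = _
    rw [LinearMap.lTensor_tmul, TensorProduct.rid_tmul, map_smul, Algebra.smul_def, mul_comm]
  have hL : ∀ y z, L (y ⊗ₜ z) = g.ofConv y * h.ofConv z := fun y z => rfl
  have key : ∀ w ∈ T2 p a, L w = L1 w + L2 w := by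
    intro w hw
    induction hw using Submodule.span_induction with
    | zero => simp
    | add x y _ _ hx hy => rw [map_add, map_add, map_add, hx, hy]; ring
    | smul r x _ hx => rw [map_smul, map_smul, map_smul, hx, smul_add]
    | mem w hw =>
      obtain ⟨i, j, hij, y, hy, z, hz, rfl⟩ := hw
      rw [hL, hL1, hL2]
      by_cases hi : i = 0
      · subst hi
        have hj : j ≠ 0 := by rw [zero_add] at hij; rw [hij]; exact ha0
        rw [hg.2 y hy, counit_gr p hj hz, map_zero, mul_zero, add_zero]
      · by_cases hj : j = 0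
        · subst hj
          rw [hh.2 z hz, counit_gr p hi hy, map_zero, zero_mul, zero_add]
        · rw [counit_gr p hi hy, counit_gr p hj hz, map_zero, zero_mul, mul_zero, add_zero]
          by_cases hi' : i ∈ psi a
          · by_cases hj' : j ∈ psi a
            · exfalso
              obtain ⟨k, rfl⟩ := hi'
              obtain ⟨l, rfl⟩ := hj'
              have h1 := nsmul_split ha (n := 1) (k := k) (l := l) (by rw [one_nsmul]; exact hij)
              rcases (by omega : k = 0 ∨ l = 0) with rfl | rfl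
              · exact hi (zero_nsmul a)
              · exact hj (zero_nsmul a)
            · rw [hh.1 j hj' z hz, mul_zero]
          · rw [hg.1 i hi' y hy, zero_mul]
  rw [convMul_apply']
  have h1 := key _ (comul_mem p hx)
  have h2 : L1 (Coalgebra.comul x) = h.ofConv x := by
    change h.ofConv ((TensorProduct.lid R A) ((Coalgebra.counit (R := R) (A := A)).rTensor A _)) = _
    rw [Coalgebra.rTensor_counit_comul, TensorProduct.lid_tmul, one_smul]
  have h3 : L2 (Coalgebra.comul x) = g.ofConv x := by
    change g.ofConv ((TensorProduct.rid R A) ((Coalgebra.counit (R := R) (A := A)).lTensor A _)) = _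
    rw [Coalgebra.lTensor_counit_comul, TensorProduct.rid_tmul, one_smul]
  rw [h2, h3, add_comm] at h1
  exact h1

variable (x : A) (hx : x ∈ gr (conjCoact p) a)

omit ha in
/-- the candidate for the isomorphism -/
noncomputable def coord : R[X] →ₐ[R] A ⧸ JU p (psi a) :=
  Polynomial.aeval (Ideal.Quotient.mk (JU p (psi a)) x)

omit ha in
lemma mk_eq_zero_of_notMem {m : M} (hm : m ∉ psi a) {y : A} (hy : y ∈ gr (conjCoact p) m) :
    Ideal.Quotient.mk (JU p (psi a)) y = 0 :=
  Ideal.Quotient.eq_zero_iff_mem.2 (Ideal.subset_span (Or.inl ⟨m, hm, hy⟩))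

omit ha in
lemma mk_eq_zero_of_zero {y : A} (hy : y ∈ gr (conjCoact p) 0) (hy' : y ∈ aug R A) :
    Ideal.Quotient.mk (JU p (psi a)) y = 0 :=
  Ideal.Quotient.eq_zero_iff_mem.2 (Ideal.subset_span (Or.inr ⟨hy, hy'⟩))

omit ha in
lemma mk_gr_zero {y : A} (hy : y ∈ gr (conjCoact p) 0) :
    Ideal.Quotient.mk (JU p (psi a)) y =
      algebraMap R (A ⧸ JU p (psi a)) (Coalgebra.counit (R := R) y) := by
  have h1 := mk_eq_zero_of_zero p (a := a) (y := y - algebraMap R A (Coalgebra.counit (R := R) y))
    (sub_mem hy (algebraMap_mem_gr _ _)) (by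
      rw [mem_aug, map_sub, Bialgebra.counit_algebraMap, sub_self])
  rw [map_sub, sub_eq_zero] at h1
  rw [h1]; rfl

lemma mk_pr_sq_mem (S : Subalgebra R (A ⧸ JU p (psi a))) (n : ℕ)
    (IH : ∀ k < n, ∀ y ∈ gr (conjCoact p) (k • a), Ideal.Quotient.mk (JU p (psi a)) y ∈ S)
    {w : A} (hw : w ∈ aug R A ^ 2) :
    Ideal.Quotient.mk (JU p (psi a)) (pr (conjCoact p) (n • a) w) ∈ S := by
  classical
  refine induction_sq p (Q := fun w => Ideal.Quotient.mk (JU p (psi a))
    (pr (conjCoact p) (n • a) w) ∈ S) ?_ ?_ ?_ hw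
  · simp only [map_zero]; exact zero_mem S
  · intro y z hy hz
    simp only [map_add]; exact add_mem hy hz
  · intro i j u hu v hv hu' hv'
    rw [pr_of_mem (conjCoact p) (mul_mem_gr _ hu hv)]
    split_ifs with hij
    · rw [map_mul]
      by_cases hi : i ∈ psi a
      · by_cases hj : j ∈ psi a
        · obtain ⟨k, rfl⟩ := hi
          obtain ⟨l, rfl⟩ := hj
          have hkl := nsmul_split ha hij
          rcases Nat.eq_zero_or_pos k with rfl | hk
          · rw [mk_eq_zero_of_zero p (by simpa using hu) hu', zero_mul]; exact zero_mem S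
          · rcases Nat.eq_zero_or_pos l with rfl | hl
            · rw [mk_eq_zero_of_zero p (by simpa using hv) hv', mul_zero]; exact zero_mem S
            · exact mul_mem (IH k (by omega) u hu) (IH l (by omega) v hv)
        · rw [mk_eq_zero_of_notMem p hj hv, mul_zero]; exact zero_mem S
      · rw [mk_eq_zero_of_notMem p hi hu, zero_mul]; exact zero_mem S
    · rw [map_zero]; exact zero_mem S

include hx in
theorem coord_surjective (h1 : ∀ y ∈ gr (conjCoact p) a, ∃ r : R, y - r • x ∈ aug R A ^ 2)
    (h3 : ∀ n : ℕ, 2 ≤ n → ∀ y ∈ gr (conjCoact p) (n • a), y ∈ aug R A ^ 2) :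
    Function.Surjective (coord p (a := a) x) := by
  have hX : Ideal.Quotient.mk (JU p (psi a)) x ∈ (coord p (a := a) x).range := by
    refine ⟨X, ?_⟩
    change Polynomial.aeval _ X = _
    rw [aeval_X]
  have key : ∀ n : ℕ, ∀ y ∈ gr (conjCoact p) (n • a), Ideal.Quotient.mk (JU p (psi a)) y ∈
      (coord p (a := a) x).range := by
    intro n
    induction n using Nat.strong_induction_on with
    | _ n IH =>
    intro y hy
    rcases (by omega : n = 0 ∨ n = 1 ∨ 2 ≤ n) with rfl | rfl | hn
    · rw [mk_gr_zero p (by simpa using hy)]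
      exact Subalgebra.algebraMap_mem _ _
    · rw [one_nsmul] at hy
      obtain ⟨r, hr⟩ := h1 y hy
      have h2 := mk_pr_sq_mem p ha (coord p (a := a) x).range 1 IH hr
      rw [one_nsmul, pr_of_mem_same _ (sub_mem hy (Submodule.smul_mem _ r hx)), map_sub] at h2
      have h3 : Ideal.Quotient.mk (JU p (psi a)) (r • x) ∈ (coord p (a := a) x).range := by
        have : Ideal.Quotient.mk (JU p (psi a)) (r • x) =
          r • Ideal.Quotient.mk (JU p (psi a)) x := rfl
        rw [this]
        exact Subalgebra.smul_mem _ hX r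
      have h4 := add_mem h2 h3
      rwa [sub_add_cancel] at h4
    · have h2 := mk_pr_sq_mem p ha (coord p (a := a) x).range n IH (h3 n hn y hy)
      rwa [pr_of_mem_same _ hy] at h2
  have key2 : ∀ y : A, Ideal.Quotient.mk (JU p (psi a)) y ∈ (coord p (a := a) x).range := by
    intro y
    induction y using induction_gr (conjCoact p) with
    | h0 => rw [map_zero]; exact zero_mem _
    | hadd y z hy hz => rw [map_add]; exact add_mem hy hz
    | h m y hy =>
      by_cases hm : m ∈ psi a
      · obtain ⟨n, rfl⟩ := hm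
        exact key n y hy
      · rw [mk_eq_zero_of_notMem p hm hy]; exact zero_mem _
  intro b
  obtain ⟨y, rfl⟩ := Ideal.Quotient.mk_surjective b
  exact key2 y

lemma counit_of_mem_JU {y : A} (hy : y ∈ JU p (psi a)) : y ∈ aug R A :=
  (vanish_JU_iff p (psi_pointed ha) (1 : WithConv (A →ₐ[R] R))).2 (one_mem _) y hy

omit ha in
/-- induction on the ideal `J` -/
lemma induction_JU {Q : A → Prop} (h0 : Q 0) (hadd : ∀ y z, Q y → Q z → Q (y + z))
    (h1 : ∀ i j : M, i ∉ psi a → ∀ u ∈ gr (conjCoact p) i, ∀ v ∈ gr (conjCoact p) j, Q (v * u))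
    (h2 : ∀ j : M, ∀ u ∈ gr (conjCoact p) 0, u ∈ aug R A → ∀ v ∈ gr (conjCoact p) j, Q (v * u))
    {y : A} (hy : y ∈ JU p (psi a)) : Q y := by
  rw [JU] at hy
  induction hy using Submodule.closure_induction with
  | zero => exact h0
  | add x y _ _ hx hy => exact hadd x y hx hy
  | smul_mem b x hx =>
    rw [smul_eq_mul, ← sum_pr (conjCoact p) b, Finset.sum_mul]
    refine Finset.sum_induction _ Q hadd h0 fun j _ => ?_
    rcases hx with ⟨m, hm, hx⟩ | ⟨hx, hx'⟩
    · exact h1 m j hm x hx _ (pr_mem_gr _ _ _)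
    · exact h2 j x hx hx' _ (pr_mem_gr _ _ _)

omit ha in
lemma pr_mem_sq_of_mem_JU (ha0 : a ≠ 0) {y : A} (hy : y ∈ JU p (psi a)) :
    pr (conjCoact p) a y ∈ aug R A ^ 2 := by
  classical
  refine induction_JU p (Q := fun y => pr (conjCoact p) a y ∈ aug R A ^ 2) ?_ ?_ ?_ ?_ hy
  · simp
  · intro y z hy hz
    rw [map_add]; exact add_mem hy hz
  · intro i j hi u hu v hv
    rw [pr_of_mem (conjCoact p) (mul_mem_gr _ hv hu)]
    split_ifs with hij
    · have hi0 : i ≠ 0 := fun h => hi (h ▸ zero_mem _)
      have hia : i ≠ a := fun h => hi (h ▸ ⟨1, one_nsmul _⟩)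
      have hj0 : j ≠ 0 := fun h => hia (by rw [← hij, h, zero_add])
      rw [sq]
      exact Ideal.mul_mem_mul (counit_gr p hj0 hv) (counit_gr p hi0 hu)
    · exact zero_mem _
  · intro j u hu hu' v hv
    rw [pr_of_mem (conjCoact p) (mul_mem_gr _ hv hu)]
    split_ifs with hij
    · have hj0 : j ≠ 0 := fun h => ha0 (by rw [← hij, h, zero_add])
      rw [sq]
      exact Ideal.mul_mem_mul (counit_gr p hj0 hv) hu'
    · exact zero_mem _

omit ha in
lemma aeval_mk (q : R[X]) : coord p (a := a) x q =
    Ideal.Quotient.mk (JU p (psi a)) (Polynomial.aeval x q) := by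
  change Polynomial.aeval (Ideal.Quotient.mkₐ R (JU p (psi a)) x) q = _
  rw [Polynomial.aeval_algHom_apply]
  rfl

include ha hx in
lemma pr_aeval (q : R[X]) (n : ℕ) : pr (conjCoact p) (n • a) (Polynomial.aeval x q) =
    q.coeff n • x ^ n := by
  classical
  have hxn : ∀ n : ℕ, x ^ n ∈ gr (conjCoact p) (n • a) := by
    intro n
    induction n with
    | zero => rw [pow_zero, zero_nsmul]; exact one_mem_gr _
    | succ n ih => rw [pow_succ, succ_nsmul]; exact mul_mem_gr _ ih hx
  rw [aeval_eq_sum_range, pr_sum]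
  simp only [map_smul, pr_of_mem (conjCoact p) (hxn _)]
  by_cases hn : n ≤ q.natDegree
  · rw [Finset.sum_eq_single n]
    · rw [if_pos rfl]
    · intro m _ hm
      rw [if_neg (fun h => hm (nsmul_inj ha h)), smul_zero]
    · intro h
      exact absurd (Finset.mem_range.2 (by omega)) h
  · rw [Polynomial.coeff_eq_zero_of_natDegree_lt (by omega), zero_smul]
    refine Finset.sum_eq_zero fun m hm => ?_
    rw [if_neg (fun h => ?_), smul_zero]
    have := nsmul_inj ha h
    rw [Finset.mem_range] at hm
    omega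

include ha hx in
theorem coord_injective [Algebra.FormallySmooth R A]
    (hs : Function.Surjective (coord p (a := a) x))
    (h2 : ∀ r : R, r • x ∈ aug R A ^ 2 → r = 0) :
    Function.Injective (coord p (a := a) x) := by
  have ha0 : a ≠ 0 := fun h0 => by
    have := ha 1 (by rw [one_nsmul, h0])
    omega
  have hxI : x ∈ aug R A := counit_gr p ha0 hx
  have : Algebra.FormallySmooth R (A ⧸ JU p (psi a)) := formallySmooth_JU p (psi_pointed ha)
  have hJ : JU p (psi a) ≤ aug R A := fun y hy => counit_of_mem_JU p ha hy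
  let IB : Ideal (A ⧸ JU p (psi a)) := (aug R A).map (Ideal.Quotient.mk (JU p (psi a)))
  have key : ∀ n : ℕ, RingHom.ker (coord p (a := a) x) ≤ (Ideal.span {(X : R[X])}) ^ n := by
    refine RootSym.ker_le_pow (coord p (a := a) x) (Ideal.span {(X : R[X])}) IB ?_ ?_ ?_
    · intro b
      obtain ⟨q, hq⟩ := hs b
      exact ⟨q, by rw [hq, sub_self]; exact zero_mem _⟩
    · intro q hq
      rw [aeval_mk, ← Ideal.map_pow, Ideal.mem_map_iff_of_surjective _
        Ideal.Quotient.mk_surjective] at hq
      obtain ⟨w, hw, hwq⟩ := hq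
      have hd : Polynomial.aeval x q - w ∈ JU p (psi a) := by
        rw [← Ideal.Quotient.eq, hwq]
      have hw1 : w ∈ aug R A := Ideal.pow_le_self two_ne_zero hw
      have hq1 : Polynomial.aeval x q ∈ aug R A := by
        have := add_mem (hJ hd) hw1
        rwa [sub_add_cancel] at this
      have hc0 : q.coeff 0 = 0 := by
        have h4 := pr_mem_aug p (0 • a) hq1
        rw [pr_aeval p ha x hx, pow_zero, mem_aug, map_smul, Bialgebra.counit_one, smul_eq_mul,
          mul_one] at h4
        exact h4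
      have hc1 : q.coeff 1 = 0 := by
        apply h2
        have h4 := pr_mem_sq_of_mem_JU p ha0 hd
        have h5 := pr_mem_sq p a hw
        rw [map_sub] at h4
        have h6 := add_mem h4 h5
        rw [sub_add_cancel] at h6
        have h7 := pr_aeval p ha x hx q 1
        rw [one_nsmul, pow_one] at h7
        rwa [h7] at h6
      rw [Ideal.span_singleton_pow, Ideal.mem_span_singleton, Polynomial.X_pow_dvd_iff]
      intro d hd
      rcases (by omega : d = 0 ∨ d = 1) with rfl | rfl
      · exact hc0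
      · exact hc1
    · intro q hq
      rw [Ideal.mem_span_singleton] at hq
      obtain ⟨q, rfl⟩ := hq
      rw [map_mul]
      apply Ideal.mul_mem_right
      change Polynomial.aeval _ X ∈ _
      rw [aeval_X]
      exact Ideal.mem_map_of_mem _ hxI
  rw [injective_iff_map_eq_zero]
  intro q hq
  ext n
  have h4 := key (n + 1) hq
  rw [Ideal.span_singleton_pow, Ideal.mem_span_singleton, Polynomial.X_pow_dvd_iff] at h4
  rw [h4 n (by omega), Polynomial.coeff_zero]

end Root

section Main

variable {R : Type u} [CommRing R] {A : Type u} [CommRing A] [HopfAlgebra R A]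
variable {C : Type u} [CommRing C] [Algebra R C]
variable {D : Type u} [CommRing D] [Algebra R D]

/-- the point of `G` with parameter `s`, for `φ : A → R[X]`. -/
noncomputable def up (φ : A →ₐ[R] R[X]) (s : C) : WithConv (A →ₐ[R] C) :=
  toConv ((Polynomial.aeval s).comp φ)

lemma up_apply (φ : A →ₐ[R] R[X]) (s : C) (y : A) :
    (up φ s).ofConv y = Polynomial.aeval s (φ y) := rfl

lemma mapPt_up (φ : A →ₐ[R] R[X]) (ψ : C →ₐ[R] D) (s : C) :
    mapPt ψ (up φ s) = up φ (ψ s) := by
  apply WithConv.ofConv_injective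
  apply AlgHom.ext
  intro y
  change ψ (Polynomial.aeval s (φ y)) = Polynomial.aeval (ψ s) (φ y)
  rw [Polynomial.aeval_algHom_apply]

variable {M : Type} [AddCommGroup M]
variable (p : A →ₐc[R] MonoidAlgebra R (Multiplicative M))

/-- **Existence of root groups over an arbitrary base ring.** -/
theorem exists_rootGroup [Algebra.FormallySmooth R A] (a : M) (ha : ∀ n : ℕ, n • a = 0 → n = 0)
    (x : A) (hx : x ∈ gr (conjCoact p) a)
    (h1 : ∀ y ∈ gr (conjCoact p) a, ∃ r : R, y - r • x ∈ aug R A ^ 2)
    (h2 : ∀ r : R, r • x ∈ aug R A ^ 2 → r = 0)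
    (h3 : ∀ n : ℕ, 2 ≤ n → ∀ y ∈ gr (conjCoact p) (n • a), y ∈ aug R A ^ 2) :
    ∃ φ : A →ₐ[R] R[X], Function.Surjective φ ∧ φ x = X ∧
      (∀ (C : Type u) [CommRing C] [Algebra R C] (g : WithConv (A →ₐ[R] C)),
        g ∈ USub p (psi_pointed ha) C ↔ ∃ s : C, g = up φ s) ∧
      (∀ (C : Type u) [CommRing C] [Algebra R C] (s t : C), up φ (s + t) = up φ s * up φ t) ∧
      (∀ (C : Type u) [CommRing C] [Algebra R C] (t : Multiplicative M →* Cˣ) (s : C),
        torPt p t * up φ s * (torPt p t)⁻¹ = up φ ((t (Multiplicative.ofAdd a) : C) * s)) := by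
  have hs := coord_surjective p ha x hx h1 h3
  have hi := coord_injective p ha x hx hs h2
  let e := AlgEquiv.ofBijective (coord p (a := a) x) ⟨hi, hs⟩
  let φ : A →ₐ[R] R[X] := (e.symm : _ →ₐ[R] R[X]).comp (Ideal.Quotient.mkₐ R (JU p (psi a)))
  have hφx : φ x = X := by
    change e.symm (Ideal.Quotient.mk _ x) = X
    rw [AlgEquiv.symm_apply_eq]
    change _ = Polynomial.aeval _ X
    rw [aeval_X]
  have hφs : Function.Surjective φ := fun q => by
    obtain ⟨y, hy⟩ := Ideal.Quotient.mk_surjective (e q)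
    refine ⟨y, ?_⟩
    change e.symm (Ideal.Quotient.mk _ y) = q
    rw [hy, AlgEquiv.symm_apply_apply]
  have hmem : ∀ (C : Type u) [CommRing C] [Algebra R C] (g : WithConv (A →ₐ[R] C)),
      g ∈ USub p (psi_pointed ha) C ↔ ∃ s : C, g = up φ s := by
    intro C _ _ g
    rw [← vanish_JU_iff p (psi_pointed ha) g]
    constructor
    · intro h
      refine ⟨g.ofConv x, ?_⟩
      apply WithConv.ofConv_injective
      let g' : (A ⧸ JU p (psi a)) →ₐ[R] C := Ideal.Quotient.liftₐ _ g.ofConv h
      have hg' : g'.comp (e : R[X] →ₐ[R] _) = Polynomial.aeval (g.ofConv x) := by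
        apply Polynomial.algHom_ext
        rw [aeval_X]
        change g' (Polynomial.aeval _ X) = _
        rw [aeval_X]
        rfl
      apply AlgHom.ext
      intro y
      change _ = Polynomial.aeval (g.ofConv x) (e.symm (Ideal.Quotient.mk _ y))
      rw [← hg']
      change _ = g' (e (e.symm (Ideal.Quotient.mk _ y)))
      rw [AlgEquiv.apply_symm_apply]
      rfl
    · rintro ⟨s, rfl⟩ y hy
      change Polynomial.aeval s (e.symm (Ideal.Quotient.mk _ y)) = 0
      rw [Ideal.Quotient.eq_zero_iff_mem.2 hy, map_zero, map_zero]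
  have hval : ∀ (C : Type u) [CommRing C] [Algebra R C] (s : C), (up φ s).ofConv x = s := by
    intro C _ _ s
    rw [up_apply, hφx, aeval_X]
  refine ⟨φ, hφs, hφx, hmem, ?_, ?_⟩
  · intro C _ _ s t
    have hg := (hmem C (up φ s)).2 ⟨s, rfl⟩
    have hh := (hmem C (up φ t)).2 ⟨t, rfl⟩
    obtain ⟨r, hr⟩ := (hmem C (up φ s * up φ t)).1 (mul_mem hg hh)
    have h4 := mul_apply_of_mem p ha hx hg hh
    rw [hr, hval, hval, hval] at h4
    rw [hr, h4]
  · intro C _ _ t s
    have hg := (hmem C (up φ s)).2 ⟨s, rfl⟩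
    obtain ⟨r, hr⟩ := (hmem C _).1 (orb_mem_USub p (psi_pointed ha) t hg)
    have h4 := orb_apply_of_mem p p t (up φ s) hx
    rw [hr, hval, hval] at h4
    change orb p p t (up φ s) = _
    rw [hr, h4, mul_comm]

end Main

end Groth.Agent.Sga3B.RootGa
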