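import Groth.Agent.Books.DynLim
import Groth.Agent.Sga3B.RootOrb
import Mathlib.RingTheory.Smooth.Basic

/-!
# Subgroups of an affine group attached to pointed sets of weights

Let `p : A →ₐc[R] R[M]` be a homomorphism `D(M) → G = Spec A` and `Ψ` a submonoid of `M`.
`PSub`: points `g` killing the homogeneous elements (for conjugation) of degree not in `Ψ`.
If `Ψ` is pointed, `lim : PSub → G` is the projection to degree zero, and `U` is its kernel.
The quotient of `A` defining `U` is formally smooth if `A` is.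
-/

set_option autoImplicit false

open TensorProduct WithConv
open Groth.Agent.Books.DynBasic (mapPt mapPt_apply mapPt_injective)
open Groth.Agent.Sga3B.RootCoact Groth.Agent.Sga3B.RootOrb

universe u

namespace Groth.Agent.Sga3B.RootGr

section SPsi

variable (R : Type u) [CommRing R] {M : Type} [AddCommGroup M] (Ψ : AddSubmonoid M)
variable (C : Type u) [CommRing C] [Algebra R C]
variable {D : Type u} [CommRing D] [Algebra R D]

/-- The subalgebra `C[Ψ]` of `C[M]`. -/
def SPsi : Subalgebra R (MonoidAlgebra C (Multiplicative M)) where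
  carrier := {f | ∀ m : M, m ∉ Ψ → f.coeff (Multiplicative.ofAdd m) = 0}
  mul_mem' := by
    classical
    intro f g hf hg m hm
    rw [MonoidAlgebra.coeff_mul]
    refine Finset.sum_eq_zero fun i _ => Finset.sum_eq_zero fun j _ => ?_
    simp only
    split_ifs with h
    · by_cases hi : i.toAdd ∈ Ψ
      · by_cases hj : j.toAdd ∈ Ψ
        · exfalso
          apply hm
          have : m = i.toAdd + j.toAdd := by
            rw [← toAdd_mul, h]; rfl
          rw [this]
          exact add_mem hi hj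
        · have := hg _ hj
          rw [ofAdd_toAdd] at this
          rw [this, mul_zero]
      · have := hf _ hi
        rw [ofAdd_toAdd] at this
        rw [this, zero_mul]
    · rfl
  add_mem' := by
    intro f g hf hg m hm
    rw [MonoidAlgebra.coeff_add, Finsupp.add_apply, hf m hm, hg m hm, add_zero]
  algebraMap_mem' := by
    intro r m hm
    change (MonoidAlgebra.single (1 : Multiplicative M) (algebraMap R C r)).coeff _ = 0
    rw [MonoidAlgebra.coeff_single, Finsupp.single_eq_of_ne]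
    intro h
    apply hm
    have h2 : m = 0 := Multiplicative.ofAdd.injective h
    rw [h2]
    exact zero_mem _

variable {R Ψ C}

lemma mem_SPsi {f : MonoidAlgebra C (Multiplicative M)} :
    f ∈ SPsi R Ψ C ↔ ∀ m : M, m ∉ Ψ → f.coeff (Multiplicative.ofAdd m) = 0 := Iff.rfl

lemma single_mem_SPsi {m : M} (hm : m ∈ Ψ) (x : C) :
    MonoidAlgebra.single (Multiplicative.ofAdd m) x ∈ SPsi R Ψ C := by
  intro n hn
  rw [MonoidAlgebra.coeff_single, Finsupp.single_eq_of_ne]
  intro h
  apply hn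
  rw [Multiplicative.ofAdd.injective h]
  exact hm

variable (R Ψ) in
/-- functoriality of `C[Ψ]` -/
noncomputable def mapS (φ : C →ₐ[R] D) : SPsi R Ψ C →ₐ[R] SPsi R Ψ D :=
  ((MonoidAlgebra.mapAlgHom (Multiplicative M) φ).comp (SPsi R Ψ C).val).codRestrict _ (by
    intro f m hm
    change ((MonoidAlgebra.mapAlgHom (Multiplicative M) φ) f.1).coeff _ = 0
    rw [MonoidAlgebra.coeff_mapAlgHom, f.2 m hm, map_zero])

lemma mapS_coe (φ : C →ₐ[R] D) (f : SPsi R Ψ C) :
    (mapS R Ψ φ f : MonoidAlgebra D (Multiplicative M)) =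
      MonoidAlgebra.mapAlgHom (Multiplicative M) φ f.1 := rfl

lemma mapS_surjective (φ : C →ₐ[R] D) (hφ : Function.Surjective φ) :
    Function.Surjective (mapS R Ψ φ) := by
  classical
  intro f
  obtain ⟨f, hf⟩ := f
  have key : ∀ s : Finset (Multiplicative M), ∀ f : MonoidAlgebra D (Multiplicative M),
      f.coeff.support ⊆ s → (∀ m : M, m ∉ Ψ → f.coeff (Multiplicative.ofAdd m) = 0) →
      ∃ g ∈ SPsi R Ψ C, MonoidAlgebra.mapAlgHom (Multiplicative M) φ g = f := by
    intro s
    induction s using Finset.induction_on with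
    | empty =>
      intro f hs _
      have : f = 0 := by
        rw [← MonoidAlgebra.coeff_eq_zero]
        exact Finsupp.support_eq_empty.1 (Finset.subset_empty.1 hs)
      exact ⟨0, zero_mem _, by rw [this, map_zero]⟩
    | insert m s hms ih =>
      intro f hs hf
      have h1 : (MonoidAlgebra.single m (f.coeff m)) ∈ SPsi R Ψ D := by
        by_cases hm : m.toAdd ∈ Ψ
        · exact single_mem_SPsi hm _
        · have := hf _ hm
          rw [ofAdd_toAdd] at this
          rw [this, MonoidAlgebra.single_zero]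
          exact zero_mem _
      obtain ⟨g, hg, hgf⟩ := ih (f - MonoidAlgebra.single m (f.coeff m)) (by
        intro n hn
        rw [Finsupp.mem_support_iff, MonoidAlgebra.coeff_sub, Finsupp.sub_apply,
          MonoidAlgebra.coeff_single] at hn
        by_cases hnm : n = m
        · subst hnm; simp at hn
        · rw [Finsupp.single_eq_of_ne hnm, sub_zero] at hn
          have := hs (Finsupp.mem_support_iff.2 hn)
          rw [Finset.mem_insert] at this
          exact this.resolve_left hnm) (by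
        exact (sub_mem (show f ∈ SPsi R Ψ D from hf) h1))
      obtain ⟨x, hx⟩ := hφ (f.coeff m)
      refine ⟨g + if m.toAdd ∈ Ψ then MonoidAlgebra.single m x else 0, add_mem hg ?_, ?_⟩
      · split_ifs with hm
        · exact single_mem_SPsi hm _
        · exact zero_mem _
      · rw [map_add, hgf]
        split_ifs with hm
        · rw [MonoidAlgebra.mapAlgHom_single, hx, sub_add_cancel]
        · have := hf _ hm
          rw [ofAdd_toAdd] at this
          rw [this, MonoidAlgebra.single_zero, map_zero, sub_zero, add_zero]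
  obtain ⟨g, hg, hgf⟩ := key _ f (Finset.Subset.refl _) hf
  exact ⟨⟨g, hg⟩, Subtype.ext hgf⟩

lemma mapS_ker_sq (N : Ideal C) (hN : N ^ 2 = ⊥) :
    IsNilpotent (RingHom.ker (mapS R Ψ (Ideal.Quotient.mkₐ R N) : SPsi R Ψ C →+* SPsi R Ψ (C ⧸ N)))
    := by
  classical
  refine ⟨2, ?_⟩
  rw [Ideal.zero_eq_bot, eq_bot_iff, sq, Ideal.mul_le]
  have hk : ∀ f : SPsi R Ψ C, f ∈ RingHom.ker (mapS R Ψ (Ideal.Quotient.mkₐ R N) :
      SPsi R Ψ C →+* SPsi R Ψ (C ⧸ N)) → ∀ m, f.1.coeff m ∈ N := by
    intro f hf m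
    rw [RingHom.mem_ker] at hf
    have h1 := congrArg (fun z => (z : SPsi R Ψ (C ⧸ N)).1.coeff m) hf
    change (MonoidAlgebra.mapAlgHom (Multiplicative M) (Ideal.Quotient.mkₐ R N) f.1).coeff m = 0
      at h1
    rw [MonoidAlgebra.coeff_mapAlgHom] at h1
    exact Ideal.Quotient.eq_zero_iff_mem.1 h1
  intro f hf g hg
  rw [Ideal.mem_bot]
  apply Subtype.ext
  change f.1 * g.1 = 0
  ext m
  rw [MonoidAlgebra.coeff_mul]
  refine Finset.sum_eq_zero fun i _ => Finset.sum_eq_zero fun j _ => ?_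
  simp only
  split_ifs with h
  · have := Ideal.mul_mem_mul (hk f hf i) (hk g hg j)
    rw [← sq, hN] at this
    exact this
  · rfl

variable (R) in
/-- evaluation at "zero" for a pointed monoid. -/
noncomputable def ev0 (hΨ : ∀ m ∈ Ψ, -m ∈ Ψ → m = 0) : SPsi R Ψ C →ₐ[R] C where
  toFun f := f.1.coeff 1
  map_one' := by
    change (1 : MonoidAlgebra C (Multiplicative M)).coeff 1 = 1
    exact MonoidAlgebra.coeff_one_one
  map_mul' := by
    classical
    intro f g
    change (f.1 * g.1).coeff 1 = _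
    rw [MonoidAlgebra.coeff_mul, Finsupp.sum, Finset.sum_eq_single 1]
    · rw [Finsupp.sum, Finset.sum_eq_single 1]
      · rw [if_pos (one_mul 1)]
      · intro j _ hj
        rw [if_neg]
        rwa [one_mul]
      · intro h
        rw [Finsupp.notMem_support_iff] at h
        rw [h, mul_zero, ite_self]
    · intro i _ hi
      refine Finset.sum_eq_zero fun j _ => ?_
      simp only
      split_ifs with h
      · by_cases hi' : i.toAdd ∈ Ψ
        · by_cases hj' : j.toAdd ∈ Ψ
          · exfalso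
            apply hi
            have h1 : j = i⁻¹ := eq_inv_of_mul_eq_one_right h
            have h2 := hΨ i.toAdd hi' (by rw [← toAdd_inv, ← h1]; exact hj')
            exact h2
          · have := g.2 _ hj'
            rw [ofAdd_toAdd] at this
            rw [this, mul_zero]
        · have := f.2 _ hi'
          rw [ofAdd_toAdd] at this
          rw [this, zero_mul]
      · rfl
    · intro h
      rw [Finsupp.notMem_support_iff] at h
      refine Finset.sum_eq_zero fun j _ => ?_
      simp only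
      rw [h, zero_mul, ite_self]
  map_zero' := rfl
  map_add' f g := by
    change (f.1 + g.1).coeff 1 = _
    rw [MonoidAlgebra.coeff_add]; rfl
  commutes' r := by
    change (MonoidAlgebra.single (1 : Multiplicative M) (algebraMap R C r)).coeff 1 = _
    rw [MonoidAlgebra.coeff_single, Finsupp.single_eq_same]

end SPsi

section Diag

variable {R : Type u} [CommRing R] {A : Type u} [CommRing A] [Algebra R A]
variable {M : Type} [AddCommGroup M] (c : Coact R A M)
variable {C : Type u} [CommRing C] [Algebra R C]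

/-- diagonal coefficients, as a linear map -/
noncomputable def diagLin (H : A →ₐ[R] MonoidAlgebra C (Multiplicative M)) : A →ₗ[R] C where
  toFun a := (c.rho a).coeff.sum fun m b => (H b).coeff m
  map_add' a b := by
    rw [map_add, MonoidAlgebra.coeff_add, Finsupp.sum_add_index']
    · intro m; simp
    · intros; simp
  map_smul' r a := by
    rw [map_smul, MonoidAlgebra.coeff_smul, Finsupp.sum_smul_index']
    · rw [RingHom.id_apply, Finsupp.smul_sum]
      refine Finset.sum_congr rfl fun m _ => ?_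
      simp only
      rw [map_smul]; rfl
    · intro m; simp

lemma diagLin_apply (H : A →ₐ[R] MonoidAlgebra C (Multiplicative M)) {m : M} {a : A}
    (ha : a ∈ gr c m) : diagLin c H a = (H a).coeff (Multiplicative.ofAdd m) := by
  change ((c.rho a).coeff.sum fun m b => (H b).coeff m) = _
  rw [(mem_gr c).1 ha, MonoidAlgebra.coeff_single, Finsupp.sum_single_index]
  simp

/-- If the off-diagonal coefficients lie in a square zero ideal, the diagonal coefficients define
an algebra map. -/
theorem exists_diag (N : Ideal C) (hN : N ^ 2 = ⊥)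
    (H : A →ₐ[R] MonoidAlgebra C (Multiplicative M))
    (hH : ∀ i : M, ∀ a ∈ gr c i, ∀ k : M, k ≠ i → (H a).coeff (Multiplicative.ofAdd k) ∈ N) :
    ∃ g : A →ₐ[R] C, ∀ i : M, ∀ a ∈ gr c i, g a = (H a).coeff (Multiplicative.ofAdd i) := by
  classical
  refine ⟨AlgHom.ofLinearMap (diagLin c H) ?_ ?_, fun i a ha => diagLin_apply c H ha⟩
  · rw [diagLin_apply c H (one_mem_gr c), map_one]
    exact MonoidAlgebra.coeff_one_one
  · intro a b
    induction a using induction_gr c with
    | h0 => simp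
    | hadd a a' ha ha' => rw [add_mul, map_add, ha, ha', map_add, add_mul]
    | h i a ha =>
      induction b using induction_gr c with
      | h0 => simp
      | hadd b b' hb hb' => rw [mul_add, map_add, hb, hb', map_add, mul_add]
      | h j b hb =>
        rw [diagLin_apply c H (mul_mem_gr c ha hb), diagLin_apply c H ha, diagLin_apply c H hb,
          map_mul, MonoidAlgebra.coeff_mul, Finsupp.sum, Finset.sum_eq_single
            (Multiplicative.ofAdd i)]
        · rw [Finsupp.sum, Finset.sum_eq_single (Multiplicative.ofAdd j)]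
          · rw [if_pos (ofAdd_add i j).symm]
          · intro l _ hl
            rw [if_neg]
            intro h
            exact hl (mul_left_cancel h)
          · intro h
            rw [Finsupp.notMem_support_iff] at h
            rw [h, mul_zero, ite_self]
        · intro k _ hk
          refine Finset.sum_eq_zero fun l _ => ?_
          simp only
          split_ifs with h
          · have h1 : (H a).coeff k ∈ N := hH i a ha k.toAdd (fun h' => hk (by rw [← h']; rfl))
            have h2 : (H b).coeff l ∈ N := hH j b hb l.toAdd (fun h' => hk (by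
              have h3 : l = Multiplicative.ofAdd j := by rw [← h']; rfl
              rw [h3, ofAdd_add] at h
              exact mul_right_cancel h))
            have h3 := Ideal.mul_mem_mul h1 h2
            rw [← sq, hN] at h3
            exact h3
          · rfl
        · intro h
          rw [Finsupp.notMem_support_iff] at h
          refine Finset.sum_eq_zero fun l _ => ?_
          simp only
          rw [h, zero_mul, ite_self]

end Diag

section Sub

variable {R : Type u} [CommRing R] {A : Type u} [CommRing A] [HopfAlgebra R A]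
variable {M : Type} [AddCommGroup M]
variable (p : A →ₐc[R] MonoidAlgebra R (Multiplicative M)) (Ψ : AddSubmonoid M)
variable {C : Type u} [CommRing C] [Algebra R C]
variable {D : Type u} [CommRing D] [Algebra R D]

lemma mem_range_mapPt_val (S : Subalgebra R C) (g : WithConv (A →ₐ[R] C)) :
    g ∈ (mapPt (A := A) S.val).range ↔ ∀ a, g.ofConv a ∈ S := by
  constructor
  · rintro ⟨h, rfl⟩ a
    exact (h.ofConv a).2
  · intro h
    exact ⟨toConv (g.ofConv.codRestrict S h), rfl⟩

variable (C) in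
/-- points killing homogeneous elements of degree not in `Ψ`. -/
noncomputable def PSub : Subgroup (WithConv (A →ₐ[R] C)) :=
  Subgroup.comap (orbHom p) (MonoidHom.range (G := WithConv (A →ₐ[R] SPsi R Ψ C))
    (N := WithConv (A →ₐ[R] MonoidAlgebra C (Multiplicative M)))
    (mapPt (A := A) (SPsi R Ψ C).val))

lemma mem_PSub {g : WithConv (A →ₐ[R] C)} :
    g ∈ PSub p Ψ C ↔ ∀ m : M, m ∉ Ψ → ∀ a ∈ gr (conjCoact p) m, g.ofConv a = 0 := by
  rw [PSub, Subgroup.mem_comap, mem_range_mapPt_val]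
  constructor
  · intro h m hm a ha
    have h1 := h a m hm
    rw [orbHom_apply, orbU_apply_of_mem p p g ha, MonoidAlgebra.coeff_single,
      Finsupp.single_eq_same] at h1
    exact h1
  · intro h a m hm
    rw [orbHom_apply, coeff_orbU']
    exact h m hm _ (pr_mem_gr _ _ _)

/-- the point of `C[Ψ]` attached to a point of `PSub`. -/
noncomputable def liftS (g : WithConv (A →ₐ[R] C)) (hg : g ∈ PSub p Ψ C) :
    WithConv (A →ₐ[R] SPsi R Ψ C) :=
  toConv ((orbHom p g).ofConv.codRestrict _ ((mem_range_mapPt_val _ _).1 hg))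

lemma mapPt_liftS (g : WithConv (A →ₐ[R] C)) (hg : g ∈ PSub p Ψ C) :
    mapPt (SPsi R Ψ C).val (liftS p Ψ g hg) = orbHom p g := rfl

lemma liftS_mul (g h : WithConv (A →ₐ[R] C)) (hg : g ∈ PSub p Ψ C) (hh : h ∈ PSub p Ψ C) :
    liftS p Ψ (g * h) (mul_mem hg hh) = liftS p Ψ g hg * liftS p Ψ h hh := by
  apply mapPt_injective (A := A) (SPsi R Ψ C).val Subtype.val_injective
  rw [map_mul, mapPt_liftS, mapPt_liftS, mapPt_liftS, map_mul]

variable {Ψ} (hΨ : ∀ m ∈ Ψ, -m ∈ Ψ → m = 0)

/-- the limit of a point of `PSub`. -/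
noncomputable def lim (g : WithConv (A →ₐ[R] C)) (hg : g ∈ PSub p Ψ C) : WithConv (A →ₐ[R] C) :=
  mapPt (ev0 R hΨ) (liftS p Ψ g hg)

lemma lim_apply (g : WithConv (A →ₐ[R] C)) (hg : g ∈ PSub p Ψ C) (a : A) :
    (lim p hΨ g hg).ofConv a = g.ofConv (pr (conjCoact p) 0 a) := by
  have h : (lim p hΨ g hg).ofConv a = ((orbHom p g).ofConv a).coeff 1 := rfl
  rw [h, orbHom_apply]
  exact coeff_orbU' p p g a 0

lemma lim_mul (g h : WithConv (A →ₐ[R] C)) (hg : g ∈ PSub p Ψ C) (hh : h ∈ PSub p Ψ C) :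
    lim p hΨ (g * h) (mul_mem hg hh) = lim p hΨ g hg * lim p hΨ h hh := by
  rw [lim, liftS_mul, map_mul]; rfl

lemma lim_one : lim p hΨ (1 : WithConv (A →ₐ[R] C)) (one_mem _) = 1 := by
  have h := lim_mul p hΨ (1 : WithConv (A →ₐ[R] C)) 1 (one_mem _) (one_mem _)
  have h2 : lim p hΨ (1 * 1 : WithConv (A →ₐ[R] C)) (mul_mem (one_mem _) (one_mem _)) =
      lim p hΨ 1 (one_mem _) := by
    congr 1
    exact mul_one 1
  rw [h2] at h
  exact left_eq_mul.1 h

lemma lim_mem (g : WithConv (A →ₐ[R] C)) (hg : g ∈ PSub p Ψ C) :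
    lim p hΨ g hg ∈ PSub p Ψ C := by
  rw [mem_PSub]
  intro m hm a ha
  rw [lim_apply, pr_of_mem_ne _ ha (fun h => hm (h ▸ zero_mem Ψ)), map_zero]

lemma lim_lim (g : WithConv (A →ₐ[R] C)) (hg : g ∈ PSub p Ψ C) :
    lim p hΨ (lim p hΨ g hg) (lim_mem p hΨ g hg) = lim p hΨ g hg := by
  apply WithConv.ofConv_injective
  ext a
  rw [lim_apply, lim_apply, lim_apply, pr_of_mem_same _ (pr_mem_gr _ _ _)]

omit hΨ in
lemma mapPt_mem_PSub (φ : C →ₐ[R] D) {g : WithConv (A →ₐ[R] C)} (hg : g ∈ PSub p Ψ C) :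
    mapPt φ g ∈ PSub p Ψ D := by
  rw [mem_PSub] at hg ⊢
  intro m hm a ha
  rw [mapPt_apply, hg m hm a ha, map_zero]

lemma mapPt_lim (φ : C →ₐ[R] D) (g : WithConv (A →ₐ[R] C)) (hg : g ∈ PSub p Ψ C) :
    mapPt φ (lim p hΨ g hg) = lim p hΨ (mapPt φ g) (mapPt_mem_PSub p φ hg) := by
  apply WithConv.ofConv_injective
  ext a
  rw [lim_apply, mapPt_apply, lim_apply, mapPt_apply]

/-- points of `PSub` with trivial limit -/
noncomputable def USub (C : Type u) [CommRing C] [Algebra R C] :
    Subgroup (WithConv (A →ₐ[R] C)) where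
  carrier := {g | ∃ hg : g ∈ PSub p Ψ C, lim p hΨ g hg = 1}
  mul_mem' := by
    rintro g h ⟨hg, hg1⟩ ⟨hh, hh1⟩
    exact ⟨mul_mem hg hh, by rw [lim_mul p hΨ g h hg hh, hg1, hh1, mul_one]⟩
  one_mem' := ⟨one_mem _, lim_one p hΨ⟩
  inv_mem' := by
    rintro g ⟨hg, hg1⟩
    refine ⟨inv_mem hg, ?_⟩
    have h := lim_mul p hΨ g g⁻¹ hg (inv_mem hg)
    have h2 : lim p hΨ (g * g⁻¹) (mul_mem hg (inv_mem hg)) = 1 := by
      rw [← lim_one p hΨ]
      congr 1
      exact mul_inv_cancel g
    rw [h2, hg1, one_mul] at h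
    exact h.symm

lemma mem_USub {g : WithConv (A →ₐ[R] C)} : g ∈ USub p hΨ C ↔
    (∀ m : M, m ∉ Ψ → ∀ a ∈ gr (conjCoact p) m, g.ofConv a = 0) ∧
      ∀ a ∈ gr (conjCoact p) 0, g.ofConv a = algebraMap R C (Coalgebra.counit a) := by
  constructor
  · rintro ⟨hg, hg1⟩
    refine ⟨(mem_PSub p Ψ).1 hg, fun a ha => ?_⟩
    have h := DFunLike.congr_fun (congrArg WithConv.ofConv hg1) a
    rw [lim_apply, pr_of_mem_same _ ha] at h
    rw [h]
    rfl
  · rintro ⟨h1, h2⟩
    have hg := (mem_PSub p Ψ).2 h1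
    refine ⟨hg, ?_⟩
    apply WithConv.ofConv_injective
    ext a
    rw [lim_apply, h2 _ (pr_mem_gr _ _ _)]
    have hg1 := lim_one (C := C) p hΨ
    have h := DFunLike.congr_fun (congrArg WithConv.ofConv hg1) a
    rw [lim_apply] at h
    rw [← h]
    rfl

/-- `u = lim(g)⁻¹ g` lies in `U`. -/
lemma lim_inv_mul_mem (g : WithConv (A →ₐ[R] C)) (hg : g ∈ PSub p Ψ C) :
    (lim p hΨ g hg)⁻¹ * g ∈ USub p hΨ C := by
  have hl := lim_mem p hΨ g hg
  refine ⟨mul_mem (inv_mem hl) hg, ?_⟩
  have h := lim_mul p hΨ (lim p hΨ g hg) ((lim p hΨ g hg)⁻¹ * g) hl (mul_mem (inv_mem hl) hg)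
  have h2 : lim p hΨ (lim p hΨ g hg * ((lim p hΨ g hg)⁻¹ * g))
      (mul_mem hl (mul_mem (inv_mem hl) hg)) = lim p hΨ g hg := by
    congr 1
    exact mul_inv_cancel_left _ _
  rw [h2, lim_lim] at h
  exact left_eq_mul.1 h

lemma mapPt_mem_USub (φ : C →ₐ[R] D) {g : WithConv (A →ₐ[R] C)} (hg : g ∈ USub p hΨ C) :
    mapPt φ g ∈ USub p hΨ D := by
  rw [mem_USub] at hg ⊢
  refine ⟨fun m hm a ha => by rw [mapPt_apply, hg.1 m hm a ha, map_zero], fun a ha => ?_⟩
  rw [mapPt_apply, hg.2 a ha, AlgHom.commutes]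

/-- conjugation by `D(M)` preserves `U`. -/
lemma orb_mem_USub (t : Multiplicative M →* Cˣ) {g : WithConv (A →ₐ[R] C)}
    (hg : g ∈ USub p hΨ C) : orb p p t g ∈ USub p hΨ C := by
  rw [mem_USub] at hg ⊢
  refine ⟨fun m hm a ha => ?_, fun a ha => ?_⟩
  · rw [orb_apply_of_mem p p t g ha, hg.1 m hm a ha, zero_mul]
  · rw [orb_apply_of_mem p p t g ha, hg.2 a ha, ofAdd_zero, map_one, Units.val_one, mul_one]

variable (Ψ) in
/-- the ideal of `U` -/
noncomputable def JU : Ideal A :=
  Ideal.span ({a | ∃ m : M, m ∉ Ψ ∧ a ∈ gr (conjCoact p) m} ∪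
    {a | a ∈ gr (conjCoact p) 0 ∧ Coalgebra.counit (R := R) a = 0})

variable (Ψ) in
/-- the ideal of `P` -/
noncomputable def JP : Ideal A :=
  Ideal.span {a | ∃ m : M, m ∉ Ψ ∧ a ∈ gr (conjCoact p) m}

lemma vanish_JP_iff (g : WithConv (A →ₐ[R] C)) :
    (∀ a ∈ JP p Ψ, g.ofConv a = 0) ↔ g ∈ PSub p Ψ C := by
  rw [mem_PSub]
  constructor
  · intro h m hm a ha
    exact h a (Ideal.subset_span ⟨m, hm, ha⟩)
  · intro h a ha
    have : JP p Ψ ≤ RingHom.ker g.ofConv := by
      rw [JP, Ideal.span_le]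
      rintro x ⟨m, hm, hx⟩
      exact h m hm x hx
    exact this ha

lemma vanish_JU_iff (g : WithConv (A →ₐ[R] C)) :
    (∀ a ∈ JU p Ψ, g.ofConv a = 0) ↔ g ∈ USub p hΨ C := by
  rw [mem_USub]
  constructor
  · intro h
    refine ⟨fun m hm a ha => h a (Ideal.subset_span (Or.inl ⟨m, hm, ha⟩)), fun a ha => ?_⟩
    have h1 := h (a - algebraMap R A (Coalgebra.counit (R := R) a))
      (Ideal.subset_span (Or.inr ⟨sub_mem ha (algebraMap_mem_gr _ _), by
        rw [map_sub, Bialgebra.counit_algebraMap, sub_self]⟩))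
    rw [map_sub, AlgHom.commutes, sub_eq_zero] at h1
    exact h1
  · rintro ⟨h1, h2⟩ a ha
    have : JU p Ψ ≤ RingHom.ker g.ofConv := by
      rw [JU, Ideal.span_le]
      rintro x (⟨m, hm, hx⟩ | ⟨hx, hx0⟩)
      · exact h1 m hm x hx
      · change g.ofConv x = 0
        rw [h2 x hx, hx0, map_zero]
    exact this ha

/-- lifting of points of `P` -/
theorem exists_lift_P [Algebra.FormallySmooth R A] (N : Ideal C) (hN : N ^ 2 = ⊥)
    (g₀ : WithConv (A →ₐ[R] C ⧸ N)) (hg₀ : g₀ ∈ PSub p Ψ (C ⧸ N)) :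
    ∃ g ∈ PSub p Ψ C, mapPt (Ideal.Quotient.mkₐ R N) g = g₀ := by
  let φ := mapS R Ψ (Ideal.Quotient.mkₐ R N)
  have hφs : Function.Surjective φ := mapS_surjective _ (Ideal.Quotient.mkₐ_surjective _ _)
  have hφk : IsNilpotent (RingHom.ker (φ : SPsi R Ψ C →+* SPsi R Ψ (C ⧸ N))) := mapS_ker_sq N hN
  let h : A →ₐ[R] SPsi R Ψ C :=
    Algebra.FormallySmooth.liftOfSurjective (liftS p Ψ g₀ hg₀).ofConv φ hφs hφk
  have hh : ∀ a, φ (h a) = (liftS p Ψ g₀ hg₀).ofConv a := fun a =>
    Algebra.FormallySmooth.liftOfSurjective_apply (liftS p Ψ g₀ hg₀).ofConv φ hφs hφk a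
  have hh' : ∀ a m, Ideal.Quotient.mk N ((h a).1.coeff m) = ((orbHom p g₀).ofConv a).coeff m := by
    intro a m
    have h1 := congrArg (fun z => (z : SPsi R Ψ (C ⧸ N)).1.coeff m) (hh a)
    change (MonoidAlgebra.mapAlgHom (Multiplicative M) (Ideal.Quotient.mkₐ R N) (h a).1).coeff m =
      _ at h1
    rw [MonoidAlgebra.coeff_mapAlgHom] at h1
    exact h1
  have hH : ∀ i : M, ∀ a ∈ gr (conjCoact p) i, ∀ k : M, k ≠ i →
      (((SPsi R Ψ C).val.comp h) a).coeff (Multiplicative.ofAdd k) ∈ N := by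
    intro i a ha k hk
    rw [← Ideal.Quotient.eq_zero_iff_mem]
    change Ideal.Quotient.mk N ((h a).1.coeff (Multiplicative.ofAdd k)) = 0
    rw [hh', orbHom_apply, orbU_apply_of_mem p p g₀ ha, MonoidAlgebra.coeff_single,
      Finsupp.single_eq_of_ne]
    exact fun h => hk (Multiplicative.ofAdd.injective h)
  obtain ⟨g, hg⟩ := exists_diag (conjCoact p) N hN ((SPsi R Ψ C).val.comp h) hH
  refine ⟨toConv g, ?_, ?_⟩
  · rw [mem_PSub]
    intro m hm a ha
    change g a = 0
    rw [hg m a ha]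
    exact (h a).2 m hm
  · apply WithConv.ofConv_injective
    apply AlgHom.ext
    intro a
    induction a using induction_gr (conjCoact p) with
    | h0 => simp
    | hadd a b ha hb => rw [map_add, map_add, ha, hb]
    | h m a ha =>
      change Ideal.Quotient.mk N (g a) = _
      rw [hg m a ha]
      change Ideal.Quotient.mk N ((h a).1.coeff (Multiplicative.ofAdd m)) = _
      rw [hh', orbHom_apply, orbU_apply_of_mem p p g₀ ha, MonoidAlgebra.coeff_single,
        Finsupp.single_eq_same]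

include hΨ in
/-- lifting of points of `U` -/
theorem exists_lift_U [Algebra.FormallySmooth R A] (N : Ideal C) (hN : N ^ 2 = ⊥)
    (g₀ : WithConv (A →ₐ[R] C ⧸ N)) (hg₀ : g₀ ∈ USub p hΨ (C ⧸ N)) :
    ∃ g ∈ USub p hΨ C, mapPt (Ideal.Quotient.mkₐ R N) g = g₀ := by
  obtain ⟨hg₀P, hg₀1⟩ := hg₀
  obtain ⟨g, hg, hgg₀⟩ := exists_lift_P p N hN g₀ hg₀P
  refine ⟨(lim p hΨ g hg)⁻¹ * g, lim_inv_mul_mem p hΨ g hg, ?_⟩
  have h1 : mapPt (Ideal.Quotient.mkₐ R N) (lim p hΨ g hg) = 1 := by
    rw [mapPt_lim]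
    subst hgg₀
    exact hg₀1
  have h2 : mapPt (Ideal.Quotient.mkₐ R N) (lim p hΨ g hg)⁻¹ = 1 := by
    rw [map_inv, h1, inv_one]
  rw [map_mul, h2, one_mul, hgg₀]

/-- a closed subscheme whose points lift is formally smooth -/
theorem formallySmooth_quotient (J : Ideal A)
    (H : ∀ (C : Type u) [CommRing C] [Algebra R C] (N : Ideal C), N ^ 2 = ⊥ →
      ∀ g₀ : A →ₐ[R] C ⧸ N, (∀ a ∈ J, g₀ a = 0) →
        ∃ g : A →ₐ[R] C, (∀ a ∈ J, g a = 0) ∧ (Ideal.Quotient.mkₐ R N).comp g = g₀) :
    Algebra.FormallySmooth R (A ⧸ J) := by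
  apply Algebra.FormallySmooth.of_comp_surjective
  intro C _ _ N hN f
  obtain ⟨g, hg, hgf⟩ := H C N hN (f.comp (Ideal.Quotient.mkₐ R J)) (by
    intro a ha
    change f (Ideal.Quotient.mk J a) = 0
    rw [Ideal.Quotient.eq_zero_iff_mem.2 ha, map_zero])
  refine ⟨Ideal.Quotient.liftₐ J g hg, ?_⟩
  apply AlgHom.ext
  intro b
  obtain ⟨a, rfl⟩ := Ideal.Quotient.mk_surjective b
  exact DFunLike.congr_fun hgf a

theorem formallySmooth_JP [Algebra.FormallySmooth R A] :
    Algebra.FormallySmooth R (A ⧸ JP p Ψ) := by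
  apply formallySmooth_quotient
  intro C _ _ N hN g₀ hg₀
  obtain ⟨g, hg, hgg⟩ := exists_lift_P p N hN (toConv g₀) ((vanish_JP_iff p (toConv g₀)).1 hg₀)
  exact ⟨g.ofConv, (vanish_JP_iff p g).2 hg, congrArg WithConv.ofConv hgg⟩

include hΨ in
theorem formallySmooth_JU [Algebra.FormallySmooth R A] :
    Algebra.FormallySmooth R (A ⧸ JU p Ψ) := by
  apply formallySmooth_quotient
  intro C _ _ N hN g₀ hg₀
  obtain ⟨g, hg, hgg⟩ := exists_lift_U p hΨ N hN (toConv g₀)
    ((vanish_JU_iff p hΨ (toConv g₀)).1 hg₀)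
  exact ⟨g.ofConv, (vanish_JU_iff p hΨ g).2 hg, congrArg WithConv.ofConv hgg⟩

end Sub

end Groth.Agent.Sga3B.RootGr
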