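import Groth.Agent.Sga3B.GaPts
import Groth.Agent.Sga3B.AffPts
import Groth.Agent.Sga3B.Pts

/-!
# Dictionary for `Red.IsRootHom` over an affine base

`exists_isRootHom`: an algebra-level root homomorphism of a Hopf algebra gives a `Red.IsRootHom`.
-/

set_option autoImplicit false
universe u
open CategoryTheory MonoidalCategory CartesianMonoidalCategory MonObj GrpObj AlgebraicGeometry Limits
open scoped TensorProduct Polynomial

namespace Groth.Agent.Sga3B.RootHomDict

open Groth.Agent.Books.AffBridge Groth.Agent.Books.DynBasic DSPts GaPts AffPts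

variable {R : Type u} [CommRing R]

local notation "S" => Spec (CommRingCat.of R)

/-! ### `𝔾_a` over `Spec R` is `Spec R[X]` -/

/-- The comparison `𝔾_{a,R} ⟶ Spec R[X]`. -/
noncomputable def gaTo : Red.Ga (Spec (CommRingCat.of R)) ⟶ SpecOver R R[X] :=
  affPt _ (Polynomial.aeval (R := R) (A := Fn (Red.Ga (Spec (CommRingCat.of R))))
    (Red.gaFn (𝟙 (Red.Ga (Spec (CommRingCat.of R))))))

/-- The comparison `Spec R[X] ⟶ 𝔾_{a,R}`. -/
noncomputable def gaFrom : SpecOver R R[X] ⟶ Red.Ga (Spec (CommRingCat.of R)) :=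
  gaPt _ ((fnSpec (R := R) R[X]).symm Polynomial.X)

lemma gaFn_eq {T : Over (Spec (CommRingCat.of R))} (x : T ⟶ Red.Ga (Spec (CommRingCat.of R))) :
    fnMap x (Red.gaFn (𝟙 (Red.Ga (Spec (CommRingCat.of R))))) = Red.gaFn x := by
  rw [fnMap_apply, ← gaFn_comp, Category.comp_id]

/-- `gaTo` on points. -/
lemma comp_gaTo {T : Over (Spec (CommRingCat.of R))} (x : T ⟶ Red.Ga (Spec (CommRingCat.of R))) :
    x ≫ gaTo = affPt T (Polynomial.aeval (R := R) (A := Fn T) (Red.gaFn x)) := by
  rw [gaTo, comp_affPt]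
  congr 1
  ext
  rw [AlgHom.comp_apply, Polynomial.aeval_X, Polynomial.aeval_X]
  exact gaFn_eq x

lemma gaTo_gaFrom : (gaTo : Red.Ga (Spec (CommRingCat.of R)) ⟶ _) ≫ gaFrom = 𝟙 _ := by
  apply gaFn_injective
  rw [gaFrom, comp_gaPt, gaFn_gaPt]
  have h : specMap R ((fnSpec (R := R) R[X]).toAlgHom) = specMap R ((fnSpec (R := R) R[X]).toAlgHom) := rfl
  have h1 : fnMap (gaTo : Red.Ga (Spec (CommRingCat.of R)) ⟶ SpecOver R R[X])
      ((fnSpec (R := R) R[X]).symm Polynomial.X) = Red.gaFn (𝟙 (Red.Ga (Spec (CommRingCat.of R)))) := by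
    have h2 : (gaTo : Red.Ga (Spec (CommRingCat.of R)) ⟶ SpecOver R R[X]) ≫
        affPt _ ((fnSpec (R := R) R[X]).symm.toAlgHom) = gaTo := by
      rw [affPt_spec]
      have : (fnSpec (R := R) R[X]).toAlgHom.comp (fnSpec (R := R) R[X]).symm.toAlgHom =
          AlgHom.id R R[X] := by
        ext; simp
      rw [this, specMap_id, Category.comp_id]
    rw [comp_affPt] at h2
    conv_rhs at h2 => rw [gaTo]
    have h3 := (affPt_bijective _).1 h2
    have h4 := DFunLike.congr_fun h3 Polynomial.X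
    rw [Polynomial.aeval_X] at h4
    exact h4
  exact h1

lemma gaFrom_gaTo : gaFrom ≫ (gaTo : Red.Ga (Spec (CommRingCat.of R)) ⟶ _) = 𝟙 _ := by
  rw [comp_gaTo, affPt_spec, gaFrom, gaFn_gaPt]
  have : (fnSpec (R := R) R[X]).toAlgHom.comp
      (Polynomial.aeval (R := R) ((fnSpec (R := R) R[X]).symm Polynomial.X)) = AlgHom.id R R[X] := by
    ext; simp
  exact (congrArg (specMap R) this).trans (specMap_id R)

instance : IsIso (gaTo : Red.Ga (Spec (CommRingCat.of R)) ⟶ _) :=
  ⟨gaFrom, gaTo_gaFrom, gaFrom_gaTo⟩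

section

variable {G T : Over (Spec (CommRingCat.of R))} [GrpObj G] [GrpObj T]
variable {A : Type u} [CommRing A] [HopfAlgebra R A]

/-- The root homomorphism attached to `q : A → R[X]`. -/
noncomputable def uOf (e : G ≅ SpecOver R A) (q : A →ₐ[R] R[X]) :
    Red.Ga (Spec (CommRingCat.of R)) ⟶ G := gaTo ≫ specMap R q ≫ e.inv

omit [GrpObj G] in
lemma comp_uOf (e : G ≅ SpecOver R A) (q : A →ₐ[R] R[X]) {X : Over (Spec (CommRingCat.of R))}
    (x : X ⟶ Red.Ga (Spec (CommRingCat.of R))) :
    x ≫ uOf e q ≫ e.hom =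
      affPt X ((Polynomial.aeval (R := R) (A := Fn X) (Red.gaFn x)).comp q) := by
  rw [uOf, ← Category.assoc x, ← Category.assoc x, comp_gaTo]
  simp only [Category.assoc, Iso.inv_hom_id, Category.comp_id]
  rw [affPt_specMap]

omit [GrpObj G] in
lemma isClosedImmersion_uOf (e : G ≅ SpecOver R A) (q : A →ₐ[R] R[X]) (hq : Function.Surjective q) :
    IsClosedImmersion (uOf e q).left := by
  have h1 : IsClosedImmersion (specMap R q).left :=
    IsClosedImmersion.spec_of_surjective _ hq
  have h2 : IsIso (gaTo : Red.Ga (Spec (CommRingCat.of R)) ⟶ SpecOver R R[X]).left :=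
    inferInstanceAs (IsIso ((Over.forget _).map gaTo))
  have h3 : IsIso e.inv.left := inferInstanceAs (IsIso ((Over.forget _).map e.inv))
  rw [uOf, Over.comp_left, Over.comp_left]
  infer_instance

/-- An algebra-level root homomorphism gives a `Red.IsRootHom`. -/
theorem isRootHom_uOf (i : T ⟶ G) {M : Type} [AddCommGroup M]
    (sp : T ⟶ Red.DS (Spec (CommRingCat.of R)) M)
    (e : G ≅ SpecOver R A) [IsMonHom e.hom] (π : A →ₐ[R] MonoidAlgebra R (Multiplicative M))
    (hi : ∀ (X : Over (Spec (CommRingCat.of R))) (t : X ⟶ T),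
      t ≫ i ≫ e.hom = affPt X ((MonoidAlgebra.lift R (Fn X) (Multiplicative M) (dsChar (t ≫ sp))).comp π))
    (a : M) (q : A →ₐ[R] R[X]) (hq : Function.Surjective q)
    (hadd : ∀ (B : Type u) [CommRing B] [Algebra R B] (x y : B),
      WithConv.toConv ((Polynomial.aeval (R := R) (x + y)).comp q) =
        WithConv.toConv ((Polynomial.aeval (R := R) x).comp q) *
          WithConv.toConv ((Polynomial.aeval (R := R) y).comp q))
    (hconj : ∀ (B : Type u) [CommRing B] [Algebra R B] (χ : Multiplicative M →* B) (x : B),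
      WithConv.toConv ((MonoidAlgebra.lift R B (Multiplicative M) χ).comp π) *
          WithConv.toConv ((Polynomial.aeval (R := R) x).comp q) *
          (WithConv.toConv ((MonoidAlgebra.lift R B (Multiplicative M) χ).comp π))⁻¹ =
        WithConv.toConv ((Polynomial.aeval (R := R) (χ (Multiplicative.ofAdd a) * x)).comp q)) :
    Red.IsRootHom i (sp ≫ Red.chi _ a) (uOf e q) := by
  refine ⟨?_, isClosedImmersion_uOf e q hq, ?_⟩
  · apply Pts.isMonHom_of_points
    intro X x y
    have key : (x * y) ≫ uOf e q ≫ e.hom = (x ≫ uOf e q ≫ e.hom) * (y ≫ uOf e q ≫ e.hom) := by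
      rw [comp_uOf, comp_uOf, comp_uOf, gaFn_mul]
      have := hadd (Fn X) (Red.gaFn x) (Red.gaFn y)
      have h2 := congrArg (fun z : WithConv (A →ₐ[R] Fn X) => affPt X z.ofConv) this
      simp only [affPt_mul] at h2
      exact h2
    rw [← cancel_mono e.hom]
    rw [Category.assoc, key, MonObj.mul_comp, Category.assoc, Category.assoc]
  · intro X t x
    refine ⟨gaPt X (Red.gmFn (t ≫ sp ≫ Red.chi _ a) * Red.gaFn x), ?_, gaFn_gaPt _ _⟩
    rw [← cancel_mono e.hom, MonObj.mul_comp, MonObj.mul_comp, GrpObj.inv_comp]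
    simp only [Category.assoc]
    rw [comp_uOf, comp_uOf, gaFn_gaPt, hi, ← Category.assoc t, gmFn_chi]
    let χ : Multiplicative M →* Fn X := dsChar (t ≫ sp)
    have := hconj (Fn X) χ (Red.gaFn x)
    have h2 := congrArg (fun z : WithConv (A →ₐ[R] Fn X) => affPt X z.ofConv) this
    simp only [affPt_mul, affPt_inv] at h2
    exact h2.symm

end

end Groth.Agent.Sga3B.RootHomDict
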