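import Groth.Agent.Sga3B.RootCert
import Groth.Agent.Sga3B.RootDens136
import Mathlib.RingTheory.Filtration
import Mathlib.RingTheory.Smooth.Basic

/-!
# Reflections of a reductive group over an algebraically closed field

From the certificate `RootCert.Cert p` we deduce: for every root `a` there is a point `n`
normalizing the torus and acting on the characters by a reflection `m ↦ m - f m • a`, `f a = 2`.
-/

set_option autoImplicit false

open TensorProduct WithConv
open Groth.Agent.Books.DynBasic (mapPt mapPt_apply mapPt_injective)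
open Groth.Agent.Sga3B.RootCoact Groth.Agent.Sga3B.RootOrb Groth.Agent.Sga3B.RootGr
open Groth.Agent.Sga3B.RootGa Groth.Agent.Sga3B.RootCert Groth.Agent.Sga3B.RootDens136

universe u

namespace Groth.Agent.Sga3B.RootRefl136

section Gen

variable {R : Type u} [CommRing R] {A : Type u} [CommRing A] [HopfAlgebra R A]
variable {M : Type} [AddCommGroup M]
variable (p : A →ₐc[R] MonoidAlgebra R (Multiplicative M))

lemma JP_mono {Λ Λ' : AddSubmonoid M} (h : Λ' ≤ Λ) : JP p Λ ≤ JP p Λ' := by
  rw [JP, Ideal.span_le]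
  rintro x ⟨m, hm, hx⟩
  exact Ideal.subset_span ⟨m, fun hm' => hm (h hm'), hx⟩

lemma JP_le_aug (Λ : AddSubmonoid M) : JP p Λ ≤ aug R A := by
  rw [JP, Ideal.span_le]
  rintro x ⟨m, hm, hx⟩
  exact counit_gr p (fun h => hm (by rw [h]; exact zero_mem Λ)) hx

/-- The ideals `JP` only depend on the weights occurring in the cotangent space. -/
theorem JP_le_JP [Algebra.FormallySmooth R A] [IsNoetherianRing A] [Nontrivial R]
    {Λ Λ' : AddSubmonoid M} (hle : Λ' ≤ Λ) (hdom : IsDomain (A ⧸ JP p Λ))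
    (hwt : ∀ m ∈ Λ, m ∉ Λ' → ∀ x ∈ gr (conjCoact p) m, x ∈ aug R A ^ 2) :
    JP p Λ' ≤ JP p Λ := by
  have h1 : JP p Λ' ≤ aug R A ^ 2 ⊔ JP p Λ := by
    conv_lhs => rw [JP]
    rw [Ideal.span_le]
    rintro x ⟨m, hm, hx⟩
    by_cases hmΛ : m ∈ Λ
    · exact Ideal.mem_sup_left (hwt m hmΛ hm x hx)
    · exact Ideal.mem_sup_right (Ideal.subset_span ⟨m, hmΛ, hx⟩)
  let f : A ⧸ JP p Λ →ₐ[R] A ⧸ JP p Λ' := Ideal.Quotient.factorₐ R (JP_mono p hle)
  have hf : ∀ y : A, f (Ideal.Quotient.mk _ y) = Ideal.Quotient.mk _ y := fun y => rfl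
  let 𝔪 : Ideal (A ⧸ JP p Λ) := (aug R A).map (Ideal.Quotient.mk (JP p Λ))
  let I : Ideal (A ⧸ JP p Λ') := (aug R A).map (Ideal.Quotient.mk (JP p Λ'))
  have : Algebra.FormallySmooth R (A ⧸ JP p Λ') := formallySmooth_JP p
  have hker : ∀ n, RingHom.ker f ≤ 𝔪 ^ n := by
    intro n
    refine RootSym.ker_le_pow f 𝔪 I ?_ ?_ ?_ n
    · intro b
      obtain ⟨y, rfl⟩ := Ideal.Quotient.mk_surjective b
      exact ⟨Ideal.Quotient.mk _ y, by rw [hf, sub_self]; exact zero_mem _⟩
    · intro b hb
      obtain ⟨y, rfl⟩ := Ideal.Quotient.mk_surjective b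
      rw [hf, ← Ideal.map_pow, Ideal.mem_quotient_iff_mem_sup] at hb
      rw [← Ideal.map_pow, Ideal.mem_quotient_iff_mem_sup]
      have : aug R A ^ 2 ⊔ JP p Λ' ≤ aug R A ^ 2 ⊔ JP p Λ := sup_le le_sup_left h1
      exact this hb
    · intro b hb
      have h2 : 𝔪 ≤ I.comap f := by
        rw [Ideal.map_le_iff_le_comap]
        intro y hy
        rw [Ideal.mem_comap, Ideal.mem_comap, hf]
        exact Ideal.mem_map_of_mem _ hy
      exact h2 hb
  have h𝔪 : 𝔪 ≠ ⊤ := by
    intro h
    have h2 : (1 : A ⧸ JP p Λ) ∈ 𝔪 := by rw [h]; trivial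
    have h3 : Ideal.Quotient.mk (JP p Λ) 1 ∈ 𝔪 := h2
    rw [Ideal.mem_quotient_iff_mem_sup, sup_eq_left.2 (JP_le_aug p Λ), mem_aug,
      Bialgebra.counit_one] at h3
    exact one_ne_zero h3
  have hbot : ⨅ n : ℕ, 𝔪 ^ n = ⊥ := Ideal.iInf_pow_eq_bot_of_isDomain 𝔪 h𝔪
  intro y hy
  have h4 : Ideal.Quotient.mk (JP p Λ) y ∈ RingHom.ker f := by
    rw [RingHom.mem_ker]
    change f (Ideal.Quotient.mk _ y) = 0
    rw [hf]
    exact Ideal.Quotient.eq_zero_iff_mem.2 hy
  have h5 : Ideal.Quotient.mk (JP p Λ) y ∈ ⨅ n : ℕ, 𝔪 ^ n := by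
    rw [Ideal.mem_iInf]
    exact fun n => hker n h4
  rw [hbot, Ideal.mem_bot] at h5
  exact Ideal.Quotient.eq_zero_iff_mem.1 h5

/-- finiteness of the set of weights -/
theorem exists_finset_wt (hfg : (aug R A).FG) :
    ∃ S : Finset M, ∀ m ∉ S, ∀ x ∈ gr (conjCoact p) m, x ∈ aug R A → x ∈ aug R A ^ 2 := by
  classical
  obtain ⟨s, hs⟩ := hfg
  refine ⟨s.biUnion (supp (conjCoact p)), ?_⟩
  intro m hm x hx hxI
  have hm' : ∀ y ∈ s, pr (conjCoact p) m y = 0 := by
    intro y hy
    by_contra h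
    exact hm (Finset.mem_biUnion.2 ⟨y, hy, (mem_supp _).2 h⟩)
  have key : ∀ z ∈ Ideal.span (s : Set A), pr (conjCoact p) m z ∈ aug R A ^ 2 := by
    intro z hz
    induction hz using Submodule.span_induction with
    | zero => simp
    | add x y _ _ hx hy => rw [map_add]; exact add_mem hx hy
    | mem y hy => rw [hm' y hy]; exact zero_mem _
    | smul b z hz hz' =>
      have h1 : b • z = Coalgebra.counit (R := R) b • z +
          (b - algebraMap R A (Coalgebra.counit (R := R) b)) * z := by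
        rw [sub_mul, smul_eq_mul, Algebra.smul_def]; ring
      rw [h1, map_add, map_smul]
      refine add_mem (Submodule.smul_of_tower_mem _ _ hz') ?_
      apply pr_mem_sq
      rw [sq]
      refine Ideal.mul_mem_mul ?_ (hs ▸ hz)
      rw [mem_aug, map_sub, Bialgebra.counit_algebraMap, sub_self]
  have h1 := key x (hs ▸ hxI)
  rwa [pr_of_mem_same _ hx] at h1

variable {p}
variable {C : Type u} [CommRing C] [Algebra R C]

/-- the algebra endomorphism of `A` given by conjugation with a point `n` -/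
noncomputable def cj (n : WithConv (A →ₐ[R] R)) : A →ₐ[R] A :=
  (mapPt (Algebra.ofId R A) n * toConv (AlgHom.id R A) * (mapPt (Algebra.ofId R A) n)⁻¹).ofConv

lemma mapPt_ofId_comp {D : Type u} [CommRing D] [Algebra R D] (φ : C →ₐ[R] D)
    (n : WithConv (A →ₐ[R] R)) :
    mapPt φ (mapPt (Algebra.ofId R C) n) = mapPt (Algebra.ofId R D) n := by
  apply WithConv.ofConv_injective
  apply AlgHom.ext
  intro a
  rw [mapPt_apply, mapPt_apply, mapPt_apply]
  exact φ.commutes _

lemma apply_cj (n : WithConv (A →ₐ[R] R)) (g : WithConv (A →ₐ[R] C)) (y : A) :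
    g.ofConv (cj n y) = (mapPt (Algebra.ofId R C) n * g * (mapPt (Algebra.ofId R C) n)⁻¹).ofConv y
    := by
  have h : mapPt g.ofConv (mapPt (Algebra.ofId R A) n * toConv (AlgHom.id R A) *
      (mapPt (Algebra.ofId R A) n)⁻¹) =
      mapPt (Algebra.ofId R C) n * g * (mapPt (Algebra.ofId R C) n)⁻¹ := by
    rw [map_mul, map_mul, map_inv, mapPt_ofId_comp]
    rfl
  exact DFunLike.congr_fun (congrArg WithConv.ofConv h) y

lemma cj_cj (n : WithConv (A →ₐ[R] R)) (y : A) : cj n⁻¹ (cj n y) = y := by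
  have h1 := apply_cj n (toConv (cj n⁻¹)) y
  change cj n⁻¹ (cj n y) = _ at h1
  rw [h1, cj, toConv_ofConv, map_inv, inv_inv]
  have h2 : mapPt (Algebra.ofId R A) n * ((mapPt (Algebra.ofId R A) n)⁻¹ *
      toConv (AlgHom.id R A) * mapPt (Algebra.ofId R A) n) * (mapPt (Algebra.ofId R A) n)⁻¹ =
      toConv (AlgHom.id R A) := by
    simp only [mul_assoc, mul_inv_cancel_left, mul_inv_cancel, mul_one]
  rw [h2]
  rfl

lemma counit_cj (n : WithConv (A →ₐ[R] R)) (y : A) :
    Coalgebra.counit (R := R) (cj n y) = Coalgebra.counit (R := R) y := by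
  have h := apply_cj n (1 : WithConv (A →ₐ[R] R)) y
  rw [mul_one, mul_inv_cancel] at h
  exact h

lemma cj_mem_aug_pow (n : WithConv (A →ₐ[R] R)) (k : ℕ) {y : A} (hy : y ∈ aug R A ^ k) :
    cj n y ∈ aug R A ^ k := by
  have h1 : (aug R A).map (cj n) ≤ aug R A := by
    rw [Ideal.map_le_iff_le_comap]
    intro z hz
    rw [Ideal.mem_comap, mem_aug, counit_cj]
    exact hz
  have h2 : (aug R A ^ k).map (cj n) ≤ aug R A ^ k := by
    rw [Ideal.map_pow]
    exact Ideal.pow_right_mono h1 k
  exact h2 (Ideal.mem_map_of_mem _ hy)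

variable (p) in
/-- conjugation by a normalizing point permutes the homogeneous components -/
lemma cj_mem_gr (n : WithConv (A →ₐ[R] R)) (w : M →+ M)
    (h : mapPt (Algebra.ofId R (MonoidAlgebra A (Multiplicative M))) n * torPt p (tau M A) *
      (mapPt (Algebra.ofId R (MonoidAlgebra A (Multiplicative M))) n)⁻¹ =
      torPt p ((tau M A).comp (AddMonoidHom.toMultiplicative w)))
    {m : M} {y : A} (hy : y ∈ gr (conjCoact p) m) : cj n y ∈ gr (conjCoact p) (w m) := by
  rw [mem_gr]
  let n' := mapPt (Algebra.ofId R (MonoidAlgebra A (Multiplicative M))) n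
  let u : WithConv (A →ₐ[R] A) := toConv (AlgHom.id R A)
  let c := cst R M A
  have h1 : (orbU p p u).ofConv (cj n y) = (n' * orbU p p u * n'⁻¹).ofConv y :=
    apply_cj n (orbU p p u) y
  have h2 : n' * orbU p p u * n'⁻¹ =
      orb p p ((tau M A).comp (AddMonoidHom.toMultiplicative w)) (mapPt c (toConv (cj n))) := by
    rw [orb, ← h, orbU, orb]
    have h3 : mapPt c (toConv (cj n)) = n' * mapPt c u * n'⁻¹ := by
      rw [cj, toConv_ofConv, map_mul, map_mul, map_inv, mapPt_ofId_comp]
    rw [h3]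
    change n' * (torPt p (tau M A) * mapPt c u * (torPt p (tau M A))⁻¹) * n'⁻¹ =
      n' * torPt p (tau M A) * n'⁻¹ * (n' * mapPt c u * n'⁻¹) *
        (n' * torPt p (tau M A) * n'⁻¹)⁻¹
    simp only [mul_assoc, mul_inv_rev, inv_inv, inv_mul_cancel_left]
  rw [h2, orb_apply_of_mem p p _ _ hy] at h1
  change (orbU p p u).ofConv (cj n y) = _
  rw [h1, mapPt_apply]
  change MonoidAlgebra.single (1 : Multiplicative M) (cj n y) *
    MonoidAlgebra.single (Multiplicative.ofAdd (w m)) (1 : A) = _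
  rw [MonoidAlgebra.single_mul_single, one_mul, mul_one]

end Gen

section Comb

variable {M : Type} [AddCommGroup M]

/-- the saturation of `ℤ a` -/
def lamQ (a : M) : AddSubmonoid M where
  carrier := {m | ∃ k l : ℤ, k ≠ 0 ∧ k • m = l • a}
  zero_mem' := ⟨1, 0, one_ne_zero, by simp⟩
  add_mem' := by
    rintro m n ⟨k, l, hk, h⟩ ⟨k', l', hk', h'⟩
    refine ⟨k * k', k' * l + k * l', mul_ne_zero hk hk', ?_⟩
    rw [smul_add, add_smul, mul_smul k' l, ← h, mul_smul k l', ← h', smul_smul, smul_smul,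
      mul_comm k k']

lemma mem_lamQ {a m : M} : m ∈ lamQ a ↔ ∃ k l : ℤ, k ≠ 0 ∧ k • m = l • a := Iff.rfl

/-- the subgroup `ℤ a` as a submonoid -/
def lamZ (a : M) : AddSubmonoid M := (AddSubgroup.zmultiples a).toAddSubmonoid

lemma mem_lamZ {a m : M} : m ∈ lamZ a ↔ ∃ k : ℤ, k • a = m := Iff.rfl

lemma lamZ_le_lamQ (a : M) : lamZ a ≤ lamQ a := by
  rintro m ⟨k, rfl⟩
  exact ⟨1, k, one_ne_zero, one_smul _ _⟩

/-- `m ↦ m - f m • a` -/
def sRefl (f : M →+ ℤ) (a : M) : M →+ M :=
  AddMonoidHom.id M - (zmultiplesHom M a).comp f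

@[simp] lemma sRefl_apply (f : M →+ ℤ) (a m : M) : sRefl f a m = m - f m • a := rfl

lemma sRefl_self {f : M →+ ℤ} {a : M} (h : f a = 2) : sRefl f a a = -a := by
  rw [sRefl_apply, h, two_smul]; abel

lemma sRefl_sRefl {f : M →+ ℤ} {a : M} (h : f a = 2) (m : M) :
    sRefl f a (sRefl f a m) = m := by
  rw [sRefl_apply f a m, map_sub, map_zsmul, sRefl_self h, sRefl_apply, smul_neg]
  abel

end Comb

section Field

variable {K : Type u} [Field K] {A : Type u} [CommRing A] [HopfAlgebra K A]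
variable {M : Type} [AddCommGroup M] [Module.Free ℤ M]
variable {p : A →ₐc[K] MonoidAlgebra K (Multiplicative M)}

/-- If `n` kills the homogeneous elements of degree not in `Λ`, then `w` is the identity modulo
`Λ`. -/
theorem sub_mem_of_vanish [Infinite K] (hp : Function.Surjective p) {n : WithConv (A →ₐ[K] K)}
    {w : M →+ M} (h : NormRel p n w) (Λ : AddSubgroup M)
    (hn : ∀ m : M, m ∉ Λ → ∀ y ∈ gr (conjCoact p) m, n.ofConv y = 0) (m : M) :
    w m - m ∈ Λ := by
  let N := M ⧸ Λ
  let q : M →+ N := QuotientAddGroup.mk' Λ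
  let C := MonoidAlgebra K (Multiplicative N)
  let t : Multiplicative M →* Cˣ := (tau N K).comp (AddMonoidHom.toMultiplicative q)
  let n' : WithConv (A →ₐ[K] C) := mapPt (Algebra.ofId K C) n
  have h1 := h.all t
  have ht : ∀ m ∈ Λ, t (Multiplicative.ofAdd m) = 1 := by
    intro m hm
    apply Units.ext
    change MonoidAlgebra.single (Multiplicative.ofAdd (q m)) (1 : K) = 1
    rw [show q m = 0 from (QuotientAddGroup.eq_zero_iff _).2 hm]
    rfl
  have h2 : orb p p t n' = n' := by
    apply WithConv.ofConv_injective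
    apply AlgHom.ext
    intro y
    induction y using induction_gr (conjCoact p) with
    | h0 => rw [map_zero, map_zero]
    | hadd x y hx hy => rw [map_add, map_add, hx, hy]
    | h m y hy =>
      rw [orb_apply_of_mem p p t n' hy]
      by_cases hm : m ∈ Λ
      · rw [ht m hm, Units.val_one, mul_one]
      · have : n'.ofConv y = 0 := by
          change Algebra.ofId K C (n.ofConv y) = 0
          rw [hn m hm y hy, map_zero]
        rw [this, zero_mul]
  have h3 : n' * torPt p t * n'⁻¹ = torPt p t := by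
    rw [orb, mul_inv_eq_iff_eq_mul] at h2
    rw [mul_inv_eq_iff_eq_mul, h2]
  rw [h1] at h3
  have h4 := torPt_injective hp h3
  have h5 : (tau N K).comp (AddMonoidHom.toMultiplicative (q.comp w)) =
      (tau N K).comp (AddMonoidHom.toMultiplicative q) := h4
  have h6 := DFunLike.congr_fun (ext_of_comp h5) m
  rw [← QuotientAddGroup.eq_zero_iff]
  change q (w m - m) = 0
  rw [map_sub, sub_eq_zero]
  exact h6

omit [Module.Free ℤ M] in
/-- power of a unipotent -/
lemma normRel_unip {f : M →+ ℤ} {a : M} (hfa : f a = 0) {n : WithConv (A →ₐ[K] K)}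
    (h : NormRel p n (sRefl f a)) (k : ℕ) : NormRel p (n ^ k) (sRefl (k • f) a) := by
  induction k with
  | zero =>
    rw [pow_zero]
    have : sRefl (0 • f) a = AddMonoidHom.id M := by
      ext m
      simp
    rw [this]
    exact NormRel.one
  | succ k ih =>
    rw [pow_succ]
    have h2 := ih.mul h
    have : (sRefl f a).comp (sRefl (k • f) a) = sRefl ((k + 1) • f) a := by
      ext m
      simp only [AddMonoidHom.comp_apply, sRefl_apply, map_sub, map_zsmul, hfa]
      rw [succ_nsmul, AddMonoidHom.add_apply, add_smul, zero_smul, sub_zero]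
      abel
    rwa [this] at h2

/-- a unipotent endomorphism induced by a normalizing point is trivial -/
theorem eq_zero_of_unip [Infinite K] (hp : Function.Surjective p) {f : M →+ ℤ} {a : M}
    (ha : a ≠ 0) (hfa : f a = 0)
    {n : WithConv (A →ₐ[K] K)} (h : NormRel p n (sRefl f a)) : f = 0 := by
  by_contra hf
  obtain ⟨m, hm⟩ : ∃ m, f m ≠ 0 := by
    by_contra h'
    push Not at h'
    exact hf (AddMonoidHom.ext h')
  obtain ⟨F, hF⟩ := exists_finset_orbit hp m
  have h1 : ∀ k : ℕ, m - (k * f m) • a ∈ F := by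
    intro k
    have := hF _ _ (normRel_unip hfa h k)
    rw [sRefl_apply, AddMonoidHom.smul_apply, nsmul_eq_mul] at this
    exact this
  have h2 : Function.Injective fun k : ℕ => m - (k * f m) • a := by
    intro k l hkl
    have h3 : ((k * f m) • a : M) = (l * f m) • a := sub_right_injective hkl
    have h4 : ((k : ℤ) * f m) = l * f m := smul_left_injective ℤ ha h3
    exact_mod_cast mul_right_cancel₀ hm h4
  exact (Set.infinite_of_injective_forall_mem h2 h1) F.finite_toSet

/-- uniqueness of the coroot -/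
theorem coroot_unique [Infinite K] (hp : Function.Surjective p) {f f' : M →+ ℤ} {a : M}
    (ha : a ≠ 0) (hfa : f a = 2) (hfa' : f' a = 2)
    {n n' : WithConv (A →ₐ[K] K)} (h : NormRel p n (sRefl f a)) (h' : NormRel p n' (sRefl f' a)) :
    f = f' := by
  have h2 := h.mul h'
  have h3 : (sRefl f' a).comp (sRefl f a) = sRefl (f' - f) a := by
    ext m
    simp only [AddMonoidHom.comp_apply, sRefl_apply, map_sub, map_zsmul, AddMonoidHom.sub_apply,
      hfa']
    have h5 : a - (2 : ℤ) • a = -a := by rw [two_smul]; abel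
    rw [h5, smul_neg, sub_smul]
    abel
  rw [h3] at h2
  have h4 := eq_zero_of_unip hp ha (by rw [AddMonoidHom.sub_apply, hfa, hfa', sub_self]) h2
  exact (sub_eq_zero.1 h4).symm

/-- The reflection attached to a root. -/
theorem exists_refl [Infinite K] [Algebra.FormallySmooth K A] [Algebra.FiniteType K A]
    (hc : Cert p) {a : M} (ha : a ≠ 0) (hwt : IsWt p a) (hdom : IsDomain (A ⧸ JP p (lamQ a))) :
    ∃ (n : WithConv (A →ₐ[K] K)) (f : M →+ ℤ), f a = 2 ∧ NormRel p n (sRefl f a) := by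
  have : IsNoetherianRing A := Algebra.FiniteType.isNoetherianRing K A
  obtain ⟨n, w, hw1, hn, hrel⟩ := hc.refl a ha hwt
  have hrel' : NormRel p n w := hrel
  -- the kernel
  have hJ : JP p (lamZ a) ≤ JP p (lamQ a) := by
    refine JP_le_JP p (lamZ_le_lamQ a) hdom ?_
    intro m hm hm' x hx
    by_contra hx2
    have hm0 : m ≠ 0 := fun h => hm' (by rw [h]; exact zero_mem _)
    have hwtm : IsWt p m := ⟨x, hx, counit_gr p hm0 hx, hx2⟩
    obtain ⟨k, l, hk, hkl⟩ := hm
    have hl : l ≠ 0 := by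
      rintro rfl
      rw [zero_smul] at hkl
      exact (smul_ne_zero hk hm0) hkl
    rcases hc.prop a m ha hm0 hwt hwtm l k hl hk hkl.symm with rfl | rfl
    · exact hm' ⟨1, one_smul _ _⟩
    · exact hm' ⟨-1, by simp⟩
  have hn1 : ∀ y ∈ JP p (lamQ a), n.ofConv y = 0 := by
    rw [vanish_JP_iff, mem_PSub]
    intro m hm y hy
    refine hn m (fun k l hk hkl => hm ⟨k, l, hk, hkl⟩) y hy
  have hn2 : ∀ m : M, m ∉ AddSubgroup.zmultiples a → ∀ y ∈ gr (conjCoact p) m,
      n.ofConv y = 0 := by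
    intro m hm y hy
    exact hn1 y (hJ (Ideal.subset_span ⟨m, hm, hy⟩))
  have h1 := sub_mem_of_vanish hc.surj hrel' (AddSubgroup.zmultiples a) hn2
  choose g hg using h1
  have hsm : ∀ k : ℤ, k • a = 0 → k = 0 := fun k hk => (smul_eq_zero.1 hk).resolve_right ha
  let f : M →+ ℤ :=
    { toFun := fun m => - g m
      map_zero' := by
        have := hg 0
        simp only [map_zero, sub_zero] at this
        rw [hsm _ this, neg_zero]
      map_add' := by
        intro x y
        have h1 := hg (x + y)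
        have h2 := hg x
        have h3 := hg y
        simp only at h1 h2 h3
        have h4 : (g (x + y) - g x - g y) • a = 0 := by
          rw [sub_smul, sub_smul, h1, h2, h3, map_add]
          abel
        have h5 := hsm _ h4
        linarith }
  have hf : ∀ m, f m = - g m := fun m => rfl
  have hwf : w = sRefl f a := by
    ext m
    have h2 := hg m
    simp only at h2
    rw [sRefl_apply, hf, neg_smul, sub_neg_eq_add, h2]
    abel
  rw [hwf] at hrel'
  refine ⟨n, f, ?_, hrel'⟩
  have hs := hrel'.surjective hc.surj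
  obtain ⟨v, hv⟩ := hs a
  rw [sRefl_apply] at hv
  have hva : v = (1 + f v) • a := by
    rw [add_smul, one_smul]
    rw [sub_eq_iff_eq_add] at hv
    exact hv
  have h3 : f v = (1 + f v) * f a := by
    conv_lhs => rw [hva]
    rw [map_zsmul, smul_eq_mul]
  have h4 : (1 + f v) * (1 - f a) = 1 := by linarith
  rcases Int.eq_one_or_neg_one_of_mul_eq_one' h4 with ⟨_, h5⟩ | ⟨_, h5⟩
  · exfalso
    have hfa : f a = 0 := by linarith
    have hf0 := eq_zero_of_unip hc.surj ha hfa hrel'
    apply hw1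
    rw [hwf, hf0]
    ext m
    simp
  · linarith

/-- normalizing points permute the weights -/
theorem isWt_of_normRel {n : WithConv (A →ₐ[K] K)} {w : M →+ M} (h : NormRel p n w) [Infinite K]
    {m : M} (hm : IsWt p m) : IsWt p (w m) := by
  obtain ⟨x, hx, hx1, hx2⟩ := hm
  have h1 := cj_mem_gr p n w (by
    have := h.all (C := MonoidAlgebra A (Multiplicative M))
      ((tau M A))
    exact this) hx
  refine ⟨cj n x, h1, ?_, ?_⟩
  · rw [mem_aug, counit_cj]; exact hx1
  · intro h2
    apply hx2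
    have := cj_mem_aug_pow n⁻¹ 2 h2
    rwa [cj_cj] at this

end Field

end Groth.Agent.Sga3B.RootRefl136
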