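import Groth.Agent.Sga3B.RootTors878
import Mathlib.RingTheory.PicardGroup

/-!
# Torsors under split tori and transporters, over rings with trivial Picard group

* `exists_section_pic`: a torsor under `D(M)`, `M` free, over `R` with `Pic R = 0` has a section.
* `exists_transport`: `p q : D(M) → G` homomorphisms with `Z_G(p) = D(M)`; if the transporter
  `{g | p(t) g = g q(t)}` is faithfully flat over `R` then it has a point over `R`.
-/

set_option autoImplicit false

open TensorProduct WithConv
open Groth.Agent.Books.DynBasic (mapPt mapPt_apply mapPt_injective)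
open Groth.Agent.Sga3B.RootCoact Groth.Agent.Sga3B.RootOrb Groth.Agent.Sga3B.RootGr
open Groth.Agent.Sga3B.RootTors878

universe u

namespace Groth.Agent.Sga3B.RootTors878b

section Torsor

variable {R : Type u} [CommRing R] {B : Type u} [CommRing B] [Algebra R B]
variable {M : Type} [AddCommGroup M] (c : Coact R B M)

lemma gr_mul_gr_neg [Module.FaithfullyFlat R B] (h : Function.Bijective (tor c)) (m : M) :
    gr c (-m) * gr c m = 1 := by
  apply le_antisymm
  · rw [Submodule.mul_le]
    intro x hx y hy
    have h0 := mul_mem_gr c hx hy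
    rw [neg_add_cancel] at h0
    obtain ⟨r, hr⟩ := mem_range_of_mem_gr_zero c h.1 h0
    rw [← hr]
    exact Submodule.algebraMap_mem r
  · rw [Submodule.one_le]
    have key : ∀ t : B ⊗[R] B, pr c 0 ((tor c t).coeff (Multiplicative.ofAdd m)) ∈
        gr c (-m) * gr c m := by
      intro t
      induction t using TensorProduct.induction_on with
      | zero => simp
      | add x y hx hy =>
        rw [map_add (tor c), MonoidAlgebra.coeff_add, Finsupp.add_apply, map_add]
        exact add_mem hx hy
      | tmul y z =>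
        rw [coeff_tor_tmul]
        have hz := pr_mem_gr c m z
        classical
        have h0 : pr c (-m) y * pr c m z ∈ gr c 0 := by
          have := mul_mem_gr c (pr_mem_gr c (-m) y) hz
          rwa [neg_add_cancel] at this
        have h1 : y * pr c m z = ∑ n ∈ insert (-m) (supp c y), pr c n y * pr c m z := by
          rw [← Finset.sum_mul]
          congr 1
          conv_lhs => rw [← sum_pr c y]
          refine Finset.sum_subset (Finset.subset_insert _ _) ?_
          intro n _ hn
          rw [mem_supp, not_not] at hn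
          exact hn
        rw [h1, pr_sum, Finset.sum_eq_single (-m)]
        · rw [pr_of_mem_same c h0]
          exact Submodule.mul_mem_mul (pr_mem_gr c _ y) hz
        · intro n _ hn
          apply pr_of_mem_ne c (mul_mem_gr c (pr_mem_gr c n y) hz)
          intro h2
          exact hn (eq_neg_of_add_eq_zero_left h2)
        · intro h2
          exact absurd (Finset.mem_insert_self _ _) h2
    obtain ⟨t, ht⟩ := h.2 (MonoidAlgebra.single (Multiplicative.ofAdd m) 1)
    have h1 := key t
    rwa [ht, MonoidAlgebra.coeff_single, Finsupp.single_eq_same,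
      pr_of_mem_same c (one_mem_gr c)] at h1

/-- homogeneous units in every degree -/
lemma exists_unit_pic [Subsingleton (CommRing.Pic R)] [Module.FaithfullyFlat R B]
    (h : Function.Bijective (tor c)) (m : M) : ∃ u : Bˣ, (u : B) ∈ gr c m := by
  have h1 : gr c m * gr c (-m) = 1 := by
    have := gr_mul_gr_neg c h (-m)
    rwa [neg_neg] at this
  let I : (Submodule R B)ˣ := ⟨gr c m, gr c (-m), h1, gr_mul_gr_neg c h m⟩
  have h2 : I ∈ (Submodule.unitsToPic R B).ker := by
    rw [MonoidHom.mem_ker]
    exact Subsingleton.elim _ _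
  rw [Submodule.ker_unitsToPic] at h2
  obtain ⟨x, hx⟩ := h2
  refine ⟨x, ?_⟩
  have h3 : Submodule.span R {(x : B)} = gr c m := congrArg Units.val hx
  rw [← h3]
  exact Submodule.mem_span_singleton_self _

/-- a family of homogeneous units in all degrees, multiplicative in the degree -/
lemma exists_units_pic [Subsingleton (CommRing.Pic R)] [Module.FaithfullyFlat R B]
    [Module.Free ℤ M] (h : Function.Bijective (tor c)) :
    ∃ χ : Multiplicative M →* Bˣ, ∀ m : M, (χ (Multiplicative.ofAdd m) : B) ∈ gr c m := by
  let b := Module.Free.chooseBasis ℤ M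
  choose u hu using fun i => exists_unit_pic c h (b i)
  let F : M →+ Additive Bˣ :=
    (b.constr ℤ fun i => Additive.ofMul (u i) : M →ₗ[ℤ] Additive Bˣ).toAddMonoidHom
  have hF : ∀ i, F (b i) = Additive.ofMul (u i) := fun i => b.constr_basis ℤ _ i
  let S : AddSubgroup M :=
    { carrier := {m | ((F m).toMul : B) ∈ gr c m}
      zero_mem' := by
        change ((F 0).toMul : B) ∈ gr c 0
        rw [map_zero, toMul_zero, Units.val_one]
        exact one_mem_gr c
      add_mem' := by
        intro m n hm hn
        change ((F (m + n)).toMul : B) ∈ gr c (m + n)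
        rw [map_add, toMul_add, Units.val_mul]
        exact mul_mem_gr c hm hn
      neg_mem' := by
        intro m hm
        change ((F (-m)).toMul : B) ∈ gr c (-m)
        rw [map_neg, toMul_neg]
        exact inv_mem_gr c hm (Units.mul_inv _) }
  have hS : ∀ m, m ∈ S := by
    intro m
    have h2 : (⊤ : Submodule ℤ M) ≤ S.toIntSubmodule := by
      rw [← b.span_eq, Submodule.span_le]
      rintro _ ⟨i, rfl⟩
      change ((F (b i)).toMul : B) ∈ gr c (b i)
      rw [hF]
      exact hu i
    exact h2 (Submodule.mem_top (x := m))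
  exact ⟨AddMonoidHom.toMultiplicativeLeft F, fun m => hS m⟩

/-- a torsor under `D(M)`, `M` free, over a ring with trivial Picard group has a section. -/
theorem exists_section_pic [Subsingleton (CommRing.Pic R)] [Module.FaithfullyFlat R B]
    [Module.Free ℤ M] (h : Function.Bijective (tor c)) : Nonempty (B →ₐ[R] R) := by
  obtain ⟨χ, hχ⟩ := exists_units_pic c h
  have hinj : Function.Injective (algebraMap R B) :=
    FaithfulSMul.algebraMap_injective R B
  let σ : B →ₐ[R] B := (evC (R := R) χ⁻¹).comp c.rho
  have hσ : ∀ b, σ b ∈ (⊥ : Subalgebra R B) := by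
    intro b
    induction b using induction_gr c with
    | h0 => rw [map_zero]; exact zero_mem _
    | hadd x y hx hy => rw [map_add]; exact add_mem hx hy
    | h m x hx =>
      change evC (R := R) χ⁻¹ (c.rho x) ∈ _
      rw [(mem_gr c).1 hx, evC_single, Algebra.mem_bot]
      have h1 : x * ((χ⁻¹ (Multiplicative.ofAdd m) : Bˣ) : B) ∈ gr c 0 := by
        have h2 := mul_mem_gr c hx (inv_mem_gr c (hχ m) (Units.mul_inv _))
        rwa [add_neg_cancel] at h2
      exact mem_range_of_mem_gr_zero c h.1 h1
  exact ⟨(Algebra.botEquivOfInjective hinj).toAlgHom.comp (σ.codRestrict ⊥ hσ)⟩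

end Torsor

section Quot

variable {R : Type u} [CommRing R] {A : Type u} [CommRing A] [Algebra R A]
variable {M : Type} [AddCommGroup M] (c : Coact R A M) (J : Ideal A)

/-- the coaction on the quotient by a homogeneous ideal -/
noncomputable def quotCoact (hJ : ∀ a ∈ J, ∀ m, pr c m a ∈ J) : Coact R (A ⧸ J) M where
  rho := Ideal.Quotient.liftₐ J
    ((MonoidAlgebra.mapAlgHom (Multiplicative M) (Ideal.Quotient.mkₐ R J)).comp c.rho) (by
      intro a ha
      ext m
      change (MonoidAlgebra.mapAlgHom (Multiplicative M) (Ideal.Quotient.mkₐ R J) (c.rho a)).coeff m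
        = 0
      rw [MonoidAlgebra.coeff_mapAlgHom]
      exact Ideal.Quotient.eq_zero_iff_mem.2 (hJ a ha m.toAdd))
  sum_rho := by
    intro b
    obtain ⟨a, rfl⟩ := Ideal.Quotient.mk_surjective b
    change ((MonoidAlgebra.mapAlgHom (Multiplicative M) (Ideal.Quotient.mkₐ R J)
      (c.rho a)).coeff.sum fun _ b => b) = _
    conv_rhs => rw [← c.sum_rho a]
    generalize c.rho a = f
    induction f using MonoidAlgebra.induction_linear with
    | zero => simp
    | add x y hx hy =>
      rw [map_add, MonoidAlgebra.coeff_add, MonoidAlgebra.coeff_add,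
        Finsupp.sum_add_index' (fun _ => rfl) (fun _ _ _ => rfl),
        Finsupp.sum_add_index' (fun _ => rfl) (fun _ _ _ => rfl), map_add, hx, hy]
    | single m b =>
      rw [MonoidAlgebra.mapAlgHom_single, MonoidAlgebra.coeff_single, MonoidAlgebra.coeff_single,
        Finsupp.sum_single_index rfl, Finsupp.sum_single_index rfl]
      rfl
  rho_coeff := by
    intro b m
    obtain ⟨a, rfl⟩ := Ideal.Quotient.mk_surjective b
    change MonoidAlgebra.mapAlgHom (Multiplicative M) (Ideal.Quotient.mkₐ R J) (c.rho
      ((c.rho a).coeff m)) = MonoidAlgebra.single m (Ideal.Quotient.mk J ((c.rho a).coeff m))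
    rw [c.rho_coeff, MonoidAlgebra.mapAlgHom_single]
    rfl

end Quot

section Transport

variable {R : Type u} [CommRing R] {A : Type u} [CommRing A] [HopfAlgebra R A]
variable {M : Type} [AddCommGroup M]
variable (p q : A →ₐc[R] MonoidAlgebra R (Multiplicative M))
variable {C : Type u} [CommRing C] [Algebra R C]
variable {D : Type u} [CommRing D] [Algebra R D]

/-- `g` is in the transporter: `p(t) g = g q(t)` for the universal `t`. -/
def Fix (g : WithConv (A →ₐ[R] C)) : Prop := orbU p q g = mapPt (cst R M C) g

variable {p q}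

lemma mapPt_evC_cst (t : Multiplicative M →* Cˣ) (g : WithConv (A →ₐ[R] C)) :
    mapPt (evC (R := R) t) (mapPt (cst R M C) g) = g := by
  change toConv ((evC (R := R) t).comp ((cst R M C).comp g.ofConv)) = g
  rw [← AlgHom.comp_assoc, evC_comp_cst]
  rfl

lemma Fix.map {g : WithConv (A →ₐ[R] C)} (hg : Fix p q g) (φ : C →ₐ[R] D) :
    Fix p q (mapPt φ g) := by
  rw [Fix, orbU_mapPt, hg]
  change toConv ((MonoidAlgebra.mapAlgHom (Multiplicative M) φ).comp ((cst R M C).comp g.ofConv)) =
    toConv ((cst R M D).comp (φ.comp g.ofConv))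
  rw [← AlgHom.comp_assoc, ← AlgHom.comp_assoc, map_comp_cst]

lemma Fix.orb_eq {g : WithConv (A →ₐ[R] C)} (hg : Fix p q g) (t : Multiplicative M →* Cˣ) :
    orb p q t g = g := by
  rw [RootOrb.orb_eq, hg, mapPt_evC_cst]

/-- `p(t) g = g q(t)` -/
lemma Fix.mul_eq {g : WithConv (A →ₐ[R] C)} (hg : Fix p q g) (t : Multiplicative M →* Cˣ) :
    torPt p t * g = g * torPt q t := by
  have h := hg.orb_eq t
  rw [orb, mul_inv_eq_iff_eq_mul] at h
  exact h

lemma torPt_comm (s t : Multiplicative M →* Cˣ) :
    torPt p s * torPt p t = torPt p t * torPt p s := by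
  rw [← map_mul, ← map_mul]
  congr 1
  refine MonoidHom.ext fun m => ?_
  rw [MonoidHom.mul_apply, MonoidHom.mul_apply, mul_comm]

lemma Fix.torPt_mul {g : WithConv (A →ₐ[R] C)} (hg : Fix p q g) (s : Multiplicative M →* Cˣ) :
    Fix p q (torPt p s * g) := by
  have h1 := hg
  rw [Fix, orbU, orb] at h1 ⊢
  rw [map_mul, ← mul_assoc, mapPt_torPt, torPt_comm, mul_assoc, mul_assoc]
  congr 1
  rw [← mul_assoc]
  exact h1

lemma Fix.mul_inv {g h : WithConv (A →ₐ[R] C)} (hg : Fix p q g) (hh : Fix p q h) :
    Fix p p (g * h⁻¹) := by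
  have h1 : torPt p (tau M C) * mapPt (cst R M C) g = mapPt (cst R M C) g * torPt q (tau M C) := by
    have := hg
    rw [Fix, orbU, orb, mul_inv_eq_iff_eq_mul] at this
    exact this
  have h2 : torPt p (tau M C) * mapPt (cst R M C) h = mapPt (cst R M C) h * torPt q (tau M C) := by
    have := hh
    rw [Fix, orbU, orb, mul_inv_eq_iff_eq_mul] at this
    exact this
  rw [Fix, orbU, orb, mul_inv_eq_iff_eq_mul, map_mul, map_inv, ← mul_assoc, h1, mul_assoc,
    mul_assoc]
  congr 1
  rw [eq_inv_mul_iff_mul_eq, ← mul_assoc, ← h2, mul_inv_cancel_right]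

lemma evT_injective {s t : Multiplicative M →* Cˣ} (h : evT R s = evT R t) : s = t := by
  refine MonoidHom.ext fun m => Units.ext ?_
  have := DFunLike.congr_fun h (MonoidAlgebra.single m 1)
  rw [evT_single, evT_single, one_smul, one_smul] at this
  exact this

lemma torPt_injective (hp : Function.Surjective p) :
    Function.Injective (torPt p : (Multiplicative M →* Cˣ) → WithConv (A →ₐ[R] C)) := by
  intro s t h
  apply evT_injective (R := R)
  apply AlgHom.ext
  intro f
  obtain ⟨a, rfl⟩ := hp f
  exact DFunLike.congr_fun (congrArg WithConv.ofConv h) a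

/-- a point killing the kernel of `p` comes from a point of `D(M)` -/
lemma exists_torPt (hp : Function.Surjective p) (g : WithConv (A →ₐ[R] C))
    (hg : ∀ y, p y = 0 → g.ofConv y = 0) : ∃ t : Multiplicative M →* Cˣ, g = torPt p t := by
  let P : A →ₐ[R] MonoidAlgebra R (Multiplicative M) := p
  let ψ : MonoidAlgebra R (Multiplicative M) →ₐ[R] C :=
    (Ideal.Quotient.liftₐ (RingHom.ker P) g.ofConv hg).comp
      (Ideal.quotientKerAlgEquivOfSurjective (f := P) hp).symm.toAlgHom
  have hψ : ∀ a, ψ (p a) = g.ofConv a := by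
    intro a
    have h1 : (Ideal.quotientKerAlgEquivOfSurjective (f := P) hp).symm (P a) =
        Ideal.Quotient.mk _ a := by
      rw [AlgEquiv.symm_apply_eq]
      rfl
    change (Ideal.Quotient.liftₐ (RingHom.ker P) g.ofConv hg)
      ((Ideal.quotientKerAlgEquivOfSurjective (f := P) hp).symm (P a)) = _
    rw [h1]
    rfl
  refine ⟨MonoidHom.toHomUnits
    ((ψ : MonoidAlgebra R (Multiplicative M) →* C).comp (MonoidAlgebra.of R (Multiplicative M))), ?_⟩
  apply WithConv.ofConv_injective
  apply AlgHom.ext
  intro a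
  rw [torPt_apply, ← hψ]
  congr 1
  apply algHom_ext_single
  intro m
  rw [evT_single, one_smul]
  rfl

variable (p q)

/-- the ideal of the transporter -/
noncomputable def JT : Ideal A :=
  Ideal.span {a | ∃ m : M, m ≠ 0 ∧ a ∈ gr (coact p q) m}

variable {p q}

lemma fix_iff (g : WithConv (A →ₐ[R] C)) : Fix p q g ↔ ∀ a ∈ JT p q, g.ofConv a = 0 := by
  rw [Fix, fixed_iff]
  constructor
  · intro h a ha
    have : JT p q ≤ RingHom.ker g.ofConv := by
      rw [JT, Ideal.span_le]
      rintro x ⟨m, hm, hx⟩
      exact h m hm x hx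
    exact this ha
  · intro h m hm a ha
    exact h a (Ideal.subset_span ⟨m, hm, ha⟩)

variable (p q) in
/-- the universal point of the transporter -/
noncomputable def xU : WithConv (A →ₐ[R] A ⧸ JT p q) := toConv (Ideal.Quotient.mkₐ R (JT p q))

variable (p q) in
lemma fix_xU : Fix p q (xU p q) := by
  rw [fix_iff]
  intro a ha
  exact Ideal.Quotient.eq_zero_iff_mem.2 ha

variable (p) in
lemma orbU_triv (g : WithConv (A →ₐ[R] C)) :
    orbU p (triv R A M) g = torPt p (tau M C) * mapPt (cst R M C) g := by
  rw [orbU, orb, torPt_triv, inv_one, mul_one]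

variable (p q) in
lemma JT_homog : ∀ a ∈ JT p q, ∀ m, pr (coact p (triv R A M)) m a ∈ JT p q := by
  intro a ha m
  have h1 : Fix p q (orbU p (triv R A M) (xU p q)) := by
    rw [orbU_triv]
    exact ((fix_xU p q).map _).torPt_mul _
  have h2 := (fix_iff _).1 h1 a ha
  have h3 := congrArg (fun f => f.coeff (Multiplicative.ofAdd m)) h2
  simp only [coeff_orbU'] at h3
  exact Ideal.Quotient.eq_zero_iff_mem.1 h3

variable (p q) in
/-- the coaction of `D(M)` on the transporter by left multiplication -/
noncomputable def coactT : Coact R (A ⧸ JT p q) M :=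
  quotCoact (coact p (triv R A M)) (JT p q) (JT_homog p q)

variable (p q) in
lemma coactT_rho : mapPt (coactT p q).rho (xU p q) =
    torPt p (tau M _) * mapPt (cst R M _) (xU p q) := by
  rw [← orbU_triv, orbU_eq]
  rfl

/-- the transporter is a torsor under the centralizer `D(M)`. -/
theorem bijective_tor (hp : Function.Surjective p)
    (hc : ∀ y, p y = 0 → y ∈ JP p (⊥ : AddSubmonoid M)) :
    Function.Bijective (tor (coactT p q)) := by
  let B := A ⧸ JT p q
  let il : B →ₐ[R] B ⊗[R] B := Algebra.TensorProduct.includeLeft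
  let ir : B →ₐ[R] B ⊗[R] B := Algebra.TensorProduct.includeRight
  let x1 := mapPt il (xU p q)
  let x2 := mapPt ir (xU p q)
  have hx1 : Fix p q x1 := (fix_xU p q).map il
  have hx2 : Fix p q x2 := (fix_xU p q).map ir
  have hz : Fix p p (x2 * x1⁻¹) := hx2.mul_inv hx1
  obtain ⟨s, hs⟩ := exists_torPt hp (x2 * x1⁻¹) (by
    intro y hy
    rw [Fix, fixed_iff] at hz
    have h1 : JP p (⊥ : AddSubmonoid M) ≤ RingHom.ker (x2 * x1⁻¹).ofConv := by
      rw [JP, Ideal.span_le]
      rintro x ⟨m, hm, hx⟩
      exact hz m hm x hx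
    exact h1 (hc y hy))
  have hs2 : x2 = torPt p s * x1 := by rw [← hs, inv_mul_cancel_right]
  -- the inverse map
  let Φ : MonoidAlgebra B (Multiplicative M) →ₐ[R] B ⊗[R] B :=
    (evC (R := R) s).comp (MonoidAlgebra.mapAlgHom (Multiplicative M) il)
  have hΦs : ∀ (m : Multiplicative M) (b : B), Φ (MonoidAlgebra.single m b) = il b * (s m : B ⊗[R] B) := by
    intro m b
    change evC (R := R) s (MonoidAlgebra.mapAlgHom (Multiplicative M) il (MonoidAlgebra.single m b)) = _
    rw [MonoidAlgebra.mapAlgHom_single, evC_single]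
  have hΦcst : Φ.comp (cst R M B) = il := by
    apply AlgHom.ext
    intro b
    change Φ (MonoidAlgebra.single 1 b) = _
    rw [hΦs, map_one, Units.val_one, mul_one]
  have hΦtau : (Units.map (Φ : MonoidAlgebra B (Multiplicative M) →* B ⊗[R] B)).comp (tau M B) = s := by
    refine MonoidHom.ext fun m => Units.ext ?_
    change Φ (MonoidAlgebra.single m 1) = _
    rw [hΦs, map_one, one_mul]
  let T := tor (coactT p q)
  have hTl : T.comp il = cst R M B := by
    apply AlgHom.ext
    intro b
    change tor (coactT p q) (b ⊗ₜ 1) = MonoidAlgebra.single 1 b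
    rw [tor_tmul, map_one, mul_one]
  have hTr : T.comp ir = (coactT p q).rho := by
    apply AlgHom.ext
    intro b
    change tor (coactT p q) (1 ⊗ₜ b) = _
    rw [tor_tmul]
    exact one_mul _
  have hTx2 : mapPt T x2 = torPt p (tau M B) * mapPt (cst R M B) (xU p q) := by
    rw [← coactT_rho, ← hTr]
    rfl
  have hTx1 : mapPt T x1 = mapPt (cst R M B) (xU p q) := by
    rw [← hTl]
    rfl
  -- first composite
  have h1 : Φ.comp T = AlgHom.id R _ := by
    apply Algebra.TensorProduct.ext
    · change (Φ.comp T).comp il = il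
      rw [AlgHom.comp_assoc, hTl, hΦcst]
    · change (Φ.comp T).comp ir = ir
      have e : mapPt Φ (mapPt T x2) = x2 := by
        rw [hTx2, map_mul, mapPt_torPt, hΦtau]
        have e2 : mapPt Φ (mapPt (cst R M B) (xU p q)) = x1 := by
          change toConv ((Φ.comp (cst R M B)).comp (xU p q).ofConv) = x1
          rw [hΦcst]
          rfl
        rw [e2, ← hs2]
      apply AlgHom.ext
      intro b
      obtain ⟨a, rfl⟩ := Ideal.Quotient.mk_surjective b
      exact DFunLike.congr_fun (congrArg WithConv.ofConv e) a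
  -- second composite
  have hTs : (Units.map (T : B ⊗[R] B →* MonoidAlgebra B (Multiplicative M))).comp s = tau M B := by
    apply torPt_injective hp
    have e := congrArg (mapPt T) hs2
    rw [hTx2, map_mul, hTx1, mapPt_torPt] at e
    exact (mul_right_cancel e).symm
  have h2 : T.comp Φ = AlgHom.id R _ := by
    apply AlgHom.ext
    intro f
    induction f using MonoidAlgebra.induction_linear with
    | zero => rw [map_zero, map_zero]
    | add x y hx hy => rw [map_add, map_add, hx, hy]
    | single m b =>
      change T (Φ (MonoidAlgebra.single m b)) = MonoidAlgebra.single m b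
      rw [hΦs, map_mul]
      have e1 : T (il b) = MonoidAlgebra.single 1 b := DFunLike.congr_fun hTl b
      have e2 : T (s m : B ⊗[R] B) = MonoidAlgebra.single m 1 :=
        congrArg Units.val (DFunLike.congr_fun hTs m)
      rw [e1, e2, MonoidAlgebra.single_mul_single, one_mul, mul_one]
  exact ⟨Function.LeftInverse.injective (g := Φ) (DFunLike.congr_fun h1),
    Function.RightInverse.surjective (g := Φ) (DFunLike.congr_fun h2)⟩

/-- **Points of transporters.** Let `p q : D(M) → G` be homomorphisms, `M` free, over a ring `R`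
with `Pic R = 0` (for instance a local ring), with `p` a closed immersion and `Z_G(p) = D(M)`. If
the transporter is faithfully flat over `R`, there is `g : G(R)` with `p(t) g = g q(t)`. -/
theorem exists_transport [Subsingleton (CommRing.Pic R)] [Module.Free ℤ M]
    (hp : Function.Surjective p) (hc : ∀ y, p y = 0 → y ∈ JP p (⊥ : AddSubmonoid M))
    [Module.FaithfullyFlat R (A ⧸ JT p q)] : ∃ g : WithConv (A →ₐ[R] R), Fix p q g := by
  obtain ⟨σ⟩ := exists_section_pic (coactT p q) (bijective_tor hp hc)
  exact ⟨mapPt σ (xU p q), (fix_xU p q).map σ⟩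

/-- the same, with the naive form of the conclusion -/
theorem exists_transport' [Subsingleton (CommRing.Pic R)] [Module.Free ℤ M]
    (hp : Function.Surjective p) (hc : ∀ y, p y = 0 → y ∈ JP p (⊥ : AddSubmonoid M))
    [Module.FaithfullyFlat R (A ⧸ JT p q)] : ∃ g : WithConv (A →ₐ[R] R),
      (∀ m ≠ 0, ∀ a ∈ gr (coact p q) m, g.ofConv a = 0) ∧
      ∀ (C : Type u) [CommRing C] [Algebra R C] (t : Multiplicative M →* Cˣ),
        torPt p t * mapPt (Algebra.ofId R C) g = mapPt (Algebra.ofId R C) g * torPt q t := by
  obtain ⟨g, hg⟩ := exists_transport (q := q) hp hc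
  exact ⟨g, (fixed_iff p q g).1 hg, fun C _ _ t => (hg.map (Algebra.ofId R C)).mul_eq t⟩

end Transport

end Groth.Agent.Sga3B.RootTors878b
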