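import Groth.Agent.Sga3B.RootBC136
import Groth.Agent.Sga3B.RootRefl136
import Groth.Agent.Sga3B.InvRank136
import Mathlib.Algebra.TrivSqZeroExt.Basic
import Mathlib.RingTheory.Smooth.Basic
import Mathlib.FieldTheory.IsAlgClosed.AlgebraicClosure

/-!
# Weights of the cotangent space over a base

`A` a smooth Hopf algebra over `R`, `p : A →ₐc[R] R[M]`. The module `A / I ^ 2` is finite
projective; if `R` is connected with trivial Picard group and on all geometric fibres the
nonzero weight spaces have dimension at most one, then the nonzero weights are the elements of a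
finite set `Φ` and the weight spaces of elements of `Φ` are free of rank one.
-/

set_option autoImplicit false

open TensorProduct WithConv
open Groth.Agent.Books.DynBasic (mapPt mapPt_apply mapPt_injective)
open Groth.Agent.Sga3B.RootCoact Groth.Agent.Sga3B.RootOrb Groth.Agent.Sga3B.RootGr
open Groth.Agent.Sga3B.RootGa Groth.Agent.Sga3B.RootCert Groth.Agent.Sga3B.RootDens136
open Groth.Agent.Sga3B.RootRefl136 Groth.Agent.Sga3B.RootBC136

universe u

namespace Groth.Agent.Sga3B.RootWt136

section Proj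

variable (R : Type u) [CommRing R] (A : Type u) [CommRing A] [HopfAlgebra R A]

/-- The square of the augmentation ideal as an `R`-submodule. -/
noncomputable abbrev I2 : Submodule R A := (aug R A ^ 2).restrictScalars R

variable {R A}

lemma sub_counit_mem (a : A) : a - algebraMap R A (Coalgebra.counit (R := R) a) ∈ aug R A := by
  rw [mem_aug, map_sub, Bialgebra.counit_algebraMap, sub_self]

/-- modulo `I ^ 2`, elements of `I` are `R`-linear combinations of generators of `I`. -/
lemma exists_combination {r : ℕ} (y : Fin r → A) (hy : Ideal.span (Set.range y) = aug R A) {a : A}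
    (ha : a ∈ aug R A) : ∃ c : Fin r → R, a - ∑ i, c i • y i ∈ aug R A ^ 2 := by
  have hyI : ∀ i, y i ∈ aug R A := fun i => hy ▸ Ideal.subset_span ⟨i, rfl⟩
  rw [← hy, Ideal.mem_span_range_iff_exists_fun] at ha
  obtain ⟨b, hb⟩ := ha
  refine ⟨fun i => Coalgebra.counit (R := R) (b i), ?_⟩
  rw [← hb, ← Finset.sum_sub_distrib]
  refine Ideal.sum_mem _ fun i _ => ?_
  have : b i * y i - Coalgebra.counit (R := R) (b i) • y i =
      (b i - algebraMap R A (Coalgebra.counit (R := R) (b i))) * y i := by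
    rw [sub_mul, Algebra.smul_def]
  rw [this, sq]
  exact Ideal.mul_mem_mul (sub_counit_mem _) (hyI i)

lemma sq_le_bot {B : Type*} [CommRing B] (J : Ideal B) (h : ∀ x ∈ J, ∀ y ∈ J, x * y = 0) :
    J ^ 2 ≤ ⊥ := by
  rw [sq, Ideal.mul_le]
  intro x hx y hy
  rw [h x hx y hy]
  exact zero_mem _

theorem projective_quot [Algebra.FormallySmooth R A] (hfg : (aug R A).FG) :
    Module.Finite R (A ⧸ I2 R A) ∧ Module.Projective R (A ⧸ I2 R A) := by
  classical
  obtain ⟨r, y, hy⟩ := Submodule.fg_iff_exists_fin_generating_family.1 hfg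
  have hy' : Ideal.span (Set.range y) = aug R A := hy
  have hyI : ∀ i, y i ∈ aug R A := fun i => hy' ▸ Ideal.subset_span ⟨i, rfl⟩
  let F := Fin r → R
  let q := Ideal.Quotient.mk (aug R A ^ 2)
  let g : F →ₗ[R] A ⧸ aug R A ^ 2 :=
    (Ideal.Quotient.mkₐ R (aug R A ^ 2)).toLinearMap ∘ₗ (Fintype.linearCombination R y)
  have hg : ∀ f : F, g f = q (∑ i, f i • y i) := fun f => rfl
  have hgI : ∀ f : F, (∑ i, f i • y i) ∈ aug R A := fun f =>
    sum_mem fun i _ => Submodule.smul_of_tower_mem _ _ (hyI i)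
  let θ : TrivSqZeroExt R F →ₐ[R] A ⧸ aug R A ^ 2 := TrivSqZeroExt.liftEquivOfComm ⟨g, by
    intro f f'
    rw [hg, hg, ← map_mul]
    rw [Ideal.Quotient.eq_zero_iff_mem, sq]
    exact Ideal.mul_mem_mul (hgI f) (hgI f')⟩
  have hθ : ∀ x : TrivSqZeroExt R F, θ x = q (algebraMap R A x.fst + ∑ i, x.snd i • y i) := by
    intro x
    rw [map_add]
    rfl
  have hθs : Function.Surjective θ := by
    intro b
    obtain ⟨a, rfl⟩ := Ideal.Quotient.mk_surjective b
    obtain ⟨c, hc⟩ := exists_combination y hy' (sub_counit_mem a)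
    refine ⟨TrivSqZeroExt.inl (Coalgebra.counit (R := R) a) + TrivSqZeroExt.inr c, ?_⟩
    rw [hθ]
    change q _ = q a
    rw [eq_comm, Ideal.Quotient.eq]
    convert hc using 1
    simp only [TrivSqZeroExt.fst_add, TrivSqZeroExt.fst_inl, TrivSqZeroExt.fst_inr, add_zero,
      TrivSqZeroExt.snd_add, TrivSqZeroExt.snd_inl, TrivSqZeroExt.snd_inr, zero_add]
    abel
  -- the first coordinate
  have hfst : ∀ (x : TrivSqZeroExt R F) (a : A), θ x = q a → x.fst = Coalgebra.counit (R := R) a := by
    intro x a h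
    rw [hθ, Ideal.Quotient.eq] at h
    have h1 := Ideal.pow_le_self two_ne_zero h
    rw [mem_aug, map_sub, map_add, Bialgebra.counit_algebraMap, mem_aug.1 (hgI x.snd), add_zero,
      sub_eq_zero] at h1
    exact h1
  have hker : IsNilpotent (RingHom.ker (θ : TrivSqZeroExt R F →+* A ⧸ aug R A ^ 2)) := by
    refine ⟨2, ?_⟩
    rw [Ideal.zero_eq_bot, eq_bot_iff]
    apply sq_le_bot
    intro x hx x' hx'
    have h1 : x.fst = 0 := by
      have := hfst x 0 (by rw [map_zero]; exact hx)
      rw [this, map_zero]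
    have h2 : x'.fst = 0 := by
      have := hfst x' 0 (by rw [map_zero]; exact hx')
      rw [this, map_zero]
    ext
    · rw [TrivSqZeroExt.fst_mul, h1, zero_mul]; rfl
    · rw [TrivSqZeroExt.snd_mul, h1, h2]; simp
  let G : A →ₐ[R] TrivSqZeroExt R F :=
    Algebra.FormallySmooth.liftOfSurjective (Ideal.Quotient.mkₐ R (aug R A ^ 2)) θ hθs hker
  have hG : ∀ a, θ (G a) = q a := fun a =>
    Algebra.FormallySmooth.liftOfSurjective_apply (Ideal.Quotient.mkₐ R (aug R A ^ 2)) θ hθs hker a
  have hG2 : ∀ a ∈ aug R A ^ 2, G a = 0 := by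
    have h1 : aug R A ^ 2 ≤ RingHom.ker G := by
      rw [sq, Ideal.mul_le]
      intro a ha b hb
      rw [RingHom.mem_ker, map_mul]
      have ha' := hfst _ _ (hG a)
      have hb' := hfst _ _ (hG b)
      rw [mem_aug.1 ha] at ha'
      rw [mem_aug.1 hb] at hb'
      ext
      · rw [TrivSqZeroExt.fst_mul, ha', zero_mul]; rfl
      · rw [TrivSqZeroExt.snd_mul, ha', hb']; simp
    exact fun a ha => h1 ha
  let e := Submodule.Quotient.restrictScalarsEquiv R (aug R A ^ 2)
  let i1 : (A ⧸ I2 R A) →ₗ[R] TrivSqZeroExt R F := (I2 R A).liftQ G.toLinearMap (fun a ha => hG2 a ha)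
  let i2 : TrivSqZeroExt R F →ₗ[R] (A ⧸ I2 R A) := e.symm.toLinearMap ∘ₗ θ.toLinearMap
  have h12 : i2 ∘ₗ i1 = LinearMap.id := by
    apply Submodule.linearMap_qext
    ext a
    change e.symm (θ (G a)) = _
    rw [hG]
    rfl
  have hfree : Module.Free R (TrivSqZeroExt R F) := inferInstanceAs (Module.Free R (R × F))
  have hfin : Module.Finite R (TrivSqZeroExt R F) := inferInstanceAs (Module.Finite R (R × F))
  refine ⟨Module.Finite.of_surjective i2 fun x => ⟨i1 x, DFunLike.congr_fun h12 x⟩,
    Module.Projective.of_split i1 i2 h12⟩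

end Proj

section Graded

variable {R : Type u} [CommRing R] {A : Type u} [CommRing A] [HopfAlgebra R A]
variable {M : Type} [AddCommGroup M]
variable (p : A →ₐc[R] MonoidAlgebra R (Multiplicative M))

/-- projection of `A / I ^ 2` to the weight `m` -/
noncomputable def PQ (m : M) : (A ⧸ I2 R A) →ₗ[R] (A ⧸ I2 R A) :=
  (I2 R A).mapQ (I2 R A) (pr (conjCoact p) m) (fun _ hy => pr_mem_sq p m hy)

lemma PQ_mk (m : M) (a : A) :
    PQ p m ((I2 R A).mkQ a) = (I2 R A).mkQ (pr (conjCoact p) m a) := rfl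

lemma PQ_PQ (m : M) (x : A ⧸ I2 R A) : PQ p m (PQ p m x) = PQ p m x := by
  obtain ⟨a, rfl⟩ := (I2 R A).mkQ_surjective x
  rw [PQ_mk, PQ_mk, pr_of_mem_same _ (pr_mem_gr _ _ _)]

/-- the weight space -/
noncomputable def W (m : M) : Submodule R (A ⧸ I2 R A) := LinearMap.range (PQ p m)

/-- projection onto the weight space -/
noncomputable def toW (m : M) : (A ⧸ I2 R A) →ₗ[R] W p m := (PQ p m).rangeRestrict

lemma toW_coe (m : M) (x : A ⧸ I2 R A) : (toW p m x : A ⧸ I2 R A) = PQ p m x := rfl

lemma toW_comp_subtype (m : M) : toW p m ∘ₗ (W p m).subtype = LinearMap.id := by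
  ext ⟨x, y, rfl⟩
  exact PQ_PQ p m y

lemma finite_W [Module.Finite R (A ⧸ I2 R A)] (m : M) : Module.Finite R (W p m) :=
  Module.Finite.of_surjective (toW p m) fun x =>
    ⟨x, DFunLike.congr_fun (toW_comp_subtype p m) x⟩

lemma projective_W [Module.Projective R (A ⧸ I2 R A)] (m : M) : Module.Projective R (W p m) :=
  Module.Projective.of_split (W p m).subtype (toW p m) (toW_comp_subtype p m)

lemma exists_lift_W (m : M) (w : W p m) : ∃ x ∈ gr (conjCoact p) m, (I2 R A).mkQ x = w := by
  obtain ⟨_, y, rfl⟩ := w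
  obtain ⟨a, rfl⟩ := (I2 R A).mkQ_surjective y
  exact ⟨pr (conjCoact p) m a, pr_mem_gr _ _ _, rfl⟩

lemma mk_mem_W {m : M} {x : A} (hx : x ∈ gr (conjCoact p) m) : (I2 R A).mkQ x ∈ W p m :=
  ⟨(I2 R A).mkQ x, by rw [PQ_mk, pr_of_mem_same _ hx]⟩

lemma mem_sq_of_subsingleton {m : M} [Subsingleton (W p m)] {x : A}
    (hx : x ∈ gr (conjCoact p) m) : x ∈ aug R A ^ 2 := by
  have h1 : (⟨_, mk_mem_W p hx⟩ : W p m) = 0 := Subsingleton.elim _ _
  have h2 : (I2 R A).mkQ x = 0 := congrArg Subtype.val h1
  exact (Submodule.Quotient.mk_eq_zero _).1 h2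

lemma exists_generator {m : M} (e : W p m ≃ₗ[R] R) :
    ∃ x ∈ gr (conjCoact p) m, (∀ y ∈ gr (conjCoact p) m, ∃ r : R, y - r • x ∈ aug R A ^ 2) ∧
      ∀ r : R, r • x ∈ aug R A ^ 2 → r = 0 := by
  obtain ⟨x, hx, hxw⟩ := exists_lift_W p m (e.symm 1)
  refine ⟨x, hx, fun y hy => ⟨e ⟨_, mk_mem_W p hy⟩, ?_⟩, fun r hr => ?_⟩
  · have h1 : (⟨_, mk_mem_W p hy⟩ : W p m) = (e ⟨_, mk_mem_W p hy⟩) • e.symm 1 := by
      apply e.injective
      rw [map_smul, e.apply_symm_apply, smul_eq_mul, mul_one]
    have h2 := congrArg Subtype.val h1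
    rw [Submodule.coe_smul, ← hxw, ← map_smul] at h2
    exact (Submodule.Quotient.eq (I2 R A)).1 h2
  · have h1 : r • e.symm 1 = 0 := by
      apply Subtype.ext
      rw [Submodule.coe_smul, ← hxw, ← map_smul]
      exact (Submodule.Quotient.mk_eq_zero (I2 R A)).2 hr
    have h2 := congrArg e h1
    rwa [map_smul, e.apply_symm_apply, smul_eq_mul, mul_one, map_zero] at h2

end Graded

section BaseChange

variable {R : Type u} [CommRing R] {A : Type u} [CommRing A] [HopfAlgebra R A]
variable {M : Type} [AddCommGroup M]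
variable (p : A →ₐc[R] MonoidAlgebra R (Multiplicative M))
variable (K : Type u) [CommRing K] [Algebra R K]

/-- the square of the augmentation ideal of the base change -/
lemma aug_sq_bc : aug K (K ⊗[R] A) ^ 2 =
    (aug R A ^ 2).map (Algebra.TensorProduct.includeRight : A →ₐ[R] K ⊗[R] A) := by
  rw [aug_bc, Ideal.map_pow]

/-- reduction modulo `I ^ 2` -/
noncomputable def red : K ⊗[R] A →ₗ[K] K ⊗[R] (A ⧸ I2 R A) := (I2 R A).mkQ.baseChange K

lemma red_tmul (k : K) (a : A) : red K (k ⊗ₜ a) = k ⊗ₜ (I2 R A).mkQ a := rfl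

lemma red_surjective : Function.Surjective (red (R := R) (A := A) K) :=
  LinearMap.lTensor_surjective K (I2 R A).mkQ_surjective

lemma red_eq_zero_iff {x : K ⊗[R] A} : red K x = 0 ↔ x ∈ aug K (K ⊗[R] A) ^ 2 := by
  constructor
  · intro hx
    have key : ∀ z : K ⊗[R] (I2 R A), (I2 R A).subtype.lTensor K z ∈ aug K (K ⊗[R] A) ^ 2 := by
      intro z
      induction z using TensorProduct.induction_on with
      | zero => rw [map_zero]; exact zero_mem _
      | add x y hx hy => rw [map_add]; exact add_mem hx hy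
      | tmul k a =>
        rw [LinearMap.lTensor_tmul, aug_sq_bc]
        have : k ⊗ₜ[R] ((I2 R A).subtype a) = (k ⊗ₜ[R] (1 : A)) *
            (Algebra.TensorProduct.includeRight (a : A) : K ⊗[R] A) := by
          rw [Algebra.TensorProduct.includeRight_apply, Algebra.TensorProduct.tmul_mul_tmul,
            mul_one, one_mul]
          rfl
        rw [this]
        exact Ideal.mul_mem_left _ _ (Ideal.mem_map_of_mem _ a.2)
    obtain ⟨z, rfl⟩ := (lTensor_exact K (LinearMap.exact_subtype_mkQ (I2 R A))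
      (Submodule.mkQ_surjective _) x).1 hx
    exact key z
  · intro hx
    rw [aug_sq_bc, Ideal.map, Ideal.span] at hx
    induction hx using Submodule.closure_induction with
    | zero => rw [map_zero]
    | add x y _ _ hx hy => rw [map_add, hx, hy, add_zero]
    | smul_mem b x hx =>
      obtain ⟨a, ha, rfl⟩ := hx
      change red K (b * (1 ⊗ₜ[R] a)) = 0
      induction b using TensorProduct.induction_on with
      | zero => rw [zero_mul, map_zero]
      | add x y hx hy => rw [add_mul, map_add, hx, hy, add_zero]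
      | tmul k c =>
        rw [Algebra.TensorProduct.tmul_mul_tmul, red_tmul,
          show (I2 R A).mkQ (c * a) = 0 from
            (Submodule.Quotient.mk_eq_zero _).2 (Ideal.mul_mem_left _ _ ha), tmul_zero]

/-- projection of the base change to the weight space -/
noncomputable def piW (m : M) : K ⊗[R] A →ₗ[K] K ⊗[R] (W p m) :=
  (toW p m).baseChange K ∘ₗ red K

lemma piW_tmul (m : M) (k : K) (a : A) : piW p K m (k ⊗ₜ a) = k ⊗ₜ toW p m ((I2 R A).mkQ a) := rfl

lemma piW_surjective (m : M) : Function.Surjective (piW p K m) := by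
  have h : Function.Surjective (toW p m) := LinearMap.surjective_rangeRestrict _
  exact (LinearMap.lTensor_surjective K h).comp (red_surjective K)

lemma piW_pr (m : M) (x : K ⊗[R] A) :
    piW p K m (pr (conjCoact (bcP K p)) m x) = piW p K m x := by
  induction x using TensorProduct.induction_on with
  | zero => rw [map_zero]
  | add x y hx hy => rw [map_add, map_add, map_add, hx, hy]
  | tmul k a =>
    rw [pr_bc, piW_tmul, piW_tmul]
    congr 1
    apply Subtype.ext
    rw [toW_coe, toW_coe, PQ_mk, PQ_mk, pr_of_mem_same _ (pr_mem_gr _ _ _)]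

lemma subtype_piW (m : M) (x : K ⊗[R] A) :
    (W p m).subtype.baseChange K (piW p K m x) = red K (pr (conjCoact (bcP K p)) m x) := by
  induction x using TensorProduct.induction_on with
  | zero => simp only [map_zero]
  | add x y hx hy => simp only [map_add, hx, hy]
  | tmul k a =>
    rw [pr_bc, piW_tmul, red_tmul]
    rfl

lemma subtype_injective (m : M) : Function.Injective ((W p m).subtype.baseChange K) := by
  have h : (toW p m).baseChange K ∘ₗ (W p m).subtype.baseChange K = LinearMap.id := by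
    rw [← LinearMap.baseChange_comp, toW_comp_subtype, LinearMap.baseChange_id]
  intro x y hxy
  have h1 := congrArg ((toW p m).baseChange K) hxy
  rw [← LinearMap.comp_apply, ← LinearMap.comp_apply, h] at h1
  exact h1

/-- A homogeneous element of the base change is in `I ^ 2` iff its projection to the weight space
is zero. -/
lemma piW_eq_zero_iff {m : M} {x : K ⊗[R] A} (hx : x ∈ gr (conjCoact (bcP K p)) m) :
    piW p K m x = 0 ↔ x ∈ aug K (K ⊗[R] A) ^ 2 := by
  rw [← red_eq_zero_iff, ← pr_of_mem_same _ hx, ← subtype_piW, pr_of_mem_same _ hx]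
  constructor
  · intro h
    rw [h, map_zero]
  · intro h
    exact subtype_injective p K m (by rw [h, map_zero])

lemma piW_eq_zero_of_mem {m : M} {x : K ⊗[R] A} (hx : x ∈ aug K (K ⊗[R] A) ^ 2) :
    piW p K m x = 0 := by
  change (toW p m).baseChange K (red K x) = 0
  rw [(red_eq_zero_iff K).2 hx, map_zero]

end BaseChange

section Field

variable {R : Type u} [CommRing R] {A : Type u} [CommRing A] [HopfAlgebra R A]
variable {M : Type} [AddCommGroup M]
variable (p : A →ₐc[R] MonoidAlgebra R (Multiplicative M))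
variable (K : Type u) [Field K] [Algebra R K]

lemma isWt_iff {m : M} (hm : m ≠ 0) : IsWt (bcP K p) m ↔ Nontrivial (K ⊗[R] (W p m)) := by
  constructor
  · rintro ⟨x, hx, -, hx2⟩
    exact ⟨⟨piW p K m x, 0, fun h => hx2 ((piW_eq_zero_iff p K hx).1 h)⟩⟩
  · rintro h
    obtain ⟨w, hw⟩ := exists_ne (0 : K ⊗[R] (W p m))
    obtain ⟨x, rfl⟩ := piW_surjective p K m w
    have hx := pr_mem_gr (conjCoact (bcP K p)) m x
    refine ⟨pr (conjCoact (bcP K p)) m x, hx, counit_gr (bcP K p) hm hx, fun h => hw ?_⟩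
    rw [← piW_pr]
    exact piW_eq_zero_of_mem p K h

lemma finrank_le_one (m : M)
    (hone : ∀ x ∈ gr (conjCoact (bcP K p)) m, x ∉ aug K (K ⊗[R] A) ^ 2 →
      ∀ y ∈ gr (conjCoact (bcP K p)) m, ∃ r : K, y - r • x ∈ aug K (K ⊗[R] A) ^ 2) :
    Module.finrank K (K ⊗[R] (W p m)) ≤ 1 := by
  by_cases h : ∃ x ∈ gr (conjCoact (bcP K p)) m, x ∉ aug K (K ⊗[R] A) ^ 2
  · obtain ⟨x, hx, hx2⟩ := h
    refine _root_.finrank_le_one (piW p K m x) fun w => ?_
    obtain ⟨y, rfl⟩ := piW_surjective p K m w
    obtain ⟨r, hr⟩ := hone x hx hx2 (pr (conjCoact (bcP K p)) m y) (pr_mem_gr _ _ _)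
    refine ⟨r, ?_⟩
    have h1 := piW_eq_zero_of_mem p K (m := m) hr
    rw [map_sub, map_smul, piW_pr, sub_eq_zero] at h1
    exact h1.symm
  · push Not at h
    have : Subsingleton (K ⊗[R] (W p m)) := by
      refine subsingleton_of_forall_eq 0 fun w => ?_
      obtain ⟨y, rfl⟩ := piW_surjective p K m w
      rw [← piW_pr]
      exact piW_eq_zero_of_mem p K (h _ (pr_mem_gr _ _ _))
    rw [Module.finrank_zero_of_subsingleton]
    exact Nat.zero_le _

end Field

section Main

variable {R : Type u} [CommRing R] {A : Type u} [CommRing A] [HopfAlgebra R A]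
variable {M : Type} [AddCommGroup M]
variable (p : A →ₐc[R] MonoidAlgebra R (Multiplicative M))

/-- The weights over a connected base with trivial Picard group. -/
theorem exists_weights [PreconnectedSpace (PrimeSpectrum R)] [Nontrivial R]
    [Subsingleton (CommRing.Pic R)] [Algebra.FormallySmooth R A] (hfg : (aug R A).FG)
    (hone : ∀ (K : Type u) [Field K] [IsAlgClosed K] [Algebra R K] (m : M), m ≠ 0 →
      ∀ x ∈ gr (conjCoact (bcP K p)) m, x ∉ aug K (K ⊗[R] A) ^ 2 →
      ∀ y ∈ gr (conjCoact (bcP K p)) m, ∃ r : K, y - r • x ∈ aug K (K ⊗[R] A) ^ 2) :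
    ∃ Φ : Finset M, (0 : M) ∉ Φ ∧
      (∀ m ∉ Φ, m ≠ 0 → ∀ y ∈ gr (conjCoact p) m, y ∈ aug R A ^ 2) ∧
      (∀ a ∈ Φ, ∃ x ∈ gr (conjCoact p) a,
        (∀ y ∈ gr (conjCoact p) a, ∃ r : R, y - r • x ∈ aug R A ^ 2) ∧
        ∀ r : R, r • x ∈ aug R A ^ 2 → r = 0) ∧
      ∀ (K : Type u) [Field K] [Algebra R K] (m : M), m ≠ 0 → (IsWt (bcP K p) m ↔ m ∈ Φ) := by
  classical
  obtain ⟨hfin, hproj⟩ := projective_quot hfg
  have hfW := fun m => finite_W p m
  have hpW := fun m => projective_W p m
  have hfpW : ∀ m, Module.FinitePresentation R (W p m) :=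
    fun m => Module.finitePresentation_of_projective R _
  -- the rank
  have hrank : ∀ (K : Type u) [Field K] [Algebra R K] (m : M),
      Module.finrank K (K ⊗[R] (W p m)) = Module.rankAtStalk (R := R) (W p m)
        ((⊥ : PrimeSpectrum K).comap (algebraMap R K)) := by
    intro K _ _ m
    rw [← Module.rankAtStalk_baseChange, Module.rankAtStalk_eq_finrank_of_free]
    rfl
  have hconst : ∀ (m : M) (x y : PrimeSpectrum R),
      Module.rankAtStalk (R := R) (W p m) x = Module.rankAtStalk (R := R) (W p m) y :=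
    fun m => (Module.isLocallyConstant_rankAtStalk (R := R) (M := W p m)).apply_eq_of_preconnectedSpace
  obtain ⟨S, hS⟩ := exists_finset_wt p hfg
  obtain ⟨x0⟩ : Nonempty (PrimeSpectrum R) := inferInstance
  let d : M → ℕ := fun m => Module.rankAtStalk (R := R) (W p m) x0
  have hd : ∀ m x, Module.rankAtStalk (R := R) (W p m) x = d m := fun m x => hconst m x x0
  have hd1 : ∀ m, m ≠ 0 → d m ≤ 1 := by
    intro m hm
    let K := AlgebraicClosure x0.asIdeal.ResidueField
    have h1 := hrank K m
    rw [hd] at h1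
    rw [← h1]
    exact finrank_le_one p K m (hone K m hm)
  have hK : ∀ (K : Type u) [Field K] [Algebra R K] (m : M), m ≠ 0 →
      (IsWt (bcP K p) m ↔ d m ≠ 0) := by
    intro K _ _ m hm
    rw [isWt_iff p K hm, ← Module.finrank_pos_iff (R := K), hrank, hd, Nat.pos_iff_ne_zero]
  refine ⟨S.filter fun m => m ≠ 0 ∧ d m ≠ 0, ?_, ?_, ?_, ?_⟩
  · simp
  · intro m hm hm0 y hy
    by_cases hmS : m ∈ S
    · have : d m = 0 := by
        by_contra h
        exact hm (Finset.mem_filter.2 ⟨hmS, hm0, h⟩)
      have hsub : Subsingleton (W p m) := by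
        rw [← Module.rankAtStalk_eq_zero_iff_subsingleton (R := R)]
        funext x
        rw [hd, this]
        rfl
      exact mem_sq_of_subsingleton p hy
    · exact hS m hmS y hy (counit_gr p hm0 hy)
  · intro a ha
    obtain ⟨-, ha0, had⟩ := Finset.mem_filter.1 ha
    have h1 : d a = 1 := by
      have := hd1 a ha0
      omega
    obtain ⟨e⟩ := InvRank136.free_of_rank_one (R := R) (P := W p a) (fun x => by rw [hd, h1])
    exact exists_generator p e
  · intro K _ _ m hm
    rw [hK K m hm, Finset.mem_filter]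
    constructor
    · intro h
      refine ⟨?_, hm, h⟩
      by_contra hmS
      have hsub : Subsingleton (W p m) := by
        refine subsingleton_of_forall_eq 0 fun w => ?_
        obtain ⟨x, hx, hxw⟩ := exists_lift_W p m w
        apply Subtype.ext
        rw [← hxw]
        exact (Submodule.Quotient.mk_eq_zero _).2 (hS m hmS x hx (counit_gr p hm hx))
      apply h
      change Module.rankAtStalk (R := R) (W p m) x0 = 0
      rw [Module.rankAtStalk_eq_zero_of_subsingleton]
      rfl
    · exact fun h => h.2.2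

end Main

end Groth.Agent.Sga3B.RootWt136
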