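import Groth.Agent.Sga3B.RootHomDict
import Groth.Agent.Sga3B.DSAff
import Groth.Agent.Sga3B.RootDatum879
import Groth.Agent.Sga3B.RootOrb

/-!
# Assembly of a splitting of a reductive group over an affine base from algebra-level data
-/

set_option autoImplicit false
universe u
open CategoryTheory MonoidalCategory CartesianMonoidalCategory MonObj GrpObj AlgebraicGeometry Limits
open scoped TensorProduct Polynomial

namespace Groth.Agent.Sga3B.SplitAssemble

open Groth.Agent.Books.AffBridge Groth.Agent.Books.DynBasic DSPts GaPts AffPts DSAff RootHomDict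
open RootDatum879 RootOrb

variable {R : Type u} [CommRing R] {A : Type u} [CommRing A] [HopfAlgebra R A]
variable {M : Type} [AddCommGroup M]

/-- the torus point attached to a (not necessarily unit valued) character. -/
lemma chAlg_comp_eq (p : A →ₐc[R] MonoidAlgebra R (Multiplicative M)) {C : Type u} [CommRing C]
    [Algebra R C] (χ : Multiplicative M →* C) :
    WithConv.toConv ((chAlg (R := R) χ).comp (p : A →ₐ[R] MonoidAlgebra R (Multiplicative M))) =
      torPt p χ.toHomUnits := by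
  apply WithConv.ofConv_injective
  change (chAlg (R := R) χ).comp _ = (evT R χ.toHomUnits).comp _
  congr 1

lemma toHomUnits_comp {C : Type u} [CommRing C] (χ : Multiplicative M →* C) (φ : M →+ M) :
    (χ.comp (AddMonoidHom.toMultiplicative φ)).toHomUnits =
      χ.toHomUnits.comp (AddMonoidHom.toMultiplicative φ) := by
  refine MonoidHom.ext fun m => Units.ext rfl

section

variable {G T : Over (Spec (CommRingCat.of R))} [GrpObj G] [GrpObj T]

/-- A constant point. -/
noncomputable def cstPt (e : G ≅ SpecOver R A) (n : WithConv (A →ₐ[R] R)) :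
    𝟙_ (Over (Spec (CommRingCat.of R))) ⟶ G :=
  affPt _ ((Algebra.ofId R (Fn (𝟙_ (Over (Spec (CommRingCat.of R)))))).comp n.ofConv) ≫ e.inv

omit [GrpObj G] in
lemma comp_cstPt (e : G ≅ SpecOver R A) (n : WithConv (A →ₐ[R] R))
    (X : Over (Spec (CommRingCat.of R))) :
    (toUnit X ≫ cstPt e n) ≫ e.hom = affPt X (mapPt (Algebra.ofId R (Fn X)) n).ofConv := by
  rw [cstPt, Category.assoc, Category.assoc, Iso.inv_hom_id, Category.comp_id, comp_affPt,
    ← AlgHom.comp_assoc]
  congr 2

/-- A point `n` of `G` normalizing the torus and acting on it through `φ : M → M`. -/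
theorem refl_of_pt (i : T ⟶ G) 
    (sp : Grp.mk T ≅ Grp.mk (Red.DS (Spec (CommRingCat.of R)) M)) (e : G ≅ SpecOver R A) [IsMonHom e.hom]
    (p : A →ₐc[R] MonoidAlgebra R (Multiplicative M))
    (hp : ∀ (X : Over (Spec (CommRingCat.of R))) (t : X ⟶ T),
        t ≫ i ≫ e.hom = affPt X ((chAlg (fnChar (t ≫ sp.hom.hom.hom))).comp (p : A →ₐ[R] _)))
    (φ : M →+ M) (n : WithConv (A →ₐ[R] R))
    (hn : ∀ (C : Type u) [CommRing C] [Algebra R C] (t : Multiplicative M →* Cˣ),
      mapPt (Algebra.ofId R C) n * torPt p t * (mapPt (Algebra.ofId R C) n)⁻¹ =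
        torPt p (t.comp (AddMonoidHom.toMultiplicative φ))) :
    ∀ (X : Over (Spec (CommRingCat.of R))) (t : X ⟶ T),
      (toUnit X ≫ cstPt e n) * (t ≫ i) * (toUnit X ≫ cstPt e n)⁻¹ =
      t ≫ sp.hom.hom.hom ≫ Red.DSmap (Spec (CommRingCat.of R)) φ ≫ sp.inv.hom.hom ≫ i := by
  intro X t
  have hsp : sp.inv.hom.hom ≫ sp.hom.hom.hom = 𝟙 _ := congrArg (fun f => f.hom.hom) sp.inv_hom_id
  rw [← cancel_mono e.hom, MonObj.mul_comp, MonObj.mul_comp, GrpObj.inv_comp, comp_cstPt]
  rw [Category.assoc, hp]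
  have h1 : (t ≫ sp.hom.hom.hom ≫ Red.DSmap (Spec (CommRingCat.of R)) φ ≫ sp.inv.hom.hom ≫ i) ≫ e.hom =
      (t ≫ sp.hom.hom.hom ≫ Red.DSmap (Spec (CommRingCat.of R)) φ ≫ sp.inv.hom.hom) ≫ i ≫ e.hom := by
    simp only [Category.assoc]
  have h2 : (t ≫ sp.hom.hom.hom ≫ Red.DSmap (Spec (CommRingCat.of R)) φ ≫ sp.inv.hom.hom) ≫
      sp.hom.hom.hom = (t ≫ sp.hom.hom.hom) ≫ Red.DSmap (Spec (CommRingCat.of R)) φ := by
    simp only [Category.assoc, hsp, Category.comp_id]
  rw [h1, hp, h2]
  have h3 : fnChar ((t ≫ sp.hom.hom.hom) ≫ Red.DSmap (Spec (CommRingCat.of R)) φ) =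
      (fnChar (t ≫ sp.hom.hom.hom)).comp (AddMonoidHom.toMultiplicative φ) := dsChar_DSmap _ _
  rw [h3]
  set χ : Multiplicative M →* Fn X := fnChar (t ≫ sp.hom.hom.hom) with hχ
  have h4 := hn (Fn X) χ.toHomUnits
  rw [← toHomUnits_comp, ← chAlg_comp_eq, ← chAlg_comp_eq] at h4
  have h5 := congrArg (fun z : WithConv (A →ₐ[R] Fn X) => affPt X z.ofConv) h4
  simp only [affPt_mul, affPt_inv] at h5
  exact h5

/-- **Assembly of a splitting.** -/
theorem exists_splitRed (hG : Red.IsReductive G) (i : T ⟶ G) (hT : Red.IsMaximalTorus i)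
    [Module.Finite ℤ M] [Module.Free ℤ M]
    (sp : Grp.mk T ≅ Grp.mk (Red.DS (Spec (CommRingCat.of R)) M)) (e : G ≅ SpecOver R A) [IsMonHom e.hom]
    (p : A →ₐc[R] MonoidAlgebra R (Multiplicative M))
    (hp : ∀ (X : Over (Spec (CommRingCat.of R))) (t : X ⟶ T),
        t ≫ i ≫ e.hom = affPt X ((chAlg (fnChar (t ≫ sp.hom.hom.hom))).comp (p : A →ₐ[R] _)))
    (Φ : Finset M) (f : {a // a ∈ Φ} → (M →+ ℤ))
    (hf : ∀ a : {a // a ∈ Φ}, f a a = 2)
    (hs : ∀ a b : {a // a ∈ Φ}, (b : M) - f a b • (a : M) ∈ Φ)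
    (W : Submonoid (AddMonoid.End M)) [Finite W]
    (hW : ∀ a : {a // a ∈ Φ}, (reflE (a : M) (f a)) ∈ W)
    (hroot : ∀ a ∈ Φ, ∃ φ : A →ₐ[R] R[X], Function.Surjective φ ∧
      (∀ (C : Type u) [CommRing C] [Algebra R C] (s t : C),
        WithConv.toConv ((Polynomial.aeval (R := R) (s + t)).comp φ) =
          WithConv.toConv ((Polynomial.aeval (R := R) s).comp φ) *
            WithConv.toConv ((Polynomial.aeval (R := R) t).comp φ)) ∧
      (∀ (C : Type u) [CommRing C] [Algebra R C] (t : Multiplicative M →* Cˣ) (s : C),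
        torPt p t * WithConv.toConv ((Polynomial.aeval (R := R) s).comp φ) * (torPt p t)⁻¹ =
          WithConv.toConv ((Polynomial.aeval (R := R) ((t (Multiplicative.ofAdd a) : C) * s)).comp φ)))
    (hrefl : ∀ a : {a // a ∈ Φ}, ∃ n : WithConv (A →ₐ[R] R),
      ∀ (C : Type u) [CommRing C] [Algebra R C] (t : Multiplicative M →* Cˣ),
        mapPt (Algebra.ofId R C) n * torPt p t * (mapPt (Algebra.ofId R C) n)⁻¹ =
          torPt p (t.comp (AddMonoidHom.toMultiplicative (refl (a : M) (f a)))))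
    (hdim : ∀ s : ↥(Spec (CommRingCat.of R)), topologicalKrullDim ↥(Red.geomFibre s G).left =
      ((Module.finrank ℤ M + Φ.card : ℕ) : WithBot ℕ∞)) :
    ∃ D : Red.SplitRed G, D.T = T ∧ HEq D.i i := by
  obtain ⟨P, hP1, hP2, hP3⟩ := exists_rootPairing Φ f hf hs W hW
  have hPr : ∀ a, (P.reflection a).toLinearMap.toAddMonoidHom = refl (a : M) (f a) := by
    intro a
    ext x
    change P.reflection a x = x - f a x • (a : M)
    rw [RootPairing.reflection_apply]
    congr 1
    have h1 : P.toLinearMap x (P.coroot a) = f a x := by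
      rw [hP1]
      exact hP3 a x
    change P.toLinearMap x (P.coroot a) • P.root a = _
    rw [h1, hP2]
  choose φ hφ1 hφ2 hφ3 using hroot
  choose n hn using hrefl
  refine ⟨{ T := T
            i := i
            M := M
            idx := {a // a ∈ Φ}
            P := P
            pairing_eq := hP1
            u := fun a => uOf e (φ a a.2)
            reductive := hG
            maximalTorus := hT
            split := sp
            rootHom := ?_
            refl := ?_
            dim_fibre := ?_ }, rfl, HEq.rfl⟩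
  · intro a
    rw [hP2]
    refine isRootHom_uOf i sp.hom.hom.hom e (p : A →ₐ[R] MonoidAlgebra R (Multiplicative M)) ?_
      (a : M) (φ a a.2) (hφ1 _ _) (fun B _ _ x y => hφ2 a a.2 B x y) ?_
    · intro X t
      exact hp X t
    · intro B _ _ χ x
      have h := hφ3 a a.2 B χ.toHomUnits x
      rw [← chAlg_comp_eq] at h
      exact h
  · intro a
    refine ⟨cstPt e (n a), ?_⟩
    rw [hPr]
    exact refl_of_pt i sp e p hp (refl (a : M) (f a)) (n a) (hn a)
  · intro s
    rw [hdim s, Fintype.card_coe]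

end

end Groth.Agent.Sga3B.SplitAssemble
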