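import Groth.Agent.Sga3B.Spread144C
import Groth.Agent.Sga3B.SplitAssemble

/-!
# From root homomorphisms and reflection points of a group scheme to algebra-level data

* `isRootAlg_of_isRootHom`, `isReflAlg_of_pt`.
-/

set_option autoImplicit false
universe u
open CategoryTheory MonoidalCategory CartesianMonoidalCategory MonObj GrpObj AlgebraicGeometry Limits
open scoped TensorProduct Polynomial

namespace Groth.Agent.Sga3B.SplitAlg144

open Groth.Agent.Books.AffBridge Groth.Agent.Books.DynBasic DSPts GaPts AffPts DSAff RootHomDict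
open RootOrb SplitAssemble Spread144

variable {R : Type u} [CommRing R] {A : Type u} [CommRing A] [HopfAlgebra R A]
variable {M : Type} [AddCommGroup M]
variable {G T : Over (Spec (CommRingCat.of R))} [GrpObj G] [GrpObj T]

/-- `Fn (Spec C) → C` -/
noncomputable abbrev toC (C : Type u) [CommRing C] [Algebra R C] : Fn (SpecOver R C) →ₐ[R] C :=
  (fnSpec (R := R) C).toAlgHom

lemma affPt_inj (X : Over (Spec (CommRingCat.of R))) {f g : WithConv (A →ₐ[R] Fn X)}
    (h : affPt X f.ofConv = affPt X g.ofConv) : f = g :=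
  WithConv.ofConv_injective ((affPt_bijective X).1 h)

/-- the algebra map of a morphism `𝔾_a ⟶ G` -/
noncomputable def phiOf (u : Red.Ga (Spec (CommRingCat.of R)) ⟶ G) (e : G ≅ SpecOver R A) :
    A →ₐ[R] R[X] := specPreimage R (gaFrom ≫ u ≫ e.hom)

omit [GrpObj G] in
lemma comp_phiOf (u : Red.Ga (Spec (CommRingCat.of R)) ⟶ G) (e : G ≅ SpecOver R A)
    {X : Over (Spec (CommRingCat.of R))} (x : X ⟶ Red.Ga (Spec (CommRingCat.of R))) :
    x ≫ u ≫ e.hom = affPt X ((Polynomial.aeval (R := R) (A := Fn X) (Red.gaFn x)).comp (phiOf u e)) := by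
  rw [← affPt_specMap, phiOf, specMap_specPreimage, ← comp_gaTo, Category.assoc,
    ← Category.assoc gaTo, gaTo_gaFrom, Category.id_comp]

instance : IsIso (gaFrom : SpecOver R R[X] ⟶ Red.Ga (Spec (CommRingCat.of R))) :=
  ⟨gaTo, gaFrom_gaTo, gaTo_gaFrom⟩

lemma surjective_of_closedImmersion {B : Type u} [CommRing B] [Algebra R B] (f : A →ₐ[R] B)
    (h : IsClosedImmersion (specMap R f).left) : Function.Surjective f := by
  have h1 : IsClosedImmersion (Spec.map (CommRingCat.ofHom f.toRingHom)) := h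
  have h4 := (IsClosedImmersion.isAffine_surjective_of_isAffine
    (Spec.map (CommRingCat.ofHom f.toRingHom))).2
  have h5 := Scheme.ΓSpecIso_naturality (CommRingCat.ofHom f.toRingHom)
  intro b
  obtain ⟨c, hc⟩ := (ConcreteCategory.bijective_of_isIso (Scheme.ΓSpecIso (CommRingCat.of B)).hom).2 b
  obtain ⟨d, hd⟩ := h4 c
  refine ⟨(Scheme.ΓSpecIso (CommRingCat.of A)).hom d, ?_⟩
  have h6 := congr(CommRingCat.Hom.hom $h5 d)
  rw [← hc, ← hd]
  exact h6.symm

omit [GrpObj G] in
lemma phiOf_surjective (u : Red.Ga (Spec (CommRingCat.of R)) ⟶ G) (e : G ≅ SpecOver R A)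
    (hu : IsClosedImmersion u.left) : Function.Surjective (phiOf u e) := by
  have h1 : IsIso (gaFrom : SpecOver R R[X] ⟶ Red.Ga (Spec (CommRingCat.of R))).left :=
    inferInstanceAs (IsIso ((Over.forget _).map
      (gaFrom : SpecOver R R[X] ⟶ Red.Ga (Spec (CommRingCat.of R)))))
  have h2 : IsIso e.hom.left := inferInstanceAs (IsIso ((Over.forget _).map e.hom))
  apply surjective_of_closedImmersion
  rw [phiOf, specMap_specPreimage, Over.comp_left, Over.comp_left]
  infer_instance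

lemma toC_aeval {C : Type u} [CommRing C] [Algebra R C] (φ : A →ₐ[R] R[X]) (x : Fn (SpecOver R C)) :
    mapPt (toC C) (WithConv.toConv ((Polynomial.aeval (R := R) (A := Fn (SpecOver R C)) x).comp φ)) =
      WithConv.toConv ((Polynomial.aeval (R := R) (fnSpec (R := R) C x)).comp φ) := by
  rw [mapPt_toConv, ← AlgHom.comp_assoc]
  congr 2
  ext
  simp

/-- the character of a unit valued character, with values in the functions -/
noncomputable def chC {C : Type u} [CommRing C] [Algebra R C] (t : Multiplicative M →* Cˣ) :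
    Multiplicative M →* Fn (SpecOver R C) :=
  ((fnSpec (R := R) C).symm.toAlgHom : C →* Fn (SpecOver R C)).comp ((Units.coeHom C).comp t)

lemma toC_chAlg {C : Type u} [CommRing C] [Algebra R C] (t : Multiplicative M →* Cˣ)
    (p : A →ₐc[R] MonoidAlgebra R (Multiplicative M)) :
    mapPt (toC C) (WithConv.toConv ((chAlg (R := R) (chC t)).comp (p : A →ₐ[R] _))) =
      torPt p t := by
  rw [mapPt_toConv, ← AlgHom.comp_assoc, comp_chAlg]
  have h : ((toC C : Fn (SpecOver R C) →ₐ[R] C) : Fn (SpecOver R C) →* C).comp (chC t) =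
      (Units.coeHom C).comp t := by
    refine MonoidHom.ext fun m => ?_
    exact (fnSpec (R := R) C).apply_symm_apply _
  rw [h]
  rfl

/-- **algebra-level root homomorphisms** -/
theorem isRootAlg_of_isRootHom (i : T ⟶ G)
    (sp : Grp.mk T ≅ Grp.mk (Red.DS (Spec (CommRingCat.of R)) M)) (e : G ≅ SpecOver R A)
    [IsMonHom e.hom] (p : A →ₐc[R] MonoidAlgebra R (Multiplicative M))
    (hp : ∀ (X : Over (Spec (CommRingCat.of R))) (t : X ⟶ T),
        t ≫ i ≫ e.hom = affPt X ((chAlg (fnChar (t ≫ sp.hom.hom.hom))).comp (p : A →ₐ[R] _)))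
    (a : M) (u : Red.Ga (Spec (CommRingCat.of R)) ⟶ G)
    (hu : Red.IsRootHom i (sp.hom.hom.hom ≫ Red.chi _ a) u) :
    IsRootAlg p a (phiOf u e) := by
  obtain ⟨h1, h2, h3⟩ := hu
  refine ⟨phiOf_surjective u e h2, ?_, ?_⟩
  · intro C _ _ s t
    let X := SpecOver R C
    let s' : Fn X := (fnSpec (R := R) C).symm s
    let t' : Fn X := (fnSpec (R := R) C).symm t
    have h4 : (gaPt X s' * gaPt X t') ≫ u ≫ e.hom =
        (gaPt X s' ≫ u ≫ e.hom) * (gaPt X t' ≫ u ≫ e.hom) := by
      rw [MonObj.mul_comp]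
    rw [comp_phiOf, comp_phiOf, comp_phiOf, gaFn_mul, gaFn_gaPt, gaFn_gaPt] at h4
    have h5 := affPt_inj X
      (f := WithConv.toConv ((Polynomial.aeval (R := R) (A := Fn X) (s' + t')).comp (phiOf u e)))
      (g := WithConv.toConv ((Polynomial.aeval (R := R) (A := Fn X) s').comp (phiOf u e)) *
        WithConv.toConv ((Polynomial.aeval (R := R) (A := Fn X) t').comp (phiOf u e))) (by
        rw [affPt_mul]; exact h4)
    have h6 := congrArg (mapPt (toC C)) h5
    rw [map_mul, toC_aeval, toC_aeval, toC_aeval, map_add] at h6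
    simp only [s', t', AlgEquiv.apply_symm_apply] at h6
    exact h6
  · intro C _ _ t s
    let X := SpecOver R C
    let s' : Fn X := (fnSpec (R := R) C).symm s
    have hsp : sp.inv.hom.hom ≫ sp.hom.hom.hom = 𝟙 _ := congrArg (fun f => f.hom.hom) sp.inv_hom_id
    let τ : X ⟶ T := dsEquiv X M (chC t) ≫ sp.inv.hom.hom
    have hτ : τ ≫ sp.hom.hom.hom = dsEquiv X M (chC t) := by
      rw [Category.assoc, hsp, Category.comp_id]
    have hτ2 : fnChar (τ ≫ sp.hom.hom.hom) = chC t := by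
      rw [hτ]
      exact dsChar_dsEquiv _
    obtain ⟨y, hy1, hy2⟩ := h3 X τ (gaPt X s')
    rw [← Category.assoc τ, gmFn_chi, hτ, dsChar_dsEquiv, gaFn_gaPt] at hy2
    have h4 : y ≫ u ≫ e.hom = (τ ≫ i ≫ e.hom) * (gaPt X s' ≫ u ≫ e.hom) * (τ ≫ i ≫ e.hom)⁻¹ := by
      rw [← Category.assoc, hy1, MonObj.mul_comp, MonObj.mul_comp, GrpObj.inv_comp]
      simp only [Category.assoc]
    rw [comp_phiOf, comp_phiOf, hp, hτ2, gaFn_gaPt, hy2] at h4
    have h5 := affPt_inj X
      (f := WithConv.toConv ((Polynomial.aeval (R := R) (A := Fn X)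
        (chC t (Multiplicative.ofAdd a) * s')).comp (phiOf u e)))
      (g := WithConv.toConv ((chAlg (R := R) (chC t)).comp (p : A →ₐ[R] _)) *
        WithConv.toConv ((Polynomial.aeval (R := R) (A := Fn X) s').comp (phiOf u e)) *
        (WithConv.toConv ((chAlg (R := R) (chC t)).comp (p : A →ₐ[R] _)))⁻¹) (by
        rw [affPt_mul, affPt_mul, affPt_inv]; exact h4)
    have h6 := congrArg (mapPt (toC C)) h5
    rw [map_mul, map_mul, map_inv, toC_aeval, toC_aeval, toC_chAlg, map_mul] at h6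
    simp only [s', AlgEquiv.apply_symm_apply] at h6
    rw [← h6]
    congr 3
    congr 1
    exact (fnSpec (R := R) C).apply_symm_apply _

/-- The unique morphism to `Spec R`. -/
lemma toUnit_eq (X : Over (Spec (CommRingCat.of R))) :
    toUnit X = affPt X (Algebra.ofId R (Fn X)) ≫ toUnit (SpecOver R R) := toUnit_unique _ _

/-- **algebra-level reflection points** -/
theorem isReflAlg_of_pt (i : T ⟶ G)
    (sp : Grp.mk T ≅ Grp.mk (Red.DS (Spec (CommRingCat.of R)) M)) (e : G ≅ SpecOver R A)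
    [IsMonHom e.hom] (p : A →ₐc[R] MonoidAlgebra R (Multiplicative M))
    (hp : ∀ (X : Over (Spec (CommRingCat.of R))) (t : X ⟶ T),
        t ≫ i ≫ e.hom = affPt X ((chAlg (fnChar (t ≫ sp.hom.hom.hom))).comp (p : A →ₐ[R] _)))
    (φ : M →+ M) (n : 𝟙_ (Over (Spec (CommRingCat.of R))) ⟶ G)
    (hn : ∀ (X : Over (Spec (CommRingCat.of R))) (t : X ⟶ T),
      (toUnit X ≫ n) * (t ≫ i) * (toUnit X ≫ n)⁻¹ =
      t ≫ sp.hom.hom.hom ≫ Red.DSmap (Spec (CommRingCat.of R)) φ ≫ sp.inv.hom.hom ≫ i) :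
    IsReflAlg p φ (WithConv.toConv (specPreimage R (toUnit (SpecOver R R) ≫ n ≫ e.hom))) := by
  intro C _ _ t
  let X := SpecOver R C
  have hsp : sp.inv.hom.hom ≫ sp.hom.hom.hom = 𝟙 _ := congrArg (fun f => f.hom.hom) sp.inv_hom_id
  let τ : X ⟶ T := dsEquiv X M (chC t) ≫ sp.inv.hom.hom
  have hτ : τ ≫ sp.hom.hom.hom = dsEquiv X M (chC t) := by
    rw [Category.assoc, hsp, Category.comp_id]
  have hτ2 : fnChar (τ ≫ sp.hom.hom.hom) = chC t := by
    rw [hτ]
    exact dsChar_dsEquiv _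
  let n0 : A →ₐ[R] R := specPreimage R (toUnit (SpecOver R R) ≫ n ≫ e.hom)
  have hn0 : toUnit X ≫ n ≫ e.hom = affPt X ((Algebra.ofId R (Fn X)).comp n0) := by
    rw [toUnit_eq, Category.assoc, ← affPt_specMap, specMap_specPreimage]
  have h4 := congrArg (fun z => z ≫ e.hom) (hn X τ)
  simp only [MonObj.mul_comp, GrpObj.inv_comp, Category.assoc] at h4
  have h5 : (τ ≫ sp.hom.hom.hom ≫ Red.DSmap (Spec (CommRingCat.of R)) φ ≫ sp.inv.hom.hom) ≫
      sp.hom.hom.hom = (τ ≫ sp.hom.hom.hom) ≫ Red.DSmap (Spec (CommRingCat.of R)) φ := by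
    simp only [Category.assoc, hsp, Category.comp_id]
  have h6 := hp X (τ ≫ sp.hom.hom.hom ≫ Red.DSmap (Spec (CommRingCat.of R)) φ ≫ sp.inv.hom.hom)
  have h7 : fnChar ((τ ≫ sp.hom.hom.hom) ≫ Red.DSmap (Spec (CommRingCat.of R)) φ) =
      chC (t.comp (AddMonoidHom.toMultiplicative φ)) := by
    refine (dsChar_DSmap φ (τ ≫ sp.hom.hom.hom)).trans ?_
    rw [hτ, dsChar_dsEquiv]
    rfl
  rw [h5, h7] at h6
  simp only [Category.assoc] at h6
  rw [h6, hp, hτ2, hn0] at h4
  have h8 := affPt_inj X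
      (f := WithConv.toConv ((Algebra.ofId R (Fn X)).comp n0) *
        WithConv.toConv ((chAlg (R := R) (chC t)).comp (p : A →ₐ[R] _)) *
        (WithConv.toConv ((Algebra.ofId R (Fn X)).comp n0))⁻¹)
      (g := WithConv.toConv ((chAlg (R := R)
        (chC (t.comp (AddMonoidHom.toMultiplicative φ)))).comp (p : A →ₐ[R] _))) (by
        rw [affPt_mul, affPt_mul, affPt_inv]; exact h4)
  have h9 := congrArg (mapPt (toC C)) h8
  have h10 : mapPt (toC C) (WithConv.toConv ((Algebra.ofId R (Fn X)).comp n0)) =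
      mapPt (Algebra.ofId R C) (WithConv.toConv n0) := by
    rw [mapPt_toConv, mapPt_toConv, ← AlgHom.comp_assoc]
    congr 2
    ext
  rw [map_mul, map_mul, map_inv, toC_chAlg, toC_chAlg, h10] at h9
  exact h9

end Groth.Agent.Sga3B.SplitAlg144
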