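import Groth.Agent.Sga3B.RootHomDict
import Groth.Agent.Sga3B.DSAff
import Groth.Agent.Sga3B.RootCert
import Groth.Agent.Books.AffBridge2

/-!
# Root homomorphisms give weights of the cotangent space

* `isWt_of_rootHom`: algebra level.
* `exists_q`: a root homomorphism `u : 𝔾_a ⟶ G ≅ Spec A` over `Spec R` is given by a surjection
  `A →ₐ[R] R[X]`.
* `isWt_of_isRootHom`: scheme level.
-/

set_option autoImplicit false
universe u
open CategoryTheory MonoidalCategory CartesianMonoidalCategory MonObj GrpObj AlgebraicGeometry Limits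
open scoped TensorProduct Polynomial
open WithConv
open Groth.Agent.Sga3B.RootCoact Groth.Agent.Sga3B.RootOrb Groth.Agent.Sga3B.RootGr
open Groth.Agent.Sga3B.RootGa Groth.Agent.Sga3B.RootCert
open Groth.Agent.Books.AffBridge
open Groth.Agent.Books.DynBasic (mapPt mapPt_apply mapPt_injective)
open Groth.Agent.Sga3B.DSPts Groth.Agent.Sga3B.GaPts Groth.Agent.Sga3B.AffPts
open Groth.Agent.Sga3B.RootHomDict Groth.Agent.Sga3B.DSAff

namespace Groth.Agent.Sga3B.SplitReduced415

section Alg

variable {R : Type u} [CommRing R] {A : Type u} [CommRing A] [HopfAlgebra R A]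
variable {M : Type} [AddCommGroup M]
variable (p : A →ₐc[R] MonoidAlgebra R (Multiplicative M))

/-- The root of an algebra level root homomorphism is a weight of the cotangent space. -/
theorem isWt_of_rootHom [Nontrivial R] (q : A →ₐ[R] R[X]) (hq : Function.Surjective q)
    (hq0 : ∀ y, Polynomial.aeval (R := R) (0 : R) (q y) = Coalgebra.counit y) {a : M}
    (h : ∀ (C : Type u) [CommRing C] [Algebra R C] (t : Multiplicative M →* Cˣ) (s : C),
      torPt p t * toConv ((Polynomial.aeval (R := R) s).comp q) * (torPt p t)⁻¹ =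
        toConv ((Polynomial.aeval (R := R) ((t (Multiplicative.ofAdd a) : C) * s)).comp q)) :
    IsWt p a := by
  obtain ⟨y₀, hy₀⟩ := hq Polynomial.X
  -- the relation at the universal point
  have h1 := h (MonoidAlgebra R[X] (Multiplicative M)) (tau M R[X]) (cst R M R[X] Polynomial.X)
  have h2 : toConv ((Polynomial.aeval (R := R) (cst R M R[X] Polynomial.X)).comp q) =
      mapPt (cst R M R[X]) (toConv q) := by
    apply WithConv.ofConv_injective
    change (Polynomial.aeval (R := R) (cst R M R[X] Polynomial.X)).comp q = (cst R M R[X]).comp q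
    congr 1
    apply Polynomial.algHom_ext
    rw [Polynomial.aeval_X]
  rw [h2] at h1
  have h3 : (orbU p p (toConv q)).ofConv y₀ =
      MonoidAlgebra.single (Multiplicative.ofAdd a) (Polynomial.X : R[X]) := by
    have h4 : orbU p p (toConv q) = _ := h1
    rw [h4]
    change (Polynomial.aeval (R := R) _) (q y₀) = _
    rw [hy₀, Polynomial.aeval_X, tau_apply, cst_apply, MonoidAlgebra.single_mul_single,
      _root_.one_mul, _root_.mul_one]
  have h5 : q (pr (conjCoact p) a y₀) = Polynomial.X := by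
    have := coeff_orbU' p p (toConv q) y₀ a
    rw [h3, MonoidAlgebra.coeff_single, Finsupp.single_eq_same] at this
    exact this.symm
  have h6 : Coalgebra.counit (R := R) (pr (conjCoact p) a y₀) = 0 := by
    have := hq0 (pr (conjCoact p) a y₀)
    rw [h5, Polynomial.aeval_X] at this
    exact this.symm
  have hgr : pr (conjCoact p) a y₀ ∈ gr (conjCoact p) a := pr_mem_gr _ _ _
  generalize pr (conjCoact p) a y₀ = z at h5 h6 hgr
  refine ⟨z, hgr, mem_aug.2 h6, fun hmem => ?_⟩
  have h7 : aug R A ≤ (Ideal.span {(Polynomial.X : R[X])}).comap q := by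
    intro y hy
    have h8 : (q y).coeff 0 = 0 := by
      have h9 := hq0 y
      rw [mem_aug.1 hy, Polynomial.coe_aeval_eq_eval, ← Polynomial.coeff_zero_eq_eval_zero] at h9
      exact h9
    exact Ideal.mem_span_singleton.2 (Polynomial.X_dvd_iff.2 h8)
  have h8 : q z ∈ (Ideal.span {(Polynomial.X : R[X])}) ^ 2 :=
    ((Ideal.pow_right_mono h7 2).trans (Ideal.le_comap_pow _ 2)) hmem
  rw [h5, Ideal.span_singleton_pow, Ideal.mem_span_singleton, Polynomial.X_pow_dvd_iff] at h8
  have := h8 1 (by norm_num)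
  rw [Polynomial.coeff_X_one] at this
  exact one_ne_zero this

end Alg

section Sch

variable {R : Type u} [CommRing R] {G T : Over (Spec (CommRingCat.of R))} [GrpObj G] [GrpObj T]
variable {A : Type u} [CommRing A] [HopfAlgebra R A]

omit [GrpObj G] in
/-- A morphism `𝔾_a ⟶ G ≅ Spec A` is given by an algebra map `A → R[X]`. -/
theorem exists_q (e : G ≅ SpecOver R A) (u : Red.Ga (Spec (CommRingCat.of R)) ⟶ G) :
    ∃ q : A →ₐ[R] R[X], uOf e q = u := by
  refine ⟨specPreimage R (gaFrom ≫ u ≫ e.hom), ?_⟩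
  rw [uOf, specMap_specPreimage]
  simp only [Category.assoc, Iso.hom_inv_id, Category.comp_id]
  rw [← Category.assoc, gaTo_gaFrom, Category.id_comp]

omit [GrpObj G] in
theorem surjective_of_isClosedImmersion (e : G ≅ SpecOver R A) (q : A →ₐ[R] R[X])
    (h : IsClosedImmersion (uOf e q).left) : Function.Surjective q := by
  rw [← Books.AffBridge2.isClosedImmersion_specMap_iff R q]
  have h1 : specMap R q = gaFrom ≫ uOf e q ≫ e.hom := by
    rw [uOf]
    simp only [Category.assoc, Iso.inv_hom_id, Category.comp_id]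
    rw [← Category.assoc, gaFrom_gaTo, Category.id_comp]
  have h0 : IsIso (gaFrom : SpecOver R R[X] ⟶ Red.Ga (Spec (CommRingCat.of R))) :=
    ⟨gaTo, gaFrom_gaTo, gaTo_gaFrom⟩
  have h2 : IsIso (gaFrom : SpecOver R R[X] ⟶ Red.Ga (Spec (CommRingCat.of R))).left :=
    inferInstanceAs (IsIso ((Over.forget _).map gaFrom))
  have h3 : IsIso e.hom.left := inferInstanceAs (IsIso ((Over.forget _).map e.hom))
  rw [h1, Over.comp_left, Over.comp_left]
  infer_instance

theorem isWt_of_isRootHom [Nontrivial R] (i : T ⟶ G) [IsMonHom i] {M : Type} [AddCommGroup M]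
    (sp : Grp.mk T ≅ Grp.mk (Red.DS (Spec (CommRingCat.of R)) M)) (e : G ≅ SpecOver R A)
    [IsMonHom e.hom] (π : A →ₐc[R] MonoidAlgebra R (Multiplicative M))
    (hπ : ∀ (X : Over (Spec (CommRingCat.of R))) (t : X ⟶ T),
        t ≫ i ≫ e.hom = affPt X ((chAlg (fnChar (t ≫ sp.hom.hom.hom))).comp (π : A →ₐ[R] _)))
    {a : M} (u : Red.Ga (Spec (CommRingCat.of R)) ⟶ G)
    (hu : Red.IsRootHom i (sp.hom.hom.hom ≫ Red.chi _ a) u) : IsWt π a := by
  obtain ⟨q, rfl⟩ := exists_q e u
  obtain ⟨hmon, hcl, hconj⟩ := hu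
  refine isWt_of_rootHom π q (surjective_of_isClosedImmersion e q hcl) ?_ ?_
  · intro y
    let X := SpecOver R R
    have h1 : (1 : X ⟶ Red.Ga _) ≫ uOf e q ≫ e.hom = 1 := by
      rw [MonObj.one_comp]
    rw [comp_uOf, gaFn_one, ← map_one (affEquiv (A := A) X), affEquiv_apply] at h1
    have h2 := DFunLike.congr_fun ((affPt_bijective X).1 h1) y
    have h3 := congrArg (fnSpec (R := R) R) h2
    rw [AlgHom.comp_apply] at h3
    have h4 : ∀ f : R[X], fnSpec (R := R) R (Polynomial.aeval (R := R) (A := Fn X) 0 f) =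
        Polynomial.aeval (R := R) (0 : R) f := by
      intro f
      have : ((fnSpec (R := R) R : Fn X ≃ₐ[R] R) : Fn X →ₐ[R] R).comp
          (Polynomial.aeval (R := R) (A := Fn X) 0) = Polynomial.aeval (R := R) (0 : R) := by
        apply Polynomial.algHom_ext
        rw [AlgHom.comp_apply, Polynomial.aeval_X, Polynomial.aeval_X, map_zero]
      exact DFunLike.congr_fun this f
    have h5 : (1 : WithConv (A →ₐ[R] Fn X)).ofConv y =
        algebraMap R (Fn X) (Coalgebra.counit (R := R) y) := by
      rw [AlgHom.convOne_def]; rfl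
    refine ((h4 (q y)).symm.trans h3).trans ?_
    rw [h5]
    exact (fnSpec (R := R) R).commutes _
  · intro C _ _ t s
    let X := SpecOver R C
    let E : Fn X ≃ₐ[R] C := fnSpec (R := R) C
    let χ : Multiplicative M →* Fn X := (E.symm : C →* Fn X).comp ((Units.coeHom C).comp t)
    have hχ : ∀ m, E (χ m) = t m := fun m => E.apply_symm_apply _
    let t' : X ⟶ Red.DS _ M := dsEquiv X M χ
    let tt : X ⟶ T := t' ≫ sp.inv.hom.hom
    let x : X ⟶ Red.Ga _ := gaPt X (E.symm s)
    obtain ⟨y, hy1, hy2⟩ := hconj X tt x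
    have hsp : sp.inv.hom.hom ≫ sp.hom.hom.hom = 𝟙 _ := congrArg (fun f => f.hom.hom) sp.inv_hom_id
    have htt : tt ≫ sp.hom.hom.hom = t' := by
      change (t' ≫ sp.inv.hom.hom) ≫ sp.hom.hom.hom = t'
      rw [Category.assoc, hsp, Category.comp_id]
    have hg : Red.gaFn y = χ (Multiplicative.ofAdd a) * E.symm s := by
      rw [hy2, ← Category.assoc tt, htt, gmFn_chi, gaFn_gaPt]
      change dsChar (dsEquiv X M χ) _ * _ = _
      rw [dsChar_dsEquiv]
      rfl
    have h5 : y ≫ uOf e q ≫ e.hom =
        (tt ≫ i ≫ e.hom) * (x ≫ uOf e q ≫ e.hom) * (tt ≫ i ≫ e.hom)⁻¹ := by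
      rw [← Category.assoc y, hy1, MonObj.mul_comp, MonObj.mul_comp, GrpObj.inv_comp]
      simp only [Category.assoc]
    have hfc : fnChar t' = χ := dsChar_dsEquiv χ
    rw [comp_uOf, comp_uOf, hπ, htt, hg, gaFn_gaPt, hfc] at h5
    have h6 : toConv ((Polynomial.aeval (R := R) (χ (Multiplicative.ofAdd a) * E.symm s)).comp q) =
        toConv ((chAlg χ).comp (π : A →ₐ[R] _)) * toConv ((Polynomial.aeval (R := R) (E.symm s)).comp q) *
          (toConv ((chAlg χ).comp (π : A →ₐ[R] _)))⁻¹ := by
      apply (affEquiv X).injective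
      rw [map_mul, map_mul, map_inv, affEquiv_apply, affEquiv_apply, affEquiv_apply]
      exact h5
    have h7 := congrArg (mapPt (E : Fn X →ₐ[R] C)) h6
    rw [map_mul, map_mul, map_inv] at h7
    have h8 : mapPt (E : Fn X →ₐ[R] C) (toConv ((chAlg χ).comp (π : A →ₐ[R] _))) = torPt π t := by
      apply WithConv.ofConv_injective
      change (E : Fn X →ₐ[R] C).comp ((chAlg χ).comp (π : A →ₐ[R] _)) =
        (evT R t).comp (π : A →ₐ[R] _)
      rw [← AlgHom.comp_assoc]
      congr 1
      apply algHom_ext_single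
      intro m
      rw [AlgHom.comp_apply, evT_single, one_smul, MonoidAlgebra.lift_single, one_smul]
      exact hχ m
    have h9 : ∀ z : Fn X, mapPt (E : Fn X →ₐ[R] C) (toConv ((Polynomial.aeval (R := R) z).comp q)) =
        toConv ((Polynomial.aeval (R := R) (E z)).comp q) := by
      intro z
      apply WithConv.ofConv_injective
      change (E : Fn X →ₐ[R] C).comp ((Polynomial.aeval (R := R) z).comp q) =
        (Polynomial.aeval (R := R) (E z)).comp q
      rw [← AlgHom.comp_assoc]
      congr 1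
      apply Polynomial.algHom_ext
      rw [AlgHom.comp_apply, Polynomial.aeval_X, Polynomial.aeval_X]
      rfl
    rw [h8, h9, h9, map_mul, E.apply_symm_apply, hχ] at h7
    exact h7.symm

end Sch

end Groth.Agent.Sga3B.SplitReduced415
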