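import Groth.Agent.Sga3A.BCIso
import Groth.Agent.Sga3A.MTSpread
import Groth.Agent.Sga3B.RootOrb
import Mathlib.RingTheory.PolynomialAlgebra

/-!
# Spreading out root homomorphisms and reflection points from a localization

`R` a ring, `W` a submonoid, `A` a finitely presented Hopf algebra over `R`, `p : A → R[M]` a split
diagonalizable subgroup.  Root homomorphisms and reflection points over `W⁻¹R` extend to all
`R`-algebras `K` in which some `w ∈ W` is invertible.
-/

set_option autoImplicit false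
open TensorProduct WithConv Polynomial
open Groth.Agent.Books.DynBasic Groth.Agent.Sga3B.RootOrb Groth.Agent.Sga3A
universe u

namespace Groth.Agent.Sga3B.Spread144

variable {R : Type u} [CommRing R] {A : Type u} [CommRing A] [HopfAlgebra R A]
variable {M : Type} [AddCommGroup M]

section Res

variable {K : Type u} [CommRing K] [Algebra R K]
variable {C : Type u} [CommRing C] [Algebra R C] [Algebra K C] [IsScalarTower R K C]

variable (R K A C) in
/-- restriction of a point of the base change to a relative point -/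
noncomputable def resPt : WithConv (K ⊗[R] A →ₐ[K] C) →* WithConv (A →ₐ[R] C) where
  toFun f := toConv ((f.ofConv.restrictScalars R).comp Algebra.TensorProduct.includeRight)
  map_one' := by
    apply WithConv.ofConv_injective
    ext a
    change (1 : WithConv (K ⊗[R] A →ₐ[K] C)) (1 ⊗ₜ a) = (1 : WithConv (A →ₐ[R] C)) a
    rw [AlgHom.convOne_apply, AlgHom.convOne_apply, TensorProduct.counit_tmul]
    simp [Algebra.smul_def, ← IsScalarTower.algebraMap_apply]
  map_mul' f g := by
    apply WithConv.ofConv_injective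
    ext a
    change (f * g) (1 ⊗ₜ a) = (toConv ((f.ofConv.restrictScalars R).comp
      Algebra.TensorProduct.includeRight) * toConv ((g.ofConv.restrictScalars R).comp
      Algebra.TensorProduct.includeRight) : WithConv (A →ₐ[R] C)) a
    rw [AlgHom.convMul_apply, AlgHom.convMul_apply, TensorProduct.comul_tmul,
      ← (Coalgebra.Repr.arbitrary R a).eq]
    simp [tmul_sum]

lemma resPt_apply (f : WithConv (K ⊗[R] A →ₐ[K] C)) (a : A) :
    (resPt R A K C f).ofConv a = f.ofConv (1 ⊗ₜ a) := rfl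

lemma resPt_injective : Function.Injective (resPt R A K C) := by
  intro f g h
  apply WithConv.ofConv_injective
  apply Algebra.TensorProduct.ext
  · ext
  · apply AlgHom.ext
    intro a
    exact DFunLike.congr_fun (congrArg WithConv.ofConv h) a

end Res

section Pol

variable {K K' K'' : Type u} [CommRing K] [Algebra R K] [CommRing K'] [Algebra R K']
variable [CommRing K''] [Algebra R K'']
variable {C D : Type u} [CommRing C] [Algebra R C] [CommRing D] [Algebra R D]
variable {Y : Type u} [CommRing Y] [Algebra R Y]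
variable {X' : Type u} [CommRing X'] [Algebra R X']

/-- `K`-linear extension -/
noncomputable def exT (φ : X' →ₐ[R] K ⊗[R] Y) : K ⊗[R] X' →ₐ[K] K ⊗[R] Y :=
  Algebra.TensorProduct.lift (Algebra.ofId K _) φ (fun _ _ => .all _ _)

lemma exT_tmul (φ : X' →ₐ[R] K ⊗[R] Y) (k : K) (x : X') : exT φ (k ⊗ₜ x) = k • φ x := by
  rw [exT, Algebra.TensorProduct.lift_tmul, Algebra.ofId_apply, ← Algebra.smul_def]

/-- base change of a map `X → K ⊗ Y` -/
noncomputable def push (h : K →ₐ[R] K') (φ : X' →ₐ[R] K ⊗[R] Y) : X' →ₐ[R] K' ⊗[R] Y :=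
  (Algebra.TensorProduct.map h (AlgHom.id R Y)).comp φ

lemma push_apply (h : K →ₐ[R] K') (φ : X' →ₐ[R] K ⊗[R] Y) (x : X') :
    push h φ x = Algebra.TensorProduct.map h (AlgHom.id R Y) (φ x) := rfl

lemma push_push (h : K →ₐ[R] K') (h' : K' →ₐ[R] K'') (φ : X' →ₐ[R] K ⊗[R] Y) :
    push h' (push h φ) = push (h'.comp h) φ := by
  rw [push, push, push, ← AlgHom.comp_assoc, ← Algebra.TensorProduct.map_comp, AlgHom.id_comp]

lemma exT_push (h : K →ₐ[R] K') (φ : X' →ₐ[R] K ⊗[R] Y) (z : K ⊗[R] X') :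
    exT (push h φ) (Algebra.TensorProduct.map h (AlgHom.id R X') z) =
      Algebra.TensorProduct.map h (AlgHom.id R Y) (exT φ z) := by
  induction z using TensorProduct.induction_on with
  | zero => simp
  | tmul k x =>
    rw [Algebra.TensorProduct.map_tmul, exT_tmul, exT_tmul, push_apply, AlgHom.id_apply]
    generalize φ x = w
    induction w using TensorProduct.induction_on with
    | zero => simp
    | tmul k' y => simp [TensorProduct.smul_tmul']
    | add x y hx hy => rw [map_add, smul_add, smul_add, map_add, hx, hy]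
  | add x y hx hy => rw [map_add, map_add, map_add, map_add, hx, hy]

/-- evaluation of the variable -/
noncomputable def evX (g : K →ₐ[R] C) (x : C) : K ⊗[R] R[X] →ₐ[R] C :=
  Algebra.TensorProduct.lift g (aeval x) (fun _ _ => .all _ _)

lemma comp_evX (h : C →ₐ[R] D) (g : K →ₐ[R] C) (x : C) :
    h.comp (evX g x) = evX (h.comp g) (h x) := by
  apply Algebra.TensorProduct.ext
  · ext k
    simp [evX]
  · ext
    simp [evX]

lemma evX_comp_map (h : K →ₐ[R] K') (g : K' →ₐ[R] C) (x : C) :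
    (evX g x).comp (Algebra.TensorProduct.map h (AlgHom.id R R[X])) = evX (g.comp h) x := by
  apply Algebra.TensorProduct.ext
  · ext k
    simp [evX]
  · ext
    simp [evX]

/-- the point `u(x)` -/
noncomputable def pol (φ : A →ₐ[R] K ⊗[R] R[X]) (g : K →ₐ[R] C) (x : C) : WithConv (A →ₐ[R] C) :=
  toConv ((evX g x).comp φ)

lemma mapPt_pol (φ : A →ₐ[R] K ⊗[R] R[X]) (h : C →ₐ[R] D) (g : K →ₐ[R] C) (x : C) :
    mapPt h (pol φ g x) = pol φ (h.comp g) (h x) := by
  rw [pol, pol, mapPt_toConv, ← AlgHom.comp_assoc, comp_evX]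

lemma pol_push (φ : A →ₐ[R] K ⊗[R] R[X]) (h : K →ₐ[R] K') (g : K' →ₐ[R] C) (x : C) :
    pol (push h φ) g x = pol φ (g.comp h) x := by
  rw [pol, pol, push, ← AlgHom.comp_assoc, evX_comp_map]

end Pol

section Data

variable {K K' : Type u} [CommRing K] [Algebra R K] [CommRing K'] [Algebra R K']
variable (p : A →ₐc[R] MonoidAlgebra R (Multiplicative M))

/-- relative root homomorphism over `K` -/
structure IsRoot (a : M) (φ : A →ₐ[R] K ⊗[R] R[X]) : Prop where
  surj : ∃ z : K ⊗[R] A, exT φ z = 1 ⊗ₜ X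
  add : ∀ (C : Type u) [CommRing C] [Algebra R C] (g : K →ₐ[R] C) (x y : C),
    pol φ g (x + y) = pol φ g x * pol φ g y
  conj : ∀ (C : Type u) [CommRing C] [Algebra R C] (g : K →ₐ[R] C) (t : Multiplicative M →* Cˣ)
    (x : C), torPt p t * pol φ g x * (torPt p t)⁻¹ = pol φ g ((t (Multiplicative.ofAdd a) : C) * x)

/-- relative reflection point over `K` -/
def IsRefl (s : M →+ M) (n : WithConv (A →ₐ[R] K)) : Prop :=
  ∀ (C : Type u) [CommRing C] [Algebra R C] (g : K →ₐ[R] C) (t : Multiplicative M →* Cˣ),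
    mapPt g n * torPt p t * (mapPt g n)⁻¹ = torPt p (t.comp (AddMonoidHom.toMultiplicative s))

variable {p}

lemma IsRoot.push {a : M} {φ : A →ₐ[R] K ⊗[R] R[X]} (hφ : IsRoot p a φ) (h : K →ₐ[R] K') :
    IsRoot p a (push h φ) where
  surj := by
    obtain ⟨z, hz⟩ := hφ.surj
    refine ⟨Algebra.TensorProduct.map h (AlgHom.id R A) z, ?_⟩
    rw [exT_push, hz]
    simp
  add C _ _ g x y := by
    rw [pol_push, pol_push, pol_push]
    exact hφ.add C _ x y
  conj C _ _ g t x := by
    rw [pol_push, pol_push]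
    exact hφ.conj C _ t x

lemma IsRefl.push {s : M →+ M} {n : WithConv (A →ₐ[R] K)} (hn : IsRefl p s n) (h : K →ₐ[R] K') :
    IsRefl p s (mapPt h n) := by
  intro C _ _ g t
  have h1 : mapPt g (mapPt h n) = mapPt (g.comp h) n := rfl
  rw [h1]
  exact hn C _ t

variable (R K) in
/-- universal ring for the additivity -/
abbrev Y2 : Type u := K ⊗[R] (R[X] ⊗[R] R[X])

variable (R K) in
/-- universal ring for the equivariance -/
abbrev YM (M : Type) [AddCommGroup M] (Y : Type u) [CommRing Y] [Algebra R Y] : Type u :=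
  K ⊗[R] (MonoidAlgebra R (Multiplicative M) ⊗[R] Y)

variable (R K) in
/-- first variable -/
noncomputable def v1 : Y2 R K := (1 : K) ⊗ₜ[R] ((X : R[X]) ⊗ₜ[R] (1 : R[X]))

variable (R K) in
/-- second variable -/
noncomputable def v2 : Y2 R K := (1 : K) ⊗ₜ[R] ((1 : R[X]) ⊗ₜ[R] (X : R[X]))

variable (R K) in
/-- constants -/
noncomputable def iK (Y : Type u) [CommRing Y] [Algebra R Y] : K →ₐ[R] K ⊗[R] Y :=
  Algebra.TensorProduct.includeLeft

variable (R K) in
/-- variable -/
noncomputable def vM (M : Type) [AddCommGroup M] : YM R K M R[X] :=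
  (1 : K) ⊗ₜ[R] ((1 : MonoidAlgebra R (Multiplicative M)) ⊗ₜ[R] (X : R[X]))

/-- the first universal identity -/
def AddU (φ : A →ₐ[R] K ⊗[R] R[X]) : Prop :=
  pol φ (iK R K (R[X] ⊗[R] R[X])) (v1 R K + v2 R K) =
      pol φ (iK R K (R[X] ⊗[R] R[X])) (v1 R K) * pol φ (iK R K (R[X] ⊗[R] R[X])) (v2 R K)

lemma AddU.add {φ : A →ₐ[R] K ⊗[R] R[X]} (h : AddU φ)
    (C : Type u) [CommRing C] [Algebra R C] (g : K →ₐ[R] C) (x y : C) :
    pol φ g (x + y) = pol φ g x * pol φ g y := by
  let θ : Y2 R K →ₐ[R] C := Algebra.TensorProduct.lift g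
    (Algebra.TensorProduct.lift (aeval x) (aeval y) (fun _ _ => .all _ _)) (fun _ _ => .all _ _)
  have h1 := congrArg (mapPt θ) h
  have e1 : θ.comp (iK R K (R[X] ⊗[R] R[X])) = g := by
    ext k
    simp [θ, iK]
  have e2 : θ (v1 R K) = x := by simp [θ, v1]
  have e3 : θ (v2 R K) = y := by simp [θ, v2]
  rw [map_mul, mapPt_pol, mapPt_pol, mapPt_pol, e1, map_add, e2, e3] at h1
  exact h1

variable (R K M) in
/-- the universal character in `K ⊗ (R[M] ⊗ Y)` -/
noncomputable def uch (Y : Type u) [CommRing Y] [Algebra R Y] :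
    Multiplicative M →* (YM R K M Y)ˣ :=
  MonoidHom.toHomUnits
    { toFun := fun m => (1 : K) ⊗ₜ[R] (MonoidAlgebra.single m (1 : R) ⊗ₜ[R] (1 : Y))
      map_one' := rfl
      map_mul' := fun m m' => by
        simp [MonoidAlgebra.single_mul_single] }

lemma uch_apply (Y : Type u) [CommRing Y] [Algebra R Y] (m : Multiplicative M) :
    (uch R M K Y m : YM R K M Y) =
      (1 : K) ⊗ₜ[R] (MonoidAlgebra.single m (1 : R) ⊗ₜ[R] (1 : Y)) := rfl

/-- base change of a `K ⊗ Y` -/
noncomputable abbrev tm (Y : Type u) [CommRing Y] [Algebra R Y] (h : K →ₐ[R] K') :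
    K ⊗[R] Y →ₐ[R] K' ⊗[R] Y := Algebra.TensorProduct.map h (AlgHom.id R Y)

lemma tm_comp_iK (Y : Type u) [CommRing Y] [Algebra R Y] (h : K →ₐ[R] K') :
    (tm Y h).comp (iK R K Y) = (iK R K' Y).comp h := by
  ext k
  simp [iK]

lemma map_uch (Y : Type u) [CommRing Y] [Algebra R Y] (h : K →ₐ[R] K') :
    (Units.map ((tm (MonoidAlgebra R (Multiplicative M) ⊗[R] Y) h : YM R K M Y →ₐ[R] YM R K' M Y) :
      YM R K M Y →* YM R K' M Y)).comp (uch R M K Y) = uch R M K' Y := by
  refine MonoidHom.ext fun m => Units.ext ?_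
  change tm (MonoidAlgebra R (Multiplicative M) ⊗[R] Y) h
    ((1 : K) ⊗ₜ[R] (MonoidAlgebra.single m (1 : R) ⊗ₜ[R] (1 : Y))) =
      (1 : K') ⊗ₜ[R] (MonoidAlgebra.single m (1 : R) ⊗ₜ[R] (1 : Y))
  simp

section

variable {C : Type u} [CommRing C] [Algebra R C] {Y : Type u} [CommRing Y] [Algebra R Y]

/-- specialisation -/
noncomputable def spc (g : K →ₐ[R] C) (t : Multiplicative M →* Cˣ) (y : Y →ₐ[R] C) :
    YM R K M Y →ₐ[R] C :=
  Algebra.TensorProduct.lift g
    (Algebra.TensorProduct.lift (evT R t) y (fun _ _ => .all _ _)) (fun _ _ => .all _ _)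

lemma spc_uch (g : K →ₐ[R] C) (t : Multiplicative M →* Cˣ) (y : Y →ₐ[R] C) :
    (Units.map ((spc g t y : YM R K M Y →ₐ[R] C) : YM R K M Y →* C)).comp (uch R M K Y) = t := by
  refine MonoidHom.ext fun m => Units.ext ?_
  change spc g t y ((1 : K) ⊗ₜ[R] (MonoidAlgebra.single m (1 : R) ⊗ₜ[R] (1 : Y))) = _
  simp [spc]

lemma spc_comp (g : K →ₐ[R] C) (t : Multiplicative M →* Cˣ) (y : Y →ₐ[R] C) :
    (spc g t y).comp (iK R K _) = g := by
  ext k
  simp [spc, iK]

lemma spc_vM (g : K →ₐ[R] C) (t : Multiplicative M →* Cˣ) (x : C) :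
    spc g t (aeval x) (vM R K M) = x := by
  simp [spc, vM]

end

variable (p) in
/-- the second universal identity -/
def ConjU (a : M) (φ : A →ₐ[R] K ⊗[R] R[X]) : Prop :=
  torPt p (uch R M K R[X]) *
      pol φ (iK R K (MonoidAlgebra R (Multiplicative M) ⊗[R] R[X])) (vM R K M) *
        (torPt p (uch R M K R[X]))⁻¹ =
      pol φ (iK R K (MonoidAlgebra R (Multiplicative M) ⊗[R] R[X]))
        ((uch R M K R[X] (Multiplicative.ofAdd a) : YM R K M R[X]) * vM R K M)

lemma ConjU.conj {φ : A →ₐ[R] K ⊗[R] R[X]} {a : M} (h : ConjU p a φ)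
    (C : Type u) [CommRing C] [Algebra R C] (g : K →ₐ[R] C) (t : Multiplicative M →* Cˣ)
    (x : C) : torPt p t * pol φ g x * (torPt p t)⁻¹ =
      pol φ g ((t (Multiplicative.ofAdd a) : C) * x) := by
  have h1 := congrArg (mapPt (spc g t (aeval x))) h
  have h2 := spc_uch (K := K) g t (aeval x : R[X] →ₐ[R] C)
  have h3 : spc (M := M) g t (aeval x : R[X] →ₐ[R] C) (uch R M K R[X] (Multiplicative.ofAdd a) :
          YM R K M R[X]) = (t (Multiplicative.ofAdd a) : C) :=
    congrArg (fun f : Multiplicative M →* Cˣ => ((f (Multiplicative.ofAdd a) : Cˣ) : C)) h2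
  rw [map_mul, map_mul, map_inv, mapPt_pol, mapPt_pol, mapPt_torPt, h2, spc_comp, spc_vM,
    map_mul, h3, spc_vM] at h1
  exact h1

variable (p) in
/-- the third universal identity -/
def ReflU (s : M →+ M) (n : WithConv (A →ₐ[R] K)) : Prop :=
  mapPt (iK R K (MonoidAlgebra R (Multiplicative M) ⊗[R] R)) n *
        torPt p (uch R M K R) * (mapPt (iK R K (MonoidAlgebra R (Multiplicative M) ⊗[R] R)) n)⁻¹ =
      torPt p ((uch R M K R).comp (AddMonoidHom.toMultiplicative s))

lemma ReflU.isRefl {s : M →+ M} {n : WithConv (A →ₐ[R] K)} (h : ReflU p s n) : IsRefl p s n := by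
  intro C _ _ g t
  have h1 := congrArg (mapPt (spc g t (Algebra.ofId R C))) h
  have h2 := spc_uch (K := K) g t (Algebra.ofId R C)
  have h3 : mapPt (spc g t (Algebra.ofId R C))
      (mapPt (iK R K (MonoidAlgebra R (Multiplicative M) ⊗[R] R)) n) = mapPt g n := by
    change mapPt ((spc g t (Algebra.ofId R C)).comp (iK R K _)) n = _
    rw [spc_comp]
  rw [map_mul, map_mul, map_inv, h3, mapPt_torPt, mapPt_torPt, h2, ← MonoidHom.comp_assoc, h2] at h1
  exact h1

end Data

end Groth.Agent.Sga3B.Spread144
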