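import Groth.Agent.Sga3B.Spread144
import Groth.Agent.Sga3A.SpreadDiag

/-!
# Spreading out root homomorphisms and reflection points from a localization (II)

* `exists_isRoot`, `exists_isRefl`: relative root homomorphisms / reflection points over `W⁻¹R` come from `R_w`.
-/

set_option autoImplicit false
open TensorProduct WithConv Polynomial
open Groth.Agent.Books.DynBasic Groth.Agent.Sga3B.RootOrb Groth.Agent.Sga3A
open Groth.Agent.Sga3A.MTSpread
universe u

namespace Groth.Agent.Sga3B.Spread144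

section Push

variable {R : Type u} [CommRing R] {W : Submonoid R}
variable {X' Y : Type u} [CommRing X'] [Algebra R X'] [CommRing Y] [Algebra R Y]

lemma tm_eq_rT {K K' : Type u} [CommRing K] [Algebra R K] [CommRing K'] [Algebra R K']
    (h : K →ₐ[R] K') (z : K ⊗[R] Y) : tm Y h z = rT Y h z := rfl

lemma exists_push_eq [Algebra.FiniteType R X'] (w : R) (hw : w ∈ W)
    (φ φ' : X' →ₐ[R] Localization.Away w ⊗[R] Y)
    (h : push (awL W w hw) φ = push (awL W w hw) φ') :
    ∃ (w' : R) (_ : w' ∈ W) (h : w ∣ w'), push (awM w w' h) φ = push (awM w w' h) φ' := by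
  obtain ⟨s, hs⟩ := (Algebra.FiniteType.out : (⊤ : Subalgebra R X').FG)
  obtain ⟨w', hw', h', H⟩ := exists_forall_eq_zero (W := W) (s : Set X') s.finite_toSet w hw
    (fun c => φ c - φ' c) (by
    intro c _
    rw [map_sub, sub_eq_zero]
    exact DFunLike.congr_fun h c)
  refine ⟨w', hw', h', ?_⟩
  apply AlgHom.ext_of_adjoin_eq_top hs
  intro c hc
  have := H c hc
  rw [map_sub, sub_eq_zero] at this
  exact this

lemma exists_push_lift [Algebra.FinitePresentation R X'] (φ : X' →ₐ[R] Localization W ⊗[R] Y) :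
    ∃ (w : R) (hw : w ∈ W) (φ' : X' →ₐ[R] Localization.Away w ⊗[R] Y),
      push (awL W w hw) φ' = φ := by
  obtain ⟨w, hw, ψ, hψ⟩ := SpreadDiag.exists_lift W (Localization W) φ
  refine ⟨w, hw, ψ, ?_⟩
  apply AlgHom.ext
  intro x
  rw [push_apply, algHom_away_ext w (awL W w hw)
    (Groth.Agent.Etbase.SpreadAlg.awayTo W (Localization W) w hw)]
  exact hψ x

end Push

section Main

variable {R : Type u} [CommRing R] {W : Submonoid R} {A : Type u} [CommRing A] [HopfAlgebra R A]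
variable {M : Type} [AddCommGroup M] {p : A →ₐc[R] MonoidAlgebra R (Multiplicative M)}
variable {K K' : Type u} [CommRing K] [Algebra R K] [CommRing K'] [Algebra R K']

/-- equality of points spreads out -/
lemma exists_pt_eq [Algebra.FiniteType R A] {Y : Type u} [CommRing Y] [Algebra R Y] (w : R)
    (hw : w ∈ W) (x x' : WithConv (A →ₐ[R] Localization.Away w ⊗[R] Y))
    (h : mapPt (tm Y (awL W w hw)) x = mapPt (tm Y (awL W w hw)) x') :
    ∃ (w' : R) (_ : w' ∈ W) (h : w ∣ w'), mapPt (tm Y (awM w w' h)) x =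
      mapPt (tm Y (awM w w' h)) x' := by
  obtain ⟨w', hw', h', H⟩ := exists_push_eq w hw x.ofConv x'.ofConv (congrArg WithConv.ofConv h)
  exact ⟨w', hw', h', congrArg toConv H⟩

lemma map_v1 (h : K →ₐ[R] K') : tm (R[X] ⊗[R] R[X]) h (v1 R K) = v1 R K' := by simp [v1]
lemma map_v2 (h : K →ₐ[R] K') : tm (R[X] ⊗[R] R[X]) h (v2 R K) = v2 R K' := by simp [v2]
lemma map_vM (h : K →ₐ[R] K') :
    tm (MonoidAlgebra R (Multiplicative M) ⊗[R] R[X]) h (vM R K M) = vM R K' M := by simp [vM]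

lemma map_pol_univ {Y : Type u} [CommRing Y] [Algebra R Y] (φ : A →ₐ[R] K ⊗[R] R[X])
    (h : K →ₐ[R] K') (y : K ⊗[R] Y) :
    mapPt (tm Y h) (pol φ (iK R K Y) y) = pol (push h φ) (iK R K' Y) (tm Y h y) := by
  rw [mapPt_pol, pol_push, tm_comp_iK]

lemma addU_of_isRoot {a : M} {φ : A →ₐ[R] K ⊗[R] R[X]} (h : IsRoot p a φ) : AddU φ :=
  h.add _ _ _ _

lemma conjU_of_isRoot {a : M} {φ : A →ₐ[R] K ⊗[R] R[X]} (h : IsRoot p a φ) : ConjU p a φ :=
  h.conj _ _ _ _

lemma exists_addU [Algebra.FiniteType R A] (w : R) (hw : w ∈ W)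
    (φ : A →ₐ[R] Localization.Away w ⊗[R] R[X]) (h : AddU (push (awL W w hw) φ)) :
    ∃ (w' : R) (_ : w' ∈ W) (h : w ∣ w'), AddU (push (awM w w' h) φ) := by
  obtain ⟨w', hw', h', H⟩ := exists_pt_eq (W := W) w hw
    (pol φ (iK R _ (R[X] ⊗[R] R[X])) (v1 R _ + v2 R _))
    (pol φ (iK R _ (R[X] ⊗[R] R[X])) (v1 R _) * pol φ (iK R _ (R[X] ⊗[R] R[X])) (v2 R _)) (by
      rw [map_mul, map_pol_univ, map_pol_univ, map_pol_univ, map_add, map_v1, map_v2]
      exact h)
  refine ⟨w', hw', h', ?_⟩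
  rw [map_mul, map_pol_univ, map_pol_univ, map_pol_univ, map_add, map_v1, map_v2] at H
  exact H

lemma exists_conjU [Algebra.FiniteType R A] {a : M} (w : R) (hw : w ∈ W)
    (φ : A →ₐ[R] Localization.Away w ⊗[R] R[X]) (h : ConjU p a (push (awL W w hw) φ)) :
    ∃ (w' : R) (_ : w' ∈ W) (h : w ∣ w'), ConjU p a (push (awM w w' h) φ) := by
  have key : ∀ (K' : Type u) [CommRing K'] [Algebra R K'] (g : Localization.Away w →ₐ[R] K'),
      tm (MonoidAlgebra R (Multiplicative M) ⊗[R] R[X]) g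
        ((uch R M (Localization.Away w) R[X] (Multiplicative.ofAdd a) :
          YM R (Localization.Away w) M R[X])) =
      (uch R M K' R[X] (Multiplicative.ofAdd a) : YM R K' M R[X]) := by
    intro K' _ _ g
    exact congrArg (fun f : Multiplicative M →* (YM R K' M R[X])ˣ =>
      ((f (Multiplicative.ofAdd a) : (YM R K' M R[X])ˣ) : YM R K' M R[X])) (map_uch (M := M) R[X] g)
  obtain ⟨w', hw', h', H⟩ := exists_pt_eq (W := W) w hw
    (torPt p (uch R M _ R[X]) *
      pol φ (iK R _ (MonoidAlgebra R (Multiplicative M) ⊗[R] R[X])) (vM R _ M) *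
        (torPt p (uch R M _ R[X]))⁻¹)
    (pol φ (iK R _ (MonoidAlgebra R (Multiplicative M) ⊗[R] R[X]))
        ((uch R M (Localization.Away w) R[X] (Multiplicative.ofAdd a) :
          YM R (Localization.Away w) M R[X]) * vM R _ M)) (by
      rw [map_mul, map_mul, map_inv, map_pol_univ, map_pol_univ, mapPt_torPt, map_uch, map_mul,
        map_vM, key]
      exact h)
  refine ⟨w', hw', h', ?_⟩
  rw [map_mul, map_mul, map_inv, map_pol_univ, map_pol_univ, mapPt_torPt, map_uch, map_mul,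
        map_vM, key] at H
  exact H

lemma exists_reflU [Algebra.FiniteType R A] {s : M →+ M} (w : R) (hw : w ∈ W)
    (n : WithConv (A →ₐ[R] Localization.Away w)) (h : ReflU p s (mapPt (awL W w hw) n)) :
    ∃ (w' : R) (_ : w' ∈ W) (h : w ∣ w'), ReflU p s (mapPt (awM w w' h) n) := by
  have key : ∀ (K' : Type u) [CommRing K'] [Algebra R K'] (g : Localization.Away w →ₐ[R] K'),
      mapPt (tm (MonoidAlgebra R (Multiplicative M) ⊗[R] R) g)
        (mapPt (iK R (Localization.Away w) (MonoidAlgebra R (Multiplicative M) ⊗[R] R)) n) =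
      mapPt (iK R K' (MonoidAlgebra R (Multiplicative M) ⊗[R] R)) (mapPt g n) := by
    intro K' _ _ g
    change mapPt ((tm (MonoidAlgebra R (Multiplicative M) ⊗[R] R) g).comp (iK R _ _)) n = _
    rw [tm_comp_iK]
    rfl
  obtain ⟨w', hw', h', H⟩ := exists_pt_eq (W := W) w hw
    (mapPt (iK R _ (MonoidAlgebra R (Multiplicative M) ⊗[R] R)) n *
        torPt p (uch R M _ R) * (mapPt (iK R _ (MonoidAlgebra R (Multiplicative M) ⊗[R] R)) n)⁻¹)
    (torPt p ((uch R M _ R).comp (AddMonoidHom.toMultiplicative s))) (by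
      rw [map_mul, map_mul, map_inv, key, mapPt_torPt, mapPt_torPt, map_uch,
        ← MonoidHom.comp_assoc, map_uch]
      exact h)
  refine ⟨w', hw', h', ?_⟩
  rw [map_mul, map_mul, map_inv, key, mapPt_torPt, mapPt_torPt, map_uch,
        ← MonoidHom.comp_assoc, map_uch] at H
  exact H

lemma push_awL {X' Y : Type u} [CommRing X'] [Algebra R X'] [CommRing Y] [Algebra R Y]
    (w w' : R) (hw : w ∈ W) (hw' : w' ∈ W) (h : w ∣ w')
    (φ : X' →ₐ[R] Localization.Away w ⊗[R] Y) :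
    push (awL W w' hw') (push (awM w w' h) φ) = push (awL W w hw) φ := by
  rw [push_push, aw_comp _ _ _ _ _ (awL W w hw)]

lemma exists_surj (w : R) (hw : w ∈ W) (φ : A →ₐ[R] Localization.Away w ⊗[R] R[X])
    (h : ∃ z : Localization W ⊗[R] A, exT (push (awL W w hw) φ) z = 1 ⊗ₜ X) :
    ∃ (w' : R) (_ : w' ∈ W) (h : w ∣ w'), ∃ z : Localization.Away w' ⊗[R] A,
      exT (push (awM w w' h) φ) z = 1 ⊗ₜ X := by
  obtain ⟨z, hz⟩ := h
  obtain ⟨w1, hw1, z1, hz1⟩ := MTSpread.exists_lift z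
  have hw2 : w * w1 ∈ W := W.mul_mem hw hw1
  let z2 : Localization.Away (w * w1) ⊗[R] A := tm A (awM w1 (w * w1) (dvd_mul_left _ _)) z1
  have hz2 : tm A (awL W _ hw2) z2 = z := by
    change rT A _ (rT A _ z1) = z
    rw [rT_rT, aw_comp _ _ _ _ _ (awL W w1 hw1), hz1]
  let φ2 := push (awM w (w * w1) (dvd_mul_right _ _)) φ
  obtain ⟨w', hw', h', H⟩ := MTSpread.exists_eq_zero (W := W) (w * w1) hw2
    (exT φ2 z2 - (1 : Localization.Away (w * w1)) ⊗ₜ[R] (X : R[X])) (by
      rw [map_sub, ← tm_eq_rT, ← tm_eq_rT, ← exT_push, push_awL (hw := hw), hz2, hz]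
      simp)
  refine ⟨w', hw', (dvd_mul_right _ _).trans h', tm A (awM _ w' h') z2, ?_⟩
  rw [map_sub, ← tm_eq_rT, ← tm_eq_rT, ← exT_push, sub_eq_zero] at H
  have h1 : push (awM (w * w1) w' h') φ2 = push (awM w w' ((dvd_mul_right _ _).trans h')) φ := by
    rw [push_push, aw_comp _ _ _ _ _ (awM w w' ((dvd_mul_right _ _).trans h'))]
  rw [h1] at H
  rw [H]
  simp

/-- **Root homomorphisms spread out.** -/
theorem exists_isRoot [Algebra.FinitePresentation R A] {a : M}
    {φ : A →ₐ[R] Localization W ⊗[R] R[X]} (h : IsRoot p a φ) :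
    ∃ (w : R) (_ : w ∈ W) (φ' : A →ₐ[R] Localization.Away w ⊗[R] R[X]), IsRoot p a φ' := by
  obtain ⟨w0, hw0, φ0, h0⟩ := exists_push_lift φ
  obtain ⟨w1, hw1, d1, H1⟩ := exists_addU w0 hw0 φ0 (by rw [h0]; exact addU_of_isRoot h)
  generalize e1 : push (awM w0 w1 d1) φ0 = φ1 at H1
  have h1 : push (awL W w1 hw1) φ1 = φ := by
    rw [← e1]
    exact (push_awL w0 w1 hw0 hw1 d1 φ0).trans h0
  obtain ⟨w2, hw2, d2, H2⟩ := exists_conjU (p := p) (a := a) w1 hw1 φ1 (by
    rw [h1]; exact conjU_of_isRoot h)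
  generalize e2 : push (awM w1 w2 d2) φ1 = φ2 at H2
  have h2 : push (awL W w2 hw2) φ2 = φ := by
    rw [← e2]
    exact (push_awL w1 w2 hw1 hw2 d2 φ1).trans h1
  obtain ⟨w3, hw3, d3, H3⟩ := exists_surj w2 hw2 φ2 (by rw [h2]; exact h.surj)
  refine ⟨w3, hw3, push (awM w2 w3 d3) φ2, H3, ?_, ?_⟩
  · intro C _ _ g x y
    rw [pol_push, pol_push, pol_push, ← e2, pol_push, pol_push, pol_push]
    exact H1.add C _ x y
  · intro C _ _ g t x
    rw [pol_push, pol_push]
    exact H2.conj C _ t x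

/-- **Reflection points spread out.** -/
theorem exists_isRefl [Algebra.FinitePresentation R A] {s : M →+ M}
    {n : WithConv (A →ₐ[R] Localization W)} (h : IsRefl p s n) :
    ∃ (w : R) (_ : w ∈ W) (n' : WithConv (A →ₐ[R] Localization.Away w)), IsRefl p s n' := by
  obtain ⟨w0, hw0, n0, h0⟩ := Groth.Agent.Etbase.SpreadAlg.exists_lift_away W (Localization W) n.ofConv
  have h1 : mapPt (awL W w0 hw0) (toConv n0) = n := by
    rw [algHom_away_ext w0 (awL W w0 hw0)
      (Groth.Agent.Etbase.SpreadAlg.awayTo W (Localization W) w0 hw0)]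
    exact congrArg toConv h0
  obtain ⟨w1, hw1, d1, H1⟩ := exists_reflU (p := p) (s := s) w0 hw0 (toConv n0) (by
    rw [h1]
    exact h _ _ _)
  exact ⟨w1, hw1, _, H1.isRefl⟩

end Main

end Groth.Agent.Sga3B.Spread144
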