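import Groth.Agent.Sga3B.CentralTorus
import Groth.Agent.Sga3B.RedIdComp
import Groth.Agent.Sga3B.TorusAlgClosed
import Groth.Agent.Sga3B.QFHom
import Groth.Agent.Sga3C.LocConn

/-!
# Infinitesimally central normal subgroups of semisimple groups are finite
-/

set_option autoImplicit false

universe u

open CategoryTheory MonoidalCategory CartesianMonoidalCategory MonObj GrpObj AlgebraicGeometry Limits

namespace Groth.Agent.Sga3B.SsKer

open Books.AlgPts Books.AlgPtsGrp Books.AlgPtsSmooth Books.AlgPtsGen FreeBC DSAffPts AdRep RedIdComp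

variable {K : Type u} [Field K] [IsAlgClosed K]

/-- An algebraic group whose unit is an open point is discrete. -/
theorem discreteTopology_of_isOpen_pt (N : Over (Spec (CommRingCat.of K))) [GrpObj N]
    [LocallyOfFiniteType N.hom] (h : IsOpen {pt η[N]}) : DiscreteTopology N.left := by
  -- translates of the unit are open
  have h1 : ∀ g : 𝟙_ (Over (Spec (CommRingCat.of K))) ⟶ N, IsOpen {pt g} := by
    intro g
    let e := QFHom.leftTrans g
    have he : η[N] ≫ e.hom = g := by
      rw [QFHom.comp_leftTrans]
      have : toUnit (𝟙_ (Over (Spec (CommRingCat.of K)))) = 𝟙 _ := toUnit_unique _ _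
      rw [this, Category.id_comp, one_eq_one, _root_.mul_one]
    have hiso : IsIso e.hom.left := inferInstanceAs (IsIso ((Over.forget _).map e.hom))
    have h2 : {pt g} = e.hom.left '' {pt η[N]} := by
      rw [Set.image_singleton, ← pt_comp, he]
    rw [h2]
    exact e.hom.left.isOpenEmbedding.isOpenMap _ h
  rw [discreteTopology_iff_isOpen_singleton]
  intro x
  obtain ⟨g, hg⟩ := exists_pt_mem (X := N) (U := closure {x}) ⟨x, subset_closure rfl⟩
    isClosed_closure.isLocallyClosed
  have hx : x ∈ ({pt g} : Set N.left) := by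
    have : x ⤳ pt g := specializes_iff_mem_closure.mpr hg
    exact this.mem_open (h1 g) rfl
  rw [Set.mem_singleton_iff] at hx
  rw [hx]
  exact h1 g

/-- A group with trivial reduced identity component is discrete. -/
theorem discreteTopology_of_redIdComp {U N : Over (Spec (CommRingCat.of K))} [GrpObj N]
    [LocallyOfFiniteType N.hom] (u : U ⟶ N)
    (hu : Set.range u.left = connectedComponent (pt η[N])) (hU : IsIso U.hom) :
    DiscreteTopology N.left := by
  apply discreteTopology_of_isOpen_pt
  have hN : IsLocallyNoetherian N.left := LocallyOfFiniteType.isLocallyNoetherian N.hom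
  have := Sga3C.LocConn.locallyConnectedSpace_of_isLocallyNoetherian N.left
  have h1 : IsOpen (connectedComponent (pt η[N])) := isOpen_connectedComponent
  have h2 : Subsingleton U.left := by
    have h3 : Function.Injective U.hom := U.hom.isOpenEmbedding.injective
    exact h3.subsingleton
  have h3 : connectedComponent (pt η[N]) = {pt η[N]} := by
    apply Set.eq_singleton_iff_unique_mem.mpr
    refine ⟨mem_connectedComponent, ?_⟩
    have h4 : pt η[N] ∈ Set.range u.left := by rw [hu]; exact mem_connectedComponent
    obtain ⟨a, ha⟩ := h4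
    intro y hy
    rw [← hu] at hy
    obtain ⟨b, rfl⟩ := hy
    rw [← ha, Subsingleton.elim a b]
  rwa [h3] at h1

/-- A monomorphism of algebraic groups from a torus is a closed immersion. -/
theorem isClosedImmersion_of_isTorus {T G : Over (Spec (CommRingCat.of K))} [GrpObj T] [GrpObj G]
    [LocallyOfFiniteType G.hom] [IsAffine G.left] (i : T ⟶ G) [IsMonHom i] [Mono i] (hT : Red.IsTorus T) :
    IsClosedImmersion i.left := by
  have h1 := TorusAlgClosed.isAffineHom_of_isTorus hT
  have h2 := TorusAlgClosed.smooth_of_isTorus hT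
  have h3 : IsAffine T.left := isAffine_of_isAffineHom T.hom
  have h4 : LocallyOfFiniteType (i.left ≫ G.hom) := by rw [Over.w]; infer_instance
  have h5 : LocallyOfFiniteType i.left := locallyOfFiniteType_of_comp i.left G.hom
  have h6 : LocallyQuasiFinite i.left := LocallyQuasiFinite.of_injective i.left.injective
  have h7 : IsAffineHom i.left := inferInstance
  have h8 : IsFinite i.left := QFHom.isFinite_of_isAlgClosed i
  rw [IsClosedImmersion.iff_isProper_and_mono]
  exact ⟨inferInstance, inferInstance⟩

/-- A closed normal subgroup of a semisimple group which centralizes the first infinitesimal neighbourhood of the unit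
is finite. -/
theorem discreteTopology_of_isSemisimpleOver {A : Type u} [CommRing A] [Algebra K A]
    {G N : Over (Spec (CommRingCat.of K))} [GrpObj G] [GrpObj N] (hG : Red.IsSemisimpleOver K G)
    (w : DE K A ⟶ G) [IsIso w] (eW : 𝟙_ (Over (Spec (CommRingCat.of K))) ⟶ DE K A) (heW : eW ≫ w = η)
    (n : N ⟶ G) [IsMonHom n] [IsClosedImmersion n.left] (hn : AlgGrp.IsNormalHom n)
    (h : ∀ (X : Over (Spec (CommRingCat.of K))) (t : X ⟶ N) (d : X ⟶ DE K (A ⧸ augIdeal eW ^ 2)),
      (t ≫ n) * (d ≫ quotMap _ ≫ w) * (t ≫ n)⁻¹ = d ≫ quotMap _ ≫ w) :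
    DiscreteTopology N.left := by
  obtain ⟨⟨hGaff, hGsm, hGc, hred⟩, hss⟩ := hG
  have hNlft : LocallyOfFiniteType N.hom := by
    rw [← Over.w n]; infer_instance
  obtain ⟨U, _, v, hv, hvcl, hUsm, hUc, hvr⟩ := exists_redIdComp N
  have hnorm := isNormalHom_of_redIdComp n hn v hvr
  have hcl : IsClosedImmersion (v ≫ n).left := by
    rw [Over.comp_left]; infer_instance
  -- A is a noetherian domain
  have hwl : IsIso w.left := inferInstanceAs (IsIso ((Over.forget _).map w))
  have hvar : IsVar G := isVar_of_smooth G
  have hGint := hvar.isIntegral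
  have hGne : Nonempty G.left := inferInstance
  have hint : IsIntegral (Spec (CommRingCat.of A)) := by
    have hne : Nonempty ↥(Spec (CommRingCat.of A)) := ⟨(inv w.left) hGne.some⟩
    exact isIntegral_of_isOpenImmersion w.left
  have hdom : IsDomain A := (affine_isIntegral_iff (CommRingCat.of A)).mp hint
  have hft : Algebra.FiniteType K A := by
    have h1 : LocallyOfFiniteType (w.left ≫ G.hom) := inferInstance
    rw [Over.w w] at h1
    change LocallyOfFiniteType (Spec.map (CommRingCat.ofHom (algebraMap K A))) at h1
    rwa [HasRingHomProperty.Spec_iff (P := @LocallyOfFiniteType), CommRingCat.hom_ofHom,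
      RingHom.finiteType_algebraMap] at h1
  have hnoeth : IsNoetherianRing A := Algebra.FiniteType.isNoetherianRing K A
  -- U contains no torus
  have hsub : Red.HasNoSubtorus K U := by
    intro T _ j _ _ hT
    have hmono1 : Mono v := mono_of_isClosedImmersion v
    have hmono2 : Mono n := mono_of_isClosedImmersion n
    let i : T ⟶ G := j ≫ v ≫ n
    have hi : IsClosedImmersion i.left := isClosedImmersion_of_isTorus i hT
    refine hss T i hi ?_ hT
    obtain ⟨r, ⟨e⟩⟩ := TorusAlgClosed.exists_isSplitTorusWith hT
    let e' : T ≅ Red.DS (Spec (CommRingCat.of K)) (Fin r → ℤ) := (Grp.forget _).mapIso e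
    have he' : IsMonHom e'.inv := inferInstanceAs (IsMonHom e.inv.hom.hom)
    have hcen : ∀ (X : Over (Spec (CommRingCat.of K))) (t : X ⟶ Red.DS (Spec (CommRingCat.of K)) (Fin r → ℤ))
        (g : X ⟶ G), (t ≫ e'.inv ≫ i) * g = g * (t ≫ e'.inv ≫ i) := fun X t g =>
      CentralTorus.central_DS w eW heW (M := Fin r → ℤ) (e'.inv ≫ i) (by
        intro X t d
        have := h X (t ≫ e'.inv ≫ j ≫ v) d
        simpa [i] using this) t g
    intro X g t
    refine ⟨t, ?_⟩
    have h1 := hcen X (t ≫ e'.hom) g
    rw [Category.assoc, Iso.hom_inv_id_assoc] at h1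
    rw [← h1, mul_inv_cancel_right]
  have htriv := hred U (v ≫ n) hcl hUsm hUc hnorm hsub
  exact discreteTopology_of_redIdComp v hvr htriv

end Groth.Agent.Sga3B.SsKer
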