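import Groth.Agent.Sga3B.RadGlue409
import Groth.Agent.Sga3B.RG.Nullst
import Groth.Agent.Sga3B.RG.Closed
import Mathlib.RingTheory.HopfAlgebra.TensorProduct

/-!
# Isolated points along the unit section, in terms of points of a geometric fibre

Author: helper409
-/

set_option autoImplicit false
universe u

open CategoryTheory CategoryTheory.Limits AlgebraicGeometry TopologicalSpace WithConv

namespace Groth.Agent.Sga3B.SsOpen409

open Groth.Agent.Sga3B.RadGlue409 Groth.Agent.Sga3B.RG

variable {X S : Scheme.{u}}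

/-- Comparison with the fibre over an arbitrary field-valued point. -/
theorem isolated_iff_of_point (f : X ⟶ S) {K : Type u} [Field K] (t : Spec (CommRingCat.of K) ⟶ S)
    {X' : Scheme.{u}} {p : X' ⟶ X} {f' : X' ⟶ Spec (CommRingCat.of K)}
    (h : IsPullback p f' f t) (e : S ⟶ X) (he : e ≫ f = 𝟙 S) (N : Set X)
    (e' : Spec (CommRingCat.of K) ⟶ X') (he1 : e' ≫ p = t ≫ e)
    (he2 : e' ≫ f' = 𝟙 _) (x₀ : Spec (CommRingCat.of K)) :
    IsolatedAt f N (e (t x₀)) ↔ ∃ V : Set X', IsOpen V ∧ e' x₀ ∈ V ∧ ∀ y ∈ V, p y ∈ N → y = e' x₀ := by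
  obtain ⟨⟨s, φ⟩, rfl⟩ := (Scheme.SpecToEquivOfField K S).symm.surjective t
  change IsPullback p f' f (Spec.map φ ≫ S.fromSpecResidueField s) at h
  change e' ≫ p = (Spec.map φ ≫ S.fromSpecResidueField s) ≫ e at he1
  have hs : ((Scheme.SpecToEquivOfField K S).symm ⟨s, φ⟩) x₀ = s := by
    change (Spec.map φ ≫ S.fromSpecResidueField s) x₀ = s
    rw [Scheme.Hom.comp_apply]
    exact Scheme.fromSpecResidueField_apply _ _
  rw [hs]
  exact isolated_iff_of_isPullback f s φ h e he N e' he1 he2 x₀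

section Pts

variable {K : Type u} [Field K] [IsAlgClosed K] {B : Type u} [CommRing B] [HopfAlgebra K B]
  [Algebra.FiniteType K B]

/-- The prime ideal of a point. -/
def ptPrime (g : Pt K B) : PrimeSpectrum B := PrimeSpectrum.comap (g.ofConv : B →+* K) ⊥

omit [IsAlgClosed K] [Algebra.FiniteType K B] in
lemma mem_ptPrime {g : Pt K B} {b : B} : b ∈ (ptPrime g).asIdeal ↔ g b = 0 := Iff.rfl

omit [IsAlgClosed K] [Algebra.FiniteType K B] in
lemma ptPrime_injective : Function.Injective (ptPrime : Pt K B → PrimeSpectrum B) := by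
  intro g h hgh
  apply Pt.ext'
  intro a
  have h1 : a - algebraMap K B (g a) ∈ (ptPrime g).asIdeal := by
    rw [mem_ptPrime]
    change g.ofConv (a - algebraMap K B (g.ofConv a)) = 0
    rw [map_sub, AlgHom.commutes]
    exact sub_self _
  rw [hgh, mem_ptPrime] at h1
  change h.ofConv (a - algebraMap K B (g.ofConv a)) = 0 at h1
  rw [map_sub, AlgHom.commutes, sub_eq_zero] at h1
  exact h1.symm

/-- A point is isolated in a closed subset iff it is isolated among the rational points of the subset. -/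
theorem isolated_iff_pt (g₀ : Pt K B) {N : Set (PrimeSpectrum B)} (hN : IsClosed N) :
    (∃ V : Set (PrimeSpectrum B), IsOpen V ∧ ptPrime g₀ ∈ V ∧ ∀ y ∈ V, y ∈ N → y = ptPrime g₀) ↔
      ∃ b : B, g₀ b ≠ 0 ∧ ∀ g : Pt K B, ptPrime g ∈ N → g b ≠ 0 → g = g₀ := by
  constructor
  · rintro ⟨V, hV, hgV, h⟩
    obtain ⟨_, ⟨b, rfl⟩, hb1, hb2⟩ :=
      PrimeSpectrum.isTopologicalBasis_basic_opens.exists_subset_of_mem_open hgV hV
    exact ⟨b, hb1, fun g hgN hgb => ptPrime_injective (h _ (hb2 hgb) hgN)⟩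
  · rintro ⟨b, hb, h⟩
    refine ⟨PrimeSpectrum.basicOpen b, (PrimeSpectrum.basicOpen b).2, hb, fun y hy hyN => ?_⟩
    -- any rational point in the closure of `y` and in `D(b)` is `g₀`
    have key : ∀ g : Pt K B, (∀ x ∈ y.asIdeal, g x = 0) → g b ≠ 0 → g = g₀ := by
      intro g hg hgb
      refine h g ?_ hgb
      exact (PrimeSpectrum.le_iff_mem_closure y (ptPrime g)).mp hg |> fun hc =>
        (hN.closure_subset_iff.mpr (Set.singleton_subset_iff.mpr hyN)) hc
    obtain ⟨f₀, hf₀, hf₀b⟩ := exists_algHom_of_notMem_of_isPrime (K := K) (J := y.asIdeal) (a := b) hy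
    have h0 : toConv f₀ = g₀ := key (toConv f₀) hf₀ hf₀b
    have hle : y.asIdeal ≤ (ptPrime g₀).asIdeal := fun x hx => by
      rw [← h0]; exact hf₀ x hx
    apply PrimeSpectrum.ext
    refine le_antisymm hle fun c hc => ?_
    by_contra hcy
    have hbc : b * c ∉ y.asIdeal := fun hmem => (y.2.mem_or_mem hmem).elim hy hcy
    obtain ⟨f₁, hf₁, hf₁b⟩ := exists_algHom_of_notMem_of_isPrime (K := K) (J := y.asIdeal) (a := b * c) hbc
    rw [map_mul] at hf₁b
    have h1 : toConv f₁ = g₀ := key (toConv f₁) hf₁ (left_ne_zero_of_mul hf₁b)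
    refine right_ne_zero_of_mul hf₁b ?_
    rw [← h1] at hc
    exact hc

variable {R A : Type u} [CommRing R] [CommRing A] [Algebra R A] [Algebra R K] [Algebra A B] [Algebra R B]
  [IsScalarTower R K B] [IsScalarTower R A B]

omit [IsAlgClosed K] [Algebra.FiniteType K B] [IsScalarTower R K B] [IsScalarTower R A B] in
/-- The point of `Spec A` below a rational point of the geometric fibre. -/
def under (A : Type u) [CommRing A] [Algebra A B] (g : Pt K B) : PrimeSpectrum A :=
  PrimeSpectrum.comap (algebraMap A B) (ptPrime g)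

/-- `ε(s)` is isolated in the fibre of the closed set `N` iff `1` is isolated among the points of the geometric
fibre lying in `N`. -/
theorem isolatedAt_iff_pt [Algebra.IsPushout R K A B] (ε : A →ₐ[R] R)
    (hε : ∀ a, Coalgebra.counit (R := K) (algebraMap A B a) = algebraMap R K (ε a))
    {N : Set (PrimeSpectrum A)} (hN : IsClosed N) :
    IsolatedAt (Spec.map (CommRingCat.ofHom (algebraMap R A))) N
      (PrimeSpectrum.comap (ε : A →+* R) (PrimeSpectrum.comap (algebraMap R K) ⊥)) ↔
    ∃ b : B, (1 : Pt K B) b ≠ 0 ∧ ∀ g : Pt K B, under A g ∈ N → g b ≠ 0 → g = 1 := by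
  have hpo : Algebra.IsPushout R A K B := Algebra.IsPushout.symm ‹_›
  have hsq : IsPullback (Spec.map (CommRingCat.ofHom (algebraMap A B)))
      (Spec.map (CommRingCat.ofHom (algebraMap K B))) (Spec.map (CommRingCat.ofHom (algebraMap R A)))
      (Spec.map (CommRingCat.ofHom (algebraMap R K))) :=
    isPullback_SpecMap_of_isPushout _ _ _ _ (CommRingCat.isPushout_of_isPushout R A K B)
  have h := isolated_iff_of_point (Spec.map (CommRingCat.ofHom (algebraMap R A)))
    (Spec.map (CommRingCat.ofHom (algebraMap R K))) hsq (Spec.map (CommRingCat.ofHom (ε : A →+* R))) ?_ N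
    (Spec.map (CommRingCat.ofHom ((1 : Pt K B).ofConv : B →+* K))) ?_ ?_ (⊥ : PrimeSpectrum K)
  · refine Iff.trans h ?_
    exact isolated_iff_pt 1 (hN.preimage (PrimeSpectrum.continuous_comap (algebraMap A B)))
  · rw [← Spec.map_comp, ← CommRingCat.ofHom_comp]
    have : (ε : A →+* R).comp (algebraMap R A) = RingHom.id R := by
      ext r; simp
    rw [this]
    exact Spec.map_id _
  · rw [← Spec.map_comp, ← Spec.map_comp, ← CommRingCat.ofHom_comp, ← CommRingCat.ofHom_comp]
    congr 2
    ext a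
    change (1 : Pt K B) (algebraMap A B a) = algebraMap R K (ε a)
    rw [Pt.one_apply, hε]
  · rw [← Spec.map_comp, ← CommRingCat.ofHom_comp]
    have : ((1 : Pt K B).ofConv : B →+* K).comp (algebraMap K B) = RingHom.id K := by
      ext r; simp
    rw [this]
    exact Spec.map_id _

end Pts

section Final

open TensorProduct

/-- The point of `Spec A` below a rational point of `K ⊗ A`. -/
noncomputable def underT {R A K : Type u} [CommRing R] [CommRing A] [HopfAlgebra R A] [Field K] [Algebra R K]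
    (g : Pt K (K ⊗[R] A)) : PrimeSpectrum A :=
  PrimeSpectrum.comap ((g.ofConv : K ⊗[R] A →+* K).comp
    (Algebra.TensorProduct.includeRight : A →ₐ[R] K ⊗[R] A).toRingHom) ⊥

lemma mem_underT {R A K : Type u} [CommRing R] [CommRing A] [HopfAlgebra R A] [Field K] [Algebra R K]
    {g : Pt K (K ⊗[R] A)} {a : A} : a ∈ (underT g).asIdeal ↔ g ((1 : K) ⊗ₜ[R] a) = 0 := Iff.rfl

/-- Openness of the locus of points `s` such that the closed set `N` of the group `Spec A` has `1` as an isolated
point in the geometric fibre. -/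
theorem isOpen_of_forall {R A : Type u} [CommRing R] [CommRing A] [HopfAlgebra R A] [Algebra.FiniteType R A]
    {N : Set (PrimeSpectrum A)} (hN : IsClosed N)
    (hεN : ∀ s : PrimeSpectrum R, PrimeSpectrum.comap (Bialgebra.counitAlgHom R A : A →+* R) s ∈ N)
    (P : PrimeSpectrum R → Prop)
    (hP : ∀ s, ∃ (K : Type u) (_ : Field K) (_ : IsAlgClosed K) (_ : Algebra R K),
      PrimeSpectrum.comap (algebraMap R K) ⊥ = s ∧
      (P s ↔ ∃ b : K ⊗[R] A, (1 : Pt K (K ⊗[R] A)) b ≠ 0 ∧
        ∀ g : Pt K (K ⊗[R] A), underT g ∈ N → g b ≠ 0 → g = 1)) :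
    IsOpen {s | P s} := by
  have hlft : LocallyOfFiniteType (Spec.map (CommRingCat.ofHom (algebraMap R A))) := by
    rw [HasRingHomProperty.Spec_iff (P := @LocallyOfFiniteType)]
    exact RingHom.finiteType_algebraMap.mpr ‹_›
  have h := isOpen_setOf_isolated (Spec.map (CommRingCat.ofHom (algebraMap R A)))
    (PrimeSpectrum.comap (Bialgebra.counitAlgHom R A : A →+* R)) (PrimeSpectrum.continuous_comap _) hN hεN
  refine (show {s | P s} = {s : PrimeSpectrum R | IsolatedAt (Spec.map (CommRingCat.ofHom (algebraMap R A))) N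
    (PrimeSpectrum.comap (Bialgebra.counitAlgHom R A : A →+* R) s)} from Set.ext fun s => ?_) ▸ h
  obtain ⟨K, _, _, _, hs, hPs⟩ := hP s
  let _ : Algebra A (K ⊗[R] A) := Algebra.TensorProduct.rightAlgebra
  have := isolatedAt_iff_pt (K := K) (B := K ⊗[R] A) (Bialgebra.counitAlgHom R A)
    (fun a => ?_) hN
  · rw [hs] at this
    exact hPs.trans this.symm
  · change Coalgebra.counit (R := K) ((1 : K) ⊗ₜ[R] a) = _
    simp [Algebra.algebraMap_eq_smul_one]

end Final

end Groth.Agent.Sga3B.SsOpen409
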