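import Groth.Agent.Sga3B.TorusSmooth
import Groth.Agent.Sga3B.ComodGen

/-!
# Charts of the functor of homomorphisms from a diagonalisable group to a smooth affine group (algebra)

For a homomorphism `F : D(N)_X → (Spec C)_X` and a set of weights `W`, the ideal `KI ρ F W` defines the closed
complement of the open locus over which the weights of `F` on the comodule `E` lie in `W`.
-/

set_option autoImplicit false

open TensorProduct Coalgebra Bialgebra WithConv
open Groth.Agent.Sga3B.HaarDef Groth.Agent.Sga3B.TorusWt Groth.Agent.Sga3B.TorusUniv Groth.Agent.Sga3B.TorusSmooth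

namespace Groth.Agent.Sga3B.TorChartAlg

noncomputable section

universe u

variable {R : Type u} [CommRing R] {N : Type} [CommGroup N]
variable {C : Type u} [CommRing C] [HopfAlgebra R C]
variable {E : Type u} [AddCommGroup E] [Module R E] (ρ : E →ₗ[R] E ⊗[R] C)
variable {X : Type u} [CommRing X] [Algebra R X] {Y : Type u} [CommRing Y] [Algebra R Y]

/-- The ideal of all elements killing the weight spaces outside `W`. -/
def KI (F : WithConv (C →ₐ[R] MonoidAlgebra R N ⊗[R] X)) (W : Set N) : Ideal X where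
  carrier := {a | ∀ n, n ∉ W → ∀ z, a • act ρ (cf F n) z = 0}
  add_mem' := by
    intro a b ha hb n hn z
    rw [add_smul, ha n hn, hb n hn, add_zero]
  zero_mem' := by
    intro n hn z
    rw [zero_smul]
  smul_mem' := by
    intro c x hx n hn z
    rw [smul_eq_mul, mul_smul, hx n hn, smul_zero]

variable {ρ}

lemma mem_KI {F : WithConv (C →ₐ[R] MonoidAlgebra R N ⊗[R] X)} {W : Set N} {a : X} :
    a ∈ KI ρ F W ↔ ∀ n, n ∉ W → ∀ z, a • act ρ (cf F n) z = 0 := Iff.rfl

lemma KI_mono {F : WithConv (C →ₐ[R] MonoidAlgebra R N ⊗[R] X)} {W W' : Set N} (h : W ⊆ W') :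
    KI ρ F W ≤ KI ρ F W' := fun _ ha n hn z => ha n (fun h' => hn (h h')) z

lemma KI_eq_top {F : WithConv (C →ₐ[R] MonoidAlgebra R N ⊗[R] X)} {W : Set N} :
    KI ρ F W = ⊤ ↔ SuppIn ρ F W := by
  rw [Ideal.eq_top_iff_one]
  constructor
  · intro h n hn
    ext z
    have := h n hn (1 ⊗ₜ z)
    rw [one_smul] at this
    exact this
  · intro h n hn z
    rw [h n hn]
    exact smul_zero _

/-- **The open locus** where the weights lie in `W`: the complement of the closed subset defined by `KI`. -/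
theorem suppIn_iff (hρ : IsComod C ρ) [Module.Finite R E] {F : WithConv (C →ₐ[R] MonoidAlgebra R N ⊗[R] X)}
    (hF : IsHom F) {W : Set N} (h : X →ₐ[R] Y) :
    SuppIn ρ (pushG (T (MonoidAlgebra R N) h) F) W ↔ (KI ρ F W).map h = ⊤ := by
  constructor
  · intro hs
    by_contra hne
    obtain ⟨m, hm, hle⟩ := Ideal.exists_le_maximal _ hne
    let : Field (Y ⧸ m) := Ideal.Quotient.field m
    let q : Y →ₐ[R] Y ⧸ m := Ideal.Quotient.mkₐ R m
    have h1 : SuppIn ρ (pushG (T (MonoidAlgebra R N) (q.comp h)) F) W := by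
      have := hs.map q
      rwa [pushG_comp, T_comp] at this
    obtain ⟨a, ha, ha'⟩ := exists_smul_act_eq_zero hρ hF (q.comp h) h1
    apply ha
    have h2 : h a ∈ m := hle (Ideal.mem_map_of_mem h (show a ∈ KI ρ F W from ha'))
    exact Ideal.Quotient.eq_zero_iff_mem.2 h2
  · intro htop
    rw [← KI_eq_top, ← top_le_iff, ← htop, Ideal.map_le_iff_le_comap]
    intro a ha n hn z
    show h a • _ = 0
    have h1 : h a • act ρ (cf (pushG (T (MonoidAlgebra R N) h) F) n) (1 ⊗ₜ 0) = 0 := by simp
    induction z using TensorProduct.induction_on with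
    | zero => simp
    | tmul y e =>
      have h2 : (y ⊗ₜ[R] e : Y ⊗[R] E) = y • (1 ⊗ₜ[R] e) := by
        rw [TensorProduct.smul_tmul', smul_eq_mul, mul_one]
      have h3 := act_push ρ h (cf F n) (1 ⊗ₜ e)
      rw [LinearMap.rTensor_tmul, AlgHom.toLinearMap_apply, map_one] at h3
      rw [h2, map_smul, smul_comm, cf_pushG_T, ← h3, ← rTensor_smul, ha n hn, map_zero, smul_zero]
    | add z w hz hw => rw [map_add, smul_add, hz, hw, add_zero]

/-- Every homomorphism has finitely many weights. -/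
lemma exists_finset (hρ : IsComod C ρ) [Module.Finite R E] {F : WithConv (C →ₐ[R] MonoidAlgebra R N ⊗[R] X)}
    (hF : IsHom F) : ∃ W : Finset N, SuppIn ρ F (W : Set N) := by
  obtain ⟨W, hW, -⟩ := exists_finset_act hρ hF
  exact ⟨W, fun n hn => hW n (by simpa using hn)⟩

variable (R C N) in
/-- **The charts.** -/
theorem exists_charts [Algebra.Smooth R C] :
    ∃ (E : Type u) (_ : AddCommGroup E) (_ : Module R E) (_ : Module.Finite R E) (ρ : E →ₗ[R] E ⊗[R] C),
      IsComod C ρ ∧ ∀ W : Finset N, ∃ (P : Type u) (_ : CommRing P) (_ : Algebra R P)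
        (U : WithConv (C →ₐ[R] MonoidAlgebra R N ⊗[R] P)), IsHom U ∧
        (∀ (X : Type u) [CommRing X] [Algebra R X] (F : WithConv (C →ₐ[R] MonoidAlgebra R N ⊗[R] X)),
          IsHom F → SuppIn ρ F (W : Set N) → ∃ g : P →ₐ[R] X, pushG (T (MonoidAlgebra R N) g) U = F) ∧
        (∀ (X : Type u) [CommRing X] [Algebra R X] (g g' : P →ₐ[R] X),
          pushG (T (MonoidAlgebra R N) g) U = pushG (T (MonoidAlgebra R N) g') U → g = g') ∧
        ∀ a ∈ KI ρ U (W : Set N), Algebra.Smooth R (Localization.Away a) := by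
  obtain ⟨E, _, _, _, ρ, l, hρ1, hρ2, hgen⟩ := ComodGen.exists_comodule (R := R) (C := C)
  have hρ : IsComod C ρ := ⟨hρ1, hρ2⟩
  refine ⟨E, inferInstance, inferInstance, inferInstance, ρ, hρ, fun W => ?_⟩
  obtain ⟨k, e, he⟩ := Module.Finite.exists_fin (R := R) (M := E)
  obtain ⟨P, _, _, U, hfp, hU, hUW, huniv⟩ := exists_universal (fun i => mc ρ l (e i)) (adjoin_mc he hgen) W
  refine ⟨P, inferInstance, inferInstance, U, hU, ?_, ?_, ?_⟩
  · intro X _ _ F hF hs
    obtain ⟨g, hg, -⟩ := huniv X F hF (fun i n hn => hs.cf_mc l (e i) (by simpa using hn))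
    exact ⟨g, hg⟩
  · intro X _ _ g g' hgg
    obtain ⟨g₀, hg₀, h₀⟩ := huniv X (pushG (T (MonoidAlgebra R N) g) U) (hU.map g) (by
      intro i n hn
      rw [cf_pushG_T, push_apply, hUW i n hn, map_zero])
    rw [h₀ g rfl, h₀ g' hgg.symm]
  · intro a ha
    have hsm := formallySmooth_away hρ e hU huniv (a := a) ha
    have hfpa : Algebra.FinitePresentation R (Localization.Away a) :=
      Algebra.FinitePresentation.trans R P (Localization.Away a)
    exact ⟨hsm, hfpa⟩

end

end Groth.Agent.Sga3B.TorChartAlg
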