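import Groth.Agent.Sga3B.TorSmooth893

set_option autoImplicit false
universe u
open CategoryTheory MonoidalCategory CartesianMonoidalCategory MonObj GrpObj AlgebraicGeometry Limits

namespace Groth.Agent.Sga3B.TorLift893
open Groth.Agent.Sga3B.DSPts Groth.Agent.Sga3B.InfConj Groth.Agent.Sga3B.InfConjFam

section ring

variable {C : Type u} [CommRing C] {Γ : Type} [CommGroup Γ]

/-- group-like elements of `C[Γ]` -/
def IsGL (a : MonoidAlgebra C Γ) : Prop := dg C Γ a = inc₁ C Γ a * inc₂ C Γ a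

lemma single_eq_smul (γ : Γ) (c : C) :
    (MonoidAlgebra.single γ c : MonoidAlgebra C Γ) = c • MonoidAlgebra.single γ 1 := by
  simp

open Classical in
lemma coeff_dg (a : MonoidAlgebra C Γ) (γ : Γ) :
    (dg C Γ a).coeff γ = MonoidAlgebra.single γ (a.coeff γ) := by
  induction a using MonoidAlgebra.induction_linear with
  | zero => simp
  | add x y hx hy => simp [hx, hy, MonoidAlgebra.single_add]
  | single δ c =>
    rw [single_eq_smul, map_smul, dg_single]
    by_cases h : δ = γ
    · subst h; simp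
    · simp [h]

open Classical in
lemma coeff_inc₂ (a : MonoidAlgebra C Γ) (γ : Γ) :
    (inc₂ C Γ a).coeff γ = algebraMap C _ (a.coeff γ) := by
  induction a using MonoidAlgebra.induction_linear with
  | zero => simp
  | add x y hx hy => simp [hx, hy]
  | single δ c =>
    rw [single_eq_smul, map_smul, inc₂_single]
    by_cases h : δ = γ
    · subst h; simp [Algebra.smul_def]
    · simp [h]

lemma coeff_inc₁_mul (a : MonoidAlgebra C Γ) (b : MonoidAlgebra (MonoidAlgebra C Γ) Γ) (γ : Γ) :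
    (inc₁ C Γ a * b).coeff γ = a * b.coeff γ := by
  have : inc₁ C Γ a * b = a • b := by
    rw [Algebra.smul_def]; rfl
  rw [this]; simp

open Classical in
lemma gl_iff (a : MonoidAlgebra C Γ) : 
    IsGL a ↔ ∀ γ δ, a.coeff γ * a.coeff δ = if γ = δ then a.coeff γ else 0 := by
  rw [IsGL, MonoidAlgebra.ext_iff, Finsupp.ext_iff]
  have h : ∀ γ, ((dg C Γ a).coeff γ = (inc₁ C Γ a * inc₂ C Γ a).coeff γ) ↔
      ∀ δ, a.coeff γ * a.coeff δ = if γ = δ then a.coeff γ else 0 := by
    intro γ
    rw [coeff_dg, coeff_inc₁_mul, coeff_inc₂, MonoidAlgebra.ext_iff, Finsupp.ext_iff]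
    refine forall_congr' fun δ => ?_
    rw [mul_comm a, ← Algebra.smul_def]
    simp [Finsupp.single_apply, eq_comm]
  exact forall_congr' h

lemma IsGL.mul {a b : MonoidAlgebra C Γ} (ha : IsGL a) (hb : IsGL b) : IsGL (a * b) := by
  unfold IsGL at *
  rw [map_mul, map_mul, map_mul, ha, hb]; ring

lemma isGL_one : IsGL (1 : MonoidAlgebra C Γ) := by
  unfold IsGL; simp

/-- the augmentation -/
noncomputable def aug : MonoidAlgebra C Γ →ₐ[C] C := MonoidAlgebra.lift C C Γ 1

lemma aug_eq (a : MonoidAlgebra C Γ) : aug a = ∑ γ ∈ a.coeff.support, a.coeff γ := by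
  rw [aug, MonoidAlgebra.lift_apply]
  simp [Finsupp.sum]

lemma IsGL.aug_smul {a : MonoidAlgebra C Γ} (ha : IsGL a) : aug a • a = a := by
  classical
  rw [gl_iff] at ha
  ext γ
  rw [MonoidAlgebra.coeff_smul_apply, smul_eq_mul, aug_eq, Finset.sum_mul]
  simp only [ha]
  rw [Finset.sum_ite_eq' ]
  split_ifs with h
  · rfl
  · exact (Finsupp.notMem_support_iff.mp h).symm

lemma IsGL.aug_eq_one {a : MonoidAlgebra C Γ} (ha : IsGL a) (hu : IsUnit a) : aug a = 1 := by
  have h1 := ha.aug_smul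
  rw [Algebra.smul_def] at h1
  have h2 : algebraMap C (MonoidAlgebra C Γ) (aug a) = 1 := hu.mul_left_injective (by simpa using h1)
  have h3 := congrArg (aug (C := C) (Γ := Γ)) h2
  rw [AlgHom.commutes, map_one] at h3
  exact h3

/-- the reduction map `C[Γ] → (C/I)[Γ]` -/
noncomputable def red (I : Ideal C) : MonoidAlgebra C Γ →+* MonoidAlgebra (C ⧸ I) Γ :=
  MonoidAlgebra.mapRingHom Γ (Ideal.Quotient.mk I)

lemma coeff_red (I : Ideal C) (a : MonoidAlgebra C Γ) (γ : Γ) :
    (red I a).coeff γ = Ideal.Quotient.mk I (a.coeff γ) := by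
  simp [red]

lemma exists_lift_gl (I : Ideal C) (hI : I * I = ⊥) (a : MonoidAlgebra (C ⧸ I) Γ) (ha : IsGL a) (ha1 : aug a = 1) :
    ∃ b : MonoidAlgebra C Γ, IsGL b ∧ red I b = a := by
  classical
  rw [gl_iff] at ha
  let e : a.coeff.support → C ⧸ I := fun γ => a.coeff γ
  have he : CompleteOrthogonalIdempotents e := by
    refine ⟨⟨fun i => ?_, fun i j hij => ?_⟩, ?_⟩
    · have := ha i i; simpa [IsIdempotentElem, e] using this
    · have := ha i j
      rw [if_neg (fun h => hij (Subtype.ext h))] at this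
      exact this
    · rw [aug_eq] at ha1
      rw [← ha1]
      exact Finset.sum_coe_sort a.coeff.support (fun γ => a.coeff γ)
  have hnil : ∀ x ∈ RingHom.ker (Ideal.Quotient.mk I), IsNilpotent x := by
    intro x hx
    rw [Ideal.mk_ker] at hx
    refine ⟨2, ?_⟩
    have : x * x ∈ I * I := Ideal.mul_mem_mul hx hx
    rw [hI] at this
    rw [pow_two]; simpa using this
  obtain ⟨e', he', hee'⟩ := OrthogonalIdempotents.lift_of_isNilpotent_ker (Ideal.Quotient.mk I) hnil he.1
    (fun i => Ideal.Quotient.mk_surjective _)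
  let b : MonoidAlgebra C Γ := ∑ i : a.coeff.support, MonoidAlgebra.single i.1 (e' i)
  have hb : ∀ γ, b.coeff γ = if h : γ ∈ a.coeff.support then e' ⟨γ, h⟩ else 0 := by
    intro γ
    simp only [b, MonoidAlgebra.coeff_sum, Finsupp.finsetSum_apply, MonoidAlgebra.coeff_single]
    split_ifs with h
    · rw [Finset.sum_eq_single ⟨γ, h⟩]
      · simp
      · intro i _ hi
        rw [Finsupp.single_apply, if_neg]
        rintro rfl
        exact hi rfl
      · simp
    · refine Finset.sum_eq_zero fun i _ => ?_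
      rw [Finsupp.single_apply, if_neg]
      rintro rfl
      exact h i.2
  refine ⟨b, ?_, ?_⟩
  · rw [gl_iff]
    intro γ δ
    rw [hb, hb]
    by_cases h1 : γ ∈ a.coeff.support
    · by_cases h2 : δ ∈ a.coeff.support
      · rw [dif_pos h1, dif_pos h2, he'.mul_eq]
        simp
      · rw [dif_neg h2, mul_zero, if_neg]
        rintro rfl; exact h2 h1
    · rw [dif_neg h1, zero_mul]; simp
  · ext γ
    rw [coeff_red, hb]
    split_ifs with h
    · exact congrFun hee' ⟨γ, h⟩
    · rw [map_zero]; exact (Finsupp.notMem_support_iff.mp h).symm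

lemma gl_ext (I : Ideal C) (hI : I * I = ⊥) {a b : MonoidAlgebra C Γ} (ha : IsGL a) (hb : IsGL b)
    (h : red I a = red I b) : a = b := by
  classical
  rw [gl_iff] at ha hb
  ext γ
  refine eq_of_isNilpotent_sub_of_isIdempotentElem (by simpa [IsIdempotentElem] using ha γ γ)
    (by simpa [IsIdempotentElem] using hb γ γ) ?_
  have h1 : a.coeff γ - b.coeff γ ∈ I := by
    rw [← Ideal.Quotient.eq, ← coeff_red, ← coeff_red, h]
  refine ⟨2, ?_⟩
  have := Ideal.mul_mem_mul h1 h1
  rw [hI] at this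
  rw [pow_two]; simpa using this

/-- Group-like characters lift uniquely. -/
theorem exists_lift_char (I : Ideal C) (hI : I * I = ⊥) {N : Type*} [Group N]
    (χ₀ : N →* MonoidAlgebra (C ⧸ I) Γ) (h : ∀ m, IsGL (χ₀ m)) :
    ∃ χ : N →* MonoidAlgebra C Γ, (∀ m, IsGL (χ m)) ∧ ∀ m, red I (χ m) = χ₀ m := by
  choose f hf hf' using fun m => exists_lift_gl I hI (χ₀ m) (h m) ((h m).aug_eq_one ((Group.isUnit m).map χ₀))
  refine ⟨⟨⟨f, ?_⟩, ?_⟩, hf, hf'⟩
  · refine gl_ext I hI (hf 1) isGL_one ?_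
    rw [hf', map_one, map_one]
  · intro m n
    refine gl_ext I hI (hf _) ((hf m).mul (hf n)) ?_
    rw [map_mul, hf', hf', hf', map_mul]

end ring

section geom

variable {S : Scheme.{u}} {C : Type u} [CommRing C] (x : Spec (CommRingCat.of C) ⟶ S) {M : Type} [AddCommGroup M]

/-- The structure map `C → Γ(W)`. -/
noncomputable def strHom {W : Over S} (t : W ⟶ Over.mk x) : C →+* Γ(W.left, ⊤) :=
  ((Scheme.ΓSpecIso (.of C)).inv ≫ t.left.appTop).hom

lemma strHom_comp {W W' : Over S} (h : W' ⟶ W) (t : W ⟶ Over.mk x) :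
    strHom x (h ≫ t) = h.left.appTop.hom.comp (strHom x t) := by
  simp only [strHom, Over.comp_left, Scheme.Hom.comp_appTop]
  rfl

/-- Evaluation `C[M] → Γ(W)` at a point `(q, t)` of `D(M) × Spec C`. -/
noncomputable def evalHom {W : Over S} (q : W ⟶ Red.DS S M) (t : W ⟶ Over.mk x) :
    MonoidAlgebra C (Multiplicative M) →+* Γ(W.left, ⊤) :=
  MonoidAlgebra.liftNCRingHom (strHom x t) (dsChar q) (fun _ _ => .all _ _)

@[simp] lemma evalHom_single {W : Over S} (q : W ⟶ Red.DS S M) (t : W ⟶ Over.mk x) (m : Multiplicative M) (c : C) :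
    evalHom x q t (MonoidAlgebra.single m c) = strHom x t c * dsChar q m := by
  simp [evalHom]

lemma evalHom_comp {W W' : Over S} (h : W' ⟶ W) (q : W ⟶ Red.DS S M) (t : W ⟶ Over.mk x) :
    evalHom x (h ≫ q) (h ≫ t) = h.left.appTop.hom.comp (evalHom x q t) := by
  refine MonoidAlgebra.ringHom_ext' ?_ ?_
  · ext c
    simp [strHom_comp]
  · ext m
    simp [dsChar_comp]

lemma evalHom_mul {W : Over S} (q q' : W ⟶ Red.DS S M) (t : W ⟶ Over.mk x)
    {a : MonoidAlgebra C (Multiplicative M)} (ha : IsGL a) :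
    evalHom x (q * q') t a = evalHom x q t a * evalHom x q' t a := by
  let Φ : MonoidAlgebra (MonoidAlgebra C (Multiplicative M)) (Multiplicative M) →+* Γ(W.left, ⊤) :=
    MonoidAlgebra.liftNCRingHom (evalHom x q t) (dsChar q') (fun _ _ => .all _ _)
  have hΦ : ∀ (f : MonoidAlgebra C (Multiplicative M) →ₐ[C] MonoidAlgebra (MonoidAlgebra C (Multiplicative M)) (Multiplicative M))
      (c : C), Φ (f (MonoidAlgebra.single 1 c)) = evalHom x (q * q') t (MonoidAlgebra.single 1 c) := by
    intro f c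
    have : (MonoidAlgebra.single 1 c : MonoidAlgebra C (Multiplicative M)) = algebraMap C _ c := rfl
    rw [this, f.commutes]
    change Φ (MonoidAlgebra.single 1 (MonoidAlgebra.single 1 c)) = evalHom x (q * q') t (MonoidAlgebra.single 1 c)
    simp [Φ]
  have h1 : Φ.comp (dg C (Multiplicative M)).toRingHom = evalHom x (q * q') t := by
    refine MonoidAlgebra.ringHom_ext' ?_ ?_
    · ext c
      exact hΦ (dg C (Multiplicative M)) c
    · ext m
      simp [Φ, dsChar_mul]
  have h2 : Φ.comp (inc₁ C (Multiplicative M)).toRingHom = evalHom x q t := by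
    refine MonoidAlgebra.ringHom_ext' ?_ ?_
    · ext c
      exact (hΦ (inc₁ C (Multiplicative M)) c).trans (by simp)
    · ext m
      simp [Φ]
  have h3 : Φ.comp (inc₂ C (Multiplicative M)).toRingHom = evalHom x q' t := by
    refine MonoidAlgebra.ringHom_ext' ?_ ?_
    · ext c
      exact (hΦ (inc₂ C (Multiplicative M)) c).trans (by simp)
    · ext m
      simp [Φ]
  have h4 := congrArg Φ ha
  rw [map_mul] at h4
  rw [← h1, ← h2, ← h3]
  exact h4

/-- The family of homomorphisms `D(M) × Spec C → D(M)` attached to a character `M → C[M]` with group-like values. -/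
noncomputable def ofChar (χ : Multiplicative M →* MonoidAlgebra C (Multiplicative M)) :
    Red.DS S M ⊗ Over.mk x ⟶ Red.DS S M :=
  dsEquiv (Red.DS S M ⊗ Over.mk x) M ((evalHom x (fst (Red.DS S M) (Over.mk x)) (snd (Red.DS S M) (Over.mk x)) :
    MonoidAlgebra C (Multiplicative M) →* Γ((Red.DS S M ⊗ Over.mk x).left, ⊤)).comp χ)

lemma lift_ofChar (χ : Multiplicative M →* MonoidAlgebra C (Multiplicative M)) {W : Over S}
    (q : W ⟶ Red.DS S M) (t : W ⟶ Over.mk x) :
    lift q t ≫ ofChar x χ = dsEquiv W M ((evalHom x q t : MonoidAlgebra C (Multiplicative M) →* Γ(W.left, ⊤)).comp χ) := by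
  rw [ofChar, dsEquiv_naturality]
  congr 1
  ext m
  have := congr($(evalHom_comp x (lift q t) (fst _ _) (snd _ _)) (χ m))
  rw [lift_fst, lift_snd] at this
  exact this.symm

lemma isHomFamily_ofChar (χ : Multiplicative M →* MonoidAlgebra C (Multiplicative M)) (hχ : ∀ m, IsGL (χ m)) :
    AutFam.IsHomFamily (Red.DS S M) (Red.DS S M) (ofChar x χ) := by
  intro W q q' t
  rw [lift_ofChar, lift_ofChar, lift_ofChar, ← map_mul]
  congr 1
  ext m
  exact evalHom_mul x q q' t (hχ m)

/-- The universal point: `Spec C[M]` over `S`. -/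
noncomputable def uObj (E : Type u) [CommRing E] [Algebra C E] : Over S := (Over.map x).obj (pt C E)

noncomputable def uPt {E : Type u} [CommRing E] [Algebra C E] (χ : Multiplicative M →* E) : uObj x E ⟶ Red.DS S M :=
  dsEquiv (uObj x E) M ((gPt C E).toMonoidHom.comp χ)

noncomputable def uStr (E : Type u) [CommRing E] [Algebra C E] : uObj x E ⟶ Over.mk x := st x (pt C E)

lemma strHom_uStr (E : Type u) [CommRing E] [Algebra C E] (c : C) :
    strHom x (uStr x E) c = gPt C E (algebraMap C E c) :=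
  congr($(Scheme.ΓSpecIso_inv_naturality (CommRingCat.ofHom (algebraMap C E))) c).symm

lemma evalHom_uPt {E : Type u} [CommRing E] [Algebra C E] (χ : Multiplicative M →* E) (a : MonoidAlgebra C (Multiplicative M)) :
    evalHom x (uPt x χ) (uStr x E) a = gPt C E (MonoidAlgebra.lift C E (Multiplicative M) χ a) := by
  have : evalHom x (uPt x χ) (uStr x E) = (gPt C E).comp (MonoidAlgebra.lift C E (Multiplicative M) χ).toRingHom := by
    refine MonoidAlgebra.ringHom_ext ?_ ?_
    · intro c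
      rw [evalHom_single, strHom_uStr, map_one, _root_.mul_one]
      have : (MonoidAlgebra.single 1 c : MonoidAlgebra C (Multiplicative M)) = algebraMap C _ c := rfl
      rw [this]
      exact congrArg _ ((MonoidAlgebra.lift C E (Multiplicative M) χ).commutes c).symm
    · intro m
      rw [evalHom_single, map_one, _root_.one_mul, uPt, dsChar_dsEquiv]
      exact congrArg (gPt C E) (by simp)
  exact congr($this a)

/-- Every point `(q, t)` of `D(M) × Spec C` is pulled back from the universal one. -/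
lemma exists_eq_comp_uPt {W : Over S} (q : W ⟶ Red.DS S M) (t : W ⟶ Over.mk x) :
    ∃ h : W ⟶ uObj x (MonoidAlgebra C (Multiplicative M)), h ≫ uPt x (MonoidAlgebra.of C (Multiplicative M)) = q ∧
      h ≫ uStr x _ = t := by
  let T' : Over (Spec (CommRingCat.of C)) := Over.mk t.left
  let e : W ⟶ (Over.map x).obj T' := Over.homMk (𝟙 _) (by
    simp only [T', Over.map_obj_hom, Over.mk_hom]
    erw [Category.id_comp]
    exact Over.w t)
  let q' : T' ⟶ Red.DS (Spec (CommRingCat.of C)) M := dsEquiv T' M (dsChar q : Multiplicative M →* Γ(W.left, ⊤))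
  have h1 : e ≫ tr x q' = q := by
    unfold tr
    rw [dsEquiv_naturality, dsChar_dsEquiv]
    refine Eq.trans ?_ (dsEquiv_dsChar q)
    congr 1
  have h2 : e ≫ st x T' = t := by
    ext1
    simp [e, st, T']
  obtain ⟨h, hh⟩ := exists_eq_comp_charPt q'
  have h3 : uPt x (MonoidAlgebra.of C (Multiplicative M)) = tr x (univPt C M) := by
    unfold tr uPt univPt charPt
    rw [dsChar_dsEquiv]
    rfl
  refine ⟨e ≫ (Over.map x).map h, ?_, ?_⟩
  · rw [h3, Category.assoc]
    exact (congrArg (e ≫ ·) ((tr_comp x h (univPt C M)).symm.trans (congrArg _ hh.symm))).trans h1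
  · refine Eq.trans ?_ h2
    rw [Category.assoc]
    exact congrArg _ (st_comp x h).symm

noncomputable def toE (E : Type u) [CommRing E] [Algebra C E] : Γ((uObj x E).left, ⊤) →+* E := by
  exact (Scheme.ΓSpecIso (.of E)).hom.hom

lemma gPt_toE (E : Type u) [CommRing E] [Algebra C E] (a : Γ((uObj x E).left, ⊤)) :
    gPt C E (toE x E a) = a :=
  congr($((Scheme.ΓSpecIso (.of E)).hom_inv_id) a)

/-- The character of a family. -/
noncomputable def charOfFam (α : Red.DS S M ⊗ Over.mk x ⟶ Red.DS S M) :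
    Multiplicative M →* MonoidAlgebra C (Multiplicative M) :=
  (toE x (MonoidAlgebra C (Multiplicative M)) :
    Γ((uObj x (MonoidAlgebra C (Multiplicative M))).left, ⊤) →* MonoidAlgebra C (Multiplicative M)).comp
    (dsChar (lift (uPt x (MonoidAlgebra.of C (Multiplicative M))) (uStr x _) ≫ α))

lemma gPt_charOfFam (α : Red.DS S M ⊗ Over.mk x ⟶ Red.DS S M) (m : Multiplicative M) :
    gPt C _ (charOfFam x α m) = dsChar (lift (uPt x (MonoidAlgebra.of C (Multiplicative M))) (uStr x _) ≫ α) m := by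
  exact gPt_toE x _ _

lemma evalHom_eq {W : Over S} {q : W ⟶ Red.DS S M} {t : W ⟶ Over.mk x}
    {h : W ⟶ uObj x (MonoidAlgebra C (Multiplicative M))}
    (h1 : h ≫ uPt x (MonoidAlgebra.of C (Multiplicative M)) = q) (h2 : h ≫ uStr x _ = t)
    (a : MonoidAlgebra C (Multiplicative M)) :
    evalHom x q t a = h.left.appTop.hom (gPt C _ a) := by
  subst h1 h2
  rw [evalHom_comp, RingHom.comp_apply, evalHom_uPt]
  congr 2
  have : MonoidAlgebra.lift C (MonoidAlgebra C (Multiplicative M)) (Multiplicative M) (MonoidAlgebra.of C (Multiplicative M)) =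
      AlgHom.id C _ := by
    ext; simp
  rw [this]; rfl

/-- A family is determined by its character. -/
lemma lift_eq (α : Red.DS S M ⊗ Over.mk x ⟶ Red.DS S M) {W : Over S} (q : W ⟶ Red.DS S M) (t : W ⟶ Over.mk x) :
    lift q t ≫ α = dsEquiv W M ((evalHom x q t : MonoidAlgebra C (Multiplicative M) →* Γ(W.left, ⊤)).comp (charOfFam x α)) := by
  obtain ⟨h, h1, h2⟩ := exists_eq_comp_uPt x q t
  have h3 : lift q t ≫ α = h ≫ (lift (uPt x (MonoidAlgebra.of C (Multiplicative M))) (uStr x _) ≫ α) := by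
    rw [← Category.assoc, comp_lift, h1, h2]
  rw [h3, ← dsEquiv_dsChar (lift _ _ ≫ α), dsEquiv_naturality]
  congr 1
  refine MonoidHom.ext fun m => ?_
  refine Eq.trans ?_ (evalHom_eq x h1 h2 _).symm
  rw [gPt_charOfFam]
  rfl

lemma gPt_injective (E : Type u) [CommRing E] [Algebra C E] : Function.Injective (gPt C E) := by
  intro a b h
  have h1 := congrArg (Scheme.ΓSpecIso (.of E)).hom.hom h
  have h2 : ∀ a : E, (Scheme.ΓSpecIso (.of E)).hom.hom (gPt C E a) = a := fun a =>
    congr($((Scheme.ΓSpecIso (.of E)).inv_hom_id) a)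
  rwa [h2, h2] at h1

lemma isGL_charOfFam {α : Red.DS S M ⊗ Over.mk x ⟶ Red.DS S M}
    (hα : AutFam.IsHomFamily (Red.DS S M) (Red.DS S M) α) (m : Multiplicative M) : IsGL (charOfFam x α m) := by
  let Γ' := Multiplicative M
  let E := MonoidAlgebra (MonoidAlgebra C Γ') Γ'
  let χ₁ : Γ' →* E := (inc₁ C Γ' : MonoidAlgebra C Γ' →* E).comp (MonoidAlgebra.of C Γ')
  let χ₂ : Γ' →* E := (inc₂ C Γ' : MonoidAlgebra C Γ' →* E).comp (MonoidAlgebra.of C Γ')
  have key := hα (uObj x E) (uPt x χ₁) (uPt x χ₂) (uStr x E)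
  have h12 : uPt x χ₁ * uPt x χ₂ = uPt x (χ₁ * χ₂) := by
    unfold uPt
    rw [← map_mul]
    congr 1
    refine MonoidHom.ext fun m => ?_
    exact (map_mul (gPt C E) _ _).symm
  rw [h12, lift_eq, lift_eq, lift_eq, ← map_mul] at key
  have key2 := congr($((dsEquiv _ M).injective key) m)
  simp only [MonoidHom.comp_apply, MonoidHom.mul_apply, MonoidHom.coe_coe] at key2
  rw [evalHom_uPt, evalHom_uPt, evalHom_uPt] at key2
  have key3 := gPt_injective (C := C) E (key2.trans (map_mul (gPt C E) _ _).symm)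
  have e1 : MonoidAlgebra.lift C E Γ' χ₁ = inc₁ C Γ' :=
    MonoidAlgebra.algHom_ext (fun m => by rw [MonoidAlgebra.lift_single, one_smul]; rfl) (Subsingleton.elim _ _)
  have e2 : MonoidAlgebra.lift C E Γ' χ₂ = inc₂ C Γ' :=
    MonoidAlgebra.algHom_ext (fun m => by rw [MonoidAlgebra.lift_single, one_smul]; rfl) (Subsingleton.elim _ _)
  have e3 : MonoidAlgebra.lift C E Γ' (χ₁ * χ₂) = dg C Γ' := by
    refine MonoidAlgebra.algHom_ext (fun m => ?_) (Subsingleton.elim _ _)
    · rw [MonoidAlgebra.lift_single, one_smul, dg_single]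
      change inc₁ C Γ' (MonoidAlgebra.single m 1) * inc₂ C Γ' (MonoidAlgebra.single m 1) = _
      rw [inc₁_single, inc₂_single, MonoidAlgebra.single_mul_single, _root_.one_mul, _root_.mul_one]
  rw [e1, e2, e3] at key3
  exact key3

variable {x} in
lemma strHom_redMap (I : Ideal C) {W : Over S}
    (t : W ⟶ Over.mk (Spec.map (CommRingCat.ofHom (Ideal.Quotient.mk I)) ≫ x)) (c : C) :
    strHom x (t ≫ redMap x I) c =
      strHom (Spec.map (CommRingCat.ofHom (Ideal.Quotient.mk I)) ≫ x) t (Ideal.Quotient.mk I c) := by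
  rw [strHom_comp]
  have h := congr($(Scheme.ΓSpecIso_inv_naturality (CommRingCat.ofHom (Ideal.Quotient.mk I))) c)
  exact (congrArg t.left.appTop.hom h).symm

variable {x} in
/-- Restriction of `ofChar` modulo `I`. -/
lemma redMap_ofChar (I : Ideal C) (χ : Multiplicative M →* MonoidAlgebra C (Multiplicative M))
    (χ₀ : Multiplicative M →* MonoidAlgebra (C ⧸ I) (Multiplicative M)) (h : ∀ m, red I (χ m) = χ₀ m) :
    (Red.DS S M ◁ redMap x I) ≫ ofChar x χ =
      ofChar (Spec.map (CommRingCat.ofHom (Ideal.Quotient.mk I)) ≫ x) χ₀ := by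
  have h1 : (Red.DS S M ◁ redMap x I) = lift (fst _ _) (snd _ _ ≫ redMap x I) := by
    ext1 <;> simp
  rw [h1, lift_ofChar]
  unfold ofChar
  congr 1
  refine MonoidHom.ext fun m => ?_
  change evalHom x _ _ (χ m) = evalHom _ _ _ (χ₀ m)
  rw [← h]
  generalize χ m = a
  have h2 : evalHom x (fst (Red.DS S M) _) (snd (Red.DS S M) _ ≫ redMap x I) =
      (evalHom (Spec.map (CommRingCat.ofHom (Ideal.Quotient.mk I)) ≫ x) (fst (Red.DS S M) _) (snd (Red.DS S M) _)).comp (red I) := by
    refine MonoidAlgebra.ringHom_ext ?_ ?_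
    · intro c
      rw [RingHom.comp_apply]
      have h3 : red I (MonoidAlgebra.single (1 : Multiplicative M) c) = MonoidAlgebra.single 1 (Ideal.Quotient.mk I c) := by
        simp [red]
      rw [h3, evalHom_single, evalHom_single, map_one, _root_.mul_one, _root_.mul_one]
      exact strHom_redMap I _ c
    · intro m
      rw [RingHom.comp_apply]
      have h3 : red I (MonoidAlgebra.single (m : Multiplicative M) 1) = MonoidAlgebra.single m 1 := by
        simp [red]
      rw [h3, evalHom_single, evalHom_single, map_one, map_one]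
  exact congr($h2 a)

/-- **Lifting of families of endomorphisms of a diagonalizable group.** -/
theorem exists_lift_fam (I : Ideal C) (hI : I * I = ⊥)
    (α₀ : Red.DS S M ⊗ Over.mk (Spec.map (CommRingCat.ofHom (Ideal.Quotient.mk I)) ≫ x) ⟶ Red.DS S M)
    (hα₀ : AutFam.IsHomFamily (Red.DS S M) (Red.DS S M) α₀) :
    ∃ α : Red.DS S M ⊗ Over.mk x ⟶ Red.DS S M, AutFam.IsHomFamily (Red.DS S M) (Red.DS S M) α ∧
      (Red.DS S M ◁ redMap x I) ≫ α = α₀ := by
  obtain ⟨χ, h1, h2⟩ := exists_lift_char I hI (charOfFam _ α₀) (isGL_charOfFam _ hα₀)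
  refine ⟨ofChar x χ, isHomFamily_ofChar x χ h1, ?_⟩
  rw [redMap_ofChar I χ _ h2]
  have h3 := lift_eq _ α₀ (fst _ _) (snd _ _)
  rw [lift_fst_snd, Category.id_comp] at h3
  exact h3.symm

lemma charOfFam_ofChar (χ : Multiplicative M →* MonoidAlgebra C (Multiplicative M)) :
    charOfFam x (ofChar x χ) = χ := by
  refine MonoidHom.ext fun m => ?_
  apply gPt_injective (C := C)
  rw [gPt_charOfFam, lift_ofChar, dsChar_dsEquiv]
  refine (evalHom_uPt x _ _).trans ?_
  congr 1
  have : MonoidAlgebra.lift C (MonoidAlgebra C (Multiplicative M)) (Multiplicative M) (MonoidAlgebra.of C (Multiplicative M)) =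
      AlgHom.id C _ := by
    ext; simp
  rw [this]; rfl

lemma eq_ofChar (α : Red.DS S M ⊗ Over.mk x ⟶ Red.DS S M) : α = ofChar x (charOfFam x α) := by
  have h3 := lift_eq x α (fst _ _) (snd _ _)
  rw [lift_fst_snd, Category.id_comp] at h3
  exact h3

/-- Uniqueness of lifts of families of endomorphisms of a diagonalizable group. -/
theorem fam_ext (I : Ideal C) (hI : I * I = ⊥) {α β : Red.DS S M ⊗ Over.mk x ⟶ Red.DS S M}
    (hα : AutFam.IsHomFamily (Red.DS S M) (Red.DS S M) α) (hβ : AutFam.IsHomFamily (Red.DS S M) (Red.DS S M) β)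
    (h : (Red.DS S M ◁ redMap x I) ≫ α = (Red.DS S M ◁ redMap x I) ≫ β) : α = β := by
  have h1 : charOfFam x α = charOfFam x β := by
    refine MonoidHom.ext fun m => ?_
    refine gl_ext I hI (isGL_charOfFam x hα m) (isGL_charOfFam x hβ m) ?_
    rw [eq_ofChar x α, eq_ofChar x β, 
      redMap_ofChar I (charOfFam x α) (((red I : MonoidAlgebra C (Multiplicative M) →+* _) :
        MonoidAlgebra C (Multiplicative M) →* MonoidAlgebra (C ⧸ I) (Multiplicative M)).comp (charOfFam x α)) (fun _ => rfl),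
      redMap_ofChar I (charOfFam x β) (((red I : MonoidAlgebra C (Multiplicative M) →+* _) :
        MonoidAlgebra C (Multiplicative M) →* MonoidAlgebra (C ⧸ I) (Multiplicative M)).comp (charOfFam x β)) (fun _ => rfl)] at h
    have h2 := congrArg (charOfFam _) h
    rw [charOfFam_ofChar, charOfFam_ofChar] at h2
    exact congr($h2 m)
  rw [eq_ofChar x α, eq_ofChar x β, h1]

end geom

section normalizer

variable {S : Scheme.{u}}

/-- Smoothness of the normalizer of a diagonalizable subgroup. -/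
theorem smooth_normalizer {M : Type} [AddCommGroup M] {G N : Over S} [GrpObj G] [GrpObj N]
    (q : Red.DS S M ⟶ G) [IsMonHom q] [Mono q] (n : N ⟶ G) (hn : Red.IsNormalizerOf q n)
    [Smooth G.hom] [IsSeparated G.hom] [LocallyOfFinitePresentation N.hom]
    (hU : ∀ (C : Type u) [CommRing C] (x : Spec (CommRingCat.of C) ⟶ S), HasAffineUnitNhd (Red.bc x G)) :
    Smooth N.hom := by
  obtain ⟨_, _, hn⟩ := hn
  refine TorSmooth893.smooth_of_lift N fun C _ I hI x a => ?_
  obtain ⟨g, hg⟩ := TorSmooth893.exists_lift_of_smooth G C I hI x (a ≫ n)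
  have h0 := (hn _ (a ≫ n)).mp ⟨a, rfl⟩ _ (snd (Red.DS S M) _) (fst _ _)
  obtain ⟨⟨α₀, hα₀⟩, ⟨β₀, hβ₀⟩⟩ := h0
  have hα₀' : AutFam.IsHomFamily (Red.DS S M) (Red.DS S M) α₀ := by
    intro W q₁ q₂ t
    rw [← cancel_mono q, MonObj.mul_comp, Category.assoc, Category.assoc, Category.assoc, ← hα₀]
    simp only [MonObj.comp_mul, comp_inv, lift_snd_assoc, lift_fst_assoc, MonObj.mul_comp]
    group
  have hβ₀' : AutFam.IsHomFamily (Red.DS S M) (Red.DS S M) β₀ := by
    intro W q₁ q₂ t
    rw [← cancel_mono q, MonObj.mul_comp, Category.assoc, Category.assoc, Category.assoc, ← hβ₀]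
    simp only [MonObj.comp_mul, comp_inv, lift_snd_assoc, lift_fst_assoc, MonObj.mul_comp]
    group
  obtain ⟨α, hα, hα'⟩ := exists_lift_fam x I hI α₀ hα₀'
  obtain ⟨β, hβ, hβ'⟩ := exists_lift_fam x I hI β₀ hβ₀'
  -- `α ∘ β = id`
  have hαβ₀ : lift β₀ (snd _ _) ≫ α₀ = fst _ _ := by
    rw [← cancel_mono q, Category.assoc, ← hα₀]
    simp only [MonObj.comp_mul, comp_inv, lift_snd_assoc, lift_fst_assoc]
    rw [← hβ₀]
    group
  let γ : Red.DS S M ⊗ Over.mk x ⟶ Red.DS S M := lift β (snd _ _) ≫ α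
  have hlγ : ∀ (W : Over S) (h : W ⟶ Red.DS S M) (t : W ⟶ Over.mk x),
      lift h t ≫ γ = lift (lift h t ≫ β) t ≫ α := by
    intro W h t
    simp only [γ]
    rw [← Category.assoc, comp_lift, lift_snd]
  have hγ : AutFam.IsHomFamily (Red.DS S M) (Red.DS S M) γ := by
    intro W q₁ q₂ t
    rw [hlγ, hlγ, hlγ, hβ, hα]
  have hfst : AutFam.IsHomFamily (Red.DS S M) (Red.DS S M) (fst (Red.DS S M) (Over.mk x)) := by
    intro W q₁ q₂ t
    rw [lift_fst, lift_fst, lift_fst]
  have hγ1 : γ = fst _ _ := by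
    refine fam_ext x I hI hγ hfst ?_
    rw [whiskerLeft_fst, ← hαβ₀, ← hα', ← hβ']
    simp only [γ]
    rw [← Category.assoc, ← Category.assoc, comp_lift]
    congr 1
    ext1
    · simp
    · simp
  let A : Red.DS S M ⊗ Over.mk x ⟶ G := (snd _ _ ≫ g) * (fst _ _ ≫ q) * (snd _ _ ≫ g)⁻¹
  let B : Red.DS S M ⊗ Over.mk x ⟶ G := α ≫ q
  have hA : AutFam.IsHomFamily (Red.DS S M) G A :=
    TorSmooth893.isHomFamily_conj _ (TorSmooth893.isHomFamily_comp q _) g
  have hB : AutFam.IsHomFamily (Red.DS S M) G B := by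
    intro W q₁ q₂ t
    simp only [B]
    rw [← Category.assoc, hα, MonObj.mul_comp, Category.assoc, Category.assoc]
  have hAB : (Red.DS S M ◁ redMap x I) ≫ A = (Red.DS S M ◁ redMap x I) ≫ B := by
    simp only [A, B, MonObj.comp_mul, comp_inv, whiskerLeft_fst_assoc, whiskerLeft_snd_assoc]
    rw [hg, hα₀, ← hα', Category.assoc]
  obtain ⟨w, hw1, hw2⟩ := infConj_family x G I hI (hU C x) A B hA hB hAB
  have key : ∀ (X' : Over S) (t : X' ⟶ Over.mk x) (h : X' ⟶ Red.DS S M),
      (t ≫ (w⁻¹ * g)) * (h ≫ q) * (t ≫ (w⁻¹ * g))⁻¹ = (lift h t ≫ α) ≫ q := by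
    intro X' t h
    have h1 := hw2 X' h t
    simp only [A, B, MonObj.comp_mul, comp_inv, lift_fst_assoc, lift_snd_assoc] at h1
    rw [MonObj.comp_mul, comp_inv, Category.assoc]
    generalize t ≫ w = w' at *
    generalize t ≫ g = g' at *
    generalize h ≫ q = h' at *
    generalize lift h t ≫ α ≫ q = k' at *
    have h2 : w'⁻¹ * (g' * h' * g'⁻¹) * w' = k' := by rw [h1]; group
    rw [← h2]; group
  obtain ⟨l, hl⟩ := (hn (Over.mk x) (w⁻¹ * g)).mpr (by
    intro X' t h
    refine ⟨⟨_, key X' t h⟩, ⟨lift h t ≫ β, ?_⟩⟩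
    have h1 := key X' t (lift h t ≫ β)
    rw [← hlγ, hγ1, lift_fst] at h1
    rw [← h1]
    group)
  refine ⟨l, ?_⟩
  rw [← cancel_mono n, Category.assoc, hl, MonObj.comp_mul, comp_inv, hw1, hg, inv_one, _root_.one_mul]

end normalizer

end Groth.Agent.Sga3B.TorLift893
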