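import Groth.Agent.Sga3B.RepDescent3

/-!
# Quasi-compact opens of a directed union of opens of affine schemes are quasi-affine
-/

set_option autoImplicit false
universe u
open CategoryTheory AlgebraicGeometry

namespace Groth.Agent.Sga3B.TorQA602

/-- If `X` is a directed union of opens each of which is an open subscheme of an affine scheme, then every
quasi-compact open of `X` is an open subscheme of an affine scheme, contained in one of the opens. -/
theorem exists_of_directed {X : Scheme.{u}} {ι : Type*} (V : ι → X.Opens) (hne : Nonempty ι)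
    (hV : ∀ x : X, ∃ i, x ∈ V i) (hd : Directed (· ≤ ·) V)
    (hq : ∀ i, ∃ (P : Scheme.{u}) (k : (V i : Scheme.{u}) ⟶ P), IsAffine P ∧ IsOpenImmersion k)
    (U : X.Opens) (hU : IsCompact (U : Set X)) :
    ∃ (P : Scheme.{u}) (k : (U : Scheme.{u}) ⟶ P), IsAffine P ∧ IsOpenImmersion k := by
  obtain ⟨i, hi⟩ := hU.elim_directed_cover (fun i => ((V i : X.Opens) : Set X)) (fun i => (V i).2)
    (fun x _ => Set.mem_iUnion.2 (hV x)) (by
      intro i j
      obtain ⟨k, h1, h2⟩ := hd i j
      exact ⟨k, h1, h2⟩)
  obtain ⟨P, k, hP, hk⟩ := hq i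
  exact ⟨P, X.homOfLE (show U ≤ V i from hi) ≫ k, hP, inferInstance⟩

/-- An open subscheme of an affine scheme which is quasi-compact is quasi-affine. -/
theorem isQuasiAffine_of_isOpenImmersion {X P : Scheme.{u}} (k : X ⟶ P) [IsAffine P] [IsOpenImmersion k]
    [CompactSpace X] : X.IsQuasiAffine :=
  Scheme.IsQuasiAffine.of_isImmersion k

/-- If `X` is a directed union of opens each of which is an open subscheme of an affine scheme, then every
quasi-compact open of `X` is quasi-affine. -/
theorem isQuasiAffine_of_directed {X : Scheme.{u}} {ι : Type*} (V : ι → X.Opens) (hne : Nonempty ι)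
    (hV : ∀ x : X, ∃ i, x ∈ V i) (hd : Directed (· ≤ ·) V)
    (hq : ∀ i, ∃ (P : Scheme.{u}) (k : (V i : Scheme.{u}) ⟶ P), IsAffine P ∧ IsOpenImmersion k)
    (U : X.Opens) (hU : IsCompact (U : Set X)) : (U : Scheme.{u}).IsQuasiAffine := by
  obtain ⟨P, k, hP, hk⟩ := exists_of_directed V hne hV hd hq U hU
  have : CompactSpace U := isCompact_iff_compactSpace.1 hU
  exact isQuasiAffine_of_isOpenImmersion k

end Groth.Agent.Sga3B.TorQA602
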