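import Groth.Agent.Sga3B.CentRep
import Groth.Prelude.Def_AutFam

/-!
# The scheme of homomorphisms from a torus to a separated group is separated

`isSeparated_of_representsHom` : if `H` is smooth and geometrically irreducible over `S` (for instance a torus),
`G` is separated over `S` and `A` represents `Hom_{S-gr}(H, G)`, then `A` is separated over `S`.  It uses only the
universal property: the locus where two families of homomorphisms agree is closed.
-/

set_option autoImplicit false
universe u
open CategoryTheory MonoidalCategory CartesianMonoidalCategory MonObj GrpObj AlgebraicGeometry Limits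

namespace Groth.Agent.Sga3B.TorSep602

variable {S : Scheme.{u}}

/-- The locus where two morphisms `H ⊗ X ⟶ G` agree along all of `H` is closed. -/
theorem exists_agree (H G X : Over S) [Smooth H.hom] [GeometricallyIrreducible H.hom] [IsSeparated G.hom]
    (φ ψ : H ⊗ X ⟶ G) :
    ∃ (Z : Over S) (z : Z ⟶ X), IsClosedImmersion z.left ∧
      (∀ (T : Over S) (g : T ⟶ X), (∃ a : T ⟶ Z, a ≫ z = g) ↔ (H ◁ g) ≫ φ = (H ◁ g) ≫ ψ) ∧
      (LocallyOfFiniteType G.hom → LocallyOfFinitePresentation z.left) := by
  have h1 : IsClosedImmersion (lift (𝟙 G) (𝟙 G)).left := by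
    have h2 : (lift (𝟙 G) (𝟙 G)).left = pullback.diagonal G.hom := by
      apply pullback.hom_ext
      · rw [pullback.diagonal_fst]
        exact congrArg (·.left) (lift_fst (𝟙 G) (𝟙 G))
      · rw [pullback.diagonal_snd]
        exact congrArg (·.left) (lift_snd (𝟙 G) (𝟙 G))
    rw [h2]
    exact IsSeparated.isClosedImmersion_diagonal
  obtain ⟨Z, z, hz, h, hfp⟩ := CentRep.exists_closed_map (X := X) (Q := H) (Y := G ⊗ G)
    (lift (lift (snd X H) (fst X H) ≫ φ) (lift (snd X H) (fst X H) ≫ ψ)) (lift (𝟙 G) (𝟙 G))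
  have key : ∀ (T : Over S) (g : T ⟶ X),
      (∀ (T' : Over S) (x : T' ⟶ T) (h : T' ⟶ H), ∃ b : T' ⟶ G, b ≫ lift (𝟙 G) (𝟙 G) =
        lift (x ≫ g) h ≫ lift (lift (snd X H) (fst X H) ≫ φ) (lift (snd X H) (fst X H) ≫ ψ)) ↔
      (H ◁ g) ≫ φ = (H ◁ g) ≫ ψ := by
    intro T g
    constructor
    · intro hh
      obtain ⟨b, hb⟩ := hh (H ⊗ T) (snd H T) (fst H T)
      have e : lift (snd H T ≫ g) (fst H T) ≫ lift (snd X H) (fst X H) = H ◁ g := by
        rw [comp_lift, lift_fst, lift_snd]
        apply CartesianMonoidalCategory.hom_ext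
        · rw [lift_fst, whiskerLeft_fst]
        · rw [lift_snd, whiskerLeft_snd]
      rw [comp_lift, Category.comp_id, comp_lift, ← Category.assoc, ← Category.assoc, e] at hb
      have h1 := congrArg (· ≫ fst G G) hb
      have h2 := congrArg (· ≫ snd G G) hb
      simp only [lift_fst, lift_snd] at h1 h2
      exact h1.symm.trans h2
    · intro hh T' x h
      refine ⟨lift h x ≫ (H ◁ g) ≫ φ, ?_⟩
      have e : lift (x ≫ g) h ≫ lift (snd X H) (fst X H) = lift h x ≫ (H ◁ g) := by
        rw [comp_lift, lift_fst, lift_snd, lift_whiskerLeft]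
      rw [comp_lift, Category.comp_id, comp_lift, reassoc_of% e, reassoc_of% e, hh]
  refine ⟨Z, z, hz, fun T g => (h T g).trans (key T g), fun hG => hfp ?_⟩
  have e : (lift (𝟙 G) (𝟙 G)).left ≫ (fst G G).left = 𝟙 _ := by
    rw [← Over.comp_left, lift_fst]; rfl
  have h3 : LocallyOfFiniteType (fst G G).left := inferInstanceAs (LocallyOfFiniteType (pullback.fst G.hom G.hom))
  have h4 : LocallyOfFinitePresentation ((lift (𝟙 G) (𝟙 G)).left ≫ (fst G G).left) := by
    rw [e]; exact (inferInstance : LocallyOfFinitePresentation (𝟙 G.left))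
  exact Ega43.FPOfComp.locallyOfFinitePresentation_of_comp _ (fst G G).left

/-- The scheme of homomorphisms from a smooth geometrically irreducible group to a separated group is separated. -/
theorem isSeparated_of_representsHom {H G A : Over S} [GrpObj H] [GrpObj G] [Smooth H.hom]
    [GeometricallyIrreducible H.hom] [IsSeparated G.hom] {υ : H ⊗ A ⟶ G} (h : AutFam.RepresentsHom H G A υ) :
    IsSeparated A.hom := by
  obtain ⟨Z, z, hz, huniv, -⟩ := exists_agree H G (A ⊗ A) ((H ◁ fst A A) ≫ υ) ((H ◁ snd A A) ≫ υ)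
  -- morphisms to `A` are determined by the families
  have hinj : ∀ {T : Over S} (a b : T ⟶ A), (H ◁ a) ≫ υ = (H ◁ b) ≫ υ → a = b := by
    intro T a b hab
    have hfam : AutFam.IsHomFamily H G ((H ◁ a) ≫ υ) := by
      intro X g₁ g₂ t
      have := h.1 X g₁ g₂ (t ≫ a)
      simpa only [lift_whiskerLeft_assoc] using this
    obtain ⟨c, -, hc⟩ := h.2 T _ hfam
    rw [hc a rfl, hc b hab.symm]
  have key : ∀ (T : Over S) (g : T ⟶ A ⊗ A), (∃ a : T ⟶ Z, a ≫ z = g) ↔ g ≫ fst A A = g ≫ snd A A := by
    intro T g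
    rw [huniv]
    constructor
    · intro hh
      apply hinj
      rw [← Category.assoc, ← Category.assoc, ← MonoidalCategory.whiskerLeft_comp,
        ← MonoidalCategory.whiskerLeft_comp] at hh
      exact hh
    · intro hh
      rw [← Category.assoc, ← Category.assoc, ← MonoidalCategory.whiskerLeft_comp,
        ← MonoidalCategory.whiskerLeft_comp, hh]
  obtain ⟨d, hd⟩ := (key A (lift (𝟙 A) (𝟙 A))).2 (by rw [lift_fst, lift_snd])
  have hz' : z ≫ fst A A = z ≫ snd A A := (key Z z).1 ⟨𝟙 Z, Category.id_comp z⟩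
  have hmono : Mono z := by
    have : Mono z.left := inferInstance
    exact (Over.forget S).mono_of_mono_map this
  have hd1 : d ≫ z ≫ fst A A = 𝟙 A := by rw [← Category.assoc, hd, lift_fst]
  have hd2 : (z ≫ fst A A) ≫ d = 𝟙 Z := by
    rw [← cancel_mono z, Category.assoc, hd, Category.id_comp]
    apply CartesianMonoidalCategory.hom_ext
    · rw [Category.assoc, lift_fst, Category.comp_id]
    · rw [Category.assoc, lift_snd, Category.comp_id, hz']
  have hiso : IsIso d := ⟨z ≫ fst A A, by rw [hd1], hd2⟩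
  have h2 : pullback.diagonal A.hom = d.left ≫ z.left := by
    rw [← Over.comp_left, hd]
    apply pullback.hom_ext
    · rw [pullback.diagonal_fst]
      exact (congrArg (·.left) (lift_fst (𝟙 A) (𝟙 A))).symm
    · rw [pullback.diagonal_snd]
      exact (congrArg (·.left) (lift_snd (𝟙 A) (𝟙 A))).symm
  refine ⟨?_⟩
  rw [h2]
  have : IsIso d.left := inferInstanceAs (IsIso ((Over.forget S).map d))
  infer_instance

/-- The scheme of homomorphisms from a torus to a separated group is separated. -/
theorem isSeparated_of_isTorus {H G A : Over S} [GrpObj H] [GrpObj G] (hH : Red.IsTorus H)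
    [IsSeparated G.hom] {υ : H ⊗ A ⟶ G} (h : AutFam.RepresentsHom H G A υ) : IsSeparated A.hom := by
  have := TorusAlgClosed.smooth_of_isTorus hH
  have := TorusIrr.geometricallyIrreducible_of_isTorus hH
  exact isSeparated_of_representsHom h

end Groth.Agent.Sga3B.TorSep602
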