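import Groth.Agent.Sga3B.InfConjFam
import Groth.Agent.S1488

set_option autoImplicit false
universe u
open CategoryTheory MonoidalCategory CartesianMonoidalCategory MonObj GrpObj AlgebraicGeometry Limits

namespace Groth.Agent.Sga3B.TorSmooth893
open Groth.Agent.Sga3B.DSPts Groth.Agent.Sga3B.InfConj Groth.Agent.Sga3B.InfConjFam

variable {S : Scheme.{u}}

/-- Lifting criterion in terms of objects over `S`. -/
theorem smooth_of_lift (Z : Over S) [LocallyOfFinitePresentation Z.hom]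
    (h : ∀ (C : Type u) [CommRing C] (I : Ideal C), I * I = ⊥ → ∀ (x : Spec (CommRingCat.of C) ⟶ S)
      (a : Over.mk (Spec.map (CommRingCat.ofHom (Ideal.Quotient.mk I)) ≫ x) ⟶ Z),
      ∃ l : Over.mk x ⟶ Z, redMap x I ≫ l = a) : Smooth Z.hom := by
  rw [S1488.result]
  refine ⟨inferInstance, ?_⟩
  intro C _ I hI a b hab
  rw [pow_two] at hI
  obtain ⟨l, hl⟩ := h C I hI b (Over.homMk a hab.symm)
  exact ⟨l.left, congrArg CommaMorphism.left hl, Over.w l⟩

theorem exists_lift_of_smooth (Z : Over S) [Smooth Z.hom] (C : Type u) [CommRing C] (I : Ideal C) (hI : I * I = ⊥)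
    (x : Spec (CommRingCat.of C) ⟶ S)
    (a : Over.mk (Spec.map (CommRingCat.ofHom (Ideal.Quotient.mk I)) ≫ x) ⟶ Z) :
    ∃ l : Over.mk x ⟶ Z, redMap x I ≫ l = a := by
  have h := ((S1488.result Z.hom).mp inferInstance).2
  rw [← pow_two] at hI
  obtain ⟨l, hl1, hl2⟩ := h C I hI a.left x (Over.w a).symm
  refine ⟨Over.homMk l hl2, ?_⟩
  ext1
  exact hl1

lemma isHomFamily_comp {G : Over S} [GrpObj G] {Q : Over S} [GrpObj Q] (q : Q ⟶ G) [IsMonHom q] (T : Over S) :
    AutFam.IsHomFamily Q G (fst Q T ≫ q) := by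
  intro X g₁ g₂ t
  simp only [lift_fst_assoc, MonObj.mul_comp]

lemma isHomFamily_conj {G : Over S} [GrpObj G] {Q : Over S} [GrpObj Q] {T : Over S} (a : Q ⊗ T ⟶ G)
    (ha : AutFam.IsHomFamily Q G a) (g : T ⟶ G) :
    AutFam.IsHomFamily Q G ((snd Q T ≫ g) * a * (snd Q T ≫ g)⁻¹) := by
  intro X g₁ g₂ t
  simp only [MonObj.comp_mul, comp_inv, lift_snd_assoc]
  rw [ha]
  group

/-- Smoothness of the centralizer of a homomorphism from a diagonalizable group. -/
theorem smooth_centralizer {M : Type} [AddCommGroup M] {G Z : Over S} [GrpObj G] [GrpObj Z]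
    (q : Red.DS S M ⟶ G) [IsMonHom q] (z : Z ⟶ G) (hz : Red.IsCentralizerOf q z)
    [Smooth G.hom] [IsSeparated G.hom] [LocallyOfFinitePresentation Z.hom]
    (hU : ∀ (C : Type u) [CommRing C] (x : Spec (CommRingCat.of C) ⟶ S), HasAffineUnitNhd (Red.bc x G)) :
    Smooth Z.hom := by
  obtain ⟨_, _, hz⟩ := hz
  refine smooth_of_lift Z fun C _ I hI x a => ?_
  obtain ⟨g, hg⟩ := exists_lift_of_smooth G C I hI x (a ≫ z)
  let A : Red.DS S M ⊗ Over.mk x ⟶ G := fst _ _ ≫ q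
  let B : Red.DS S M ⊗ Over.mk x ⟶ G := (snd _ _ ≫ g) * A * (snd _ _ ≫ g)⁻¹
  have hA : AutFam.IsHomFamily (Red.DS S M) G A := isHomFamily_comp q _
  have hB : AutFam.IsHomFamily (Red.DS S M) G B := isHomFamily_conj A hA g
  have hAB : (Red.DS S M ◁ redMap x I) ≫ A = (Red.DS S M ◁ redMap x I) ≫ B := by
    simp only [A, B, MonObj.comp_mul, comp_inv, whiskerLeft_fst_assoc, whiskerLeft_snd_assoc]
    rw [hg]
    have h1 := (hz _ (a ≫ z)).mp ⟨a, rfl⟩ _ (snd (Red.DS S M) _) (fst _ _)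
    rw [h1]
    group
  obtain ⟨w, hw1, hw2⟩ := infConj_family x G I hI (hU C x) A B hA hB hAB
  obtain ⟨l, hl⟩ := (hz (Over.mk x) (w * g)).mpr (by
    intro X' t h
    have h1 := hw2 X' h t
    simp only [A, B, MonObj.comp_mul, comp_inv, lift_fst_assoc, lift_snd_assoc] at h1
    rw [MonObj.comp_mul]
    generalize t ≫ w = w' at *
    generalize t ≫ g = g' at *
    generalize h ≫ q = h' at *
    calc w' * g' * h' = (w' * (g' * h' * g'⁻¹) * w'⁻¹) * (w' * g') := by group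
      _ = h' * (w' * g') := by rw [← h1])
  refine ⟨l, ?_⟩
  rw [← cancel_mono z, Category.assoc, hl, MonObj.comp_mul, hw1, hg, _root_.one_mul]

end Groth.Agent.Sga3B.TorSmooth893
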