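import Groth.Agent.Sga3B.InfConjFam
import Groth.Prelude.Def_Red2
import Mathlib.AlgebraicGeometry.Morphisms.Smooth

/-!
# Strict transporters of homomorphisms from diagonalisable groups

`a b : D_S(M) ⟶ G`; the functor `{g : int(g) ∘ a = b}` is represented, for `S = Spec R` and `G` affine and
smooth over `S`, by a closed subscheme of `G` which is smooth over `S`.
-/

set_option autoImplicit false
universe u
open CategoryTheory MonoidalCategory CartesianMonoidalCategory MonObj GrpObj AlgebraicGeometry Limits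

namespace Groth.Agent.Sga3B.TorTransp
open Groth.Agent.Sga3B.DSPts Groth.Agent.Sga3B.InfConj Groth.Agent.Sga3B.InfConjFam

/-- `x ∈ G(X)` conjugates `a` into `b`, over every `Y ⟶ X`. -/
def Transp {S : Scheme.{u}} {G : Over S} [GrpObj G] {D : Over S} (a b : D ⟶ G) {X : Over S}
    (x : X ⟶ G) : Prop :=
  ∀ (Y : Over S) (y : Y ⟶ X) (q : Y ⟶ D), (y ≫ x) * (q ≫ a) * (y ≫ x)⁻¹ = q ≫ b

lemma Transp.comp {S : Scheme.{u}} {G : Over S} [GrpObj G] {D : Over S} {a b : D ⟶ G} {X X' : Over S}
    {x : X ⟶ G} (h : Transp a b x) (z : X' ⟶ X) : Transp a b (z ≫ x) := by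
  intro Y y q
  rw [← Category.assoc]
  exact h Y (y ≫ z) q

section affine

variable {R : Type u} [CommRing R] {M : Type} [AddCommGroup M]

/-- the inclusion `E → E[M]` -/
noncomputable def inc (E : Type u) [CommRing E] [Algebra R E] (M : Type) [AddCommGroup M] :
    E →ₐ[R] MonoidAlgebra E (Multiplicative M) :=
  IsScalarTower.toAlgHom _ _ _

/-- the universal character with values in `E[M]` -/
noncomputable def uchar (E : Type u) [CommRing E] [Algebra R E] (M : Type) [AddCommGroup M] :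
    pt R (MonoidAlgebra E (Multiplicative M)) ⟶ Red.DS (Spec (.of R)) M :=
  charPt (MonoidAlgebra.of E (Multiplicative M))

@[reassoc]
lemma ptMap_mapAlgHom_inc {E E' : Type u} [CommRing E] [CommRing E'] [Algebra R E] [Algebra R E']
    (φ : E →ₐ[R] E') :
    ptMap (MonoidAlgebra.mapAlgHom (Multiplicative M) φ) ≫ ptMap (inc E M) = ptMap (inc E' M) ≫ ptMap φ := by
  rw [ptMap_comp, ptMap_comp]
  congr 1
  ext e
  simp [inc]

@[reassoc]
lemma ptMap_mapAlgHom_uchar {E E' : Type u} [CommRing E] [CommRing E'] [Algebra R E] [Algebra R E']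
    (φ : E →ₐ[R] E') :
    ptMap (MonoidAlgebra.mapAlgHom (Multiplicative M) φ) ≫ uchar E M = uchar E' M := by
  unfold uchar
  rw [ptMap_charPt]
  congr 1
  ext m
  simp [MonoidAlgebra.of]

lemma exists_pair {E : Type u} [CommRing E] [Algebra R E] {X : Over (Spec (.of R))} (x : X ⟶ pt R E)
    (q : X ⟶ Red.DS (Spec (.of R)) M) :
    ∃ h : X ⟶ pt R (MonoidAlgebra E (Multiplicative M)), h ≫ ptMap (inc E M) = x ∧ h ≫ uchar E M = q := by
  let α : E →+* Γ(X.left, ⊤) := ((Scheme.ΓSpecIso (.of E)).inv ≫ x.left.appTop).hom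
  let _ : Algebra E Γ(X.left, ⊤) := α.toAlgebra
  let ρ : MonoidAlgebra E (Multiplicative M) →ₐ[E] Γ(X.left, ⊤) :=
    MonoidAlgebra.lift E _ (Multiplicative M) (dsChar q)
  have h0 : (X.left.toSpecΓ ≫ Spec.map (CommRingCat.ofHom ρ.toRingHom)) ≫ (ptMap (C := R) (inc E M)).left = x.left := by
    rw [ptMap_left, Category.assoc, ← Spec.map_comp, ← CommRingCat.ofHom_comp]
    have : ρ.toRingHom.comp (inc (R := R) E M).toRingHom = α := by
      ext c
      exact ρ.commutes c
    rw [this]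
    exact toSpecΓ_SpecMap_eq _
  let h : X ⟶ pt R (MonoidAlgebra E (Multiplicative M)) :=
    Over.homMk (X.left.toSpecΓ ≫ Spec.map (CommRingCat.ofHom ρ.toRingHom)) (by
      have h1 := congr($h0 ≫ (pt R E).hom)
      rw [Category.assoc, Over.w, Over.w] at h1
      exact h1)
  refine ⟨h, ?_, ?_⟩
  · ext1
    exact h0
  · apply (dsEquiv X M).symm.injective
    change dsChar (h ≫ dsEquiv _ M _) = dsChar q
    rw [dsChar_comp, dsChar_dsEquiv]
    ext m
    change h.left.appTop.hom (gPt R _ (MonoidAlgebra.single m 1)) = dsChar q m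
    have h1 : h.left.appTop.hom (gPt R _ (MonoidAlgebra.single m 1)) = ρ (MonoidAlgebra.single m 1) := by
      exact congr($(ΓSpecIso_inv_comp_appTop X.left (CommRingCat.ofHom ρ.toRingHom)) (MonoidAlgebra.single m 1))
    rw [h1]
    exact (MonoidAlgebra.lift_single _ _ _).trans (one_smul _ _)

lemma exists_eq_ptMap {E E' : Type u} [CommRing E] [CommRing E'] [Algebra R E] [Algebra R E']
    (f : pt R E' ⟶ pt R E) : ∃ φ : E →ₐ[R] E', f = ptMap φ := by
  obtain ⟨φ, hφ⟩ := Spec.map_surjective f.left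
  refine ⟨{ φ.hom with commutes' := ?_ }, ?_⟩
  · intro r
    have h1 := Over.w f
    simp only [Over.mk_hom, Over.mk_left] at h1
    rw [← hφ, ← Spec.map_comp] at h1
    exact congr($(Spec.map_injective h1).hom r)
  · ext1
    exact hφ.symm

lemma ptMap_injective {E E' : Type u} [CommRing E] [CommRing E'] [Algebra R E] [Algebra R E']
    {φ ψ : E →ₐ[R] E'} (h : ptMap φ = ptMap ψ) : φ = ψ := by
  have h1 := congr(($h).left)
  rw [ptMap_left, ptMap_left] at h1
  have h2 := Spec.map_injective h1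
  ext e
  exact congr(($h2).hom e)

end affine

section rep

variable {R : Type u} [CommRing R] {M : Type} [AddCommGroup M]
  {G : Over (Spec (CommRingCat.of R))} [GrpObj G] (a b : Red.DS (Spec (.of R)) M ⟶ G)
  {A : Type u} [CommRing A] [Algebra R A] (e : pt R A ≅ G)

/-- the universal conjugate of `a`, a point of `G` with values in `A[M]` -/
noncomputable def conjPt : pt R (MonoidAlgebra A (Multiplicative M)) ⟶ G :=
  (ptMap (inc A M) ≫ e.hom) * (uchar A M ≫ a) * (ptMap (inc A M) ≫ e.hom)⁻¹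

lemma transp_ptMap_iff {E : Type u} [CommRing E] [Algebra R E] (φ : A →ₐ[R] E) :
    Transp a b (ptMap φ ≫ e.hom) ↔
      ptMap (MonoidAlgebra.mapAlgHom (Multiplicative M) φ) ≫ conjPt a e =
        ptMap (MonoidAlgebra.mapAlgHom (Multiplicative M) φ) ≫ uchar A M ≫ b := by
  have h1 : ptMap (MonoidAlgebra.mapAlgHom (Multiplicative M) φ) ≫ conjPt a e =
      (ptMap (inc E M) ≫ ptMap φ ≫ e.hom) * (uchar E M ≫ a) * (ptMap (inc E M) ≫ ptMap φ ≫ e.hom)⁻¹ := by
    simp only [conjPt, comp_mul, comp_inv, ptMap_mapAlgHom_inc_assoc, ptMap_mapAlgHom_uchar_assoc]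
  rw [h1, ptMap_mapAlgHom_uchar_assoc]
  constructor
  · intro h
    exact h _ _ _
  · intro h Y y q
    obtain ⟨k, rfl, rfl⟩ := exists_pair y q
    have h2 := congr(k ≫ $h)
    simp only [comp_mul, comp_inv, Category.assoc] at h2 ⊢
    exact h2

omit [GrpObj G] in
lemma mapAlgHom_comp_eq_iff [GrpObj G] {u v : A →ₐ[R] MonoidAlgebra A (Multiplicative M)}
    (hu : conjPt a e ≫ e.inv = ptMap u) (hv : uchar A M ≫ b ≫ e.inv = ptMap v)
    {E : Type u} [CommRing E] [Algebra R E] (φ : A →ₐ[R] E) :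
    Transp a b (ptMap φ ≫ e.hom) ↔
        (MonoidAlgebra.mapAlgHom (Multiplicative M) φ).comp u = (MonoidAlgebra.mapAlgHom (Multiplicative M) φ).comp v := by
  rw [transp_ptMap_iff]
  constructor
  · intro h
    apply ptMap_injective
    rw [← ptMap_comp, ← ptMap_comp, ← hu, ← hv]
    have := congr($h ≫ e.inv)
    simpa only [Category.assoc] using this
  · intro h
    have h2 := congr(ptMap $h ≫ e.hom)
    rw [← ptMap_comp, ← ptMap_comp, ← hu, ← hv] at h2
    simpa only [Category.assoc, Iso.inv_hom_id, Category.comp_id] using h2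

/-- the ideal generated by the coefficients of `u x - v x` for `x ∈ S` -/
noncomputable def coefIdeal (u v : A →ₐ[R] MonoidAlgebra A (Multiplicative M)) (S : Finset A) : Ideal A :=
  letI := Classical.decEq A
  Ideal.span ((S.biUnion fun x => (u x - v x).coeff.support.image fun m => (u x - v x).coeff m : Finset A) : Set A)

lemma coefIdeal_fg (u v : A →ₐ[R] MonoidAlgebra A (Multiplicative M)) (S : Finset A) : (coefIdeal u v S).FG :=
  letI := Classical.decEq A
  ⟨_, rfl⟩

lemma coefIdeal_le_ker_iff (u v : A →ₐ[R] MonoidAlgebra A (Multiplicative M)) (S : Finset A)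
    (hS : Algebra.adjoin R (S : Set A) = ⊤) {E : Type u} [CommRing E] [Algebra R E] (φ : A →ₐ[R] E) :
    coefIdeal u v S ≤ RingHom.ker φ ↔
        (MonoidAlgebra.mapAlgHom (Multiplicative M) φ).comp u = (MonoidAlgebra.mapAlgHom (Multiplicative M) φ).comp v := by
  classical
  constructor
  · intro h
    refine AlgHom.ext_of_adjoin_eq_top hS fun x hx => ?_
    ext m
    rw [AlgHom.comp_apply, AlgHom.comp_apply, MonoidAlgebra.coeff_mapAlgHom, MonoidAlgebra.coeff_mapAlgHom, ← sub_eq_zero,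
      ← map_sub]
    have h4 : (u x - v x).coeff m = (u x).coeff m - (v x).coeff m := rfl
    rw [← h4]
    by_cases hm : (u x - v x).coeff m = 0
    · rw [hm, map_zero]
    · apply h
      apply Ideal.subset_span
      simp only [Finset.coe_biUnion, Set.mem_iUnion, Finset.coe_image, Set.mem_image]
      exact ⟨x, hx, m, Finsupp.mem_support_iff.mpr hm, rfl⟩
  · intro h
    rw [coefIdeal, Ideal.span_le]
    intro c hc
    simp only [Finset.coe_biUnion, Set.mem_iUnion, Finset.coe_image, Set.mem_image] at hc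
    obtain ⟨x, -, m, -, rfl⟩ := hc
    have h3 := congr(($(AlgHom.congr_fun h x)).coeff m)
    simp only [AlgHom.comp_apply, MonoidAlgebra.coeff_mapAlgHom] at h3
    rw [SetLike.mem_coe, RingHom.mem_ker]
    have h4 : (u x - v x).coeff m = (u x).coeff m - (v x).coeff m := rfl
    rw [h4, map_sub, h3, sub_self]

lemma exists_ideal_aux [Algebra.FiniteType R A] :
    ∃ J : Ideal A, J.FG ∧ (∀ (E : Type u) [CommRing E] [Algebra R E] (φ : A →ₐ[R] E),
      Transp a b (ptMap φ ≫ e.hom) ↔ J ≤ RingHom.ker φ) := by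
  obtain ⟨u, hu⟩ := exists_eq_ptMap (conjPt a e ≫ e.inv)
  obtain ⟨v, hv⟩ := exists_eq_ptMap (uchar A M ≫ b ≫ e.inv)
  have hft : Algebra.FiniteType R A := inferInstance
  obtain ⟨S, hS⟩ := hft.out
  exact ⟨coefIdeal u v S, coefIdeal_fg u v S, fun E _ _ φ =>
    (mapAlgHom_comp_eq_iff a b e hu hv φ).trans (coefIdeal_le_ker_iff u v S hS φ).symm⟩

end rep

section lift

/-- Lifting of the strict transporter modulo a square zero ideal. -/
lemma exists_transp_lift {S : Scheme.{u}} {G : Over S} [GrpObj G] [IsAffineHom G.hom]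
    {M : Type} [AddCommGroup M] (a b : Red.DS S M ⟶ G) [IsMonHom a] [IsMonHom b]
    {C : Type u} [CommRing C] (x : Spec (CommRingCat.of C) ⟶ S) (I : Ideal C) (hI : I * I = ⊥)
    (g : Over.mk x ⟶ G) (hg : Transp a b (redMap x I ≫ g)) :
    ∃ g' : Over.mk x ⟶ G, Transp a b g' ∧ redMap x I ≫ g' = redMap x I ≫ g := by
  let a' : Red.DS S M ⊗ Over.mk x ⟶ G := (snd _ _ ≫ g) * (fst _ _ ≫ a) * (snd _ _ ≫ g)⁻¹
  let b' : Red.DS S M ⊗ Over.mk x ⟶ G := fst _ _ ≫ b
  have ha' : AutFam.IsHomFamily (Red.DS S M) G a' := by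
    intro X g₁ g₂ t
    simp only [a', comp_mul, comp_inv, lift_fst_assoc, lift_snd_assoc, MonObj.mul_comp]
    group
  have hb' : AutFam.IsHomFamily (Red.DS S M) G b' := by
    intro X g₁ g₂ t
    simp only [b', lift_fst_assoc, MonObj.mul_comp]
  have hbc : IsAffineHom (Red.bc x G).hom := inferInstanceAs (IsAffineHom (pullback.snd G.hom x))
  have hbcaff : IsAffine (Red.bc x G).left := isAffine_of_isAffineHom (Red.bc x G).hom
  obtain ⟨w, hw1, hw2⟩ := infConj_family x G I hI (hasAffineUnitNhd_of_isAffine _) a' b' ha' hb' (by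
    have h6 := hg _ (snd (Red.DS S M) _) (fst _ _)
    simp only [a', b', comp_mul, comp_inv, whiskerLeft_fst_assoc, whiskerLeft_snd_assoc]
    exact h6)
  refine ⟨w⁻¹ * g, ?_, ?_⟩
  · intro Y y q
    have h7 := hw2 Y q y
    simp only [a', b', comp_mul, comp_inv, lift_fst_assoc, lift_snd_assoc] at h7
    simp only [comp_mul, comp_inv]
    have h8 : q ≫ b = (y ≫ w)⁻¹ * ((y ≫ g) * (q ≫ a) * (y ≫ g)⁻¹) * (y ≫ w) := by
      rw [h7]
      group
    rw [h8]
    group
  · simp only [comp_mul, comp_inv, hw1]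
    group

variable {R : Type u} [CommRing R] {C : Type u} [CommRing C] [Algebra R C]

lemma quot_w (I : Ideal C) : Spec.map (CommRingCat.ofHom (Ideal.Quotient.mk I)) ≫
    Spec.map (CommRingCat.ofHom (algebraMap R C)) = Spec.map (CommRingCat.ofHom (algebraMap R (C ⧸ I)))  := by
  rw [← Spec.map_comp, ← CommRingCat.ofHom_comp]

/-- `Spec (C/I)` over `Spec R`, two descriptions. -/
noncomputable def quotIso (I : Ideal C) :
    Over.mk (Spec.map (CommRingCat.ofHom (Ideal.Quotient.mk I)) ≫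
      Spec.map (CommRingCat.ofHom (algebraMap R C))) ≅ pt R (C ⧸ I) :=
  Over.isoMk (Iso.refl (Spec (CommRingCat.of (C ⧸ I)))) (by
    change 𝟙 (Spec (CommRingCat.of (C ⧸ I))) ≫ Spec.map (CommRingCat.ofHom (algebraMap R (C ⧸ I))) =
      Spec.map (CommRingCat.ofHom (Ideal.Quotient.mk I)) ≫ Spec.map (CommRingCat.ofHom (algebraMap R C))
    rw [quot_w, Category.id_comp])

lemma quotIso_hom_ptMap (I : Ideal C) :
    (quotIso (R := R) I).hom ≫ ptMap (Ideal.Quotient.mkₐ R I) =
      redMap (Spec.map (CommRingCat.ofHom (algebraMap R C))) I := by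
  apply Over.OverMorphism.ext
  rw [Over.comp_left]
  change 𝟙 (Spec (CommRingCat.of (C ⧸ I))) ≫ Spec.map (CommRingCat.ofHom (Ideal.Quotient.mk I)) =
    Spec.map (CommRingCat.ofHom (Ideal.Quotient.mk I))
  rw [Category.id_comp]

lemma exists_transp_lift_pt {G : Over (Spec (CommRingCat.of R))} [GrpObj G] [IsAffineHom G.hom]
    {M : Type} [AddCommGroup M] (a b : Red.DS (Spec (CommRingCat.of R)) M ⟶ G) [IsMonHom a] [IsMonHom b]
    (I : Ideal C) (hI : I * I = ⊥)
    (g : pt R C ⟶ G) (hg : Transp a b (ptMap (Ideal.Quotient.mkₐ R I) ≫ g)) :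
    ∃ g' : pt R C ⟶ G, Transp a b g' ∧
      ptMap (Ideal.Quotient.mkₐ R I) ≫ g' = ptMap (Ideal.Quotient.mkₐ R I) ≫ g := by
  obtain ⟨g', h1, h2⟩ := exists_transp_lift a b (Spec.map (CommRingCat.ofHom (algebraMap R C))) I hI g (by
    rw [← quotIso_hom_ptMap, Category.assoc]
    exact hg.comp _)
  refine ⟨g', h1, ?_⟩
  rw [← quotIso_hom_ptMap, Category.assoc, Category.assoc, cancel_epi] at h2
  exact h2

end lift

section main

variable {R : Type u} [CommRing R] {M : Type} [AddCommGroup M]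
  {G : Over (Spec (CommRingCat.of R))} [GrpObj G] (a b : Red.DS (Spec (.of R)) M ⟶ G)
  {A : Type u} [CommRing A] [Algebra R A] (e : pt R A ≅ G)

/-- Over an affine base, with `G` affine and smooth, the strict transporter of two homomorphisms from a
diagonalisable group is a closed subscheme of `G` which is smooth over the base. -/
theorem exists_ideal [Algebra.Smooth R A] [IsMonHom a] [IsMonHom b] :
    ∃ J : Ideal A, J.FG ∧ (∀ (E : Type u) [CommRing E] [Algebra R E] (φ : A →ₐ[R] E),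
      Transp a b (ptMap φ ≫ e.hom) ↔ J ≤ RingHom.ker φ) ∧ Algebra.Smooth R (A ⧸ J) := by
  obtain ⟨J, hJ, key⟩ := exists_ideal_aux a b e
  refine ⟨J, hJ, key, ?_⟩
  have hiso : IsIso e.inv.left := inferInstanceAs (IsIso ((Over.forget _).map e.inv))
  have hptaff : IsAffine (pt R A).left := inferInstanceAs (IsAffine (Spec (CommRingCat.of A)))
  have hGaff : IsAffine G.left := IsAffine.of_isIso e.inv.left
  have hRaff : IsAffine ((Functor.fromPUnit (Spec (CommRingCat.of R))).obj G.right) :=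
    inferInstanceAs (IsAffine (Spec (CommRingCat.of R)))
  have hGaff' : IsAffineHom G.hom := isAffineHom_of_isAffine _
  have hfp : Algebra.FinitePresentation R (A ⧸ J) := Algebra.FinitePresentation.quotient hJ
  refine ⟨Algebra.FormallySmooth.of_comp_surjective ?_, hfp⟩
  intro C _ _ I hI f
  have hI' : I * I = ⊥ := by rwa [pow_two] at hI
  obtain ⟨φ, hφ⟩ := Algebra.FormallySmooth.comp_surjective R A I hI (f.comp (Ideal.Quotient.mkₐ R J))
  have hφ' : (Ideal.Quotient.mkₐ R I).comp φ = f.comp (Ideal.Quotient.mkₐ R J) := hφ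
  have hker : J ≤ RingHom.ker (f.comp (Ideal.Quotient.mkₐ R J)) := by
    intro j hj
    rw [RingHom.mem_ker]
    change f (Ideal.Quotient.mk J j) = 0
    rw [Ideal.Quotient.eq_zero_iff_mem.mpr hj, map_zero]
  have h1 := (key _ _).mpr hker
  rw [← hφ', ← ptMap_comp, Category.assoc] at h1
  obtain ⟨g', hg', hg''⟩ := exists_transp_lift_pt a b I hI' (ptMap φ ≫ e.hom) h1
  obtain ⟨φ', hφ1⟩ := exists_eq_ptMap (R := R) (E := A) (E' := C) (g' ≫ e.inv)
  have h9 : g' = ptMap φ' ≫ e.hom := by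
    rw [← hφ1, Category.assoc, Iso.inv_hom_id, Category.comp_id]
  have h10 : J ≤ RingHom.ker φ' := (key _ φ').mp (h9 ▸ hg')
  refine ⟨Ideal.Quotient.liftₐ J φ' h10, ?_⟩
  refine Ideal.Quotient.algHom_ext _ ?_
  rw [h9, ← cancel_mono e.inv] at hg''
  simp only [Category.assoc, Iso.hom_inv_id, Category.comp_id] at hg''
  rw [ptMap_comp, ptMap_comp] at hg''
  have h16 := ptMap_injective hg''
  rw [hφ'] at h16
  rw [← h16]
  rfl

end main

end Groth.Agent.Sga3B.TorTransp
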