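import Groth.Agent.Sga3B.TorusUniv
import Mathlib.RingTheory.Smooth.Basic

/-!
# Smooth neighbourhoods of homomorphisms from a diagonalisable group to a smooth affine group
-/

set_option autoImplicit false

open TensorProduct Coalgebra Bialgebra WithConv
open Groth.Agent.Sga3B.HaarDef Groth.Agent.Sga3B.TorusWt Groth.Agent.Sga3B.TorusUniv

namespace Groth.Agent.Sga3B.TorusSmooth

noncomputable section

universe u

variable {R : Type u} [CommRing R] {N : Type} [CommGroup N]
variable {C : Type u} [CommRing C] [HopfAlgebra R C]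
variable {E : Type u} [AddCommGroup E] [Module R E] {ρ : E →ₗ[R] E ⊗[R] C}

/-- Weights not occurring at a field-valued point do not occur in a neighbourhood. -/
theorem exists_smul_act_eq_zero (hρ : IsComod C ρ) [Module.Finite R E] {P : Type u} [CommRing P] [Algebra R P]
    {U : WithConv (C →ₐ[R] MonoidAlgebra R N ⊗[R] P)} (hU : IsHom U) {K : Type u} [Field K] [Algebra R K]
    (g : P →ₐ[R] K) {W : Set N} (hW : SuppIn ρ (pushG (T (MonoidAlgebra R N) g) U) W) :
    ∃ a : P, g a ≠ 0 ∧ ∀ n, n ∉ W → ∀ z, a • act ρ (cf U n) z = 0 := by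
  classical
  obtain ⟨s, hs, -⟩ := exists_finset_act hρ hU
  let _ : Algebra P K := g.toRingHom.toAlgebra
  have : IsScalarTower R P K := IsScalarTower.of_algebraMap_eq fun x => (g.commutes x).symm
  have key : ∀ n, n ∉ W → ∃ a : P, g a ≠ 0 ∧ ∀ z, a • act ρ (cf U n) z = 0 := by
    intro n hn
    let p := act ρ (cf U n)
    have hpp : ∀ z, p (p z) = p z := by
      intro z
      have := act_cf_comp hρ hU n n
      rw [if_pos rfl] at this
      exact LinearMap.congr_fun this z
    let M := LinearMap.range p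
    have hsub : Subsingleton (K ⊗[P] M) := by
      rw [subsingleton_iff_forall_eq 0]
      intro w
      induction w using TensorProduct.induction_on with
      | zero => rfl
      | tmul k m =>
        obtain ⟨_, z, rfl⟩ := m
        have h1 : (⟨p z, ⟨z, rfl⟩⟩ : M) = p.rangeRestrict (p z) := by
          apply Subtype.ext
          exact (hpp z).symm
        have h2 : (1 : K) ⊗ₜ[P] (p z) = 0 := by
          apply (AlgebraTensorModule.cancelBaseChange R P K K E).injective
          rw [map_zero]
          have h3 : ∀ y : P ⊗[R] E, (AlgebraTensorModule.cancelBaseChange R P K K E) ((1 : K) ⊗ₜ[P] y) =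
              g.toLinearMap.rTensor E y := by
            intro y
            induction y using TensorProduct.induction_on with
            | zero => simp
            | tmul a b =>
              rw [AlgebraTensorModule.cancelBaseChange_tmul, LinearMap.rTensor_tmul]
              congr 1
              rw [Algebra.smul_def, mul_one]
              rfl
            | add a b ha hb => rw [TensorProduct.tmul_add, map_add, map_add, ha, hb]
          rw [h3]
          show g.toLinearMap.rTensor E (act ρ (cf U n) z) = 0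
          rw [act_push, ← cf_pushG_T, hW n hn]
          rfl
        have h4 : k ⊗ₜ[P] (⟨p z, ⟨z, rfl⟩⟩ : M) =
            k • (LinearMap.lTensor K p.rangeRestrict) ((1 : K) ⊗ₜ[P] (p z)) := by
          rw [LinearMap.lTensor_tmul, ← h1, TensorProduct.smul_tmul', smul_eq_mul, mul_one]
        rw [h4, h2, map_zero, smul_zero]
      | add a b ha hb => rw [ha, hb, add_zero]
    obtain ⟨a, ha, ha'⟩ := FibreNak.exists_smul_eq_zero (P := P) (K := K) (M := M) hsub
    refine ⟨a, ha, fun z => ?_⟩
    have := congrArg Subtype.val (ha' ⟨p z, ⟨z, rfl⟩⟩)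
    exact this
  choose! a ha ha' using key
  refine ⟨∏ n ∈ s.filter (· ∉ W), a n, ?_, ?_⟩
  · rw [map_prod, Finset.prod_ne_zero_iff]
    intro n hn
    exact ha n (Finset.mem_filter.1 hn).2
  · intro n hn z
    by_cases hns : n ∈ s
    · obtain ⟨b, hb⟩ := Finset.dvd_prod_of_mem a (Finset.mem_filter.2 ⟨hns, hn⟩ : n ∈ s.filter (· ∉ W))
      rw [hb, mul_comm, mul_smul, ha' n hn, smul_zero]
    · rw [hs n hns]
      simp

/-- If `a` kills the weight spaces outside `W` then they vanish as soon as `a` is invertible. -/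
theorem suppIn_of_isUnit {P : Type u} [CommRing P] [Algebra R P]
    {U : WithConv (C →ₐ[R] MonoidAlgebra R N ⊗[R] P)} {W : Set N} {a : P}
    (ha : ∀ n, n ∉ W → ∀ z, a • act ρ (cf U n) z = 0) {P' : Type u} [CommRing P'] [Algebra R P']
    (h : P →ₐ[R] P') (hu : IsUnit (h a)) : SuppIn ρ (pushG (T (MonoidAlgebra R N) h) U) W := by
  intro n hn
  rw [cf_pushG_T]
  ext e
  simp only [AlgebraTensorModule.curry_apply, LinearMap.restrictScalars_self, curry_apply,
    LinearMap.coe_restrictScalars, LinearMap.zero_apply]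
  have h1 := act_push ρ h (cf U n) (1 ⊗ₜ e)
  rw [LinearMap.rTensor_tmul, AlgHom.toLinearMap_apply, map_one] at h1
  rw [← h1]
  have h2 : h a • h.toLinearMap.rTensor E (act ρ (cf U n) (1 ⊗ₜ e)) = 0 := by
    rw [← rTensor_smul, ha n hn, map_zero]
  exact hu.smul_left_cancel.1 (h2.trans (smul_zero _).symm)

lemma isUnit_of_isUnit_mk {B : Type*} [CommRing B] {I : Ideal B} (hI : I ^ 2 = ⊥) {x : B}
    (hx : IsUnit (Ideal.Quotient.mk I x)) : IsUnit x := by
  obtain ⟨y, hy⟩ := hx.exists_right_inv
  obtain ⟨y, rfl⟩ := Ideal.Quotient.mk_surjective y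
  rw [← map_mul, ← map_one (Ideal.Quotient.mk I), Ideal.Quotient.mk_eq_mk_iff_sub_mem] at hy
  have h1 : (x * y - 1) ^ 2 = 0 := by
    have : (x * y - 1) ^ 2 ∈ I ^ 2 := Ideal.pow_mem_pow hy 2
    rw [hI] at this
    simpa using this
  have h2 : x * (2 * y - x * y * y) = 1 := by linear_combination -h1
  exact IsUnit.of_mul_eq_one _ h2

/-- **Formal smoothness** of the bounded part of the functor of homomorphisms. -/
theorem formallySmooth_away [Algebra.FormallySmooth R C] (hρ : IsComod C ρ) [Module.Finite R E]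
    {l : E →ₗ[R] R} {ι' : Type} (e : ι' → E) {W : Finset N}
    {P : Type u} [CommRing P] [Algebra R P] {U : WithConv (C →ₐ[R] MonoidAlgebra R N ⊗[R] P)} (hU : IsHom U)
    (huniv : ∀ (A : Type u) [CommRing A] [Algebra R A] (F : WithConv (C →ₐ[R] MonoidAlgebra R N ⊗[R] A)),
        IsHom F → SuppCl (fun i => mc ρ l (e i)) F W → ∃! g : P →ₐ[R] A, pushG (T (MonoidAlgebra R N) g) U = F)
    {a : P} (ha : ∀ n, n ∉ (W : Set N) → ∀ z, a • act ρ (cf U n) z = 0) :
    Algebra.FormallySmooth R (Localization.Away a) := by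
  apply Algebra.FormallySmooth.of_comp_surjective
  intro B _ _ I hI f₀
  let h : P →ₐ[R] Localization.Away a := IsScalarTower.toAlgHom R P (Localization.Away a)
  have hha : IsUnit (h a) := IsLocalization.Away.algebraMap_isUnit a
  have hS : SuppIn ρ (pushG (T (MonoidAlgebra R N) h) U) (W : Set N) := suppIn_of_isUnit ha h hha
  set F₀ := pushG (T (MonoidAlgebra R N) f₀) (pushG (T (MonoidAlgebra R N) h) U) with hF₀
  have hF₀h : IsHom F₀ := (hU.map h).map f₀
  have hker : (RingHom.ker (Ideal.Quotient.mkₐ R I)) ^ 2 = ⊥ := by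
    rw [show RingHom.ker (Ideal.Quotient.mkₐ R I) = I from Ideal.mk_ker]
    exact hI
  obtain ⟨F, hF, hFF₀⟩ := exists_lift_isHom (haarMonoidAlgebra (R := R) N)
    (π := Ideal.Quotient.mkₐ R I) Ideal.Quotient.mk_surjective hker hF₀h
  have hFW : SuppIn ρ F (W : Set N) := by
    refine SuppIn.of_thickening hρ (π := Ideal.Quotient.mkₐ R I) Ideal.Quotient.mk_surjective hker hF ?_
    rw [hFF₀]
    exact hS.map f₀
  obtain ⟨g, hg, -⟩ := huniv B F hF (fun i n hn => hFW.cf_mc l (e i) (by simpa using hn))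
  have hcomp : (Ideal.Quotient.mkₐ R I).comp g = f₀.comp h := by
    obtain ⟨g', hg', hg''⟩ := huniv (B ⧸ I) F₀ hF₀h
      (fun i n hn => (hS.map f₀).cf_mc l (e i) (by simpa using hn))
    rw [hg'' ((Ideal.Quotient.mkₐ R I).comp g), hg'' (f₀.comp h)]
    · show pushG (T (MonoidAlgebra R N) (f₀.comp h)) U = F₀
      rw [hF₀, pushG_comp, T_comp]
    · show pushG (T (MonoidAlgebra R N) ((Ideal.Quotient.mkₐ R I).comp g)) U = F₀
      rw [← hFF₀, ← hg, pushG_comp, T_comp]
  have hga : IsUnit (g a) := by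
    apply isUnit_of_isUnit_mk hI
    have h1 : Ideal.Quotient.mk I (g a) = f₀ (h a) := AlgHom.congr_fun hcomp a
    rw [h1]
    exact hha.map f₀
  have hgu : ∀ y : Submonoid.powers a, IsUnit (g y) := by
    rintro ⟨_, k, rfl⟩
    show IsUnit (g (a ^ k))
    rw [map_pow]
    exact hga.pow k
  refine ⟨IsLocalization.liftAlgHom (M := Submonoid.powers a) (f := g) hgu, ?_⟩
  show (Ideal.Quotient.mkₐ R I).comp (IsLocalization.liftAlgHom (M := Submonoid.powers a) (f := g) hgu) = f₀
  apply AlgHom.coe_ringHom_injective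
  apply IsLocalization.ringHom_ext (Submonoid.powers a)
  ext x
  simp only [RingHom.comp_apply, RingHom.coe_coe, AlgHom.comp_apply, IsLocalization.liftAlgHom_apply,
    IsLocalization.lift_eq]
  exact AlgHom.congr_fun hcomp x

lemma adjoin_mc {l : E →ₗ[R] R} {ι' : Type} {e : ι' → E} (he : Submodule.span R (Set.range e) = ⊤)
    (hgen : Algebra.adjoin R (Set.range (mc ρ l)) = ⊤) :
    Algebra.adjoin R (Set.range fun i => mc ρ l (e i)) = ⊤ := by
  rw [eq_top_iff, ← hgen]
  apply Algebra.adjoin_le
  rintro _ ⟨x, rfl⟩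
  have hx : x ∈ Submodule.span R (Set.range e) := by rw [he]; trivial
  have hadd : ∀ x y, mc ρ l (x + y) = mc ρ l x + mc ρ l y := by
    intro x y; simp [mc]
  have hsmul : ∀ (r : R) x, mc ρ l (r • x) = r • mc ρ l x := by
    intro x y; simp [mc]
  have hzero : mc ρ l 0 = 0 := by simp [mc]
  induction hx using Submodule.span_induction with
  | mem y hy =>
    obtain ⟨i, rfl⟩ := hy
    exact Algebra.subset_adjoin ⟨i, rfl⟩
  | zero => rw [hzero]; exact Subalgebra.zero_mem _
  | add x y _ _ hx hy => rw [hadd]; exact Subalgebra.add_mem _ hx hy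
  | smul r x _ hx => rw [hsmul]; exact Subalgebra.smul_mem _ hx r

/-- **Smooth neighbourhood.** Let `G = Spec C` be a smooth affine group over `R` (with a finite comodule whose matrix
coefficients generate `C`). Every homomorphism `D(N)_K → G_K` over a field-valued point `R → K` is induced from a
homomorphism `D(N)_Q → G_Q` over a smooth `R`-algebra `Q` with a point `Q → K`. -/
theorem exists_smooth_nbhd [Algebra.Smooth R C] (hρ : IsComod C ρ) [Module.Finite R E] (l : E →ₗ[R] R)
    (hgen : Algebra.adjoin R (Set.range (mc ρ l)) = ⊤) {K : Type u} [Field K] [Algebra R K]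
    {F₀ : WithConv (C →ₐ[R] MonoidAlgebra R N ⊗[R] K)} (hF₀ : IsHom F₀) :
    ∃ (Q : Type u) (_ : CommRing Q) (_ : Algebra R Q) (U : WithConv (C →ₐ[R] MonoidAlgebra R N ⊗[R] Q))
      (g : Q →ₐ[R] K), Algebra.Smooth R Q ∧ IsHom U ∧ pushG (T (MonoidAlgebra R N) g) U = F₀ := by
  classical
  obtain ⟨W, hW, -⟩ := exists_finset_act hρ hF₀
  obtain ⟨k, e, he⟩ := Module.Finite.exists_fin (R := R) (M := E)
  have hWs : SuppIn ρ F₀ (W : Set N) := fun n hn => hW n (by simpa using hn)
  obtain ⟨P, _, _, U, hfp, hU, hUW, huniv⟩ := exists_universal (fun i => mc ρ l (e i)) (adjoin_mc he hgen) W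
  obtain ⟨g, hg, -⟩ := huniv K F₀ hF₀ (fun i n hn => hWs.cf_mc l (e i) (by simpa using hn))
  obtain ⟨a, ha, ha'⟩ := exists_smul_act_eq_zero hρ hU g (W := W) (by rw [hg]; exact hWs)
  have hsm := formallySmooth_away hρ e hU huniv ha'
  have hfpa : Algebra.FinitePresentation R (Localization.Away a) :=
    Algebra.FinitePresentation.trans R P (Localization.Away a)
  let h : P →ₐ[R] Localization.Away a := IsScalarTower.toAlgHom R P (Localization.Away a)
  have hgu : ∀ y : Submonoid.powers a, IsUnit (g y) := by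
    rintro ⟨_, k, rfl⟩
    show IsUnit (g (a ^ k))
    rw [map_pow]
    exact (isUnit_iff_ne_zero.2 ha).pow k
  refine ⟨Localization.Away a, inferInstance, inferInstance, pushG (T (MonoidAlgebra R N) h) U,
    IsLocalization.liftAlgHom (M := Submonoid.powers a) (f := g) hgu, ⟨hsm, hfpa⟩, hU.map h, ?_⟩
  rw [pushG_comp, T_comp, ← hg]
  congr 2
  congr 1
  apply AlgHom.ext
  intro x
  simp only [h, AlgHom.comp_apply, IsScalarTower.coe_toAlgHom', IsLocalization.liftAlgHom_apply,
    IsLocalization.lift_eq]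
  rfl

end

end Groth.Agent.Sga3B.TorusSmooth
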