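import Groth.Agent.Sga3B.HomFunAff898
import Groth.Agent.Sga3B.OverAff898
import Groth.Agent.Sga3B.TorusSmooth

/-!
# Charts of the functor of homomorphisms from a diagonalisable group to a smooth affine group
-/

set_option autoImplicit false
open CategoryTheory MonoidalCategory CartesianMonoidalCategory AlgebraicGeometry Opposite Limits
open scoped TensorProduct
universe w u

namespace Groth.Agent.Sga3B.TorusChart898
open Groth.Agent.Books.AffBridge Groth.Agent.Picfga.OverRep Groth.Agent.Sga3B.HomFun898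
open Groth.Agent.Sga3B.HomFunAff898 Groth.Agent.Sga3B.OverAff898
open Groth.Agent.Sga3B.HaarDef Groth.Agent.Sga3B.TorusWt Groth.Agent.Sga3B.TorusUniv
open Groth.Agent.Sga3B.TorusSmooth

variable {R : Type u} [CommRing R] {N : Type} [CommGroup N]
variable {C : Type u} [CommRing C] [HopfAlgebra R C]
variable {E : Type u} [AddCommGroup E] [Module R E] {ρ : E →ₗ[R] E ⊗[R] C}

section locus
variable {P : Type u} [CommRing P] [Algebra R P] {A : Type u} [CommRing A] [Algebra R A]

variable (ρ) in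
/-- The elements killing the weight spaces outside `W`. -/
def bad (W : Finset N) (U : WithConv (C →ₐ[R] MonoidAlgebra R N ⊗[R] P)) : Ideal P where
  carrier := {a | ∀ n, n ∉ (W : Set N) → ∀ z, a • act ρ (cf U n) z = 0}
  add_mem' := by
    intro a b ha hb n hn z
    rw [add_smul, ha n hn z, hb n hn z, add_zero]
  zero_mem' := by
    intro n hn z
    rw [zero_smul]
  smul_mem' := by
    intro c a ha n hn z
    rw [smul_eq_mul, mul_smul, ha n hn z, smul_zero]

lemma mem_bad {W : Finset N} {U : WithConv (C →ₐ[R] MonoidAlgebra R N ⊗[R] P)} {a : P} :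
    a ∈ bad ρ W U ↔ ∀ n, n ∉ (W : Set N) → ∀ z, a • act ρ (cf U n) z = 0 := Iff.rfl

lemma suppIn_of_map_eq_top {W : Finset N} {U : WithConv (C →ₐ[R] MonoidAlgebra R N ⊗[R] P)}
    (g : P →ₐ[R] A) (h : (bad ρ W U).map g = ⊤) :
    SuppIn ρ (pushG (T (MonoidAlgebra R N) g) U) (W : Set N) := by
  intro n hn
  rw [cf_pushG_T]
  ext e
  simp only [TensorProduct.AlgebraTensorModule.curry_apply, TensorProduct.curry_apply,
    LinearMap.coe_restrictScalars, LinearMap.zero_apply]
  have h1 := act_push ρ g (cf U n) (1 ⊗ₜ e)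
  rw [LinearMap.rTensor_tmul, AlgHom.toLinearMap_apply, map_one] at h1
  rw [← h1]
  have h2 : ∀ a ∈ bad ρ W U, g a • g.toLinearMap.rTensor E (act ρ (cf U n) (1 ⊗ₜ e)) = 0 := by
    intro a ha
    rw [← rTensor_smul, ha n hn, map_zero]
  have h3 : (bad ρ W U).map g ≤
      LinearMap.ker (LinearMap.toSpanSingleton A (A ⊗[R] E) (g.toLinearMap.rTensor E (act ρ (cf U n) (1 ⊗ₜ e)))) := by
    rw [Ideal.map_le_iff_le_comap]
    intro a ha
    exact h2 a ha
  rw [h] at h3
  have h4 := h3 (show (1 : A) ∈ (⊤ : Ideal A) from trivial)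
  simpa using h4

lemma map_eq_top_of_suppIn (hρ : IsComod C ρ) [Module.Finite R E] {W : Finset N}
    {U : WithConv (C →ₐ[R] MonoidAlgebra R N ⊗[R] P)} (hU : IsHom U)
    (g : P →ₐ[R] A) (h : SuppIn ρ (pushG (T (MonoidAlgebra R N) g) U) (W : Set N)) :
    (bad ρ W U).map g = ⊤ := by
  by_contra hne
  obtain ⟨m, hm, hle⟩ := Ideal.exists_le_maximal _ hne
  let _ := Ideal.Quotient.field m
  let q : A →ₐ[R] A ⧸ m := Ideal.Quotient.mkₐ R m
  obtain ⟨a, ha, ha'⟩ := exists_smul_act_eq_zero hρ hU (q.comp g) (W := (W : Set N)) (by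
    rw [← T_comp, ← pushG_comp]
    exact h.map q)
  apply ha
  have : g a ∈ m := hle (Ideal.mem_map_of_mem g ha')
  exact Ideal.Quotient.eq_zero_iff_mem.2 this

end locus

section chart
variable {W : Finset N} {P : Type u} [CommRing P] [Algebra R P]
variable {U : WithConv (C →ₐ[R] MonoidAlgebra R N ⊗[R] P)}

variable (ρ) in
/-- The open locus where the weights are in `W`. -/
def O (W : Finset N) (U : WithConv (C →ₐ[R] MonoidAlgebra R N ⊗[R] P)) : (SpecOver R P).left.Opens :=
  ⟨(PrimeSpectrum.zeroLocus (bad ρ W U : Set P))ᶜ, (PrimeSpectrum.isClosed_zeroLocus _).isOpen_compl⟩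

lemma mem_O_iff (x : (SpecOver R P).left) :
    x ∈ O ρ W U ↔ ∃ a ∈ bad ρ W U, a ∉ PrimeSpectrum.asIdeal x := by
  have h : ∀ y : PrimeSpectrum P, y ∈ (PrimeSpectrum.zeroLocus (bad ρ W U : Set P))ᶜ ↔
      ∃ a ∈ bad ρ W U, a ∉ y.asIdeal := by
    intro y
    rw [Set.mem_compl_iff, PrimeSpectrum.mem_zeroLocus, Set.not_subset]
    rfl
  exact h x

variable {A : Type u} [CommRing A] [Algebra R A]

lemma map_eq_top_iff (g : P →ₐ[R] A) :
    (bad ρ W U).map g = ⊤ ↔ Set.range (specMap R g).left ⊆ O ρ W U := by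
  constructor
  · rintro h _ ⟨y, rfl⟩
    by_contra hy
    have h1 : ∀ a ∈ bad ρ W U, g a ∈ PrimeSpectrum.asIdeal y := by
      intro a ha
      by_contra hn
      exact hy ((mem_O_iff _).2 ⟨a, ha, hn⟩)
    have h2 : (bad ρ W U).map g ≤ PrimeSpectrum.asIdeal y := Ideal.map_le_iff_le_comap.2 h1
    rw [h] at h2
    exact (PrimeSpectrum.isPrime y).ne_top (top_le_iff.1 h2)
  · intro h
    by_contra hne
    obtain ⟨m, hm, hle⟩ := Ideal.exists_le_maximal _ hne
    let y : PrimeSpectrum A := ⟨m, hm.isPrime⟩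
    obtain ⟨a, ha, ha'⟩ := (mem_O_iff _).1 (h ⟨y, rfl⟩)
    exact ha' (hle (Ideal.mem_map_of_mem g ha))

variable (ρ) in
/-- The chart. -/
noncomputable abbrev X (W : Finset N) (U : WithConv (C →ₐ[R] MonoidAlgebra R N ⊗[R] P)) :
    Over (Spec (CommRingCat.of R)) :=
  Over.mk ((O ρ W U).ι ≫ (SpecOver R P).hom)

variable (ρ) in
/-- the inclusion of the chart in the affine scheme -/
noncomputable abbrev inc (W : Finset N) (U : WithConv (C →ₐ[R] MonoidAlgebra R N ⊗[R] P)) :
    X ρ W U ⟶ SpecOver R P := res (SpecOver R P) (O ρ W U)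

instance : IsOpenImmersion (inc ρ W U).left := inferInstanceAs (IsOpenImmersion (O ρ W U).ι)

lemma range_inc : Set.range (inc ρ W U).left = O ρ W U := Scheme.Opens.range_ι _

/-- The family attached to a homomorphism. -/
noncomputable def hf (F : WithConv (C →ₐ[R] MonoidAlgebra R N ⊗[R] A)) (hF : IsHom F) :
    (homFun (SpecOver R (MonoidAlgebra R N)) (SpecOver R C)).obj (op (SpecOver R A)) :=
  ⟨famOf F, (isHomFamily_famOf_iff F).2 hF⟩

lemma hf_injective {F F' : WithConv (C →ₐ[R] MonoidAlgebra R N ⊗[R] A)} {hF : IsHom F} {hF' : IsHom F'}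
    (h : hf F hF = hf F' hF') : F = F' :=
  famOf_injective (congrArg Subtype.val h)

lemma exists_hf (x : (homFun (SpecOver R (MonoidAlgebra R N)) (SpecOver R C)).obj (op (SpecOver R A))) :
    ∃ (F : WithConv (C →ₐ[R] MonoidAlgebra R N ⊗[R] A)) (hF : IsHom F), hf F hF = x := by
  obtain ⟨F, hF⟩ := exists_famOf x.1
  have hF' : IsHom F := (isHomFamily_famOf_iff F).1 (hF ▸ x.2)
  exact ⟨F, hF', Subtype.ext hF⟩

lemma map_hf {A' : Type u} [CommRing A'] [Algebra R A'] (g : A →ₐ[R] A')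
    (F : WithConv (C →ₐ[R] MonoidAlgebra R N ⊗[R] A)) (hF : IsHom F) :
    (homFun (SpecOver R (MonoidAlgebra R N)) (SpecOver R C)).map (specMap R g).op (hf F hF) =
      hf (pushG (T (MonoidAlgebra R N) g) F) (hF.map g) :=
  Subtype.ext (whisker_famOf g F)

variable (ρ) in
/-- the universal element on the chart -/
noncomputable def ξ (W : Finset N) (U : WithConv (C →ₐ[R] MonoidAlgebra R N ⊗[R] P)) (hU : IsHom U) :
    (homFun (SpecOver R (MonoidAlgebra R N)) (SpecOver R C)).obj (op (X ρ W U)) :=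
  (homFun (SpecOver R (MonoidAlgebra R N)) (SpecOver R C)).map (inc ρ W U).op (hf U hU)

variable {l : E →ₗ[R] R} {ι' : Type} {e : ι' → E}

/-- A point of the chart is a homomorphism with weights in `W`. -/
lemma suppIn_of_point (hU : IsHom U) (k : SpecOver R A ⟶ X ρ W U)
    {F : WithConv (C →ₐ[R] MonoidAlgebra R N ⊗[R] A)} {hF : IsHom F}
    (h : (homFun (SpecOver R (MonoidAlgebra R N)) (SpecOver R C)).map k.op (ξ ρ W U hU) = hf F hF) :
    SuppIn ρ F (W : Set N) := by
  let g : P →ₐ[R] A := specPreimage R (k ≫ inc ρ W U)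
  have hg : specMap R g = k ≫ inc ρ W U := specMap_specPreimage R _
  rw [ξ, ← map_comp_apply, ← hg, map_hf] at h
  rw [← hf_injective h]
  apply suppIn_of_map_eq_top
  rw [map_eq_top_iff, hg, ← range_inc]
  rintro _ ⟨y, rfl⟩
  exact ⟨k.left y, rfl⟩

/-- Homomorphisms with weights in `W` come from the chart. -/
lemma exists_point (hρ : IsComod C ρ) [Module.Finite R E] (hU : IsHom U)
    (huniv : ∀ (A : Type u) [CommRing A] [Algebra R A] (F : WithConv (C →ₐ[R] MonoidAlgebra R N ⊗[R] A)),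
        IsHom F → SuppCl (fun i => mc ρ l (e i)) F W → ∃! g : P →ₐ[R] A, pushG (T (MonoidAlgebra R N) g) U = F)
    (F : WithConv (C →ₐ[R] MonoidAlgebra R N ⊗[R] A)) (hF : IsHom F) (hW : SuppIn ρ F (W : Set N)) :
    ∃ k : SpecOver R A ⟶ X ρ W U,
      (homFun (SpecOver R (MonoidAlgebra R N)) (SpecOver R C)).map k.op (ξ ρ W U hU) = hf F hF := by
  obtain ⟨g, hg, -⟩ := huniv A F hF (fun i n hn => hW.cf_mc l (e i) (by simpa using hn))
  have h1 : (bad ρ W U).map g = ⊤ := by
    apply map_eq_top_of_suppIn hρ hU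
    rw [hg]
    exact hW
  rw [map_eq_top_iff] at h1
  obtain ⟨k, hk⟩ := exists_lift (inc ρ W U) (specMap R g) (by rw [range_inc]; exact h1)
  refine ⟨k, ?_⟩
  rw [ξ, ← map_comp_apply, hk, map_hf]
  subst hg
  rfl

end chart

end Groth.Agent.Sga3B.TorusChart898
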