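import Groth.Agent.Sga3B.TorusChart898

/-!
# The charts cover the functor of homomorphisms from a diagonalisable group to a smooth affine group
-/

set_option autoImplicit false
open CategoryTheory MonoidalCategory CartesianMonoidalCategory AlgebraicGeometry Opposite Limits
open scoped TensorProduct
universe w u

namespace Groth.Agent.Sga3B.TorusCharts898
open Groth.Agent.Books.AffBridge Groth.Agent.Picfga.OverRep Groth.Agent.Sga3B.HomFun898
open Groth.Agent.Sga3B.HomFunAff898 Groth.Agent.Sga3B.OverAff898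
open Groth.Agent.Sga3B.HaarDef Groth.Agent.Sga3B.TorusWt Groth.Agent.Sga3B.TorusUniv
open Groth.Agent.Sga3B.TorusSmooth Groth.Agent.Sga3B.TorusChart898

variable {R : Type u} [CommRing R] {N : Type} [CommGroup N]
variable {C : Type u} [CommRing C] [HopfAlgebra R C]
variable {E : Type u} [AddCommGroup E] [Module R E]

/-- Chart data: the algebra representing homomorphisms with coefficients supported in `W`. -/
structure CD (ρ : E →ₗ[R] E ⊗[R] C) (l : E →ₗ[R] R) {ι' : Type} (e : ι' → E) (W : Finset N) where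
  P : Type u
  instCR : CommRing P
  instAlg : Algebra R P
  U : WithConv (C →ₐ[R] MonoidAlgebra R N ⊗[R] P)
  fp : Algebra.FinitePresentation R P
  hU : IsHom U
  huniv : ∀ (A : Type u) [CommRing A] [Algebra R A] (F : WithConv (C →ₐ[R] MonoidAlgebra R N ⊗[R] A)),
        IsHom F → SuppCl (fun i => mc ρ l (e i)) F W → ∃! g : P →ₐ[R] A, pushG (T (MonoidAlgebra R N) g) U = F

attribute [instance] CD.instCR CD.instAlg

variable {ρ : E →ₗ[R] E ⊗[R] C} {l : E →ₗ[R] R} {ι' : Type} {e : ι' → E}

theorem nonempty_CD [Algebra.FinitePresentation R C] [Finite ι']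
    (hc : Algebra.adjoin R (Set.range fun i => mc ρ l (e i)) = ⊤) (W : Finset N) : Nonempty (CD ρ l e W) := by
  obtain ⟨P, h1, h2, U, hfp, hU, -, huniv⟩ := exists_universal (fun i => mc ρ l (e i)) hc W
  exact ⟨⟨P, h1, h2, U, hfp, hU, huniv⟩⟩

section
variable {W : Finset N} (d : CD ρ l e W)

lemma point_ext {A : Type u} [CommRing A] [Algebra R A] (a b : SpecOver R A ⟶ X ρ W d.U)
    (h : (homFun (SpecOver R (MonoidAlgebra R N)) (SpecOver R C)).map a.op (ξ ρ W d.U d.hU) =
      (homFun (SpecOver R (MonoidAlgebra R N)) (SpecOver R C)).map b.op (ξ ρ W d.U d.hU)) : a = b := by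
  have hmono : Mono (inc ρ W d.U) := Over.mono_of_mono_left _
  rw [← cancel_mono (inc ρ W d.U)]
  obtain ⟨F, hF, hx⟩ := exists_hf ((homFun (SpecOver R (MonoidAlgebra R N)) (SpecOver R C)).map a.op
    (ξ ρ W d.U d.hU))
  have hS : SuppIn ρ F (W : Set N) := suppIn_of_point d.hU a hx.symm
  obtain ⟨g, -, hg⟩ := d.huniv A F hF (fun i n hn => hS.cf_mc l (e i) (by simpa using hn))
  have key : ∀ c : SpecOver R A ⟶ X ρ W d.U, (homFun (SpecOver R (MonoidAlgebra R N)) (SpecOver R C)).map c.op
      (ξ ρ W d.U d.hU) = hf F hF → c ≫ inc ρ W d.U = specMap R g := by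
    intro c hc
    rw [← specMap_specPreimage R (c ≫ inc ρ W d.U)]
    congr 1
    apply hg
    rw [ξ, ← map_comp_apply, ← specMap_specPreimage R (c ≫ inc ρ W d.U), map_hf] at hc
    exact hf_injective hc
  rw [key a hx.symm, key b (h.symm.trans hx.symm)]

lemma hom_ext {T : Over (Spec (CommRingCat.of R))} (a b : T ⟶ X ρ W d.U)
    (h : (homFun (SpecOver R (MonoidAlgebra R N)) (SpecOver R C)).map a.op (ξ ρ W d.U d.hU) =
      (homFun (SpecOver R (MonoidAlgebra R N)) (SpecOver R C)).map b.op (ξ ρ W d.U d.hU)) : a = b := by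
  apply hom_ext_of_covers
  intro t
  obtain ⟨A, _, _, j, hj, ht⟩ := exists_affine_nhd T t
  refine ⟨_, j, hj, ht, point_ext d _ _ ?_⟩
  rw [map_comp_apply, map_comp_apply, h]

end

section
variable (hρ : IsComod C ρ) [Module.Finite R E] {W : Finset N} (d : CD ρ l e W)
include hρ

/-- A homomorphism whose weights at a point are in `W` comes from the chart near this point. -/
lemma exists_chart_near {Z : Over (Spec (CommRingCat.of R))}
    (x : (homFun (SpecOver R (MonoidAlgebra R N)) (SpecOver R C)).obj (op Z)) {K : Type u} [Field K]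
    [Algebra R K] (y : SpecOver R K ⟶ Z) (F₀ : WithConv (C →ₐ[R] MonoidAlgebra R N ⊗[R] K)) (hF₀ : IsHom F₀)
    (hy : (homFun (SpecOver R (MonoidAlgebra R N)) (SpecOver R C)).map y.op x = hf F₀ hF₀)
    (hS : SuppIn ρ F₀ (W : Set N)) (t : Z.left) (ht : Set.range y.left = {t}) :
    ∃ (V : Z.left.Opens) (k : Over.mk (V.ι ≫ Z.hom) ⟶ X ρ W d.U), t ∈ V ∧
      (homFun (SpecOver R (MonoidAlgebra R N)) (SpecOver R C)).map k.op (ξ ρ W d.U d.hU) =
        (homFun (SpecOver R (MonoidAlgebra R N)) (SpecOver R C)).map (res Z V).op x := by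
  obtain ⟨A, _, _, j, hj, htj⟩ := exists_affine_nhd Z t
  obtain ⟨c, hc⟩ := exists_lift j y (by rw [ht, Set.singleton_subset_iff]; exact htj)
  obtain ⟨F, hF, hx⟩ := exists_hf ((homFun (SpecOver R (MonoidAlgebra R N)) (SpecOver R C)).map j.op x)
  let φ : A →ₐ[R] K := specPreimage R c
  have hφ : specMap R φ = c := specMap_specPreimage R c
  have h1 : pushG (T (MonoidAlgebra R N) φ) F = F₀ := by
    have h5 : hf (pushG (T (MonoidAlgebra R N) φ) F) (hF.map φ) = hf F₀ hF₀ := by
      rw [← map_hf φ F hF, hx, ← map_comp_apply, hφ, hc, hy]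
    exact hf_injective h5
  rw [← h1] at hS
  obtain ⟨a, ha, ha'⟩ := exists_smul_act_eq_zero hρ hF φ hS
  let loc : A →ₐ[R] Localization.Away a := IsScalarTower.toAlgHom R A (Localization.Away a)
  have hloc : IsUnit (loc a) := IsLocalization.Away.algebraMap_isUnit a
  obtain ⟨k, hk⟩ := exists_point hρ d.hU d.huniv (pushG (T (MonoidAlgebra R N) loc) F) (hF.map loc)
    (suppIn_of_isUnit ha' loc hloc)
  have hop : IsOpenImmersion (specMap R loc).left := isOpenImmersion_away a
  have hop' : IsOpenImmersion (specMap R loc ≫ j).left := by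
    rw [Over.comp_left]
    infer_instance
  refine exists_chart_of_immersion _ x (specMap R loc ≫ j) ?_ k ?_
  · let p : (SpecOver R K).left := (⊥ : PrimeSpectrum K)
    have h2 : y.left p = t := by
      have : y.left p ∈ Set.range y.left := ⟨p, rfl⟩
      rw [ht] at this
      exact this
    have h3 : c.left p ∈ Set.range (specMap R loc).left := by
      apply mem_range_away
      intro hmem
      have h4 : φ a ∈ PrimeSpectrum.asIdeal (⊥ : PrimeSpectrum K) := by
        rw [← hφ] at hmem
        exact hmem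
      exact ha h4
    obtain ⟨z, hz⟩ := h3
    refine ⟨z, ?_⟩
    rw [Over.comp_left, Scheme.Hom.comp_apply, hz, ← h2, ← hc]
    rfl
  · rw [hk, map_comp_apply, ← hx, map_hf]

/-- The charts. -/
noncomputable def charts (cd : ∀ W : Finset N, CD ρ l e W) :
    Charts (homFun (SpecOver R (MonoidAlgebra R N)) (SpecOver R C)) where
  ι := ULift.{u} (Finset N)
  X W := X ρ W.down (cd W.down).U
  ξ W := ξ ρ W.down (cd W.down).U (cd W.down).hU
  mono W Z a b h := hom_ext (cd W.down) a b h
  isOpen W Z x Z' g h hh t := by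
    obtain ⟨K, _, _, y, hy⟩ := exists_field_point Z' t
    obtain ⟨F₀, hF₀, hx⟩ := exists_hf ((homFun (SpecOver R (MonoidAlgebra R N)) (SpecOver R C)).map
      (y ≫ g).op x)
    refine exists_chart_near hρ (cd W.down) x (y ≫ g) F₀ hF₀ hx.symm ?_ (g.left t) ?_
    · apply suppIn_of_point (cd W.down).hU (y ≫ h) (hF := hF₀)
      rw [map_comp_apply, hh, ← map_comp_apply, hx]
    · have h2 : ⇑(y ≫ g).left = g.left ∘ y.left := by
        ext z
        rfl
      rw [h2, Set.range_comp, hy, Set.image_singleton]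
  covers Z x t := by
    obtain ⟨K, _, _, y, hy⟩ := exists_field_point Z t
    obtain ⟨F₀, hF₀, hx⟩ := exists_hf ((homFun (SpecOver R (MonoidAlgebra R N)) (SpecOver R C)).map
      y.op x)
    obtain ⟨W, hW, -⟩ := exists_finset_act hρ hF₀
    obtain ⟨V, k, h1, h2⟩ := exists_chart_near hρ (cd W) x y F₀ hF₀ hx.symm (fun n hn => hW n (by simpa using hn))
      t hy
    exact ⟨⟨W⟩, V, k, h1, h2⟩

end

end Groth.Agent.Sga3B.TorusCharts898
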