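import Groth.Agent.Sga3B.EtDesc920
import Groth.Agent.Sga3B.Hens.Dict
import Groth.Agent.Sga3B.RG.BrDiag
import Groth.Agent.Sga3B.BcIso
import Groth.Agent.Sga3B.TorusBc
import Groth.Agent.Sga3B.NearRed

/-!
# Tori split étale-locally (SGA 3 X 4.5 / IX for tori over arbitrary schemes)

`exists_etale_split`: `H` a torus over a scheme `S`, `s ∈ S`: there is an étale `v : Spec B ⟶ S` with `s` in its
image such that the base change of `H` along `v` is a split torus.
-/

set_option autoImplicit false

universe u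

open CategoryTheory MonoidalCategory CartesianMonoidalCategory MonObj GrpObj AlgebraicGeometry Limits
open TensorProduct
open Groth.Agent.Books.AffBridge Groth.Agent.Sga3A Groth.Agent.Sga3A.MTBasis

namespace Groth.Agent.Sga3B.TorusEtLoc920

/-- the character group in the universe `u` -/
abbrev Mu (r : ℕ) : Type u := ULift.{u} (Multiplicative (Fin r → ℤ))

instance (r : ℕ) : Group.FG (Mu.{u} r) := by
  have h : Group.FG (Multiplicative (Fin r → ℤ)) := inferInstance
  exact Group.fg_of_surjective (f := (MulEquiv.ulift (α := Multiplicative (Fin r → ℤ))).symm.toMonoidHom)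
    (MulEquiv.surjective _)

/-- a base change of `Spec A` is a split torus iff the Hopf algebra has a basis of group-like elements. -/
theorem isSplit_iff {R A C : Type u} [CommRing R] [CommRing A] [HopfAlgebra R A] [CommRing C] [Algebra R C] (r : ℕ) :
    Red.IsSplitTorusWith (Fin r → ℤ) (Red.bc (Spec.map (CommRingCat.ofHom (algebraMap R C))) (SpecOver R A)) ↔
      Nonempty (GBasis C (C ⊗[R] A) (Mu.{u} r)) := by
  obtain ⟨e₁⟩ := Hens.Dict.bc_specOver R A C
  rw [TorusBc.isSplitTorusWith_of_iso' ⟨e₁⟩, RG.BrDiag.isSplitTorusWith_iff]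
  have h1 : (∃ e : SpecOver C (C ⊗[R] A) ≅ SpecOver C (MonoidAlgebra C (Multiplicative (Fin r → ℤ))), IsMonHom e.hom) ↔
      Nonempty (Grp.mk (SpecOver C (C ⊗[R] A)) ≅
        Grp.mk (SpecOver C (MonoidAlgebra C (Multiplicative (Fin r → ℤ))))) := by
    constructor
    · rintro ⟨e, he⟩
      exact ⟨Grp.mkIso' e⟩
    · rintro ⟨e⟩
      exact ⟨(Grp.forget _).mapIso e, e.hom.hom.isMonHom_hom⟩
  rw [h1, Hens.Dict.nonempty_bialgEquiv]
  constructor
  · rintro ⟨e⟩
    exact ⟨(GBasis.ofBialgEquiv e).reindex MulEquiv.ulift.symm⟩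
  · rintro ⟨g⟩
    exact ⟨(g.reindex MulEquiv.ulift).bialgEquiv.symm⟩

/-- Faithfully flat local base change. -/
lemma faithfullyFlat_atPrime {R C : Type u} [CommRing R] [CommRing C] [Algebra R C] [Module.Flat R C]
    (p : Ideal R) [p.IsPrime] (P : Ideal C) [P.IsPrime] (h : P.comap (algebraMap R C) = p) :
    ∃ (_ : Algebra (Localization.AtPrime p) (Localization.AtPrime P)),
      IsScalarTower R (Localization.AtPrime p) (Localization.AtPrime P) ∧
        Module.FaithfullyFlat (Localization.AtPrime p) (Localization.AtPrime P) := by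
  let φ := Localization.localRingHom p P (algebraMap R C) h.symm
  let _ : Algebra (Localization.AtPrime p) (Localization.AtPrime P) := φ.toAlgebra
  have h1 : IsScalarTower R (Localization.AtPrime p) (Localization.AtPrime P) := by
    apply IsScalarTower.of_algebraMap_eq
    intro x
    rw [IsScalarTower.algebraMap_apply R C (Localization.AtPrime P)]
    exact (Localization.localRingHom_to_map p P (algebraMap R C) h.symm x).symm
  refine ⟨inferInstance, h1, ?_⟩
  have h2 : Module.Flat C (Localization.AtPrime P) := IsLocalization.flat _ P.primeCompl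
  have h3 : Module.Flat R (Localization.AtPrime P) := Module.Flat.trans R C _
  have h4 : Module.Flat (Localization.AtPrime p) (Localization.AtPrime P) :=
    (Module.flat_iff_of_isLocalization (Localization.AtPrime p) p.primeCompl (Localization.AtPrime P)).mpr h3
  have h5 : IsLocalHom (algebraMap (Localization.AtPrime p) (Localization.AtPrime P)) :=
    inferInstanceAs (IsLocalHom φ)
  exact Module.FaithfullyFlat.of_flat_of_isLocalHom

/-- The case of the spectrum of a Hopf algebra. -/
theorem exists_etale_split_specOver {R A : Type u} [CommRing R] [CommRing A] [HopfAlgebra R A]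
    (hH : Red.IsTorus (SpecOver R A)) (s : Spec (CommRingCat.of R)) :
    ∃ (B : Type u) (_ : CommRing B) (v : Spec (CommRingCat.of B) ⟶ Spec (CommRingCat.of R)) (r : ℕ), Etale v ∧
      s ∈ Set.range v ∧ Red.IsSplitTorusWith (Fin r → ℤ) (Red.bc v (SpecOver R A)) := by
  have hfp : Algebra.FinitePresentation R A := by
    have h1 := TorusAlgClosed.smooth_of_isTorus hH
    have h2 : Smooth (Spec.map (CommRingCat.ofHom (algebraMap R A))) := h1
    rw [HasRingHomProperty.Spec_iff (P := @Smooth)] at h2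
    simp only [CommRingCat.hom_ofHom, RingHom.smooth_algebraMap] at h2
    infer_instance
  obtain ⟨S', f, hf, hs, -, h⟩ := hH
  obtain ⟨s', hs'⟩ := hs.1 s
  obtain ⟨U, hU, r, hr⟩ := h s'
  obtain ⟨C, _, j, hj, hjU, ⟨c, hc⟩⟩ := NearRed.exists_affine S' U s' hU
  let i : Spec (CommRingCat.of C) ⟶ U := IsOpenImmersion.lift U.ι j (by
    rw [Scheme.Opens.range_ι]; exact hjU)
  have hi : i ≫ U.ι = j := IsOpenImmersion.lift_fac _ _ _
  let φ : CommRingCat.of R ⟶ CommRingCat.of C := Spec.preimage (j ≫ f)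
  let _ : Algebra R C := φ.hom.toAlgebra
  have hφ : Spec.map (CommRingCat.ofHom (algebraMap R C)) = j ≫ f := Spec.map_preimage _
  have hsp : Red.IsSplitTorusWith (Fin r → ℤ)
      (Red.bc (Spec.map (CommRingCat.ofHom (algebraMap R C))) (SpecOver R A)) := by
    have h1 := TorusAlgClosed.isSplitTorusWith_bc i hr
    refine TorusBc.isSplitTorusWith_of_iso ((BcIso.bcCompIso i (U.ι ≫ f) (SpecOver R A)).symm ≪≫
      BcIso.bcCongrIso ?_ (SpecOver R A)) h1
    rw [hφ, ← hi, Category.assoc]
  have hflat : Module.Flat R C := by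
    have h1 : Flat (Spec.map (CommRingCat.ofHom (algebraMap R C))) := by
      rw [hφ]; infer_instance
    rw [HasRingHomProperty.Spec_iff (P := @Flat)] at h1
    exact h1
  obtain ⟨g⟩ := (isSplit_iff r).mp hsp
  have hcs : Spec.map (CommRingCat.ofHom (algebraMap R C)) c = s := by
    rw [hφ, Scheme.Hom.comp_apply, hc, hs']
  have hcp : c.asIdeal.comap (algebraMap R C) = s.asIdeal := congrArg PrimeSpectrum.asIdeal hcs
  obtain ⟨_, h1, h2⟩ := faithfullyFlat_atPrime s.asIdeal c.asIdeal hcp
  obtain ⟨B, _, _, _, q, hq, hqs, hB⟩ := EtDesc920.exists_gbasis_etale (A := A) s.asIdeal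
    (Localization.AtPrime c.asIdeal) (g.bc (IsScalarTower.toAlgHom R C (Localization.AtPrime c.asIdeal)))
  refine ⟨B, inferInstance, Spec.map (CommRingCat.ofHom (algebraMap R B)), r, ?_, ?_, (isSplit_iff r).mpr hB⟩
  · rw [HasRingHomProperty.Spec_iff (P := @Etale)]
    simp only [CommRingCat.hom_ofHom]
    exact RingHom.etale_algebraMap.mpr inferInstance
  · refine ⟨⟨q, hq⟩, ?_⟩
    exact PrimeSpectrum.ext hqs

/-- **Tori split étale-locally.** -/
theorem exists_etale_split {S : Scheme.{u}} (H : Over S) [GrpObj H] (hH : Red.IsTorus H) (s : S) :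
    ∃ (B : Type u) (_ : CommRing B) (v : Spec (CommRingCat.of B) ⟶ S) (r : ℕ), Etale v ∧
      s ∈ Set.range v ∧ Red.IsSplitTorusWith (Fin r → ℤ) (Red.bc v H) := by
  obtain ⟨R, _, j, hj, -, ⟨x, hx⟩⟩ := NearRed.exists_affine S ⊤ s trivial
  have hH₁ : Red.IsTorus (Red.bc j H) := TorusBc.isTorus_bc j hH
  have haff : IsAffine (Red.bc j H).left := by
    have := TorusAlgClosed.isAffineHom_of_isTorus hH₁
    exact isAffine_of_isAffineHom (Red.bc j H).hom
  obtain ⟨A, _, _, e, he⟩ := exists_hopf R (Red.bc j H)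
  have hH₂ : Red.IsTorus (SpecOver R A) := TorusBc.isTorus_of_iso (Grp.mkIso' e) hH₁
  obtain ⟨B, _, v, r, hv, ⟨y, hy⟩, hsp⟩ := exists_etale_split_specOver hH₂ x
  refine ⟨B, inferInstance, v ≫ j, r, inferInstance, ⟨y, ?_⟩, ?_⟩
  · rw [Scheme.Hom.comp_apply, hy, hx]
  · exact TorusBc.isSplitTorusWith_of_iso (BcIso.bcMapIso v (Grp.mkIso' e).symm ≪≫ (BcIso.bcCompIso v j H).symm) hsp

end Groth.Agent.Sga3B.TorusEtLoc920
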