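import Groth.Agent.Sga3B.TorusSpread

/-!
# The module representing centralised tangent vectors, semicontinuity
-/

set_option autoImplicit false

open TensorProduct Coalgebra Bialgebra WithConv
open Groth.Agent.Sga3B.HaarDef Groth.Agent.Sga3B.TorusWt Groth.Agent.Sga3B.TorusLie Groth.Agent.Sga3B.TorusRk

namespace Groth.Agent.Sga3B.TorusOmega

noncomputable section

universe u

variable {R : Type u} [CommRing R] {N : Type} [CommGroup N]
variable {C : Type u} [CommRing C] [HopfAlgebra R C]
variable {Q : Type u} [CommRing Q] [Algebra R Q]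
variable (F : WithConv (C →ₐ[R] MonoidAlgebra R N ⊗[R] Q))

/-- relation: derivation at the counit -/
def rel1 (p : C × C) : Q ⊗[R] C :=
  1 ⊗ₜ (p.1 * p.2) - counit (R := R) p.1 • ((1 : Q) ⊗ₜ[R] p.2) - counit (R := R) p.2 • ((1 : Q) ⊗ₜ[R] p.1)

/-- relation: centralised by `F` -/
def rel2 (p : N × C) : Q ⊗[R] C :=
  (cf F p.1).ofConv.rTensor C (comul p.2) - (cf F p.1).ofConv.rTensor C (TensorProduct.comm R C C (comul p.2))

/-- the relations -/
def Rel : Submodule Q (Q ⊗[R] C) := Submodule.span Q (Set.range (rel1 (R := R) (C := C) (Q := Q)) ∪ Set.range (rel2 F))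

/-- the universal module -/
abbrev Om : Type u := (Q ⊗[R] C) ⧸ Rel F

/-- the universal tangent vector -/
def toOm : C →ₗ[R] Om F := ((Rel F).mkQ.restrictScalars R) ∘ₗ (TensorProduct.mk R Q C 1)

lemma toOm_apply (c : C) : toOm F c = (Rel F).mkQ (1 ⊗ₜ c) := rfl

lemma toOm_mul (x y : C) : toOm F (x * y) = counit (R := R) x • toOm F y + counit (R := R) y • toOm F x := by
  have h : (Rel F).mkQ (rel1 (x, y)) = 0 := by
    rw [Submodule.mkQ_apply, Submodule.Quotient.mk_eq_zero]
    exact Submodule.subset_span (Or.inl ⟨_, rfl⟩)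
  have h2 : ∀ (r : R) (z : Q ⊗[R] C), (Rel F).mkQ (r • z) = r • (Rel F).mkQ z := fun _ _ => rfl
  rw [rel1, map_sub, map_sub, h2, h2, sub_sub, sub_eq_zero] at h
  exact h

instance finite_Om [Algebra.FiniteType R C] : Module.Finite Q (Om F) := by
  classical
  obtain ⟨s, hs⟩ := (inferInstance : Algebra.FiniteType R C).out
  refine ⟨⟨s.image (toOm F), ?_⟩⟩
  have h1 : toOm F 1 = 0 := by
    have := toOm_mul F 1 1
    simpa using this
  have key : ∀ c : C, toOm F c ∈ Submodule.span Q (s.image (toOm F) : Set (Om F)) := by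
    intro c
    have hc : c ∈ Algebra.adjoin R (s : Set C) := by rw [hs]; trivial
    induction hc using Algebra.adjoin_induction with
    | mem c hc => exact Submodule.subset_span (by simpa using ⟨c, hc, rfl⟩)
    | algebraMap r =>
      rw [Algebra.algebraMap_eq_smul_one, map_smul, h1, smul_zero]
      exact Submodule.zero_mem _
    | add a b _ _ ha hb => rw [map_add]; exact Submodule.add_mem _ ha hb
    | mul a b _ _ ha hb =>
      rw [toOm_mul, ← algebraMap_smul Q (counit a), ← algebraMap_smul Q (counit b)]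
      exact Submodule.add_mem _ (Submodule.smul_mem _ _ hb) (Submodule.smul_mem _ _ ha)
  rw [eq_top_iff]
  intro w _
  obtain ⟨z, rfl⟩ := (Rel F).mkQ_surjective w
  induction z using TensorProduct.induction_on with
  | zero => rw [map_zero]; exact Submodule.zero_mem _
  | tmul q c =>
    have : q ⊗ₜ[R] c = q • ((1 : Q) ⊗ₜ[R] c) := by rw [TensorProduct.smul_tmul', smul_eq_mul, mul_one]
    rw [this, map_smul]
    exact Submodule.smul_mem _ _ (key c)
  | add a b ha hb => rw [map_add]; exact Submodule.add_mem _ (ha trivial) (hb trivial)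

section Ext

variable {A : Type*} [CommRing A] [Algebra R A] (f : Q →ₐ[R] A)

/-- extension of a functional to `Q ⊗ C`, linear in the functional -/
def ext (z : Q ⊗[R] C) : (C →ₗ[R] A) →ₗ[A] A where
  toFun D := LinearMap.mul' R A (TensorProduct.map f.toLinearMap D z)
  map_add' D D' := by
    rw [TensorProduct.map_add_right, LinearMap.add_apply, map_add]
  map_smul' a D := by
    induction z using TensorProduct.induction_on with
    | zero => simp
    | tmul q c =>
      simp only [TensorProduct.map_tmul, LinearMap.mul'_apply, LinearMap.smul_apply, smul_eq_mul, RingHom.id_apply]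
      ring
    | add x y hx hy => simp only [map_add, hx, hy, smul_add]

@[simp] lemma ext_tmul (q : Q) (c : C) (D : C →ₗ[R] A) : ext f (q ⊗ₜ c) D = f q * D c := rfl

lemma ext_add (z w : Q ⊗[R] C) (D : C →ₗ[R] A) : ext f (z + w) D = ext f z D + ext f w D := by
  simp [ext]

lemma ext_sub (z w : Q ⊗[R] C) (D : C →ₗ[R] A) : ext f (z - w) D = ext f z D - ext f w D := by
  simp [ext]

lemma ext_smul (q : Q) (z : Q ⊗[R] C) (D : C →ₗ[R] A) : ext f (q • z) D = f q * ext f z D := by
  induction z using TensorProduct.induction_on with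
  | zero => simp [ext]
  | tmul p c => rw [TensorProduct.smul_tmul', ext_tmul, ext_tmul, smul_eq_mul, map_mul, mul_assoc]
  | add x y hx hy => rw [smul_add, ext_add, ext_add, hx, hy, mul_add]

lemma ext_rTensor (φ : WithConv (C →ₗ[R] Q)) (z : C ⊗[R] C) (D : C →ₗ[R] A) :
    ext f (φ.ofConv.rTensor C z) D = LinearMap.mul' R A (TensorProduct.map (push f φ).ofConv D z) := by
  induction z using TensorProduct.induction_on with
  | zero => simp [ext]
  | tmul a b => rfl
  | add x y hx hy => rw [map_add, ext_add, hx, hy, map_add, map_add]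

lemma ext_rTensor_comm (φ : WithConv (C →ₗ[R] Q)) (z : C ⊗[R] C) (D : C →ₗ[R] A) :
    ext f (φ.ofConv.rTensor C (TensorProduct.comm R C C z)) D =
      LinearMap.mul' R A (TensorProduct.map D (push f φ).ofConv z) := by
  induction z using TensorProduct.induction_on with
  | zero => simp [ext]
  | tmul a b => exact mul_comm _ _
  | add x y hx hy => rw [map_add, map_add, ext_add, hx, hy, map_add, map_add]

lemma ext_rel1 (p : C × C) (D : C →ₗ[R] A) : ext f (rel1 p) D =
    D (p.1 * p.2) - counit (R := R) p.1 • D p.2 - counit (R := R) p.2 • D p.1 := by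
  rw [rel1, ext_sub, ext_sub, ← algebraMap_smul Q (counit (R := R) p.1), ← algebraMap_smul Q (counit (R := R) p.2),
    ext_smul, ext_smul, ext_tmul, ext_tmul, ext_tmul, AlgHom.commutes, AlgHom.commutes, map_one, one_mul, one_mul,
    one_mul, Algebra.smul_def, Algebra.smul_def]

lemma ext_rel2 (p : N × C) (D : C →ₗ[R] A) : ext f (rel2 F p) D =
    (push f (cf F p.1) * toConv D) p.2 - (toConv D * push f (cf F p.1)) p.2 := by
  rw [rel2, ext_sub, ext_rTensor, ext_rTensor_comm]
  rfl

lemma mem_ZM_iff (D : C →ₗ[R] A) : D ∈ ZM F f ↔ ∀ z ∈ Rel F, ext f z D = 0 := by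
  constructor
  · intro h z hz
    rw [mem_ZM] at h
    induction hz using Submodule.span_induction with
    | mem z hz =>
      rcases hz with ⟨p, rfl⟩ | ⟨p, rfl⟩
      · rw [ext_rel1]
        have : D (p.1 * p.2) = _ := h.der p.1 p.2
        rw [this]
        show counit p.1 • D p.2 + counit p.2 • D p.1 - _ - _ = 0
        abel
      · rw [ext_rel2, h.comm, sub_self]
    | zero => simp [ext]
    | add x y _ _ hx hy => rw [ext_add, hx, hy, add_zero]
    | smul a x _ hx => rw [ext_smul, hx, mul_zero]
  · intro h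
    refine ⟨fun x y => ?_, fun n => ?_⟩
    · have := h _ (Submodule.subset_span (Or.inl ⟨(x, y), rfl⟩))
      rw [ext_rel1, sub_sub, sub_eq_zero] at this
      exact this
    · apply conv_ext
      intro c
      have := h _ (Submodule.subset_span (Or.inr ⟨(n, c), rfl⟩))
      rw [ext_rel2, sub_eq_zero] at this
      exact this

end Ext

section Fibre

variable {K : Type u} [Field K] [Algebra R K] [Algebra Q K] [IsScalarTower R Q K]

/-- a functional on the fibre of `Om` gives a tangent vector -/
def psi : Module.Dual K (K ⊗[Q] Om F) →ₗ[K] (C →ₗ[R] K) where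
  toFun lam :=
    { toFun := fun c => lam (1 ⊗ₜ toOm F c)
      map_add' := fun c d => by rw [map_add, TensorProduct.tmul_add, map_add]
      map_smul' := fun r c => by
        rw [map_smul, ← algebraMap_smul Q r (toOm F c), ← TensorProduct.smul_tmul, RingHom.id_apply]
        have : algebraMap R Q r • (1 : K) = algebraMap R K r • (1 : K) := by
          rw [Algebra.smul_def, ← IsScalarTower.algebraMap_apply, smul_eq_mul]
        rw [this, ← TensorProduct.smul_tmul', map_smul, algebraMap_smul] }
  map_add' _ _ := rfl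
  map_smul' _ _ := rfl

lemma psi_apply (lam : Module.Dual K (K ⊗[Q] Om F)) (c : C) : psi F lam c = lam (1 ⊗ₜ toOm F c) := rfl

lemma ext_psi (lam : Module.Dual K (K ⊗[Q] Om F)) (z : Q ⊗[R] C) :
    ext (IsScalarTower.toAlgHom R Q K) z (psi F lam) = lam (1 ⊗ₜ (Rel F).mkQ z) := by
  induction z using TensorProduct.induction_on with
  | zero => simp [ext]
  | tmul q c =>
    have : q ⊗ₜ[R] c = q • ((1 : Q) ⊗ₜ[R] c) := by rw [TensorProduct.smul_tmul', smul_eq_mul, mul_one]
    rw [ext_tmul, psi_apply, this, map_smul, ← TensorProduct.smul_tmul]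
    have h2 : q • (1 : K) = algebraMap Q K q • (1 : K) := by
      rw [Algebra.smul_def, smul_eq_mul]
    rw [h2, ← TensorProduct.smul_tmul', map_smul]
    rfl
  | add x y hx hy => rw [ext_add, hx, hy, map_add, TensorProduct.tmul_add, map_add]

lemma psi_mem (lam : Module.Dual K (K ⊗[Q] Om F)) : psi F lam ∈ ZM F (IsScalarTower.toAlgHom R Q K) := by
  rw [mem_ZM_iff]
  intro z hz
  rw [ext_psi]
  have : (Rel F).mkQ z = 0 := by
    rw [Submodule.mkQ_apply, Submodule.Quotient.mk_eq_zero]
    exact hz
  rw [this, TensorProduct.tmul_zero, map_zero]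

lemma psi_injective : Function.Injective (psi (K := K) F) := by
  rw [injective_iff_map_eq_zero]
  intro lam h
  apply LinearMap.ext
  intro w
  induction w using TensorProduct.induction_on with
  | zero => rw [map_zero, map_zero]
  | tmul k w =>
    obtain ⟨z, rfl⟩ := (Rel F).mkQ_surjective w
    have h1 : k ⊗ₜ[Q] (Rel F).mkQ z = k • ((1 : K) ⊗ₜ[Q] (Rel F).mkQ z) := by
      rw [TensorProduct.smul_tmul', smul_eq_mul, mul_one]
    rw [h1, map_smul, ← ext_psi, h, map_zero, smul_zero]
    rfl
  | add a b ha hb => rw [map_add, map_add, ha, hb]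

end Fibre

/-- **Semicontinuity of the rank of the centralised tangent vectors.** -/
theorem exists_lieRk_away [Algebra.FiniteType R C] {K : Type u} [Field K] [Algebra R K] (g : Q →ₐ[R] K) {r : ℕ}
    (h1 : Module.Finite K (ZM F g)) (h2 : Module.finrank K (ZM F g) ≤ r) :
    ∃ a : Q, g a ≠ 0 ∧ ∀ (L : Type u) [Field L] [Algebra R L] (f : Q →ₐ[R] L), f a ≠ 0 →
      ∃ Θ : (C →ₗ[R] L) →ₗ[L] (Fin r → L), ∀ D ∈ ZM F f, Θ D = 0 → D = 0 := by
  let : Algebra Q K := g.toRingHom.toAlgebra
  have : IsScalarTower R Q K := IsScalarTower.of_algebraMap_eq fun x => (g.commutes x).symm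
  have hg : IsScalarTower.toAlgHom R Q K = g := by
    apply AlgHom.ext
    intro x
    rfl
  have h3 : Module.finrank K (K ⊗[Q] Om F) ≤ r := by
    rw [← Subspace.dual_finrank_eq]
    refine le_trans ?_ h2
    let φ : Module.Dual K (K ⊗[Q] Om F) →ₗ[K] ZM F g :=
      (psi F).codRestrict (ZM F g) (fun lam => by rw [← hg]; exact psi_mem F lam)
    have hφ : Function.Injective φ := by
      intro a b hab
      exact psi_injective F (congrArg Subtype.val hab)
    exact LinearMap.finrank_le_finrank_of_injective hφ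
  obtain ⟨a, m, ha, ham⟩ := FibreNak.exists_generators (P := Q) (K := K) (M := Om F) h3
  refine ⟨a, ha, fun L _ _ f hf => ?_⟩
  choose mt hmt using fun i => (Rel F).mkQ_surjective (m i)
  refine ⟨LinearMap.pi fun i => ext f (mt i), fun D hD hΘ => ?_⟩
  have hD' := (mem_ZM_iff F f D).1 hD
  have hΘ' : ∀ i, ext f (mt i) D = 0 := fun i => congrFun hΘ i
  -- elements of the span of the lifts
  have key : ∀ z : Q ⊗[R] C, (Rel F).mkQ z ∈ Submodule.span Q (Set.range m) → ext f z D = 0 := by
    intro z hz
    have h4 : Submodule.span Q (Set.range m) = (Submodule.span Q (Set.range mt)).map (Rel F).mkQ := by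
      rw [Submodule.map_span, ← Set.range_comp]
      congr 1
      congr 1
      funext i
      exact (hmt i).symm
    rw [h4] at hz
    obtain ⟨w, hw, hwz⟩ := hz
    have h5 : z - w ∈ Rel F := by
      rw [← Submodule.Quotient.mk_eq_zero, ← Submodule.mkQ_apply, map_sub, hwz, sub_self]
    have h6 : ext f w D = 0 := by
      have hw' : w ∈ Submodule.span Q (Set.range mt) := hw
      clear hwz h5 hw
      induction hw' using Submodule.span_induction with
      | mem w hw => obtain ⟨i, rfl⟩ := hw; exact hΘ' i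
      | zero => simp [ext]
      | add x y _ _ hx hy => rw [ext_add, hx, hy, add_zero]
      | smul a x _ hx => rw [ext_smul, hx, mul_zero]
    have h7 := hD' _ h5
    rw [ext_sub, h6, sub_zero] at h7
    exact h7
  apply LinearMap.ext
  intro c
  have h8 := key (a • ((1 : Q) ⊗ₜ[R] c)) (by rw [map_smul]; exact ham _)
  rw [ext_smul, ext_tmul, map_one, one_mul] at h8
  exact (mul_eq_zero.1 h8).resolve_left hf

end

end Groth.Agent.Sga3B.TorusOmega
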