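import Groth.Agent.Sga3B.TorusLie
import Mathlib.LinearAlgebra.Dual.Lemmas
import Mathlib.LinearAlgebra.Dimension.StrongRankCondition

/-!
# Rank of the tangent space centralised by a split torus, and its semicontinuity
-/

set_option autoImplicit false

open TensorProduct Coalgebra Bialgebra WithConv
open Groth.Agent.Sga3B.HaarDef Groth.Agent.Sga3B.TorusWt Groth.Agent.Sga3B.TorusLie

namespace Groth.Agent.Sga3B.TorusRk

noncomputable section

universe u

section Basic

variable {R : Type*} [CommRing R] {C : Type*} [CommRing C] [HopfAlgebra R C]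
variable {A : Type*} [CommRing A] [Algebra R A]

lemma mul_smul_apply (φ : WithConv (C →ₗ[R] A)) (a : A) (D : C →ₗ[R] A) (c : C) :
    (φ * toConv (a • D)) c = a * (φ * toConv D) c := by
  rw [convMul_repr, convMul_repr, Finset.mul_sum]
  refine Finset.sum_congr rfl fun i _ => ?_
  show φ _ * (a * D _) = a * (φ _ * D _)
  ring

lemma smul_mul_apply (φ : WithConv (C →ₗ[R] A)) (a : A) (D : C →ₗ[R] A) (c : C) :
    (toConv (a • D) * φ) c = a * (toConv D * φ) c := by
  rw [convMul_repr, convMul_repr, Finset.mul_sum]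
  refine Finset.sum_congr rfl fun i _ => ?_
  show (a * D _) * φ _ = a * (D _ * φ _)
  ring

variable {N : Type*} [CommGroup N] {X : Type*} [CommRing X] [Algebra R X]

/-- the module of tangent vectors centralised by `F` -/
def ZM (F : WithConv (C →ₐ[R] MonoidAlgebra R N ⊗[R] X)) (f : X →ₐ[R] A) : Submodule A (C →ₗ[R] A) where
  carrier := {D | IsTan F f (toConv D)}
  zero_mem' := by
    refine ⟨fun x y => ?_, fun n => ?_⟩
    · show (0 : A) = counit (R := R) x • (0 : A) + counit (R := R) y • (0 : A)
      simp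
    · show push f (cf F n) * (0 : WithConv (C →ₗ[R] A)) = (0 : WithConv (C →ₗ[R] A)) * push f (cf F n)
      rw [mul_zero, zero_mul]
  add_mem' := by
    intro D D' h h'
    refine ⟨fun x y => ?_, fun n => ?_⟩
    · have h1 := h.der x y
      have h2 := h'.der x y
      show D (x * y) + D' (x * y) = counit (R := R) x • (D y + D' y) + counit (R := R) y • (D x + D' x)
      have h1' : D (x * y) = counit (R := R) x • D y + counit (R := R) y • D x := h1
      have h2' : D' (x * y) = counit (R := R) x • D' y + counit (R := R) y • D' x := h2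
      rw [h1', h2']
      simp only [smul_add]
      abel
    · show push f (cf F n) * (toConv D + toConv D') = (toConv D + toConv D') * push f (cf F n)
      rw [mul_add, add_mul, h.comm, h'.comm]
  smul_mem' := by
    intro a D h
    refine ⟨fun x y => ?_, fun n => ?_⟩
    · have h1' : D (x * y) = counit (R := R) x • D y + counit (R := R) y • D x := h.der x y
      show a * D (x * y) = counit (R := R) x • (a * D y) + counit (R := R) y • (a * D x)
      rw [h1']
      simp only [mul_add, Algebra.smul_def]
      ring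
    · apply conv_ext
      intro c
      rw [mul_smul_apply, smul_mul_apply, h.comm]

lemma mem_ZM {F : WithConv (C →ₐ[R] MonoidAlgebra R N ⊗[R] X)} {f : X →ₐ[R] A} {D : C →ₗ[R] A} :
    D ∈ ZM F f ↔ IsTan F f (toConv D) := Iff.rfl

/-- the tangent vectors of a split torus -/
def tanMap {r : ℕ} (F : WithConv (C →ₐ[R] MonoidAlgebra R (Multiplicative (Fin r → ℤ)) ⊗[R] X))
    (f : X →ₐ[R] A) : (Fin r → A) →ₗ[A] (C →ₗ[R] A) where
  toFun v := (Phi F f (addFn v)).ofConv
  map_add' v w := by
    rw [addFn_add, Phi_add]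
    rfl
  map_smul' a v := by
    apply LinearMap.ext
    intro c
    rw [addFn_smul]
    exact Phi_smul_apply F f a (addFn v) c

lemma tanMap_apply {r : ℕ} (F : WithConv (C →ₐ[R] MonoidAlgebra R (Multiplicative (Fin r → ℤ)) ⊗[R] X))
    (f : X →ₐ[R] A) (v : Fin r → A) : toConv (tanMap F f v) = Phi F f (addFn v) := rfl

end Basic

variable {R : Type u} [CommRing R] {N : Type} [CommGroup N]
variable {C : Type u} [CommRing C] [HopfAlgebra R C]
variable {X Y : Type u} [CommRing X] [Algebra R X] [CommRing Y] [Algebra R Y]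

/-- the tangent vectors centralised by `F` have rank at most `r` at all field-valued points -/
def LieRk (F : WithConv (C →ₐ[R] MonoidAlgebra R N ⊗[R] X)) (r : ℕ) : Prop :=
  ∀ (L : Type u) [Field L] [Algebra R L] (f : X →ₐ[R] L),
    ∃ Θ : (C →ₗ[R] L) →ₗ[L] (Fin r → L), ∀ D ∈ ZM F f, Θ D = 0 → D = 0

lemma LieRk.map {F : WithConv (C →ₐ[R] MonoidAlgebra R N ⊗[R] X)} {r : ℕ} (h : LieRk F r) (g : X →ₐ[R] Y) :
    LieRk (pushG (T (MonoidAlgebra R N) g) F) r := by
  intro L _ _ f
  obtain ⟨Θ, hΘ⟩ := h L (f.comp g)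
  exact ⟨Θ, fun D hD => hΘ D ((isTan_T_iff F g f (toConv D)).1 hD)⟩

/-- the differential of a monomorphism from a split torus is injective -/
lemma tanMap_injective {r : ℕ} {L : Type u} [Field L] [Algebra R L]
    {F : WithConv (C →ₐ[R] MonoidAlgebra R (Multiplicative (Fin r → ℤ)) ⊗[R] L)} (hF : IsHom F) (hm : AMono F) :
    Function.Injective (tanMap F (AlgHom.id R L)) := by
  rw [injective_iff_map_eq_zero]
  intro v hv
  have hW := closure_eq_top_of_amono hm
  have h1 : Phi F (AlgHom.id R L) (addFn v) = 0 := by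
    rw [← tanMap_apply, hv]
    rfl
  have h2 : ∀ n, (∃ x : C, cf F n x ≠ 0) → addFn v n = 0 := by
    rintro n ⟨x, hx⟩
    have h3 := Phi_mul_cf hF (AlgHom.id R L) (addFn v) n x
    rw [h1, zero_mul] at h3
    have h4 : addFn v n * cf F n x = 0 := h3.symm
    exact (mul_eq_zero.1 h4).resolve_right hx
  let φ : Multiplicative (Fin r → ℤ) →* Multiplicative L :=
    MonoidHom.mk' (fun n => Multiplicative.ofAdd (addFn v n)) fun a b => congrArg _ (addFn_mul v a b)
  have h3 : φ = 1 := by
    apply MonoidHom.eq_of_eqOn_dense hW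
    intro n hn
    exact congrArg Multiplicative.ofAdd (h2 n hn)
  funext i
  have h4 := DFunLike.congr_fun h3 (Multiplicative.ofAdd (Pi.single i 1))
  have h5 : addFn v (Multiplicative.ofAdd (Pi.single i 1)) = 0 := congrArg Multiplicative.toAdd h4
  rwa [addFn_single] at h5

/-- The rank of a torus containing `F` is bounded by the rank of the centralised tangent vectors. -/
theorem rank_le_of_lieRk {r r' : ℕ} {L : Type u} [Field L] [Algebra R L]
    {F' : WithConv (C →ₐ[R] MonoidAlgebra R (Multiplicative (Fin r' → ℤ)) ⊗[R] L)} (hF' : IsHom F')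
    (hm : AMono F') (χ : Multiplicative (Fin r' → ℤ) →* MonoidAlgebra R N ⊗[R] L)
    (hrk : LieRk (pushG (pt (ι R (MonoidAlgebra R N) L) χ) F') r) : r' ≤ r := by
  obtain ⟨Θ, hΘ⟩ := hrk L (AlgHom.id R L)
  have hinj : Function.Injective (Θ ∘ₗ tanMap F' (AlgHom.id R L)) := by
    rw [injective_iff_map_eq_zero]
    intro v hv
    apply tanMap_injective hF' hm
    rw [map_zero]
    exact hΘ _ (isTan_Phi_of_factor hF' χ _ (addFn_mul v)) hv
  have := LinearMap.finrank_le_finrank_of_injective hinj
  simpa using this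

/-- The rank of a torus in `G_L` is bounded by the number of generators of `C`. -/
theorem rank_le_of_adjoin {r : ℕ} {L : Type u} [Field L] [Algebra R L] {κ : Type*} [Fintype κ]
    (x : κ → C) (hx : Algebra.adjoin R (Set.range x) = ⊤)
    {F : WithConv (C →ₐ[R] MonoidAlgebra R (Multiplicative (Fin r → ℤ)) ⊗[R] L)} (hF : IsHom F)
    (hm : AMono F) : r ≤ Fintype.card κ := by
  let Θ : (C →ₗ[R] L) →ₗ[L] (κ → L) :=
    { toFun := fun D i => D (x i)
      map_add' := fun _ _ => rfl
      map_smul' := fun _ _ => rfl }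
  have hinj : Function.Injective (Θ ∘ₗ tanMap F (AlgHom.id R L)) := by
    rw [injective_iff_map_eq_zero]
    intro v hv
    apply tanMap_injective hF hm
    rw [map_zero]
    have hD : IsDer (toConv (tanMap F (AlgHom.id R L) v)) := isDer_Phi hF _ (addFn_mul v)
    apply LinearMap.ext
    intro c
    have hc : c ∈ Algebra.adjoin R (Set.range x) := by rw [hx]; trivial
    have hD' : ∀ a b, (tanMap F (AlgHom.id R L) v) (a * b) = counit (R := R) a • (tanMap F (AlgHom.id R L) v) b +
      counit (R := R) b • (tanMap F (AlgHom.id R L) v) a := hD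
    have h1 : (tanMap F (AlgHom.id R L) v) (1 : C) = 0 := by
      have := hD' 1 1
      simpa using this
    induction hc using Algebra.adjoin_induction with
    | mem c hc =>
      obtain ⟨i, rfl⟩ := hc
      exact congrFun hv i
    | algebraMap r => rw [Algebra.algebraMap_eq_smul_one, map_smul, h1, smul_zero]; rfl
    | add a b _ _ ha hb => rw [map_add, ha, hb]; simp
    | mul a b _ _ ha hb => rw [hD', ha, hb]; simp
  have := LinearMap.finrank_le_finrank_of_injective hinj
  simpa using this

end

end Groth.Agent.Sga3B.TorusRk
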