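import Groth.Agent.Sga3B.TorusRk
import Groth.Agent.Sga3B.TorusSmooth
import Groth.Agent.Sga3B.ComodGen
import Mathlib.LinearAlgebra.Dual.Lemmas
import Mathlib.RingTheory.Smooth.Basic

/-!
# Spreading out a self-centralising torus of a fibre

* `ZM_le_range` : if `F₀` over a field `K` is a monomorphism and every `K[ε]`-point of `G` infinitesimally near `1`
  commuting with `F₀` comes from the torus, then the tangent vectors centralised by `F₀` come from the torus.
* `exists_lieRk_away` : semicontinuity of the rank of the centralised tangent vectors.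
* `exists_smooth_torus` : the main theorem.
-/

set_option autoImplicit false

open TensorProduct Coalgebra Bialgebra WithConv
open Groth.Agent.Sga3B.HaarDef Groth.Agent.Sga3B.TorusWt Groth.Agent.Sga3B.TorusLie Groth.Agent.Sga3B.TorusRk

namespace Groth.Agent.Sga3B.TorusSpread

noncomputable section

universe u

variable {R : Type u} [CommRing R] {N : Type} [CommGroup N]
variable {C : Type u} [CommRing C] [HopfAlgebra R C]

/-! ### Dual numbers -/

section Dual

variable {K : Type u} [Field K] [Algebra R K]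

/-- the inclusion `K → K[ε]` -/
def dinl : K →ₐ[R] DualNumber K := (TrivSqZeroExt.inlAlgHom R K K)

/-- the reduction `K[ε] → K` -/
def dfst : DualNumber K →ₐ[R] K := (TrivSqZeroExt.fstHom R K K)

lemma dfst_comp_dinl : (dfst (R := R) (K := K)).comp dinl = AlgHom.id R K := by
  apply AlgHom.ext
  intro x
  rfl

lemma ker_dfst_sq : (RingHom.ker (dfst (R := R) (K := K))) ^ 2 = ⊥ := by
  rw [eq_bot_iff, pow_two, Ideal.mul_le]
  intro x hx y hy
  have hx' : x.fst = 0 := hx
  have hy' : y.fst = 0 := hy
  rw [Ideal.mem_bot]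
  apply TrivSqZeroExt.ext
  · simp [hx']
  · simp [hx', hy']

/-- the infinitesimal point given by a tangent vector -/
def tanPt {D : WithConv (C →ₗ[R] K)} (hD : IsDer D) : WithConv (C →ₐ[R] DualNumber K) :=
  expPt (K := RingHom.ker (dfst (R := R) (K := K))) ker_dfst_sq
    (pushL (TrivSqZeroExt.inrHom K K ∘ₗ LinearMap.id |>.restrictScalars R) D) (fun _ => rfl) (hD.pushL _)

lemma lin_tanPt {D : WithConv (C →ₗ[R] K)} (hD : IsDer D) :
    lin (tanPt hD) = 1 + pushL (TrivSqZeroExt.inrHom K K ∘ₗ LinearMap.id |>.restrictScalars R) D :=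
  lin_expPt _ _ _ _

lemma tanPt_apply {D : WithConv (C →ₗ[R] K)} (hD : IsDer D) (c : C) :
    tanPt hD c = algebraMap R (DualNumber K) (counit (R := R) c) + TrivSqZeroExt.inr (D c) := rfl

lemma pushG_dfst_tanPt {D : WithConv (C →ₗ[R] K)} (hD : IsDer D) :
    pushG (dfst (R := R) (K := K)) (tanPt hD) = 1 := by
  apply lin_injective
  apply conv_ext
  intro c
  show dfst (R := R) (tanPt hD c) = algebraMap R K (counit (R := R) c)
  rw [tanPt_apply, map_add, AlgHom.commutes]
  show _ + (0 : K) = _
  rw [add_zero]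

lemma commute_tanPt {F : WithConv (C →ₐ[R] MonoidAlgebra R N ⊗[R] K)} {D : WithConv (C →ₗ[R] K)}
    (hD : IsTan F (AlgHom.id R K) D) (n : N) :
    push dinl (cf F n) * lin (tanPt hD.der) = lin (tanPt hD.der) * push dinl (cf F n) := by
  rw [lin_tanPt, mul_add, add_mul, mul_one, one_mul]
  congr 1
  set p := pushL (TrivSqZeroExt.inrHom K K ∘ₗ LinearMap.id |>.restrictScalars R) D with hp
  have h1 : push dinl (cf F n) * p =
      pushL (TrivSqZeroExt.inrHom K K ∘ₗ LinearMap.id |>.restrictScalars R) (cf F n * D) := by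
    apply conv_ext
    intro c
    rw [convMul_repr, pushL_apply, convMul_repr, map_sum]
    refine Finset.sum_congr rfl fun i _ => ?_
    show TrivSqZeroExt.inl _ * TrivSqZeroExt.inr _ = TrivSqZeroExt.inr _
    rw [TrivSqZeroExt.inl_mul_inr, smul_eq_mul]
    rfl
  have h2 : p * push dinl (cf F n) =
      pushL (TrivSqZeroExt.inrHom K K ∘ₗ LinearMap.id |>.restrictScalars R) (D * cf F n) := by
    apply conv_ext
    intro c
    rw [convMul_repr, pushL_apply, convMul_repr, map_sum]
    refine Finset.sum_congr rfl fun i _ => ?_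
    show TrivSqZeroExt.inr _ * TrivSqZeroExt.inl _ = TrivSqZeroExt.inr _
    rw [TrivSqZeroExt.inr_mul_inl, MulOpposite.smul_eq_mul_unop]
    rfl
  rw [h1, h2]
  congr 1
  exact hD.comm n

/-- Tangent vectors centralised by a self-centralising torus come from the torus. -/
theorem ZM_le_range {r : ℕ} {F : WithConv (C →ₐ[R] MonoidAlgebra R (Multiplicative (Fin r → ℤ)) ⊗[R] K)}
    (hF : IsHom F) (hm : AMono F)
    (h : ∀ g : WithConv (C →ₐ[R] DualNumber K),
      (∀ n, push dinl (cf F n) * lin g = lin g * push dinl (cf F n)) →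
      ∃ χ : Multiplicative (Fin r → ℤ) →* DualNumber K, g = pushG (pt dinl χ) F) :
    ZM F (AlgHom.id R K) ≤ LinearMap.range (tanMap F (AlgHom.id R K)) := by
  intro D hD
  rw [mem_ZM] at hD
  obtain ⟨χ, hχ⟩ := h (tanPt hD.der) (commute_tanPt hD)
  -- the character is trivial mod `ε`
  have h1 : (dfst (R := R) (K := K) : DualNumber K →* K).comp χ = 1 := by
    apply hm K (AlgHom.id R K)
    apply lin_injective
    rw [lin_pushG_pt, lin_pushG_pt]
    have h2 := congrArg (fun g => lin (pushG dfst g)) hχ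
    simp only [pushG_dfst_tanPt, map_one] at h2
    rw [← push_lin, lin_pushG_pt, push_Phi, dfst_comp_dinl] at h2
    refine Eq.trans h2.symm ?_
    exact (Phi_one hF _).symm
  have h1' : ∀ n, (χ n).fst = 1 := fun n => DFunLike.congr_fun h1 n
  let δ : Multiplicative (Fin r → ℤ) → K := fun n => (χ n).snd
  have hδ : ∀ m n, δ (m * n) = δ m + δ n := by
    intro m n
    show (χ (m * n)).snd = _
    rw [map_mul, TrivSqZeroExt.snd_mul, h1', h1', one_smul, MulOpposite.op_one, one_smul]
    exact add_comm _ _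
  refine ⟨fun i => δ (Multiplicative.ofAdd (Pi.single i 1)), ?_⟩
  apply LinearMap.ext
  intro c
  have e1 : tanMap F (AlgHom.id R K) (fun i => δ (Multiplicative.ofAdd (Pi.single i 1))) c =
    Phi F (AlgHom.id R K) δ c := by
    exact congrArg (fun q => Phi F (AlgHom.id R K) q c) (eq_addFn hδ).symm
  rw [e1]
  have e2 : D c = (tanPt hD.der c).snd := by
    rw [tanPt_apply]
    have : (algebraMap R (DualNumber K) (counit (R := R) c)) = TrivSqZeroExt.inl (algebraMap R K (counit (R := R) c)) := rfl
    rw [this, TrivSqZeroExt.snd_add, TrivSqZeroExt.snd_inl, TrivSqZeroExt.snd_inr, zero_add]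
  rw [e2, hχ]
  obtain ⟨s, hs, -⟩ := exists_finset_repr F c
  have e3 : (pushG (pt (dinl (R := R) (K := K)) χ) F) c =
      ∑ n ∈ s, χ n * (dinl (R := R) (K := K)) (cf F n c) := by
    rw [← Phi_eq_sum F _ _ c hs, ← lin_pushG_pt]
    rfl
  rw [e3, Phi_eq_sum F _ _ c hs, TrivSqZeroExt.snd_sum]
  refine Finset.sum_congr rfl fun n _ => ?_
  show (χ n).snd * (cf F n c) = (χ n * TrivSqZeroExt.inl (cf F n c)).snd
  rw [TrivSqZeroExt.snd_mul, TrivSqZeroExt.snd_inl, smul_zero, zero_add, TrivSqZeroExt.fst_inl,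
    MulOpposite.smul_eq_mul_unop]
  rfl

lemma finrank_ZM_le {r : ℕ} {F : WithConv (C →ₐ[R] MonoidAlgebra R (Multiplicative (Fin r → ℤ)) ⊗[R] K)}
    (h : ZM F (AlgHom.id R K) ≤ LinearMap.range (tanMap F (AlgHom.id R K))) :
    Module.Finite K (ZM F (AlgHom.id R K)) ∧ Module.finrank K (ZM F (AlgHom.id R K)) ≤ r := by
  have h1 : Module.Finite K (LinearMap.range (tanMap F (AlgHom.id R K))) := inferInstance
  have h2 : Module.finrank K (LinearMap.range (tanMap F (AlgHom.id R K))) ≤ r := by
    refine (LinearMap.finrank_range_le _).trans ?_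
    simp
  have h3 : Module.Finite K (ZM F (AlgHom.id R K)) :=
    Module.Finite.of_injective (Submodule.inclusion h) (Submodule.inclusion_injective h)
  exact ⟨h3, (Submodule.finrank_mono h).trans h2⟩

end Dual

end

end Groth.Agent.Sga3B.TorusSpread
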