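import Groth.Agent.Sga3B.TorusWt
import Groth.Agent.Sga3B.FibreNak
import Mathlib.RingTheory.FinitePresentation

/-!
# The algebra representing homomorphisms of bounded weights from a diagonalisable group
-/

set_option autoImplicit false

open TensorProduct Coalgebra Bialgebra WithConv
open Groth.Agent.Sga3B.HaarDef Groth.Agent.Sga3B.TorusWt

namespace Groth.Agent.Sga3B.TorusUniv

noncomputable section

universe u

variable {R : Type u} [CommRing R] {N : Type} [CommGroup N]
variable {C : Type u} [CommRing C] [HopfAlgebra R C]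

/-- The coefficients on the family `c` are supported in `W`. -/
def SuppCl {ι' : Type} (c : ι' → C) {X : Type*} [CommRing X] [Algebra R X]
    (F : WithConv (C →ₐ[R] MonoidAlgebra R N ⊗[R] X)) (W : Finset N) : Prop :=
  ∀ i n, n ∉ W → cf F n (c i) = 0

lemma algHom_ext_coef {X : Type*} [CommRing X] [Algebra R X] {B : Type*} [CommRing B] [Algebra R B]
    {f g : B →ₐ[R] MonoidAlgebra R N ⊗[R] X} (h : ∀ b n, coef R n X (f b) = coef R n X (g b)) : f = g := by
  ext b
  exact coef_ext (h b)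

lemma finite_coef {X : Type*} [CommRing X] [Algebra R X] (z : MonoidAlgebra R N ⊗[R] X) :
    (Set.range fun n => coef R n X z).Finite := by
  classical
  obtain ⟨s, hs, -⟩ := exists_finset_coef z
  refine ((s.image fun n => coef R n X z) ∪ {0} : Finset X).finite_toSet.subset ?_
  rintro _ ⟨n, rfl⟩
  by_cases hn : n ∈ s
  · simp only [Finset.coe_union, Finset.coe_image, Finset.coe_singleton]
    exact Or.inl ⟨n, hn, rfl⟩
  · simp [hs n hn]

lemma finite_coef₂ {X : Type*} [CommRing X] [Algebra R X]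
    (z : MonoidAlgebra R N ⊗[R] (MonoidAlgebra R N ⊗[R] X)) :
    (Set.range fun p : N × N => coef R p.2 X (coef R p.1 _ z)).Finite := by
  have h1 := finite_coef z
  have : (Set.range fun p : N × N => coef R p.2 X (coef R p.1 _ z)) ⊆
      ⋃ w ∈ (Set.range fun n => coef R n _ z), Set.range fun n => coef R n X w := by
    rintro _ ⟨p, rfl⟩
    exact Set.mem_biUnion ⟨p.1, rfl⟩ ⟨p.2, rfl⟩
  exact (h1.biUnion fun w _ => finite_coef w).subset this

/-- quotient by the coefficients of finitely many elements -/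
theorem exists_quotient_coef {B : Type u} [CommRing B] [Algebra R B] {ι' : Type} [Finite ι']
    (z : ι' → MonoidAlgebra R N ⊗[R] (MonoidAlgebra R N ⊗[R] B)) :
    ∃ K : Ideal B, K.FG ∧ (∀ i, T (MonoidAlgebra R N) (T (MonoidAlgebra R N) (Ideal.Quotient.mkₐ R K)) (z i) = 0) ∧
      ∀ (A : Type u) [CommRing A] [Algebra R A] (g : B →ₐ[R] A),
        (∀ i, T (MonoidAlgebra R N) (T (MonoidAlgebra R N) g) (z i) = 0) → K ≤ RingHom.ker g := by
  let S₂ : Set B := ⋃ i : ι', Set.range fun p : N × N => coef R p.2 B (coef R p.1 _ (z i))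
  have hS₂ : S₂.Finite := Set.finite_iUnion fun i => finite_coef₂ _
  refine ⟨Ideal.span S₂, ⟨hS₂.toFinset, by simp⟩, fun i => ?_, fun A _ _ g hg => ?_⟩
  · apply coef_ext
    intro n
    rw [coef_T, map_zero]
    apply coef_ext
    intro m
    rw [coef_T, map_zero]
    refine Ideal.Quotient.eq_zero_iff_mem.2 (Ideal.subset_span ?_)
    exact Set.mem_iUnion.2 ⟨i, ⟨(n, m), rfl⟩⟩
  · rw [Ideal.span_le]
    intro a ha
    obtain ⟨i, ⟨n, m⟩, rfl⟩ := Set.mem_iUnion.1 ha
    show g (coef R m B (coef R n _ (z i))) = 0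
    rw [← coef_T, ← coef_T, hg, map_zero, map_zero]

/-- The algebra representing algebra homomorphisms `C → R[N] ⊗ A` with bounded coefficients. -/
theorem exists_universal_algHom [Algebra.FinitePresentation R C] {ι' : Type} [Finite ι'] (c : ι' → C)
    (hc : Algebra.adjoin R (Set.range c) = ⊤) (W : Finset N) :
    ∃ (P₁ : Type u) (_ : CommRing P₁) (_ : Algebra R P₁) (u₁ : WithConv (C →ₐ[R] MonoidAlgebra R N ⊗[R] P₁)),
      Algebra.FinitePresentation R P₁ ∧ SuppCl c u₁ W ∧
      (∀ (A : Type u) [CommRing A] [Algebra R A] (F : WithConv (C →ₐ[R] MonoidAlgebra R N ⊗[R] A)),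
        SuppCl c F W → ∃ g : P₁ →ₐ[R] A, pushG (T (MonoidAlgebra R N) g) u₁ = F) ∧
      ∀ (A : Type u) [CommRing A] [Algebra R A] (g g' : P₁ →ₐ[R] A),
        pushG (T (MonoidAlgebra R N) g) u₁ = pushG (T (MonoidAlgebra R N) g') u₁ → g = g' := by
  classical
  cases nonempty_fintype ι'
  let Q := MvPolynomial (ι' × W) R
  let θ : MvPolynomial ι' R →ₐ[R] C := MvPolynomial.aeval c
  have hθ : Function.Surjective θ := by
    rw [← AlgHom.range_eq_top, ← Algebra.adjoin_range_eq_range_aeval, hc]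
  obtain ⟨J, hJ⟩ : (RingHom.ker θ).FG := Algebra.FinitePresentation.ker_fG_of_surjective θ hθ
  let u : MvPolynomial ι' R →ₐ[R] MonoidAlgebra R N ⊗[R] Q :=
    MvPolynomial.aeval fun i => ∑ n : W, MonoidAlgebra.single (n : N) (1 : R) ⊗ₜ[R] MvPolynomial.X (i, n)
  let S₁ : Set Q := ⋃ j ∈ J, Set.range fun n => coef R n Q (u j)
  have hS₁ : S₁.Finite := J.finite_toSet.biUnion fun j _ => finite_coef _
  let K₁ : Ideal Q := Ideal.span S₁
  have hK₁ : K₁.FG := ⟨hS₁.toFinset, by simp [K₁]⟩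
  let P₁ := Q ⧸ K₁
  let m₁ : Q →ₐ[R] P₁ := Ideal.Quotient.mkₐ R K₁
  have hu₁ : ∀ j ∈ RingHom.ker θ, T (MonoidAlgebra R N) m₁ (u j) = 0 := by
    have : RingHom.ker θ ≤ RingHom.ker ((T (MonoidAlgebra R N) m₁).comp u) := by
      rw [← hJ, Ideal.span_le]
      intro j hj
      show (T (MonoidAlgebra R N) m₁) (u j) = 0
      apply coef_ext
      intro n
      rw [coef_T, map_zero]
      refine Ideal.Quotient.eq_zero_iff_mem.2 (Ideal.subset_span ?_)
      exact Set.mem_biUnion hj ⟨n, rfl⟩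
    intro j hj
    exact this hj
  let u₁ : WithConv (C →ₐ[R] MonoidAlgebra R N ⊗[R] P₁) :=
    toConv ((Ideal.Quotient.liftₐ (RingHom.ker θ) ((T (MonoidAlgebra R N) m₁).comp u) hu₁).comp
      (Ideal.quotientKerAlgEquivOfSurjective hθ).symm.toAlgHom)
  have hu₁θ : ∀ x, u₁ (θ x) = T (MonoidAlgebra R N) m₁ (u x) := by
    intro x
    show (Ideal.Quotient.liftₐ (RingHom.ker θ) ((T (MonoidAlgebra R N) m₁).comp u) hu₁)
      ((Ideal.quotientKerAlgEquivOfSurjective hθ).symm (θ x)) = _
    rw [Ideal.quotientKerAlgEquivOfSurjective_symm_apply]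
    rfl
  have hθX : ∀ i, θ (MvPolynomial.X i) = c i := fun i => by simp [θ]
  have huX : ∀ i, u (MvPolynomial.X i) =
      ∑ n : W, MonoidAlgebra.single (n : N) (1 : R) ⊗ₜ[R] MvPolynomial.X (i, n) := fun i => by simp [u]
  have hUc : ∀ i, u₁ (c i) = ∑ n : W, MonoidAlgebra.single (n : N) (1 : R) ⊗ₜ[R]
      m₁ (MvPolynomial.X (i, n)) := by
    intro i
    rw [← hθX, hu₁θ, huX, map_sum]
    exact Finset.sum_congr rfl fun n _ => rfl
  have hcfU : ∀ i n, cf u₁ n (c i) = if h : n ∈ W then m₁ (MvPolynomial.X (i, ⟨n, h⟩)) else 0 := by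
    intro i n
    rw [cf_apply, hUc, map_sum]
    split_ifs with h
    · rw [Finset.sum_eq_single (⟨n, h⟩ : W)]
      · rw [coef_single, if_pos rfl, one_smul]
      · intro b _ hb
        rw [coef_single, if_neg]
        intro hbn
        exact hb (Subtype.ext hbn)
      · intro hh
        exact absurd (Finset.mem_univ _) hh
    · refine Finset.sum_eq_zero fun b _ => ?_
      rw [coef_single, if_neg]
      rintro rfl
      exact h b.2
  refine ⟨P₁, inferInstance, inferInstance, u₁, Algebra.FinitePresentation.quotient hK₁,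
    fun i n hn => by rw [hcfU, dif_neg hn], ?_, ?_⟩
  · intro A _ _ F hFW
    let g₀ : Q →ₐ[R] A := MvPolynomial.aeval fun p => cf F p.2 (c p.1)
    have hg₀u : ∀ x, T (MonoidAlgebra R N) g₀ (u x) = F (θ x) := by
      intro x
      have : (T (MonoidAlgebra R N) g₀).comp u = F.ofConv.comp θ := by
        apply MvPolynomial.algHom_ext
        intro i
        show T (MonoidAlgebra R N) g₀ (u (MvPolynomial.X i)) = F (θ (MvPolynomial.X i))
        rw [huX, hθX, map_sum]
        have h1 := eq_sum_coef (F (c i)) (s := W) (fun n hn => hFW i n hn)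
        conv_rhs => rw [h1]
        rw [← Finset.sum_coe_sort W]
        refine Finset.sum_congr rfl fun n _ => ?_
        rw [T_tmul]
        congr 1
        exact MvPolynomial.aeval_X _ _
      exact AlgHom.congr_fun this x
    have hg₀K : ∀ a ∈ K₁, g₀ a = 0 := by
      have : K₁ ≤ RingHom.ker g₀ := by
        rw [Ideal.span_le]
        intro a ha
        obtain ⟨j, hj, n, rfl⟩ := Set.mem_iUnion₂.1 ha
        show g₀ (coef R n Q (u j)) = 0
        rw [← coef_T, hg₀u]
        have : θ j = 0 := by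
          have hjk : j ∈ RingHom.ker θ := by rw [← hJ]; exact Ideal.subset_span hj
          exact hjk
        rw [this]
        have : F (0 : C) = 0 := map_zero F.ofConv
        rw [this, map_zero]
      intro a ha
      exact this ha
    refine ⟨Ideal.Quotient.liftₐ K₁ g₀ hg₀K, ?_⟩
    have hg₁ : (Ideal.Quotient.liftₐ K₁ g₀ hg₀K).comp m₁ = g₀ := by
      ext x; rfl
    apply WithConv.ofConv_injective
    apply AlgHom.ext
    intro x
    obtain ⟨y, rfl⟩ := hθ x
    show T (MonoidAlgebra R N) (Ideal.Quotient.liftₐ K₁ g₀ hg₀K) (u₁ (θ y)) = F (θ y)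
    rw [hu₁θ, ← hg₀u, ← AlgHom.comp_apply, T_comp, hg₁]
  · intro A _ _ g g' hgg
    have h1 : g.comp m₁ = g'.comp m₁ := by
      apply MvPolynomial.algHom_ext
      rintro ⟨i, n⟩
      have h2 : cf (pushG (T (MonoidAlgebra R N) g) u₁) (n : N) (c i) =
          cf (pushG (T (MonoidAlgebra R N) g') u₁) (n : N) (c i) := by rw [hgg]
      rw [cf_pushG_T, cf_pushG_T, push_apply, push_apply, hcfU, dif_pos n.2] at h2
      exact h2
    apply AlgHom.ext
    intro x
    obtain ⟨y, rfl⟩ := Ideal.Quotient.mk_surjective x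
    exact AlgHom.congr_fun h1 y

/-- **The representing algebra** of homomorphisms from the diagonalisable group `D(N)` to `Spec C` whose
coefficients on a finite generating family `c` are supported in a finite set `W`. -/
theorem exists_universal [Algebra.FinitePresentation R C] {ι' : Type} [Finite ι'] (c : ι' → C)
    (hc : Algebra.adjoin R (Set.range c) = ⊤) (W : Finset N) :
    ∃ (P : Type u) (_ : CommRing P) (_ : Algebra R P) (U : WithConv (C →ₐ[R] MonoidAlgebra R N ⊗[R] P)),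
      Algebra.FinitePresentation R P ∧ IsHom U ∧ SuppCl c U W ∧
      ∀ (A : Type u) [CommRing A] [Algebra R A] (F : WithConv (C →ₐ[R] MonoidAlgebra R N ⊗[R] A)),
        IsHom F → SuppCl c F W → ∃! g : P →ₐ[R] A, pushG (T (MonoidAlgebra R N) g) U = F := by
  obtain ⟨P₁, _, _, u₁, hfp₁, hu₁W, hu₁, hinj⟩ := exists_universal_algHom c hc W
  let a₁ : WithConv (C →ₐ[R] MonoidAlgebra R N ⊗[R] (MonoidAlgebra R N ⊗[R] P₁)) :=
    pushG (T (MonoidAlgebra R N) (ι R (MonoidAlgebra R N) P₁)) u₁ *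
    pushG (ι R (MonoidAlgebra R N) (MonoidAlgebra R N ⊗[R] P₁)) u₁
  let b₁ : WithConv (C →ₐ[R] MonoidAlgebra R N ⊗[R] (MonoidAlgebra R N ⊗[R] P₁)) :=
    pushG (δ R (MonoidAlgebra R N) P₁) u₁
  obtain ⟨K₂, hK₂, hK₂', hK₂''⟩ := exists_quotient_coef fun i => a₁ (c i) - b₁ (c i)
  have hab : ∀ (A : Type u) [CommRing A] [Algebra R A] (g : P₁ →ₐ[R] A),
      pushG (T (MonoidAlgebra R N) (T (MonoidAlgebra R N) g)) a₁ =
        pushG (T (MonoidAlgebra R N) (ι R (MonoidAlgebra R N) A)) (pushG (T (MonoidAlgebra R N) g) u₁) *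
        pushG (ι R (MonoidAlgebra R N) (MonoidAlgebra R N ⊗[R] A)) (pushG (T (MonoidAlgebra R N) g) u₁) ∧
      pushG (T (MonoidAlgebra R N) (T (MonoidAlgebra R N) g)) b₁ =
        pushG (δ R (MonoidAlgebra R N) A) (pushG (T (MonoidAlgebra R N) g) u₁) := by
    intro A _ _ g
    constructor
    · rw [map_mul, pushG_comp, pushG_comp, pushG_comp, pushG_comp, T_comp, T_comp, T_comp_ι, T_comp_ι]
    · rw [pushG_comp, pushG_comp, δ_comp_T]
  let m₂ : P₁ →ₐ[R] P₁ ⧸ K₂ := Ideal.Quotient.mkₐ R K₂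
  have hm₂ : Function.Surjective m₂ := Ideal.Quotient.mk_surjective
  refine ⟨P₁ ⧸ K₂, inferInstance, inferInstance, pushG (T (MonoidAlgebra R N) m₂) u₁,
    Algebra.FinitePresentation.quotient hK₂, ?_, ?_, ?_⟩
  · unfold IsHom
    rw [← (hab _ m₂).1, ← (hab _ m₂).2]
    apply WithConv.ofConv_injective
    refine AlgHom.ext_of_adjoin_eq_top hc ?_
    rintro _ ⟨i, rfl⟩
    have := hK₂' i
    rw [map_sub, sub_eq_zero] at this
    exact this
  · intro i n hn
    rw [cf_pushG_T, push_apply, hu₁W i n hn, map_zero]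
  · intro A _ _ F hF hFW
    obtain ⟨g₁, hg₁⟩ := hu₁ A F hFW
    have hker : K₂ ≤ RingHom.ker g₁ := by
      apply hK₂'' A g₁
      intro i
      have h1 : pushG (T (MonoidAlgebra R N) (T (MonoidAlgebra R N) g₁)) a₁ =
          pushG (T (MonoidAlgebra R N) (T (MonoidAlgebra R N) g₁)) b₁ := by
        rw [(hab _ g₁).1, (hab _ g₁).2, hg₁]
        exact hF
      have h2 : T (MonoidAlgebra R N) (T (MonoidAlgebra R N) g₁) (a₁ (c i)) =
        T (MonoidAlgebra R N) (T (MonoidAlgebra R N) g₁) (b₁ (c i)) :=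
        congrArg (fun q : WithConv (C →ₐ[R] MonoidAlgebra R N ⊗[R] (MonoidAlgebra R N ⊗[R] A)) => q (c i)) h1
      rw [map_sub, h2, sub_self]
    have hg : (Ideal.Quotient.liftₐ K₂ g₁ hker).comp m₂ = g₁ := by
      ext x; rfl
    refine ⟨Ideal.Quotient.liftₐ K₂ g₁ hker, ?_, ?_⟩
    · show pushG (T (MonoidAlgebra R N) _) (pushG (T (MonoidAlgebra R N) m₂) u₁) = F
      rw [pushG_comp, T_comp, hg, hg₁]
    · intro g' hg'
      have h1 : g'.comp m₂ = g₁ := by
        apply hinj A
        rw [hg₁, ← hg', pushG_comp, T_comp]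
      apply AlgHom.ext
      intro x
      obtain ⟨y, rfl⟩ := hm₂ x
      rw [← AlgHom.comp_apply, h1, ← AlgHom.comp_apply, hg]

end

end Groth.Agent.Sga3B.TorusUniv
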