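import Groth.Agent.Sga3B.HaarDef
import Mathlib.LinearAlgebra.TensorProduct.Tower
import Mathlib.RingTheory.TensorProduct.Finite

/-!
# Weights of a homomorphism from a diagonalisable group

`N` a commutative group (written multiplicatively), `D = R[N]`. A homomorphism `F : C →ₐ[R] R[N] ⊗ A` has
coefficients `F_n : C →ₗ[R] A`, which are orthogonal idempotents for the convolution product. A comodule `E` of `C`
gets weight projections `p_n = act F_n` on `A ⊗ E`.
-/

set_option autoImplicit false

open TensorProduct Coalgebra Bialgebra WithConv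
open Groth.Agent.Sga3B.HaarDef

namespace Groth.Agent.Sga3B.TorusWt

noncomputable section

variable {R : Type*} [CommRing R] {N : Type*} [CommGroup N]
variable {C : Type*} [CommRing C] [HopfAlgebra R C]
variable {X Y Z : Type*} [CommRing X] [Algebra R X] [CommRing Y] [Algebra R Y] [CommRing Z] [Algebra R Z]

variable (R) in
/-- the coefficient functional -/
def coef (n : N) (X : Type*) [CommRing X] [Algebra R X] : MonoidAlgebra R N ⊗[R] X →ₗ[R] X :=
  (TensorProduct.lid R X).toLinearMap ∘ₗ
    (Finsupp.lapply n ∘ₗ (MonoidAlgebra.coeffLinearEquiv R).toLinearMap).rTensor X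

@[simp] lemma coef_tmul (n : N) (d : MonoidAlgebra R N) (x : X) : coef R n X (d ⊗ₜ x) = d.coeff n • x := by
  simp [coef]

lemma coef_single (n m : N) [Decidable (m = n)] (r : R) (x : X) :
    coef R n X (MonoidAlgebra.single m r ⊗ₜ x) = if m = n then r • x else 0 := by
  rw [coef_tmul, MonoidAlgebra.coeff_single, Finsupp.single_apply]
  split_ifs <;> simp

/-- elements of `R[N] ⊗ X` are determined by their coefficients, finitely many of which are non zero -/
lemma exists_finset_coef (z : MonoidAlgebra R N ⊗[R] X) :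
    ∃ s : Finset N, (∀ n, n ∉ s → coef R n X z = 0) ∧
      z = ∑ n ∈ s, MonoidAlgebra.single n (1 : R) ⊗ₜ[R] coef R n X z := by
  classical
  induction z using TensorProduct.induction_on with
  | zero => exact ⟨∅, by simp, by simp⟩
  | tmul d x =>
    refine ⟨d.coeff.support, fun n hn => by simp [Finsupp.notMem_support_iff.1 hn], ?_⟩
    have hd : d = ∑ n ∈ d.coeff.support, MonoidAlgebra.single n (d.coeff n) := by
      conv_lhs => rw [← MonoidAlgebra.sum_coeff_single d]
      rfl
    conv_lhs => rw [hd, TensorProduct.sum_tmul]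
    refine Finset.sum_congr rfl fun n _ => ?_
    rw [coef_tmul, ← TensorProduct.smul_tmul, MonoidAlgebra.smul_single, smul_eq_mul, mul_one]
  | add a b ha hb =>
    obtain ⟨s, hs, hs'⟩ := ha
    obtain ⟨t, ht, ht'⟩ := hb
    refine ⟨s ∪ t, fun n hn => ?_, ?_⟩
    · rw [Finset.mem_union, not_or] at hn
      rw [map_add, hs n hn.1, ht n hn.2, add_zero]
    · have h1 : a = ∑ n ∈ s ∪ t, MonoidAlgebra.single n (1 : R) ⊗ₜ[R] coef R n X a := by
        conv_lhs => rw [hs']
        refine Finset.sum_subset Finset.subset_union_left fun n _ hn => ?_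
        rw [hs n hn, TensorProduct.tmul_zero]
      have h2 : b = ∑ n ∈ s ∪ t, MonoidAlgebra.single n (1 : R) ⊗ₜ[R] coef R n X b := by
        conv_lhs => rw [ht']
        refine Finset.sum_subset Finset.subset_union_right fun n _ hn => ?_
        rw [ht n hn, TensorProduct.tmul_zero]
      conv_lhs => rw [h1, h2, ← Finset.sum_add_distrib]
      refine Finset.sum_congr rfl fun n _ => ?_
      rw [map_add, TensorProduct.tmul_add]

lemma eq_sum_coef (z : MonoidAlgebra R N ⊗[R] X) {s : Finset N} (hs : ∀ n, n ∉ s → coef R n X z = 0) :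
    z = ∑ n ∈ s, MonoidAlgebra.single n (1 : R) ⊗ₜ[R] coef R n X z := by
  classical
  obtain ⟨t, ht, ht'⟩ := exists_finset_coef z
  have h1 : z = ∑ n ∈ s ∪ t, MonoidAlgebra.single n (1 : R) ⊗ₜ[R] coef R n X z := by
    conv_lhs => rw [ht']
    refine Finset.sum_subset Finset.subset_union_right fun n _ hn => ?_
    rw [ht n hn, TensorProduct.tmul_zero]
  conv_lhs => rw [h1]
  refine (Finset.sum_subset Finset.subset_union_left fun n _ hn => ?_).symm
  rw [hs n hn, TensorProduct.tmul_zero]

lemma coef_ext {z w : MonoidAlgebra R N ⊗[R] X} (h : ∀ n, coef R n X z = coef R n X w) : z = w := by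
  classical
  obtain ⟨s, hs, hs'⟩ := exists_finset_coef z
  have ht : ∀ n, n ∉ s → coef R n X w = 0 := fun n hn => by rw [← h, hs n hn]
  rw [hs', eq_sum_coef w ht]
  exact Finset.sum_congr rfl fun n _ => by rw [h]

lemma coef_T (h : X →ₐ[R] Y) (n : N) (z : MonoidAlgebra R N ⊗[R] X) :
    coef R n Y (T (MonoidAlgebra R N) h z) = h (coef R n X z) := by
  induction z using TensorProduct.induction_on with
  | zero => simp
  | tmul a b => simp
  | add a b ha hb => simp only [map_add, ha, hb]

lemma coef_ι (n : N) [Decidable ((1 : N) = n)] (x : X) :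
    coef R n X (ι R (MonoidAlgebra R N) X x) = if (1 : N) = n then x else 0 := by
  rw [ι_apply, MonoidAlgebra.one_def, coef_single]
  split_ifs <;> simp

lemma coef_ι_mul (n : N) (x : X) (z : MonoidAlgebra R N ⊗[R] X) :
    coef R n X (ι R (MonoidAlgebra R N) X x * z) = x * coef R n X z := by
  induction z using TensorProduct.induction_on with
  | zero => simp
  | tmul a b => simp
  | add a b ha hb => simp only [mul_add, map_add, ha, hb]

/-- the coefficient of a product of elements in separate variables -/
lemma coef_coef_mul (n m : N) (x y : MonoidAlgebra R N ⊗[R] X) :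
    coef R m X (coef R n (MonoidAlgebra R N ⊗[R] X)
      (T (MonoidAlgebra R N) (ι R (MonoidAlgebra R N) X) x *
        ι R (MonoidAlgebra R N) (MonoidAlgebra R N ⊗[R] X) y)) =
      coef R n X x * coef R m X y := by
  rw [mul_comm, coef_ι_mul, coef_T, mul_comm, coef_ι_mul]

lemma coef_coef_δ (n m : N) [Decidable (n = m)] (z : MonoidAlgebra R N ⊗[R] X) :
    coef R m X (coef R n (MonoidAlgebra R N ⊗[R] X) (δ R (MonoidAlgebra R N) X z)) =
      if n = m then coef R n X z else 0 := by
  classical
  induction z using TensorProduct.induction_on with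
  | zero => simp
  | tmul d x =>
    induction d using MonoidAlgebra.induction_linear with
    | zero => simp
    | add f g hf hg =>
      simp only [TensorProduct.add_tmul, map_add, hf, hg]
      split_ifs <;> simp
    | single k r =>
      rw [δ_tmul, MonoidAlgebra.comul_single]
      simp only [CommSemiring.comul_apply, TensorProduct.map_tmul, MonoidAlgebra.lsingle_apply,
        Algebra.TensorProduct.assoc_tmul, coef_single]
      by_cases h1 : k = n
      · subst h1
        simp only [if_true]
        rw [map_smul, coef_single]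
        split_ifs with h2
        · simp
        · simp
      · simp [h1]
  | add a b ha hb =>
    simp only [map_add, ha, hb]
    split_ifs <;> simp

/-- the coefficients of a point with values in `R[N] ⊗ X` -/
def cf (F : WithConv (C →ₐ[R] MonoidAlgebra R N ⊗[R] X)) (n : N) : WithConv (C →ₗ[R] X) :=
  pushL (coef R n X) (lin F)

lemma cf_apply (F : WithConv (C →ₐ[R] MonoidAlgebra R N ⊗[R] X)) (n : N) (c : C) :
    cf F n c = coef R n X (F c) := rfl

/-- the coefficients of a homomorphism are orthogonal idempotents -/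
lemma cf_mul_cf {F : WithConv (C →ₐ[R] MonoidAlgebra R N ⊗[R] X)} (hF : IsHom F) (n m : N)
    [Decidable (n = m)] : cf F n * cf F m = if n = m then cf F n else 0 := by
  apply conv_ext
  intro c
  have h1 := congrArg (fun q => coef R m X (coef R n (MonoidAlgebra R N ⊗[R] X) ((lin q) c))) hF
  rw [map_mul, convMul_repr, map_sum, map_sum] at h1
  rw [convMul_repr]
  have h2 : ∀ i ∈ (ℛ R c).index, cf F n ((ℛ R c).left i) * cf F m ((ℛ R c).right i) =
      coef R m X (coef R n (MonoidAlgebra R N ⊗[R] X)
        ((lin (pushG (T (MonoidAlgebra R N) (ι R (MonoidAlgebra R N) X)) F)) ((ℛ R c).left i) *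
        (lin (pushG (ι R (MonoidAlgebra R N) (MonoidAlgebra R N ⊗[R] X)) F)) ((ℛ R c).right i))) := by
    intro i _
    exact (coef_coef_mul n m _ _).symm
  rw [Finset.sum_congr rfl h2]
  refine h1.trans ?_
  have h3 : (lin (pushG (δ R (MonoidAlgebra R N) X) F)) c = δ R (MonoidAlgebra R N) X (F c) := rfl
  rw [h3, coef_coef_δ]
  split_ifs
  · rfl
  · rfl

/-! ### Evaluation at the unit of the torus -/

variable (R N) in
/-- evaluation at the unit section of the diagonalisable group -/
def ev (X : Type*) [CommRing X] [Algebra R X] : MonoidAlgebra R N ⊗[R] X →ₐ[R] X :=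
  Algebra.TensorProduct.lift ((Algebra.ofId R X).comp (counitAlgHom R (MonoidAlgebra R N)))
    (AlgHom.id R X) (fun _ _ => Commute.all _ _)

@[simp] lemma ev_tmul (d : MonoidAlgebra R N) (x : X) :
    ev R N X (d ⊗ₜ x) = counit (R := R) d • x := by
  simp [ev, Algebra.ofId_apply, Algebra.smul_def]

lemma ev_eq_sum (z : MonoidAlgebra R N ⊗[R] X) {s : Finset N} (hs : ∀ n, n ∉ s → coef R n X z = 0) :
    ev R N X z = ∑ n ∈ s, coef R n X z := by
  conv_lhs => rw [eq_sum_coef z hs, map_sum]
  refine Finset.sum_congr rfl fun n _ => ?_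
  rw [ev_tmul, MonoidAlgebra.counit_single]
  simp

lemma ev_comp_T (h : X →ₐ[R] Y) : (ev R N Y).comp (T (MonoidAlgebra R N) h) = h.comp (ev R N X) := by
  apply AlgHom.ext
  intro z
  simp only [AlgHom.comp_apply]
  induction z using TensorProduct.induction_on with
  | zero => simp
  | tmul a b => simp
  | add a b ha hb => simp only [map_add, ha, hb]

lemma ev_comp_ι : (ev R N X).comp (ι R (MonoidAlgebra R N) X) = AlgHom.id R X := by
  apply AlgHom.ext
  intro z
  simp

lemma ev_comp_δ : (ev R N (MonoidAlgebra R N ⊗[R] X)).comp (δ R (MonoidAlgebra R N) X) =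
    AlgHom.id R _ := by
  apply AlgHom.ext
  intro z
  simp only [AlgHom.comp_apply, AlgHom.id_apply]
  induction z using TensorProduct.induction_on with
  | zero => simp
  | tmul d x =>
    induction d using MonoidAlgebra.induction_linear with
    | zero => simp
    | add f g hf hg => simp only [TensorProduct.add_tmul, map_add, hf, hg]
    | single k r =>
      rw [δ_tmul, MonoidAlgebra.comul_single]
      simp only [CommSemiring.comul_apply, TensorProduct.map_tmul, MonoidAlgebra.lsingle_apply,
        Algebra.TensorProduct.assoc_tmul, ev_tmul, MonoidAlgebra.counit_single]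
      simp [TensorProduct.smul_tmul']
  | add a b ha hb => simp only [map_add, ha, hb]

/-- a homomorphism maps the unit section to the unit section -/
lemma pushG_ev {F : WithConv (C →ₐ[R] MonoidAlgebra R N ⊗[R] X)} (hF : IsHom F) :
    pushG (ev R N X) F = 1 := by
  have h := congrArg (pushG (ev R N (MonoidAlgebra R N ⊗[R] X))) hF
  rw [map_mul, pushG_comp, pushG_comp, pushG_comp, ev_comp_δ, ev_comp_ι, ev_comp_T] at h
  have h2 : pushG (AlgHom.id R (MonoidAlgebra R N ⊗[R] X)) F = F := rfl
  rw [h2] at h
  have h3 : pushG ((ι R (MonoidAlgebra R N) X).comp (ev R N X)) F = 1 := by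
    exact mul_right_cancel (h.trans (one_mul F).symm)
  have h4 := congrArg (pushG (ev R N X)) h3
  rw [map_one, pushG_comp, ← AlgHom.comp_assoc, ev_comp_ι] at h4
  exact h4

lemma sum_cf {F : WithConv (C →ₐ[R] MonoidAlgebra R N ⊗[R] X)} (hF : IsHom F) (c : C) {s : Finset N}
    (hs : ∀ n, n ∉ s → cf F n c = 0) : ∑ n ∈ s, cf F n c = algebraMap R X (counit (R := R) c) := by
  have h := congrArg (fun q : WithConv (C →ₐ[R] X) => q c) (pushG_ev hF)
  refine Eq.trans ?_ h
  exact (ev_eq_sum (F c) hs).symm

/-! ### Comodules -/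

section Comodule

variable {E : Type*} [AddCommGroup E] [Module R E] (ρ : E →ₗ[R] E ⊗[R] C)

variable (C) in
/-- comodule axioms -/
structure IsComod (ρ : E →ₗ[R] E ⊗[R] C) : Prop where
  coassoc : (TensorProduct.assoc R E C C).toLinearMap ∘ₗ (ρ.rTensor C) ∘ₗ ρ = (comul.lTensor E) ∘ₗ ρ
  counit : (TensorProduct.rid R E).toLinearMap ∘ₗ (counit.lTensor E) ∘ₗ ρ = LinearMap.id

/-- action of a functional, on `E` -/
def actR (φ : WithConv (C →ₗ[R] X)) : E →ₗ[R] X ⊗[R] E :=
  (TensorProduct.comm R E X).toLinearMap ∘ₗ (φ.ofConv.lTensor E) ∘ₗ ρ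

/-- action of a functional with values in `X` on `X ⊗ E` -/
def act (φ : WithConv (C →ₗ[R] X)) : X ⊗[R] E →ₗ[X] X ⊗[R] E := (actR ρ φ).liftBaseChange X

@[simp] lemma act_tmul (φ : WithConv (C →ₗ[R] X)) (x : X) (e : E) :
    act ρ φ (x ⊗ₜ e) = x • actR ρ φ e := by
  simp [act]

lemma actR_add (φ ψ : WithConv (C →ₗ[R] X)) : actR ρ (φ + ψ) = actR ρ φ + actR ρ ψ := by
  ext e
  simp [actR, LinearMap.lTensor_add]

lemma actR_zero : actR ρ (0 : WithConv (C →ₗ[R] X)) = 0 := by
  ext e
  simp [actR]

lemma act_add (φ ψ : WithConv (C →ₗ[R] X)) : act ρ (φ + ψ) = act ρ φ + act ρ ψ := by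
  ext e
  simp [actR_add]

lemma act_zero : act ρ (0 : WithConv (C →ₗ[R] X)) = 0 := by
  ext e
  simp [actR_zero]

lemma act_sum {κ : Type*} (s : Finset κ) (φ : κ → WithConv (C →ₗ[R] X)) :
    act ρ (∑ i ∈ s, φ i) = ∑ i ∈ s, act ρ (φ i) := by
  classical
  induction s using Finset.induction_on with
  | empty => simp [act_zero]
  | insert a s ha ih => rw [Finset.sum_insert ha, Finset.sum_insert ha, act_add, ih]

variable {ρ} in
lemma act_one (hρ : IsComod C ρ) : act ρ (1 : WithConv (C →ₗ[R] X)) = LinearMap.id := by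
  ext e
  simp only [AlgebraTensorModule.curry_apply, LinearMap.restrictScalars_self, curry_apply, act_tmul,
    one_smul, LinearMap.id_apply, LinearMap.coe_restrictScalars]
  have h1 : ∀ z : E ⊗[R] C, (TensorProduct.comm R E X)
      ((1 : WithConv (C →ₗ[R] X)).ofConv.lTensor E z) =
      1 ⊗ₜ[R] ((TensorProduct.rid R E) ((counit (R := R)).lTensor E z)) := by
    intro z
    induction z using TensorProduct.induction_on with
    | zero => simp
    | tmul a b =>
      simp only [LinearMap.lTensor_tmul, comm_tmul, rid_tmul, tmul_smul]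
      have : (1 : WithConv (C →ₗ[R] X)).ofConv b = counit (R := R) b • (1 : X) := by
        rw [← Algebra.algebraMap_eq_smul_one]; rfl
      rw [this, smul_tmul']
    | add a b ha hb => simp only [map_add, ha, hb, TensorProduct.tmul_add]
  refine (h1 (ρ e)).trans ?_
  congr 1
  exact LinearMap.congr_fun hρ.counit e

variable {ρ} in
lemma act_mul (hρ : IsComod C ρ) (φ ψ : WithConv (C →ₗ[R] X)) :
    act ρ (φ * ψ) = act ρ φ ∘ₗ act ρ ψ := by
  ext e
  simp only [AlgebraTensorModule.curry_apply, LinearMap.restrictScalars_self, curry_apply, act_tmul,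
    one_smul, LinearMap.comp_apply, LinearMap.coe_restrictScalars]
  have h1 : ∀ z : E ⊗[R] C, (TensorProduct.comm R E X)
      ((LinearMap.mul' R X ∘ₗ TensorProduct.map φ.ofConv ψ.ofConv).lTensor E
        (TensorProduct.assoc R E C C (ρ.rTensor C z))) =
      act ρ φ ((TensorProduct.comm R E X) (ψ.ofConv.lTensor E z)) := by
    intro z
    induction z using TensorProduct.induction_on with
    | zero => simp
    | tmul a c =>
      simp only [LinearMap.rTensor_tmul, LinearMap.lTensor_tmul, comm_tmul, act_tmul]
      have h2 : ∀ w : E ⊗[R] C, (TensorProduct.comm R E X)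
          ((LinearMap.mul' R X ∘ₗ TensorProduct.map φ.ofConv ψ.ofConv).lTensor E
            (TensorProduct.assoc R E C C (w ⊗ₜ c))) =
          ψ.ofConv c • (TensorProduct.comm R E X) (φ.ofConv.lTensor E w) := by
        intro w
        induction w using TensorProduct.induction_on with
        | zero => simp
        | tmul u v =>
          simp [TensorProduct.smul_tmul', mul_comm]
        | add a b ha hb => simp only [TensorProduct.add_tmul, map_add, ha, hb, smul_add]
      exact h2 (ρ a)
    | add a b ha hb => simp only [map_add, ha, hb]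
  have h3 : actR ρ (φ * ψ) e = (TensorProduct.comm R E X)
      ((LinearMap.mul' R X ∘ₗ TensorProduct.map φ.ofConv ψ.ofConv).lTensor E
        ((comul (R := R)).lTensor E (ρ e))) := by
    rw [← LinearMap.lTensor_comp_apply]
    rfl
  have h4 : (comul (R := R) (A := C)).lTensor E (ρ e) =
      TensorProduct.assoc R E C C (ρ.rTensor C (ρ e)) := (LinearMap.congr_fun hρ.coassoc e).symm
  rw [h3, h4, h1]
  rfl

lemma act_push (h : X →ₐ[R] Y) (φ : WithConv (C →ₗ[R] X)) (z : X ⊗[R] E) :
    h.toLinearMap.rTensor E (act ρ φ z) = act ρ (push h φ) (h.toLinearMap.rTensor E z) := by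
  induction z using TensorProduct.induction_on with
  | zero => simp
  | tmul x e =>
    simp only [act_tmul, LinearMap.rTensor_tmul]
    have h1 : ∀ w : X ⊗[R] E, h.toLinearMap.rTensor E (x • w) = h x • h.toLinearMap.rTensor E w := by
      intro w
      induction w using TensorProduct.induction_on with
      | zero => simp
      | tmul u v => simp [TensorProduct.smul_tmul']
      | add a b ha hb => simp only [smul_add, map_add, ha, hb]
    rw [h1]
    congr 1
    have h2 : ∀ w : E ⊗[R] C, h.toLinearMap.rTensor E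
        ((TensorProduct.comm R E X) (φ.ofConv.lTensor E w)) =
        (TensorProduct.comm R E Y) ((push h φ).ofConv.lTensor E w) := by
      intro w
      induction w using TensorProduct.induction_on with
      | zero => simp
      | tmul u v => simp
      | add a b ha hb => simp only [map_add, ha, hb]
    exact h2 (ρ e)
  | add a b ha hb => simp only [map_add, ha, hb]

/-- matrix coefficients -/
def mc (l : E →ₗ[R] R) (e : E) : C := TensorProduct.lid R C (l.rTensor C (ρ e))

lemma apply_mc (l : E →ₗ[R] R) (φ : WithConv (C →ₗ[R] X)) (e : E) :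
    φ (mc ρ l e) = TensorProduct.rid R X (l.lTensor X (act ρ φ (1 ⊗ₜ e))) := by
  rw [act_tmul, one_smul]
  have h1 : ∀ w : E ⊗[R] C, φ (TensorProduct.lid R C (l.rTensor C w)) =
      TensorProduct.rid R X (l.lTensor X ((TensorProduct.comm R E X) (φ.ofConv.lTensor E w))) := by
    intro w
    induction w using TensorProduct.induction_on with
    | zero => simp
    | tmul u v => simp
    | add a b ha hb => simp only [map_add, ← ha, ← hb]
  exact h1 (ρ e)

variable {ρ}

/-- the weight projections are orthogonal idempotents -/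
lemma act_cf_comp (hρ : IsComod C ρ) {F : WithConv (C →ₐ[R] MonoidAlgebra R N ⊗[R] X)} (hF : IsHom F)
    (n m : N) [Decidable (n = m)] :
    act ρ (cf F n) ∘ₗ act ρ (cf F m) = if n = m then act ρ (cf F n) else 0 := by
  rw [← act_mul hρ, cf_mul_cf hF]
  split_ifs
  · rfl
  · exact act_zero ρ

/-- finitely many weights, and the projections sum up to the identity -/
lemma exists_finset_act (hρ : IsComod C ρ) [Module.Finite R E]
    {F : WithConv (C →ₐ[R] MonoidAlgebra R N ⊗[R] X)} (hF : IsHom F) :
    ∃ s : Finset N, (∀ n, n ∉ s → act ρ (cf F n) = 0) ∧ ∑ n ∈ s, act ρ (cf F n) = LinearMap.id := by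
  classical
  -- for each element of `E ⊗ C`
  have key : ∀ w : E ⊗[R] C, ∃ s : Finset N, ∀ t : Finset N, s ⊆ t →
      (∀ n, n ∉ t → (TensorProduct.comm R E X) ((cf F n).ofConv.lTensor E w) = 0) ∧
      ∑ n ∈ t, (TensorProduct.comm R E X) ((cf F n).ofConv.lTensor E w) =
        (TensorProduct.comm R E X) ((1 : WithConv (C →ₗ[R] X)).ofConv.lTensor E w) := by
    intro w
    induction w using TensorProduct.induction_on with
    | zero => exact ⟨∅, fun t _ => ⟨fun n _ => by simp, by simp⟩⟩
    | tmul e c =>
      obtain ⟨s, hs, -⟩ := exists_finset_coef (F c)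
      refine ⟨s, fun t ht => ⟨fun n hn => ?_, ?_⟩⟩
      · have : (cf F n).ofConv c = 0 := hs n (fun h => hn (ht h))
        simp [this]
      · have h1 := sum_cf hF c (s := t) (fun n hn => hs n (fun h => hn (ht h)))
        simp only [LinearMap.lTensor_tmul, comm_tmul]
        rw [← TensorProduct.sum_tmul]
        congr 1
    | add a b ha hb =>
      obtain ⟨s, hs⟩ := ha
      obtain ⟨t, ht⟩ := hb
      refine ⟨s ∪ t, fun u hu => ⟨fun n hn => ?_, ?_⟩⟩
      · rw [map_add, map_add, (hs u (Finset.union_subset_left hu)).1 n hn,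
          (ht u (Finset.union_subset_right hu)).1 n hn, add_zero]
      · simp only [map_add, Finset.sum_add_distrib]
        rw [(hs u (Finset.union_subset_left hu)).2, (ht u (Finset.union_subset_right hu)).2]
  have key2 : ∀ e : E, ∃ s : Finset N, ∀ t : Finset N, s ⊆ t →
      (∀ n, n ∉ t → actR ρ (cf F n) e = 0) ∧ ∑ n ∈ t, actR ρ (cf F n) e = 1 ⊗ₜ e := by
    intro e
    obtain ⟨s, hs⟩ := key (ρ e)
    refine ⟨s, fun t ht => ⟨(hs t ht).1, (hs t ht).2.trans ?_⟩⟩
    have := LinearMap.congr_fun (act_one (X := X) hρ) (1 ⊗ₜ e)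
    rw [act_tmul, one_smul] at this
    exact this
  choose s hs using key2
  obtain ⟨T, hT⟩ := Module.Finite.fg_top (R := R) (M := E)
  let S : Finset N := T.biUnion s
  refine ⟨S, fun n hn => ?_, ?_⟩
  · have h1 : actR ρ (cf F n) = 0 := by
      have : ∀ e ∈ Submodule.span R (T : Set E), actR ρ (cf F n) e = 0 := by
        intro e he
        induction he using Submodule.span_induction with
        | mem x hx => exact (hs x S (Finset.subset_biUnion_of_mem s hx)).1 n hn
        | zero => simp
        | add x y _ _ hx hy => rw [map_add, hx, hy, add_zero]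
        | smul a x _ hx => rw [map_smul, hx, smul_zero]
      ext e
      exact this e (by rw [hT]; trivial)
    ext e
    simp [h1]
  · have h1 : ∑ n ∈ S, actR ρ (cf F n) = TensorProduct.mk R X E 1 := by
      have : ∀ e ∈ Submodule.span R (T : Set E), ∑ n ∈ S, actR ρ (cf F n) e = 1 ⊗ₜ e := by
        intro e he
        induction he using Submodule.span_induction with
        | mem x hx => exact (hs x S (Finset.subset_biUnion_of_mem s hx)).2
        | zero => simp
        | add x y _ _ hx hy => simp only [map_add, Finset.sum_add_distrib, hx, hy, TensorProduct.tmul_add]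
        | smul a x _ hx => simp only [map_smul, ← Finset.smul_sum, hx, TensorProduct.tmul_smul]
      ext e
      simp only [LinearMap.sum_apply, mk_apply]
      exact this e (by rw [hT]; trivial)
    ext e
    simp only [AlgebraTensorModule.curry_apply, LinearMap.restrictScalars_self, curry_apply,
      LinearMap.coe_restrictScalars, LinearMap.sum_apply, act_tmul, one_smul, LinearMap.id_apply]
    have := LinearMap.congr_fun h1 e
    simpa using this

/-- The comodule weights of `F` are all in `W`. -/
def SuppIn (ρ : E →ₗ[R] E ⊗[R] C) (F : WithConv (C →ₐ[R] MonoidAlgebra R N ⊗[R] X)) (W : Set N) : Prop :=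
  ∀ n, n ∉ W → act ρ (cf F n) = 0

lemma cf_pushG_T (h : X →ₐ[R] Y) (F : WithConv (C →ₐ[R] MonoidAlgebra R N ⊗[R] X)) (n : N) :
    cf (pushG (T (MonoidAlgebra R N) h) F) n = push h (cf F n) := by
  apply conv_ext
  intro c
  exact coef_T h n (F c)

lemma rTensor_smul (h : X →ₐ[R] Y) (x : X) (w : X ⊗[R] E) :
    h.toLinearMap.rTensor E (x • w) = h x • h.toLinearMap.rTensor E w := by
  induction w using TensorProduct.induction_on with
  | zero => simp
  | tmul u v => simp [TensorProduct.smul_tmul']
  | add a b ha hb => simp only [smul_add, map_add, ha, hb]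

lemma act_push_eq_zero_of (h : X →ₐ[R] Y) {φ : WithConv (C →ₗ[R] X)} (hφ : act ρ φ = 0) :
    act ρ (push h φ) = 0 := by
  ext e
  have := act_push ρ h φ (1 ⊗ₜ e)
  rw [hφ] at this
  simp only [LinearMap.zero_apply, map_zero, LinearMap.rTensor_tmul, AlgHom.toLinearMap_apply,
    map_one] at this
  simp only [AlgebraTensorModule.curry_apply, LinearMap.restrictScalars_self, curry_apply,
    LinearMap.coe_restrictScalars, LinearMap.zero_apply]
  exact this.symm

lemma SuppIn.map {F : WithConv (C →ₐ[R] MonoidAlgebra R N ⊗[R] X)} {W : Set N} (hF : SuppIn ρ F W)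
    (h : X →ₐ[R] Y) : SuppIn ρ (pushG (T (MonoidAlgebra R N) h) F) W := by
  intro n hn
  rw [cf_pushG_T]
  exact act_push_eq_zero_of h (hF n hn)

lemma SuppIn.mono {F : WithConv (C →ₐ[R] MonoidAlgebra R N ⊗[R] X)} {W W' : Set N} (hF : SuppIn ρ F W)
    (h : W ⊆ W') : SuppIn ρ F W' := fun n hn => hF n (fun hn' => hn (h hn'))

/-- support of the matrix coefficients -/
lemma SuppIn.cf_mc {F : WithConv (C →ₐ[R] MonoidAlgebra R N ⊗[R] X)} {W : Set N} (hF : SuppIn ρ F W)
    (l : E →ₗ[R] R) (e : E) {n : N} (hn : n ∉ W) : cf F n (mc ρ l e) = 0 := by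
  rw [apply_mc, hF n hn]
  simp

/-- **Nilpotent thickenings do not change the weights.** -/
lemma SuppIn.of_thickening (hρ : IsComod C ρ) {π : X →ₐ[R] Y} (hπ : Function.Surjective π)
    (hK : (RingHom.ker π) ^ 2 = ⊥) {F : WithConv (C →ₐ[R] MonoidAlgebra R N ⊗[R] X)} (hF : IsHom F)
    {W : Set N} (hW : SuppIn ρ (pushG (T (MonoidAlgebra R N) π) F) W) : SuppIn ρ F W := by
  classical
  intro n hn
  have h1 := hW n hn
  rw [cf_pushG_T] at h1
  -- the kernel of `X ⊗ E → Y ⊗ E`
  have h2 : ∀ z : X ⊗[R] E, π.toLinearMap.rTensor E z = 0 → z ∈ (RingHom.ker π) • (⊤ : Submodule X (X ⊗[R] E)) := by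
    intro z hz
    have hex := rTensor_exact E (f := ((RingHom.ker π).restrictScalars R).subtype) (g := π.toLinearMap)
      (by
        intro x
        constructor
        · intro hx
          exact ⟨⟨x, hx⟩, rfl⟩
        · rintro ⟨y, rfl⟩
          exact y.2) hπ
    obtain ⟨w, rfl⟩ := (hex z).1 hz
    clear hz
    induction w using TensorProduct.induction_on with
    | zero => simp
    | tmul a e =>
      rw [LinearMap.rTensor_tmul]
      have : ((RingHom.ker π).restrictScalars R).subtype a ⊗ₜ[R] e = (a : X) • ((1 : X) ⊗ₜ[R] e) := by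
        rw [TensorProduct.smul_tmul', smul_eq_mul, mul_one]
        rfl
      rw [this]
      exact Submodule.smul_mem_smul a.2 trivial
    | add a b ha hb => rw [map_add]; exact Submodule.add_mem _ ha hb
  have h3 : ∀ z, act ρ (cf F n) z ∈ (RingHom.ker π) • (⊤ : Submodule X (X ⊗[R] E)) := by
    intro z
    apply h2
    rw [act_push, h1]
    rfl
  have h4 : ∀ z ∈ (RingHom.ker π) • (⊤ : Submodule X (X ⊗[R] E)), act ρ (cf F n) z = 0 := by
    intro z hz
    induction hz using Submodule.smul_induction_on' with
    | smul r hr m _ =>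
      rw [map_smul]
      have h5 := h3 m
      have h6 : r • act ρ (cf F n) m ∈ (RingHom.ker π) ^ 2 • (⊤ : Submodule X (X ⊗[R] E)) := by
        rw [pow_two, mul_smul]
        exact Submodule.smul_mem_smul hr h5
      rw [hK, Submodule.bot_smul] at h6
      simpa using h6
    | add a _ b _ ha hb => rw [map_add, ha, hb, add_zero]
  have h7 := act_cf_comp hρ hF n n
  rw [if_pos rfl] at h7
  rw [← h7]
  apply LinearMap.ext
  intro z
  exact h4 _ (h3 z)

end Comodule

end

end Groth.Agent.Sga3B.TorusWt
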