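import Groth.Agent.Sga3B.CentSmooth

/-!
# The strict transporter of two homomorphisms from a torus to a smooth separated group scheme

`exists_transporter` : for `a b : Q ⟶ G`, `Q` a torus, `G` smooth and separated over `S`, the points `g` with
`g a g⁻¹ = b` form a closed subscheme of `G` which is smooth over `S`.
-/

set_option autoImplicit false
universe u
open CategoryTheory MonoidalCategory CartesianMonoidalCategory MonObj GrpObj AlgebraicGeometry Limits

namespace Groth.Agent.Sga3B.Trans894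

open InfConj InfConjFam DSPts DSRigid CentRep CentLift CentSmooth

variable {S : Scheme.{u}} {G Q : Over S} [GrpObj G] [GrpObj Q] (a b : Q ⟶ G)

/-- The points `g` of `G` with `g a g⁻¹ = b`. -/
def transPts (T : Over S) : Set (T ⟶ G) :=
  {g | ∀ (Y : Over S) (y : Y ⟶ T) (t : Y ⟶ Q), (y ≫ g) * (t ≫ a) * (y ≫ g)⁻¹ = t ≫ b}

omit [GrpObj Q] in
/-- Representability by a closed subscheme, locally of finite presentation if `G` is locally of finite
type. -/
theorem exists_rep [IsSeparated G.hom] [Smooth Q.hom] [GeometricallyIrreducible Q.hom] :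
    ∃ (Z : Over S) (z : Z ⟶ G), IsClosedImmersion z.left ∧
      (∀ (X : Over S) (g : X ⟶ G), (∃ x, x ≫ z = g) ↔ g ∈ transPts a b X) ∧
      (LocallyOfFiniteType G.hom → LocallyOfFinitePresentation z.left) := by
  have h1 : IsClosedImmersion η[G].left := (S0346.result S G).1.mp inferInstance
  obtain ⟨Z, z, hz, huniv, hfp⟩ := exists_closed_map (X := G) (Q := Q)
    (fst G Q * (snd G Q ≫ a) * (fst G Q)⁻¹ * (snd G Q ≫ b)⁻¹) η[G]
  refine ⟨Z, z, hz, fun T g => ?_, fun h => hfp locallyOfFinitePresentation_one⟩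
  rw [huniv]
  refine forall_congr' fun T' => forall_congr' fun x => forall_congr' fun h => ?_
  have e : lift (x ≫ g) h ≫ (fst G Q * (snd G Q ≫ a) * (fst G Q)⁻¹ * (snd G Q ≫ b)⁻¹) =
      (x ≫ g) * (h ≫ a) * (x ≫ g)⁻¹ * (h ≫ b)⁻¹ := by
    simp only [MonObj.comp_mul, GrpObj.comp_inv, lift_fst, lift_snd_assoc]
  rw [e]
  constructor
  · rintro ⟨b, hb⟩
    have e2 : b ≫ η[G] = 1 := by rw [one_eq_one, MonObj.comp_one]
    rw [e2, eq_comm, mul_inv_eq_one] at hb
    exact hb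
  · intro h
    refine ⟨toUnit _, ?_⟩
    have e2 : toUnit T' ≫ η[G] = 1 := by rw [one_eq_one, MonObj.comp_one]
    rw [e2, eq_comm, mul_inv_eq_one]
    exact h

/-- Infinitesimal correction of a point transporting `a` to `b` modulo a square zero ideal of a local ring. -/
theorem trans_lift [IsMonHom a] [IsMonHom b] {B : Type u} [CommRing B] [IsLocalRing B] (I : Ideal B)
    (hI : I * I = ⊥) (x : Spec (CommRingCat.of B) ⟶ S) {M : Type} [AddCommGroup M]
    (hQ : Red.IsSplitTorusWith M (Red.bc x Q)) [IsSeparated G.hom]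
    (g₁ : Over.mk x ⟶ G) (h₁ : redMap x I ≫ g₁ ∈ transPts a b _) :
    ∃ w : Over.mk x ⟶ G, redMap x I ≫ w = 1 ∧ w⁻¹ * g₁ ∈ transPts a b _ := by
  obtain ⟨e, he, ψ, hψ1, hψ2⟩ := exists_isIsoFamily x hQ
  let α : Red.DS S M ⊗ Over.mk x ⟶ G := (snd _ _ ≫ g₁) * (e ≫ a) * (snd _ _ ≫ g₁)⁻¹
  let β : Red.DS S M ⊗ Over.mk x ⟶ G := e ≫ b
  have hα' : ∀ (T : Over S) (d : T ⟶ Red.DS S M) (t : T ⟶ Over.mk x),
      lift d t ≫ α = (t ≫ g₁) * ((lift d t ≫ e) ≫ a) * (t ≫ g₁)⁻¹ := by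
    intro T d t
    simp only [α, MonObj.comp_mul, GrpObj.comp_inv, lift_snd_assoc, Category.assoc]
  have hβ' : ∀ (T : Over S) (d : T ⟶ Red.DS S M) (t : T ⟶ Over.mk x),
      lift d t ≫ β = (lift d t ≫ e) ≫ b := fun T d t => (Category.assoc _ _ _).symm
  have hβ : AutFam.IsHomFamily (Red.DS S M) G β := by
    intro T d₁ d₂ t
    rw [hβ' T (d₁ * d₂), hβ' T d₁, hβ' T d₂, he, MonObj.mul_comp]
  have hα : AutFam.IsHomFamily (Red.DS S M) G α := by
    intro T d₁ d₂ t
    rw [hα' T (d₁ * d₂), hα' T d₁, hα' T d₂, he, MonObj.mul_comp]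
    group
  obtain ⟨w, hw1, hw2⟩ := infConj_family x G I hI (LocalLift.hasAffineUnitNhd_of_isLocalRing _) α β hα hβ (by
    have h2 := h₁ (Red.DS S M ⊗ _) (snd _ _) ((Red.DS S M ◁ redMap x I) ≫ e)
    have h3 : (Red.DS S M ◁ redMap x I) ≫ α = (snd _ _ ≫ redMap x I ≫ g₁) *
        (((Red.DS S M ◁ redMap x I) ≫ e) ≫ a) * (snd _ _ ≫ redMap x I ≫ g₁)⁻¹ := by
      simp only [α, MonObj.comp_mul, GrpObj.comp_inv, whiskerLeft_snd_assoc, Category.assoc]
    rw [h3, h2, Category.assoc])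
  refine ⟨w, hw1, ?_⟩
  intro T t h
  have h4 := hw2 T (lift h t ≫ ψ) t
  rw [hα', hβ', hψ2] at h4
  have h5 := congrArg (fun z => (t ≫ w)⁻¹ * z * (t ≫ w)) h4
  rw [MonObj.comp_mul, GrpObj.comp_inv]
  convert! h5 using 1 <;> group

/-- **The strict transporter** of two homomorphisms from a torus to a smooth separated group scheme is a
closed smooth subscheme. -/
theorem exists_transporter (hQ : Red.IsTorus Q) [IsMonHom a] [IsMonHom b] [IsSeparated G.hom] [Smooth G.hom] :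
    ∃ (Z : Over S) (z : Z ⟶ G), IsClosedImmersion z.left ∧ Smooth Z.hom ∧
      LocallyOfFinitePresentation z.left ∧ ∀ (X : Over S) (g : X ⟶ G), (∃ x, x ≫ z = g) ↔
        ∀ (Y : Over S) (y : Y ⟶ X) (t : Y ⟶ Q), (y ≫ g) * (t ≫ a) * (y ≫ g)⁻¹ = t ≫ b := by
  have := TorusAlgClosed.isAffineHom_of_isTorus hQ
  have := TorusAlgClosed.smooth_of_isTorus hQ
  have := TorusIrr.geometricallyIrreducible_of_isTorus hQ
  obtain ⟨Z, z, hz, huniv, hfp⟩ := exists_rep a b
  have hlfp := hfp inferInstance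
  have : Mono z := Over.mono_of_mono_left z
  refine ⟨Z, z, hz, ?_, hlfp, huniv⟩
  obtain ⟨S', f, hf, hs, hc, h⟩ := hQ
  refine smooth_of_lift z (fun T => transPts a b T) huniv f hc fun s' => ?_
  obtain ⟨U, hU, r, hr⟩ := h s'
  refine ⟨U, hU, fun B _ _ I hI x β hx g₁ hg₁ => ?_⟩
  subst hx
  exact trans_lift a b I hI _ (isSplit_bc _ β hr) g₁ hg₁

section DS

variable {M N P : Type} [AddCommGroup M] [AddCommGroup N] [AddCommGroup P]

instance isMonHom_DSmap (φ : M →+ N) : IsMonHom (Red.DSmap S φ) := by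
  refine isMonHom_of_mul _ fun T d d' => ?_
  apply (dsEquiv T M).symm.injective
  change dsChar _ = dsChar _
  rw [dsChar_DSmap, dsChar_mul, dsChar_mul, dsChar_DSmap, dsChar_DSmap]
  rfl

lemma DSmap_id : Red.DSmap S (AddMonoidHom.id M) = 𝟙 (Red.DS S M) := by
  apply (dsEquiv _ M).symm.injective
  change dsChar _ = dsChar _
  rw [← Category.id_comp (Red.DSmap S _), dsChar_DSmap]
  rfl

lemma DSmap_comp (φ : M →+ N) (ψ : N →+ P) :
    Red.DSmap S ψ ≫ Red.DSmap S φ = Red.DSmap S (ψ.comp φ) := by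
  apply (dsEquiv _ M).symm.injective
  change dsChar _ = dsChar _
  rw [dsChar_DSmap, ← Category.id_comp (Red.DSmap S ψ), dsChar_DSmap, ← Category.id_comp (Red.DSmap S (ψ.comp φ)),
    dsChar_DSmap]
  rfl

/-- An isomorphism of character groups gives an isomorphism of diagonalisable groups. -/
noncomputable def DSiso₀ (S : Scheme.{u}) (e : M ≃+ N) : Red.DS S N ≅ Red.DS S M where
  hom := Red.DSmap S e.toAddMonoidHom
  inv := Red.DSmap S e.symm.toAddMonoidHom
  hom_inv_id := by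
    rw [DSmap_comp, ← DSmap_id]
    congr 1
    ext x
    exact e.apply_symm_apply x
  inv_hom_id := by
    rw [DSmap_comp, ← DSmap_id]
    congr 1
    ext x
    exact e.symm_apply_apply x

noncomputable def DSiso (S : Scheme.{u}) (e : M ≃+ N) : Grp.mk (Red.DS S N) ≅ Grp.mk (Red.DS S M) :=
  have : IsMonHom (DSiso₀ S e).hom := isMonHom_DSmap _
  Grp.mkIso' (DSiso₀ S e)

lemma isTorus_DS (S : Scheme.{u}) (M : Type) [AddCommGroup M] [Module.Free ℤ M] [Module.Finite ℤ M] :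
    Red.IsTorus (Red.DS S M) := by
  let b := Module.finBasis ℤ M
  let e : M ≃+ (Fin (Module.finrank ℤ M) → ℤ) := b.equivFun.toAddEquiv
  refine ⟨S, 𝟙 S, inferInstance, inferInstance, fun V hV => ⟨V, hV.isCompact, by simp⟩, fun s => ?_⟩
  exact ⟨⊤, trivial, _, ⟨TorusAlgClosed.dsBcIso _ _ ≪≫ (DSiso _ e).symm⟩⟩

end DS

end Groth.Agent.Sga3B.Trans894
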