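import Groth.Prelude.Def_Red2
import Groth.Agent.Sga3B.BaseZ
import Groth.Agent.Sga3B.Pts

/-!
# SGA 3 XXIII 5.2 (uniqueness of split groups of a given type) from the isomorphism theorem

Inputs: the isomorphism theorem for pinned groups (S3004) and the reducedness of the root datum of a splitting.
-/

set_option autoImplicit false
universe u
open CategoryTheory MonoidalCategory CartesianMonoidalCategory MonObj GrpObj AlgebraicGeometry

namespace Groth.Agent.Sga3B.UniqAsm

/-- an isomorphism of underlying objects which is a homomorphism gives an isomorphism of group objects -/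
lemma nonempty_grpIso {S : Scheme.{u}} {G G' : Over S} [GrpObj G] [GrpObj G'] (f : G ≅ G') [IsMonHom f.hom] :
    Nonempty (Grp.mk G ≅ Grp.mk G') := ⟨Grp.mkIso f⟩

lemma nonempty_grpIso_of_isEmpty {S : Scheme.{u}} (hS : IsEmpty S) (G G' : Over S) [GrpObj G] [GrpObj G'] :
    Nonempty (Grp.mk G ≅ Grp.mk G') := by
  have h1 : ∀ X : Over S, IsIso X.hom := by
    intro X
    have : IsEmpty X.left := Function.isEmpty X.hom
    infer_instance
  have hG := h1 G
  have hG' := h1 G'
  let f : G ≅ G' := Over.isoMk (asIso G.hom ≪≫ (asIso G'.hom).symm) (by simp)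
  have : IsMonHom f.hom := by
    apply Pts.isMonHom_of_points
    intro X x y
    ext1
    rw [← cancel_mono G'.hom]
    exact (Over.w _).trans (Over.w _).symm
  exact nonempty_grpIso f

theorem main (S : Scheme.{u}) {ι' M' N' : Type} [AddCommGroup M'] [Module ℤ M'] [AddCommGroup N'] [Module ℤ N']
    (Q : RootPairing ι' ℤ M' N') (G G' : Over S) [GrpObj G] [GrpObj G']
    (hiso : ∀ [Nonempty S] (D : Red.Pinning G) (D' : Red.Pinning G') (h : RootPairing.Equiv D'.P D.P)
      (_ : ∀ a' : D'.idx, a' ∈ D'.base.support ↔ h.indexEquiv a' ∈ D.base.support),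
      ∃! f : G ≅ G', IsMonHom f.hom ∧
        D.i ≫ f.hom = D.split.hom.hom.hom ≫ Red.DSmap S h.weightMap.toAddMonoidHom ≫ D'.split.inv.hom.hom ≫ D'.i ∧
        ∀ a' : D'.idx, a' ∈ D'.base.support → D.u (h.indexEquiv a') ≫ f.hom = D'.u a')
    (hred : ∀ [Nonempty S] (D : Red.SplitRed G), D.P.IsReduced)
    (hG : Red.IsSplitOfType Q G) (hG' : Red.IsSplitOfType Q G') : Nonempty (Grp.mk G ≅ Grp.mk G') := by
  rcases isEmpty_or_nonempty S with hS | hS
  · exact nonempty_grpIso_of_isEmpty hS G G'
  obtain ⟨D, ⟨e⟩⟩ := hG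
  obtain ⟨D', ⟨e'⟩⟩ := hG'
  have hr : D.P.IsReduced := hred D
  obtain ⟨b⟩ := BaseZ.nonempty_base D.P
  let h : RootPairing.Equiv D'.P D.P := e.symm.comp e'
  let b' : D'.P.Base := BaseZ.comapBase h b
  obtain ⟨f, ⟨hf, -, -⟩, -⟩ := hiso { D with base := b } { D' with base := b' } h
    (fun a' => BaseZ.mem_comapBase_support h b a')
  exact nonempty_grpIso f

end Groth.Agent.Sga3B.UniqAsm
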