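import Groth.Agent.Sga3B.WordNorm

/-!
# Agreement of the torus part and of the simple coordinates for small words
-/

set_option autoImplicit false
set_option linter.unusedSectionVars false
universe u v

namespace Groth.Agent.Sga3B.Word

open Groth.Agent.Sga3B.Cell TensorProduct

variable {idx M : Type} [Fintype idx] [AddCommGroup M] [Module.Free ℤ M]
    [Module.Finite ℤ M] {P : RootPairing idx ℤ M (Module.Dual ℤ M)} {b : P.Base}
    {R A A' : Type u} [CommRing R] [CommRing A] [Algebra R A] [PtGrp R A]
    [CommRing A'] [Algebra R A'] [PtGrp R A']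

section sums

variable {B : Type u} [CommRing B] [DecidableEq idx]

/-- the sum of the arguments at a given simple index -/
def sumAt (N : List (b.support × B)) (a : b.support) : B :=
  (N.map (fun p => if p.1 = a then p.2 else 0)).sum

@[simp] lemma sumAt_nil (a : b.support) : sumAt ([] : List (b.support × B)) a = 0 := rfl
@[simp] lemma sumAt_cons (p : b.support × B) (N : List (b.support × B)) (a : b.support) :
    sumAt (p :: N) a = (if p.1 = a then p.2 else 0) + sumAt N a := by
  simp [sumAt]

end sums

lemma isPos_simple {a : idx} (ha : a ∈ b.support) : b.IsPos a :=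
  RootPairing.Base.isPos_of_mem_support ha

lemma not_isPos_neg {a : idx} (ha : b.IsPos a) : ¬ b.IsPos (P.reflectionPerm a a) := by
  have := (RootPairing.Base.IsPos.neg_iff_not b a).not_left.mpr ha
  exact this

lemma negidx_inj {a c : idx} (h : P.reflectionPerm a a = P.reflectionPerm c c) : a = c := by
  have h1 := congrArg P.root h
  simp only [P.root_reflectionPerm, P.reflection_apply_self, neg_inj] at h1
  exact P.root.injective h1

section

variable (E : PinCell P b R A) {B : Type u} [CommRing B] [Algebra R B] [DecidableEq idx]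

lemma exists_posP (N : List (b.support × B)) : ∃ z : idx → B,
    (mdl E B).evS true N = posP E z ∧ ∀ a : b.support, z a = sumAt N a := by
  induction N with
  | nil => exact ⟨0, by simp, by simp⟩
  | cons p N ih =>
    obtain ⟨z, h1, h2⟩ := ih
    obtain ⟨w, h3, h4⟩ := exists_posP_mul E (Pi.single (p.1 : idx) p.2) z
    refine ⟨w, ?_, ?_⟩
    · rw [Model.evS_cons, h1, ← h3, posP_single E (isPos_simple p.1.2)]
      rfl
    · intro a
      rw [h4 a a.2, h2, sumAt_cons]
      congr 1
      by_cases h : p.1 = a
      · subst h; simp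
      · rw [if_neg h, Pi.single_eq_of_ne]
        exact fun h' => h (Subtype.ext h'.symm)

lemma exists_negP (N : List (b.support × B)) : ∃ z : idx → B,
    (mdl E B).evS false N = negP E z ∧
      ∀ a : b.support, z (P.reflectionPerm a a) = sumAt N a := by
  induction N with
  | nil => exact ⟨0, by simp, by simp⟩
  | cons p N ih =>
    obtain ⟨z, h1, h2⟩ := ih
    obtain ⟨w, h3, h4⟩ := exists_negP_mul E (Pi.single (P.reflectionPerm p.1 p.1) p.2) z
    refine ⟨w, ?_, ?_⟩
    · rw [Model.evS_cons, h1, ← h3, negP_single E (not_isPos_neg (isPos_simple p.1.2))]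
      rfl
    · intro a
      rw [h4 a a.2, h2, sumAt_cons]
      congr 1
      by_cases h : p.1 = a
      · subst h; simp
      · rw [if_neg h, Pi.single_eq_of_ne]
        exact fun h' => h (Subtype.ext (negidx_inj h').symm)

/-- moving the torus across the positive part -/
lemma posP_mul_i (x : idx → B) (t : TPt M B) :
    E.i B t * posP E x = posP E (fun a => TPt.ch (P.root a) t * x a) * E.i B t :=
  E.toDatum.i_mul_prod (posList b) x t

lemma negP_mul_i (x : idx → B) (t : TPt M B) :
    E.i B t * negP E x = negP E (fun a => TPt.ch (P.root a) t * x a) * E.i B t :=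
  E.toDatum.i_mul_prod (negList b) x t

open scoped Classical in
/-- glueing coordinates -/
noncomputable def glue (b : P.Base) (y z : idx → B) : idx → B := fun c => if b.IsPos c then z c else y c

lemma negP_glue (y z : idx → B) : negP E (glue b y z) = negP E y := by
  unfold negP
  congr 1
  apply List.map_congr_left
  intro a ha
  rw [glue, if_neg ((mem_negList b).mp ha)]

lemma posP_glue (y z : idx → B) : posP E (glue b y z) = posP E z := by
  unfold posP
  congr 1
  apply List.map_congr_left
  intro a ha
  rw [glue, if_pos ((mem_posList b).mp ha)]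

lemma norm_eq_cell (y z : idx → B) (h : TPt M B) : 
    negP E y * E.i B h * posP E z = E.cell (glue b y (fun a => TPt.ch (P.root a) h * z a)) h := by
  rw [cell_eq_mul, negP_glue, posP_glue, mul_assoc, posP_mul_i, mul_assoc]

end

/-- two points in the two big cells have the same torus part and the same simple coordinates -/
def Agree (E : PinCell P b R A) (E' : PinCell P b R A') {B : Type u} [CommRing B] [Algebra R B]
    (g : Pt R A B) (g' : Pt R A' B) : Prop :=
  ∃ (x x' : idx → B) (t : TPt M B), g = E.cell x t ∧ g' = E'.cell x' t ∧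
    ∀ a ∈ b.support, x a = x' a ∧ x (P.reflectionPerm a a) = x' (P.reflectionPerm a a)

section

variable (E : PinCell P b R A) (E' : PinCell P b R A') {B : Type u} [CommRing B] [Algebra R B]

/-- **small words agree** -/
theorem agree_small (I : Ideal B) (hI : ∀ z ∈ I, IsUnit (1 + z))
    (L : List (Lt b.support × B)) (hL : ∀ p ∈ L, p.2 ∈ I) :
    Agree E E' ((mdl E B).evL L) ((mdl E' B).evL L) := by
  classical
  obtain ⟨N, Q, h, key⟩ := exists_norm.{u, u} (wt := lwt b) (cor := lcor b) I hI L hL
  have h1 := key (mdl E B)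
  have h2 := key (mdl E' B)
  obtain ⟨y, hy1, hy2⟩ := exists_negP E N
  obtain ⟨z, hz1, hz2⟩ := exists_posP E Q
  obtain ⟨y', hy1', hy2'⟩ := exists_negP E' N
  obtain ⟨z', hz1', hz2'⟩ := exists_posP E' Q
  refine ⟨glue b y (fun a => TPt.ch (P.root a) h * z a),
    glue b y' (fun a => TPt.ch (P.root a) h * z' a), h, ?_, ?_, ?_⟩
  · rw [h1, hy1, hz1]
    exact norm_eq_cell E y z h
  · rw [h2, hy1', hz1']
    exact norm_eq_cell E' y' z' h
  · intro a ha
    refine ⟨?_, ?_⟩
    · rw [glue, glue, if_pos (isPos_simple ha), if_pos (isPos_simple ha), hz2 ⟨a, ha⟩,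
        hz2' ⟨a, ha⟩]
    · rw [glue, glue, if_neg (not_isPos_neg (isPos_simple ha)),
        if_neg (not_isPos_neg (isPos_simple ha)), hy2 ⟨a, ha⟩, hy2' ⟨a, ha⟩]

lemma Agree.map {C : Type u} [CommRing C] [Algebra R C] (φ : B →ₐ[R] C) {g : Pt R A B}
    {g' : Pt R A' B} (h : Agree E E' g g') : Agree E E' (Pt.map φ g) (Pt.map φ g') := by
  obtain ⟨x, x', t, h1, h2, h3⟩ := h
  refine ⟨fun a => φ (x a), fun a => φ (x' a), TPt.map φ t, ?_, ?_, ?_⟩
  · rw [h1, E.cell_nat]
  · rw [h2, E'.cell_nat]
  · intro a ha
    simp only [(h3 a ha).1, (h3 a ha).2, and_self]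

lemma cell_mul_i (x : idx → B) (t s : TPt M B) : E.cell x t * E.i B s = E.cell x (t * s) := by
  rw [PinCell.cell, PinCell.cell, map_mul, mul_assoc]

lemma Agree.mul_i {g : Pt R A B} {g' : Pt R A' B} (h : Agree E E' g g') (s : TPt M B) :
    Agree E E' (g * E.i B s) (g' * E'.i B s) := by
  obtain ⟨x, x', t, h1, h2, h3⟩ := h
  exact ⟨x, x', t * s, by rw [h1, cell_mul_i], by rw [h2, cell_mul_i], h3⟩

end

end Groth.Agent.Sga3B.Word
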