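import Groth.Agent.Sga3B.PinCell

/-!
# Words in simple root groups: abstract models and the normal form

`Lt Δ` = letters (sign, simple root).  `Model wt cor B Γ` = a group `Γ` with a torus and elements
`u l x` for letters `l` satisfying the torus relation, the rank one relation, and commutation of
distinct opposite simple root groups.
Normal form: a product of letters with "small" arguments is (negatives) * torus * (positives).
-/

set_option autoImplicit false
universe u v

namespace Groth.Agent.Sga3B.Word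

open Groth.Agent.Sga3B.Cell

/-- letters: sign (`true` = positive) and simple index -/
abbrev Lt (Δ : Type) : Type := Bool × Δ

lemma ch_mul_ch_inv {M : Type} [AddCommGroup M] {B : Type u} [CommRing B] (m : M) (t : TPt M B) :
    TPt.ch m t * TPt.ch m t⁻¹ = 1 := by
  simp [TPt.ch, MonoidHom.inv_apply]

section Model

variable {M Δ : Type} [AddCommGroup M] (wt : Lt Δ → M) (cor : Δ → Module.Dual ℤ M)
  (B : Type u) [CommRing B]

/-- A group with torus and letters. -/
structure Model (Γ : Type v) [Group Γ] where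
  /-- torus -/
  i : TPt M B →* Γ
  /-- letters -/
  u : Lt Δ → B → Γ
  u_add : ∀ (l : Lt Δ) (x y : B), u l (x + y) = u l x * u l y
  rel : ∀ (l : Lt Δ) (t : TPt M B) (x : B), i t * u l x * (i t)⁻¹ = u l (TPt.ch (wt l) t * x)
  rank1 : ∀ (a : Δ) (x y : B) (v : Bˣ), (v : B) = 1 + x * y →
    u (true, a) x * u (false, a) y =
      u (false, a) (((v⁻¹ : Bˣ) : B) * y) * i (TPt.cow (cor a) v) *
        u (true, a) (((v⁻¹ : Bˣ) : B) * x)
  comm : ∀ (a c : Δ) (x y : B), a ≠ c → u (true, a) x * u (false, c) y = u (false, c) y * u (true, a) x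

variable {wt cor B}

/-- action of the torus on lists of letters -/
def act (wt : Lt Δ → M) (t : TPt M B) (L : List (Lt Δ × B)) : List (Lt Δ × B) :=
  L.map (fun p => (p.1, TPt.ch (wt p.1) t * p.2))

@[simp] lemma act_nil (t : TPt M B) : act wt t ([] : List (Lt Δ × B)) = [] := rfl
@[simp] lemma act_cons (t : TPt M B) (p : Lt Δ × B) (L : List (Lt Δ × B)) :
    act wt t (p :: L) = (p.1, TPt.ch (wt p.1) t * p.2) :: act wt t L := rfl
@[simp] lemma act_append (t : TPt M B) (L L' : List (Lt Δ × B)) :
    act wt t (L ++ L') = act wt t L ++ act wt t L' := by simp [act]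

/-- inverse list -/
def inv (L : List (Lt Δ × B)) : List (Lt Δ × B) := (L.map (fun p => (p.1, - p.2))).reverse

@[simp] lemma inv_nil : inv ([] : List (Lt Δ × B)) = [] := rfl
@[simp] lemma inv_cons (p : Lt Δ × B) (L : List (Lt Δ × B)) :
    inv (p :: L) = inv L ++ [(p.1, - p.2)] := by simp [inv]

namespace Model

variable {Γ : Type v} [Group Γ] (m : Model wt cor B Γ)

@[simp] lemma u_zero (l : Lt Δ) : m.u l 0 = 1 := by
  have h := m.u_add l 0 0
  rw [add_zero] at h
  exact (mul_eq_left.mp h.symm)

lemma u_neg (l : Lt Δ) (x : B) : m.u l (-x) = (m.u l x)⁻¹ := by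
  rw [eq_inv_iff_mul_eq_one, ← m.u_add, neg_add_cancel, m.u_zero]

/-- value of a list of letters -/
def evL (L : List (Lt Δ × B)) : Γ := (L.map (fun p => m.u p.1 p.2)).prod

@[simp] lemma evL_nil : m.evL [] = 1 := rfl
@[simp] lemma evL_cons (p : Lt Δ × B) (L : List (Lt Δ × B)) :
    m.evL (p :: L) = m.u p.1 p.2 * m.evL L := by
  simp [evL]
@[simp] lemma evL_append (L L' : List (Lt Δ × B)) : m.evL (L ++ L') = m.evL L * m.evL L' := by
  simp [evL]

@[simp] lemma evL_inv (L : List (Lt Δ × B)) : m.evL (inv L) = (m.evL L)⁻¹ := by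
  induction L with
  | nil => simp
  | cons p L ih => simp [ih, u_neg]

lemma i_mul_u (l : Lt Δ) (t : TPt M B) (x : B) :
    m.i t * m.u l x = m.u l (TPt.ch (wt l) t * x) * m.i t := by
  rw [← m.rel, inv_mul_cancel_right]

lemma u_mul_i (l : Lt Δ) (t : TPt M B) (x : B) :
    m.u l x * m.i t = m.i t * m.u l (TPt.ch (wt l) t⁻¹ * x) := by
  rw [i_mul_u, ← mul_assoc, ch_mul_ch_inv, one_mul]

lemma i_mul_evL (t : TPt M B) (L : List (Lt Δ × B)) :
    m.i t * m.evL L = m.evL (act wt t L) * m.i t := by
  induction L with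
  | nil => simp
  | cons p L ih =>
    rw [evL_cons, ← mul_assoc, i_mul_u, mul_assoc, ih, act_cons, evL_cons, mul_assoc]

/-- value of a list of letters of the same sign -/
def evS (s : Bool) (N : List (Δ × B)) : Γ := (N.map (fun p => m.u (s, p.1) p.2)).prod

@[simp] lemma evS_nil (s : Bool) : m.evS s [] = 1 := rfl
@[simp] lemma evS_cons (s : Bool) (p : Δ × B) (N : List (Δ × B)) :
    m.evS s (p :: N) = m.u (s, p.1) p.2 * m.evS s N := by
  simp [evS]

/-- the torus acting on letters of the same sign -/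
def actS (wt : Lt Δ → M) (s : Bool) (t : TPt M B) (N : List (Δ × B)) : List (Δ × B) :=
  N.map (fun p => (p.1, TPt.ch (wt (s, p.1)) t * p.2))

lemma i_mul_evS (s : Bool) (t : TPt M B) (N : List (Δ × B)) :
    m.i t * m.evS s N = m.evS s (actS wt s t N) * m.i t := by
  induction N with
  | nil => simp [actS]
  | cons p L ih =>
    rw [evS_cons, ← mul_assoc, i_mul_u, mul_assoc, ih, ← mul_assoc]
    congr 1

lemma actS_mem {I : Ideal B} {s : Bool} {t : TPt M B} {N : List (Δ × B)}
    (h : ∀ p ∈ N, p.2 ∈ I) : ∀ p ∈ actS wt s t N, p.2 ∈ I := by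
  intro p hp
  obtain ⟨q, hq, rfl⟩ := List.mem_map.mp hp
  exact I.mul_mem_left _ (h q hq)

end Model

end Model

section Norm

variable {M Δ : Type} [AddCommGroup M] {wt : Lt Δ → M} {cor : Δ → Module.Dual ℤ M}
  {B : Type u} [CommRing B]

/-- moving a positive letter to the right across negative letters; the output does not depend on
the model -/
lemma exists_move [DecidableEq Δ] (I : Ideal B) (hI : ∀ z ∈ I, IsUnit (1 + z)) (a : Δ)
    (N : List (Δ × B)) (hN : ∀ p ∈ N, p.2 ∈ I) :
    ∀ x ∈ I, ∃ (N' : List (Δ × B)) (h : TPt M B) (x' : B), (∀ p ∈ N', p.2 ∈ I) ∧ x' ∈ I ∧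
      ∀ {Γ : Type v} [Group Γ] (m : Model wt cor B Γ),
        m.u (true, a) x * m.evS false N = m.evS false N' * m.i h * m.u (true, a) x' := by
  induction N with
  | nil =>
    intro x hx
    exact ⟨[], 1, x, by simp, hx, fun m => by simp⟩
  | cons p N ih =>
    intro x hx
    have hN' : ∀ p ∈ N, p.2 ∈ I := fun q hq => hN q (List.mem_cons_of_mem _ hq)
    have hp : p.2 ∈ I := hN p List.mem_cons_self
    by_cases hc : a = p.1
    · obtain ⟨v, hv⟩ := hI (x * p.2) (I.mul_mem_right _ hx)
      obtain ⟨N', h, x', h1, h2, h3⟩ := ih hN' (((v⁻¹ : Bˣ) : B) * x) (I.mul_mem_left _ hx)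
      refine ⟨(a, ((v⁻¹ : Bˣ) : B) * p.2) :: Model.actS wt false (TPt.cow (cor a) v) N',
        TPt.cow (cor a) v * h, x', ?_, h2, ?_⟩
      · intro q hq
        rcases List.mem_cons.mp hq with rfl | hq
        · exact I.mul_mem_left _ hp
        · exact Model.actS_mem h1 q hq
      · intro Γ _ m
        rw [Model.evS_cons, ← hc, ← mul_assoc, m.rank1 a x p.2 v hv, Model.evS_cons, map_mul]
        simp only [mul_assoc]
        rw [h3]
        simp only [← mul_assoc]
        rw [mul_assoc (m.u (false, a) _) (m.i _) (m.evS false N'), m.i_mul_evS]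
        simp only [← mul_assoc]
    · obtain ⟨N', h, x', h1, h2, h3⟩ := ih hN' x hx
      refine ⟨p :: N', h, x', ?_, h2, ?_⟩
      · intro q hq
        rcases List.mem_cons.mp hq with rfl | hq
        · exact hp
        · exact h1 q hq
      · intro Γ _ m
        rw [Model.evS_cons, ← mul_assoc, m.comm a p.1 x p.2 hc, mul_assoc, h3, Model.evS_cons]
        simp only [← mul_assoc]

/-- the normal form of a product of letters with small arguments; it does not depend on the model -/
theorem exists_norm [DecidableEq Δ] (I : Ideal B) (hI : ∀ z ∈ I, IsUnit (1 + z))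
    (L : List (Lt Δ × B)) (hL : ∀ p ∈ L, p.2 ∈ I) :
    ∃ (N Q : List (Δ × B)) (h : TPt M B), 
      ∀ {Γ : Type v} [Group Γ] (m : Model wt cor B Γ),
        m.evL L = m.evS false N * m.i h * m.evS true Q := by
  suffices H : ∃ (N Q : List (Δ × B)) (h : TPt M B), (∀ p ∈ N, p.2 ∈ I) ∧ 
      ∀ {Γ : Type v} [Group Γ] (m : Model wt cor B Γ),
        m.evL L = m.evS false N * m.i h * m.evS true Q by
    obtain ⟨N, Q, h, -, h2⟩ := H
    exact ⟨N, Q, h, h2⟩
  induction L with
  | nil => exact ⟨[], [], 1, by simp, fun m => by simp⟩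
  | cons p L ih =>
    obtain ⟨N, Q, h, h1, h3⟩ := ih (fun q hq => hL q (List.mem_cons_of_mem _ hq))
    have hp : p.2 ∈ I := hL p List.mem_cons_self
    obtain ⟨⟨s, a⟩, x⟩ := p
    cases s with
    | false =>
      refine ⟨(a, x) :: N, Q, h, ?_, ?_⟩
      · intro q hq
        rcases List.mem_cons.mp hq with rfl | hq
        · exact hp
        · exact h1 q hq
      · intro Γ _ m
        rw [Model.evL_cons, h3, Model.evS_cons]
        simp only [mul_assoc]
    | true =>
      obtain ⟨N', h', x', h1', h2', h3'⟩ := exists_move.{u, v} (wt := wt) (cor := cor) I hI a N h1 x hp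
      refine ⟨N', (a, TPt.ch (wt (true, a)) h⁻¹ * x') :: Q, h' * h, h1', ?_⟩
      intro Γ _ m
      rw [Model.evL_cons, h3, ← mul_assoc, ← mul_assoc, h3', Model.evS_cons, map_mul]
      simp only [mul_assoc]
      rw [← mul_assoc (m.u (true, a) x') (m.i h), m.u_mul_i]
      simp only [mul_assoc]

end Norm

end Groth.Agent.Sga3B.Word
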