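import Groth.Agent.Sga3B.WordAgree
import Mathlib.RingTheory.MvPowerSeries.Inverse
import Mathlib.RingTheory.Localization.Away.Basic

/-!
# Words with values in both big cells agree on the torus part and the simple coordinates

The universal word lives over `R[X_1..X_n]`, which embeds in `R[[X_1..X_n]]`, where the word is small.
-/

set_option autoImplicit false
set_option linter.unusedSectionVars false
universe u v

namespace Groth.Agent.Sga3B.Word

open Groth.Agent.Sga3B.Cell TensorProduct

variable {idx M : Type} [Fintype idx] [AddCommGroup M] [Module.Free ℤ M]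
    [Module.Finite ℤ M] {P : RootPairing idx ℤ M (Module.Dual ℤ M)} {b : P.Base}
    {R A A' : Type u} [CommRing R] [CommRing A] [Algebra R A] [PtGrp R A]
    [CommRing A'] [Algebra R A'] [PtGrp R A']

/-- being in the cell -/
def InCell (E : PinCell P b R A) {B : Type u} [CommRing B] [Algebra R B] (g : Pt R A B) : Prop :=
  E.cellIdeal.map g.hom.toRingHom = ⊤

section
variable (E : PinCell P b R A) {B : Type u} [CommRing B] [Algebra R B]

lemma inCell_iff {g : Pt R A B} : InCell E g ↔ ∃ (x : idx → B) (t : TPt M B), g = E.cell x t :=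
  (E.mem_cell_iff g).symm

lemma inCell_cell (x : idx → B) (t : TPt M B) : InCell E (E.cell x t) :=
  (inCell_iff E).mpr ⟨x, t, rfl⟩

lemma InCell.map {C : Type u} [CommRing C] [Algebra R C] (φ : B →ₐ[R] C) {g : Pt R A B}
    (h : InCell E g) : InCell E (Pt.map φ g) := by
  obtain ⟨x, t, rfl⟩ := (inCell_iff E).mp h
  rw [E.cell_nat]
  exact inCell_cell E _ _

/-- being in the cell over the localization at an element of the extended cell ideal -/
lemma inCell_away {f : B} {g : Pt R A B} (hf : f ∈ E.cellIdeal.map g.hom.toRingHom)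
    {C : Type u} [CommRing C] [Algebra R C] (φ : B →ₐ[R] C) (hφ : IsUnit (φ f)) :
    InCell E (Pt.map φ g) := by
  have h1 : E.cellIdeal.map (Pt.map φ g).hom.toRingHom =
      (E.cellIdeal.map g.hom.toRingHom).map φ.toRingHom := by
    rw [Ideal.map_map]; rfl
  rw [InCell, h1]
  exact Ideal.eq_top_of_isUnit_mem _ (Ideal.mem_map_of_mem _ hf) hφ

end

/-- glueing equalities -/
lemma eq_of_away {P₀ C : Type u} [CommRing P₀] [CommRing C] (φ : P₀ →+* C) (J : Ideal P₀)
    (hJ : J.map φ = ⊤) (c c' : C)
    (h : ∀ f ∈ J, algebraMap C (Localization.Away (φ f)) c = algebraMap C _ c') : c = c' := by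
  refine Localization.algebraMap_injective_of_span_eq_top (φ '' J) hJ ?_
  funext a
  obtain ⟨_, f, hf, rfl⟩ := a
  exact h f hf

section

variable (E : PinCell P b R A) (E' : PinCell P b R A')

/-- agreement descends along injective ring maps, given that the points are in the cells -/
lemma agree_of_injective {B C : Type u} [CommRing B] [Algebra R B] [CommRing C] [Algebra R C]
    (φ : B →ₐ[R] C) (hφ : Function.Injective φ) {g : Pt R A B} {g' : Pt R A' B}
    (h : InCell E g) (h' : InCell E' g') (ha : Agree E E' (Pt.map φ g) (Pt.map φ g')) :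
    Agree E E' g g' := by
  obtain ⟨x, t, rfl⟩ := (inCell_iff E).mp h
  obtain ⟨x', t', rfl⟩ := (inCell_iff E').mp h'
  obtain ⟨y, y', s, h1, h2, h3⟩ := ha
  rw [E.cell_nat] at h1
  rw [E'.cell_nat] at h2
  obtain ⟨h4, h5⟩ := E.cell_injective h1
  obtain ⟨h6, h7⟩ := E'.cell_injective h2
  have ht : t = t' := by
    apply TPt.ext_ch
    intro m
    apply hφ
    rw [← TPt.ch_map, ← TPt.ch_map, h5, h7]
  refine ⟨x, x', t, rfl, by rw [ht], ?_⟩
  intro a ha
  have hx : ∀ c, φ (x c) = y c := fun c => congrFun h4 c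
  have hx' : ∀ c, φ (x' c) = y' c := fun c => congrFun h6 c
  exact ⟨hφ (by rw [hx, hx', (h3 a ha).1]), hφ (by rw [hx, hx', (h3 a ha).2])⟩

/-- agreement can be checked locally -/
lemma agree_of_away {P₀ C : Type u} [CommRing P₀] [CommRing C] [Algebra R C] (φ : P₀ →+* C)
    (J : Ideal P₀) (hJ : J.map φ = ⊤) {g : Pt R A C} {g' : Pt R A' C}
    (h : InCell E g) (h' : InCell E' g')
    (ha : ∀ f ∈ J, Agree E E' (Pt.map (IsScalarTower.toAlgHom R C (Localization.Away (φ f))) g)
      (Pt.map (IsScalarTower.toAlgHom R C (Localization.Away (φ f))) g')) :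
    Agree E E' g g' := by
  obtain ⟨x, t, rfl⟩ := (inCell_iff E).mp h
  obtain ⟨x', t', rfl⟩ := (inCell_iff E').mp h'
  have key : ∀ f ∈ J, TPt.map (IsScalarTower.toAlgHom R C (Localization.Away (φ f))) t =
      TPt.map (IsScalarTower.toAlgHom R C (Localization.Away (φ f))) t' ∧
      ∀ a ∈ b.support, algebraMap C (Localization.Away (φ f)) (x a) = algebraMap C _ (x' a) ∧
        algebraMap C (Localization.Away (φ f)) (x (P.reflectionPerm a a)) =
        algebraMap C _ (x' (P.reflectionPerm a a)) := by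
    intro f hf
    obtain ⟨y, y', s, h1, h2, h3⟩ := ha f hf
    rw [E.cell_nat] at h1
    rw [E'.cell_nat] at h2
    obtain ⟨h4, h5⟩ := E.cell_injective h1
    obtain ⟨h6, h7⟩ := E'.cell_injective h2
    refine ⟨by rw [h5, h7], fun a ha => ?_⟩
    have hx : ∀ c, algebraMap C (Localization.Away (φ f)) (x c) = y c := fun c => congrFun h4 c
    have hx' : ∀ c, algebraMap C (Localization.Away (φ f)) (x' c) = y' c := fun c => congrFun h6 c
    exact ⟨(by rw [hx, hx', (h3 a ha).1]), (by rw [hx, hx', (h3 a ha).2])⟩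
  have ht : t = t' := by
    apply TPt.ext_ch
    intro m
    apply eq_of_away φ J hJ
    intro f hf
    exact congrArg (TPt.ch m) (key f hf).1
  refine ⟨x, x', t, rfl, by rw [ht], ?_⟩
  intro a ha
  exact ⟨eq_of_away φ J hJ _ _ fun f hf => ((key f hf).2 a ha).1,
    eq_of_away φ J hJ _ _ fun f hf => ((key f hf).2 a ha).2⟩

lemma awayMapₐ_comp {B C : Type u} [CommRing B] [Algebra R B] [CommRing C] [Algebra R C]
    (j : B →ₐ[R] C) (f : B) :
    (Localization.awayMapₐ j f).comp (IsScalarTower.toAlgHom R B (Localization.Away f)) =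
      (IsScalarTower.toAlgHom R C (Localization.Away (j f))).comp j := by
  apply AlgHom.ext
  intro x
  rw [AlgHom.comp_apply, AlgHom.comp_apply, IsScalarTower.toAlgHom_apply,
    IsScalarTower.toAlgHom_apply, Localization.awayMapₐ, IsLocalization.Away.mapₐ_apply]
  exact IsLocalization.map_eq _ x

/-- transfer of the agreement from a ring `S ⊇ P₀` to an arbitrary specialization `P₀ → C` -/
theorem agree_transfer {P₀ S C : Type u} [CommRing P₀] [Algebra R P₀] [CommRing S] [Algebra R S]
    [CommRing C] [Algebra R C] (j : P₀ →ₐ[R] S) (hj : Function.Injective j) (φ : P₀ →ₐ[R] C)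
    (g : Pt R A P₀) (g' : Pt R A' P₀) (hS : Agree E E' (Pt.map j g) (Pt.map j g'))
    (h : InCell E (Pt.map φ g)) (h' : InCell E' (Pt.map φ g')) :
    Agree E E' (Pt.map φ g) (Pt.map φ g') := by
  have mul_le : ∀ I₁ I₂ : Ideal P₀, ∀ f ∈ I₁ * I₂, f ∈ I₁ ∧ f ∈ I₂ := fun I₁ I₂ f hf =>
    Ideal.mul_le_inf hf
  have hJ : (E.cellIdeal.map g.hom.toRingHom * E'.cellIdeal.map g'.hom.toRingHom).map
      φ.toRingHom = ⊤ := by
    rw [Ideal.map_mul, Ideal.map_map, Ideal.map_map]
    have e1 : E.cellIdeal.map (φ.toRingHom.comp g.hom.toRingHom) = ⊤ := h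
    have e2 : E'.cellIdeal.map (φ.toRingHom.comp g'.hom.toRingHom) = ⊤ := h'
    rw [e1, e2, Ideal.top_mul]
  -- agreement over the localizations of the polynomial ring
  have hloc : ∀ f, f ∈ E.cellIdeal.map g.hom.toRingHom → f ∈ E'.cellIdeal.map g'.hom.toRingHom →
      Agree E E' (Pt.map (IsScalarTower.toAlgHom R P₀ (Localization.Away f)) g)
        (Pt.map (IsScalarTower.toAlgHom R P₀ (Localization.Away f)) g') := by
    intro f hf1 hf2
    have hu : IsUnit ((IsScalarTower.toAlgHom R P₀ (Localization.Away f)) f) := by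
      rw [IsScalarTower.toAlgHom_apply]
      exact IsLocalization.Away.algebraMap_isUnit f
    have i1 : InCell E (Pt.map (IsScalarTower.toAlgHom R P₀ (Localization.Away f)) g) :=
      inCell_away E hf1 _ hu
    have i2 : InCell E' (Pt.map (IsScalarTower.toAlgHom R P₀ (Localization.Away f)) g') :=
      inCell_away E' hf2 _ hu
    refine agree_of_injective E E' (Localization.awayMapₐ j f)
      (IsLocalization.Away.mapₐ_injective_of_injective _ hj) i1 i2 ?_
    rw [Pt.map_map, Pt.map_map, awayMapₐ_comp, ← Pt.map_map, ← Pt.map_map]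
    exact hS.map E E' _
  refine agree_of_away E E' φ.toRingHom _ hJ h h' ?_
  intro f hf
  have e := awayMapₐ_comp φ f
  have hf' := mul_le _ _ f hf
  have key := (hloc f hf'.1 hf'.2).map E E' (Localization.awayMapₐ φ f)
  rw [Pt.map_map, Pt.map_map, e, ← Pt.map_map, ← Pt.map_map] at key
  exact key

/-- **words in both cells agree** (lists of letters) -/
theorem agree_evL {C : Type u} [CommRing C] [Algebra R C] (L : List (Lt b.support × C))
    (h : InCell E ((mdl E C).evL L)) (h' : InCell E' ((mdl E' C).evL L)) :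
    Agree E E' ((mdl E C).evL L) ((mdl E' C).evL L) := by
  -- the universal word
  obtain ⟨U, hU, hU0⟩ : ∃ U : List (Lt b.support × MvPolynomial (Fin L.length) R),
      mapL b (MvPolynomial.aeval (R := R) (fun k => (L.get k).2)) U = L ∧
      ∀ p ∈ U, MvPolynomial.constantCoeff p.2 = 0 := by
    refine ⟨List.ofFn (fun k : Fin L.length => ((L.get k).1, MvPolynomial.X k)), ?_, ?_⟩
    · rw [mapL, List.map_ofFn]
      conv_rhs => rw [← List.ofFn_get L]
      congr 1
      funext k
      exact Prod.ext rfl (MvPolynomial.aeval_X _ _)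
    · intro p hp
      obtain ⟨k, rfl⟩ := List.mem_ofFn.mp hp
      simp
  -- power series
  have hj : ∀ p : MvPolynomial (Fin L.length) R,
      (MvPolynomial.coeToMvPowerSeries.algHom R : MvPolynomial (Fin L.length) R →ₐ[R]
        MvPowerSeries (Fin L.length) R) p = (p : MvPowerSeries (Fin L.length) R) := by
    intro p
    rw [MvPolynomial.coeToMvPowerSeries.algHom_apply, Algebra.algebraMap_self, MvPowerSeries.map_id]
    rfl
  have key := agree_transfer E E' (MvPolynomial.coeToMvPowerSeries.algHom R :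
      MvPolynomial (Fin L.length) R →ₐ[R] MvPowerSeries (Fin L.length) R)
      (fun p q hpq => MvPolynomial.coe_injective _ _ (by rwa [hj, hj] at hpq))
      (MvPolynomial.aeval (R := R) (fun k => (L.get k).2))
      ((mdl E _).evL U) ((mdl E' _).evL U)
  rw [map_evL, map_evL, map_evL, map_evL, hU] at key
  refine key ?_ h h'
  refine agree_small E E' (RingHom.ker (MvPowerSeries.constantCoeff (σ := Fin L.length) (R := R)))
    ?_ _ ?_
  · intro z hz
    rw [MvPowerSeries.isUnit_iff_constantCoeff, map_add, map_one, (RingHom.mem_ker).mp hz]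
    simp
  · intro p hp
    obtain ⟨q, hq, rfl⟩ := List.mem_map.mp hp
    have := hU0 q hq
    rw [RingHom.mem_ker]
    change MvPowerSeries.constantCoeff ((MvPolynomial.coeToMvPowerSeries.algHom R :
      MvPolynomial (Fin L.length) R →ₐ[R] MvPowerSeries (Fin L.length) R) q.2) = 0
    rw [hj, ← this]
    rfl

/-- **words in both cells agree** -/
theorem agree_of_mem_graph {C : Type u} [CommRing C] [Algebra R C] {g : Pt R A C} {g' : Pt R A' C}
    (hg : (g, g') ∈ graph E E' C) (h : InCell E g) (h' : InCell E' g') : Agree E E' g g' := by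
  obtain ⟨L, t, hL⟩ := hg
  have h1 : g = (mdl E C).evL L * E.i C t := congrArg Prod.fst hL
  have h2 : g' = (mdl E' C).evL L * E'.i C t := congrArg Prod.snd hL
  have h3 : (mdl E C).evL L = g * E.i C t⁻¹ := by rw [h1, i_inv, mul_inv_cancel_right]
  have h4 : (mdl E' C).evL L = g' * E'.i C t⁻¹ := by rw [h2, i_inv, mul_inv_cancel_right]
  rw [h1, h2]
  refine Agree.mul_i E E' (agree_evL E E' L ?_ ?_) t
  · obtain ⟨x, s, rfl⟩ := (inCell_iff E).mp h
    rw [h3, cell_mul_i]
    exact inCell_cell E _ _
  · obtain ⟨x, s, rfl⟩ := (inCell_iff E').mp h'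
    rw [h4, cell_mul_i]
    exact inCell_cell E' _ _

end

end Groth.Agent.Sga3B.Word
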