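import Groth.Agent.Sga3B.WordRed
import Mathlib.Algebra.Polynomial.Div

/-!
# Word relations: the nilpotent case and commutation with the root groups
-/

set_option autoImplicit false
set_option linter.unusedSectionVars false
universe u v

namespace Groth.Agent.Sga3B.Word

open Groth.Agent.Sga3B.Cell TensorProduct Polynomial

variable {idx M : Type} [Fintype idx] [AddCommGroup M] [Module.Free ℤ M]
    [Module.Finite ℤ M] {P : RootPairing idx ℤ M (Module.Dual ℤ M)} {b : P.Base}
    {R A A' : Type u} [CommRing R] [CommRing A] [Algebra R A] [PtGrp R A]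
    [CommRing A'] [Algebra R A'] [PtGrp R A']

section

variable (E : PinCell P b R A) (E' : PinCell P b R A')

/-- the set of the second values of the words with first value `1` -/
def ZZ (C : Type u) [CommRing C] [Algebra R C] : Set (Pt R A' C) :=
  {h' | ((1 : Pt R A C), h') ∈ graph E E' C}

lemma ZZ_map {C D : Type u} [CommRing C] [Algebra R C] [CommRing D] [Algebra R D]
    (φ : C →ₐ[R] D) (g : Pt R A' C) (hg : g ∈ ZZ E E' C) : Pt.map φ g ∈ ZZ E E' D := by
  have := graph_map E E' φ hg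
  rwa [Pt.map_one] at this

/-- **nilpotent case** -/
theorem eq_one_of_nilpotent (C : Type u) [CommRing C] [Algebra R C] (I : Ideal C)
    (hI : IsNilpotent I) (g : Pt R A' C) (hg : g ∈ ZZ E E' C) (hk : g ∈ kerI R A' I) : g = 1 := by
  refine nil_of_sq_zero (R := R) (A := A') (fun C _ _ => ZZ E E' C)
    (fun φ g hg => ZZ_map E E' φ g hg) ?_ C I hI g hg hk
  intro C _ _ I hI g hg hk
  exact eq_one_of_sq_zero E E' (fun I hI g hg g' hg' => commute_of_sq_zero I hI g hg g' hg') hI g hg hk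

/-- **commutation** of the elements of `ZZ` with the root groups -/
theorem commute_uu (C : Type u) [CommRing C] [Algebra R C] (h' : Pt R A' C) (hh : h' ∈ ZZ E E' C)
    (c : idx) (x : C) : Commute (E'.uu c C x) h' := by
  obtain ⟨r, hr⟩ := exists_uu_mem_graph E E' c
  -- over the polynomial ring
  let k : Pt R A' C[X] := Pt.map (IsScalarTower.toAlgHom R C C[X]) h'
  have hk : k ∈ ZZ E E' C[X] := ZZ_map E E' _ h' hh
  let w : Pt R A' C[X] := E'.uu c C[X] X * k * (E'.uu c C[X] X)⁻¹ * k⁻¹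
  have hu := hr C[X] (algebraMap R C[X] (r⁻¹ : Rˣ) * X)
  rw [← mul_assoc, ← map_mul, Units.mul_inv, map_one, one_mul] at hu
  have hw : w ∈ ZZ E E' C[X] := by
    have h1 := (graph E E' C[X]).mul_mem ((graph E E' C[X]).mul_mem ((graph E E' C[X]).mul_mem hu hk)
      ((graph E E' C[X]).inv_mem hu)) ((graph E E' C[X]).inv_mem hk)
    rw [Prod.mk_mul_mk, Prod.inv_mk, Prod.mk_mul_mk, Prod.inv_mk, Prod.mk_mul_mk, mul_one,
      mul_inv_cancel, inv_one, mul_one] at h1
    exact h1
  have hwk : w ∈ kerI R A' (Ideal.span {(X : C[X])}) := by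
    rw [mem_kerI, Pt.map_mul, Pt.map_mul, Pt.map_mul, Pt.map_inv, Pt.map_inv, E'.uu_nat]
    have : (Ideal.Quotient.mkₐ R (Ideal.span {(X : C[X])})) X = 0 :=
      Ideal.Quotient.eq_zero_iff_mem.mpr (Ideal.mem_span_singleton_self _)
    rw [this, PinCell.uu_zero, one_mul, inv_one, mul_one, mul_inv_cancel]
  have hwm : ∀ m : ℕ, w ∈ kerI R A' (Ideal.span {(X : C[X])} ^ m) := by
    intro m
    rw [mem_kerI]
    refine eq_one_of_nilpotent E E' _ ((Ideal.span {(X : C[X])}).map
      (Ideal.Quotient.mk (Ideal.span {(X : C[X])} ^ m))) ⟨m, ?_⟩ _ (ZZ_map E E' _ w hw) ?_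
    · rw [← Ideal.map_pow, Ideal.zero_eq_bot, Ideal.map_eq_bot_iff_le_ker, Ideal.mk_ker]
    · rw [mem_kerI_iff]
      intro f
      have h2 := (mem_kerI_iff.mp hwk) f
      rw [← Pt.map_one (Ideal.Quotient.mkₐ R (Ideal.span {(X : C[X])} ^ m)), Pt.map_hom_apply,
        Pt.map_hom_apply, ← map_sub]
      exact Ideal.mem_map_of_mem _ h2
  have hw1 : w = 1 := by
    apply Pt.ext
    intro f
    rw [← sub_eq_zero]
    ext n
    have h3 := (mem_kerI_iff.mp (hwm (n + 1))) f
    rw [Ideal.span_singleton_pow, Ideal.mem_span_singleton] at h3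
    rw [coeff_zero]
    exact (X_pow_dvd_iff.mp h3) n (Nat.lt_succ_self n)
  -- specialize
  have h4 := congrArg (Pt.map ((aeval x : C[X] →ₐ[C] C).restrictScalars R)) hw1
  have h5 : Pt.map ((aeval x : C[X] →ₐ[C] C).restrictScalars R) k = h' := by
    rw [Pt.map_map]
    apply Pt.ext
    intro f
    simp
  rw [Pt.map_mul, Pt.map_mul, Pt.map_mul, Pt.map_inv, Pt.map_inv, Pt.map_one, h5, E'.uu_nat] at h4
  have h6 : ((aeval x : C[X] →ₐ[C] C).restrictScalars R) X = x := by simp
  rw [h6] at h4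
  have h7 := mul_inv_eq_one.mp h4
  exact mul_inv_eq_iff_eq_mul.mp h7

end

end Groth.Agent.Sga3B.Word
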