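import Groth.Agent.Sga3B.WordCell
import Groth.Agent.Sga3B.PinComb829

/-!
# Section words: every root group element is the value of a word in simple root groups
-/

set_option autoImplicit false
set_option linter.unusedSectionVars false
universe u v

namespace Groth.Agent.Sga3B.Word

open Groth.Agent.Sga3B.Cell TensorProduct

variable {idx M : Type} [Fintype idx] [AddCommGroup M] [Module.Free ℤ M]
    [Module.Finite ℤ M] {P : RootPairing idx ℤ M (Module.Dual ℤ M)} {b : P.Base}
    {R A A' : Type u} [CommRing R] [CommRing A] [Algebra R A] [PtGrp R A]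
    [CommRing A'] [Algebra R A'] [PtGrp R A']

section
variable (E : PinCell P b R A) (E' : PinCell P b R A') {B : Type u} [CommRing B] [Algebra R B]

lemma uu_simple_mem_graph {a : idx} (ha : a ∈ b.support) (x : B) :
    (E.uu a B x, E'.uu a B x) ∈ graph E E' B := uu_lidx_mem_graph E E' (true, ⟨a, ha⟩) x

lemma uu_neg_simple_mem_graph {a : idx} (ha : a ∈ b.support) (x : B) :
    (E.uu (P.reflectionPerm a a) B x, E'.uu (P.reflectionPerm a a) B x) ∈ graph E E' B :=
  uu_lidx_mem_graph E E' (false, ⟨a, ha⟩) x

lemma nn_mem_graph {a : idx} (ha : a ∈ b.support) : (E.nn a B, E'.nn a B) ∈ graph E E' B :=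
  (graph E E' B).mul_mem ((graph E E' B).mul_mem (uu_simple_mem_graph E E' ha 1)
    (uu_neg_simple_mem_graph E E' ha (-1))) (uu_simple_mem_graph E E' ha 1)

end

variable (E : PinCell P b R A) (E' : PinCell P b R A')

/-- **(S)** section words -/
theorem exists_uu_mem_graph (c : idx) : ∃ r : Rˣ, ∀ (B : Type u) [CommRing B] [Algebra R B] (x : B),
    (E.uu c B x, E'.uu c B (algebraMap R B r * x)) ∈ graph E E' B := by
  have : P.IsReduced := PinComb.isReduced b
  have neg_neg' : ∀ c : idx, P.reflectionPerm (P.reflectionPerm c c) (P.reflectionPerm c c) = c := by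
    intro c
    apply P.root.injective
    rw [P.root_reflectionPerm, P.reflection_apply_self, P.root_reflectionPerm,
      P.reflection_apply_self, neg_neg]
  have refl_neg : ∀ a c : idx, P.reflectionPerm a (P.reflectionPerm c c) =
      P.reflectionPerm (P.reflectionPerm a c) (P.reflectionPerm a c) := by
    intro a c
    apply P.root.injective
    rw [P.root_reflectionPerm, P.root_reflectionPerm, P.reflection_apply_self,
      P.root_reflectionPerm, P.reflection_apply_self, P.root_reflectionPerm, map_neg]
  have key : ∀ (a : idx), a ∈ b.support → ∀ c : idx, 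
      (∃ r : Rˣ, ∀ (B : Type u) [CommRing B] [Algebra R B] (x : B),
        (E.uu c B x, E'.uu c B (algebraMap R B r * x)) ∈ graph E E' B) →
      (∃ r : Rˣ, ∀ (B : Type u) [CommRing B] [Algebra R B] (x : B),
        (E.uu (P.reflectionPerm a c) B x, E'.uu (P.reflectionPerm a c) B (algebraMap R B r * x)) ∈
          graph E E' B) := by
    rintro a ha c ⟨r, hr⟩
    obtain ⟨s, hs⟩ := E.nn_conj ha c
    obtain ⟨s', hs'⟩ := E'.nn_conj ha c
    refine ⟨s' * r * s⁻¹, fun B _ _ x => ?_⟩
    have h1 := (graph E E' B).mul_mem ((graph E E' B).mul_mem (nn_mem_graph E E' ha)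
      (hr B (algebraMap R B (s⁻¹ : Rˣ) * x))) ((graph E E' B).inv_mem (nn_mem_graph E E' ha))
    rw [Prod.mk_mul_mk, Prod.inv_mk, Prod.mk_mul_mk, hs, hs'] at h1
    convert h1 using 3
    · rw [← mul_assoc, ← map_mul, Units.mul_inv, map_one, one_mul]
    · rw [Units.val_mul, Units.val_mul, map_mul, map_mul]
      ring
  refine (b.induction_reflect c (p := fun c =>
    (∃ r : Rˣ, ∀ (B : Type u) [CommRing B] [Algebra R B] (x : B),
        (E.uu c B x, E'.uu c B (algebraMap R B r * x)) ∈ graph E E' B) ∧ 
    (∃ r : Rˣ, ∀ (B : Type u) [CommRing B] [Algebra R B] (x : B),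
        (E.uu (P.reflectionPerm c c) B x, E'.uu (P.reflectionPerm c c) B (algebraMap R B r * x)) ∈
          graph E E' B)) ?_ ?_ ?_).1
  · intro i hi
    refine ⟨hi.2, ?_⟩
    rw [neg_neg']
    exact hi.1
  · intro i hi
    refine ⟨⟨1, fun B _ _ x => ?_⟩, ⟨1, fun B _ _ x => ?_⟩⟩
    · rw [Units.val_one, map_one, one_mul]
      exact uu_simple_mem_graph E E' hi x
    · rw [Units.val_one, map_one, one_mul]
      exact uu_neg_simple_mem_graph E E' hi x
  · intro i j hi hj
    refine ⟨key j hj i hi.1, ?_⟩
    rw [← refl_neg]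
    exact key j hj _ hi.2

/-- section words for the cell, starting from the second group -/
theorem exists_cell_mem_graph (B : Type u) [CommRing B] [Algebra R B] (x' : idx → B) (t : TPt M B) :
    ∃ x : idx → B, (E.cell x t, E'.cell x' t) ∈ graph E E' B := by
  choose r hr using exists_uu_mem_graph E E'
  refine ⟨fun c => algebraMap R B ((r c)⁻¹ : Rˣ) * x' c, ?_⟩
  have h : ∀ L : List idx, ((L.map (fun a => E.uu a B (algebraMap R B ((r a)⁻¹ : Rˣ) * x' a))).prod,
      (L.map (fun a => E'.uu a B (x' a))).prod) ∈ graph E E' B := by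
    intro L
    induction L with
    | nil => exact (graph E E' B).one_mem
    | cons a L ih =>
      simp only [List.map_cons, List.prod_cons]
      have h1 := hr a B (algebraMap R B ((r a)⁻¹ : Rˣ) * x' a)
      rw [← mul_assoc (algebraMap R B ((r a : Rˣ) : R)), ← map_mul, Units.mul_inv, map_one,
        one_mul] at h1
      exact (graph E E' B).mul_mem h1 ih
  exact (graph E E' B).mul_mem (h (allList b)) (i_mem_graph E E' t)

end Groth.Agent.Sga3B.Word
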