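import Groth.Agent.Sga3B.WordGen

/-!
# The infinitesimal case of the word relations
-/

set_option autoImplicit false
set_option linter.unusedSectionVars false
universe u v

namespace Groth.Agent.Sga3B.Word

open Groth.Agent.Sga3B.Cell TensorProduct

section ker

variable {R A B : Type u} [CommRing R] [CommRing A] [Algebra R A] [PtGrp R A] [CommRing B]
  [Algebra R B]

/-- points congruent to `1` modulo an ideal -/
def kerI (R A : Type u) [CommRing R] [CommRing A] [Algebra R A] [PtGrp R A] {B : Type u}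
    [CommRing B] [Algebra R B] (I : Ideal B) : Subgroup (Pt R A B) :=
  (Pt.mapHom (Ideal.Quotient.mkₐ R I)).ker

lemma mem_kerI {I : Ideal B} {g : Pt R A B} :
    g ∈ kerI R A I ↔ Pt.map (Ideal.Quotient.mkₐ R I) g = 1 := Iff.rfl

lemma mem_kerI_iff {I : Ideal B} {g : Pt R A B} :
    g ∈ kerI R A I ↔ ∀ f, g.hom f - (1 : Pt R A B).hom f ∈ I := by
  rw [mem_kerI, ← Pt.map_one (Ideal.Quotient.mkₐ R I)]
  constructor
  · intro h f
    have := congrArg (fun k : Pt R A (B ⧸ I) => k.hom f) h
    exact Ideal.Quotient.eq.mp this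
  · intro h
    apply Pt.ext
    intro f
    exact Ideal.Quotient.eq.mpr (h f)

lemma conj_mem_kerI {I : Ideal B} {g : Pt R A B} (h : g ∈ kerI R A I) (k : Pt R A B) :
    k * g * k⁻¹ ∈ kerI R A I := by
  unfold kerI at *
  exact (MonoidHom.normal_ker _).conj_mem g h k

end ker

variable {idx M : Type} [Fintype idx] [AddCommGroup M] [Module.Free ℤ M]
    [Module.Finite ℤ M] {P : RootPairing idx ℤ M (Module.Dual ℤ M)} {b : P.Base}
    {R A A' : Type u} [CommRing R] [CommRing A] [Algebra R A] [PtGrp R A]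
    [CommRing A'] [Algebra R A'] [PtGrp R A']

section
variable (E : PinCell P b R A) {B : Type u} [CommRing B] [Algebra R B]

lemma cell_zero : E.cell (0 : idx → B) 1 = 1 := by
  rw [cell_eq_mul, negP_zero, posP_zero, map_one, mul_one, mul_one]

lemma inCell_one : InCell E (1 : Pt R A B) := by
  rw [← cell_zero E]
  exact inCell_cell E _ _

lemma inCell_of_mem_kerI {I : Ideal B} (hI : IsNilpotent I) {g : Pt R A B}
    (hg : g ∈ kerI R A I) : InCell E g := by
  have h1 : InCell E (Pt.map (Ideal.Quotient.mkₐ R I) g) := by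
    rw [mem_kerI.mp hg]
    exact inCell_one E
  have h2 : (E.cellIdeal.map g.hom.toRingHom).map (Ideal.Quotient.mk I) = ⊤ := by
    rw [Ideal.map_map]; exact h1
  have h3 : (1 : B ⧸ I) ∈ (E.cellIdeal.map g.hom.toRingHom).map (Ideal.Quotient.mk I) := by
    rw [h2]; trivial
  obtain ⟨x, hx, hx1⟩ := (Ideal.mem_map_iff_of_surjective _ Ideal.Quotient.mk_surjective).mp h3
  have h4 : x - 1 ∈ I := Ideal.Quotient.eq.mp (hx1.trans (map_one (Ideal.Quotient.mk I)).symm)
  have h5 : IsNilpotent (x - 1) := by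
    obtain ⟨n, hn⟩ := hI
    refine ⟨n, ?_⟩
    have := Ideal.pow_mem_pow h4 n
    rw [hn] at this
    simpa using this
  have h6 : IsUnit x := by
    have := h5.isUnit_one_add
    rwa [add_sub_cancel] at this
  exact Ideal.eq_top_of_isUnit_mem _ hx h6

lemma mem_of_cell_mem_kerI {I : Ideal B} {x : idx → B} {t : TPt M B}
    (h : E.cell x t ∈ kerI R A I) (c : idx) : x c ∈ I := by
  rw [mem_kerI, E.cell_nat, ← cell_zero E] at h
  have := congrFun (E.cell_injective h).1 c
  exact Ideal.Quotient.eq_zero_iff_mem.mp this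

lemma uu_mem_kerI {I : Ideal B} {c : idx} {x : B} (h : x ∈ I) : E.uu c B x ∈ kerI R A I := by
  rw [mem_kerI, E.uu_nat]
  have : (Ideal.Quotient.mkₐ R I) x = 0 := Ideal.Quotient.eq_zero_iff_mem.mpr h
  rw [this, PinCell.uu_zero]

end

section

lemma negidx_negidx (c : idx) :
    P.reflectionPerm (P.reflectionPerm c c) (P.reflectionPerm c c) = c := by
  apply P.root.injective
  rw [P.root_reflectionPerm, P.reflection_apply_self, P.root_reflectionPerm,
    P.reflection_apply_self, neg_neg]

lemma refl_negidx (a c : idx) : P.reflectionPerm a (P.reflectionPerm c c) =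
    P.reflectionPerm (P.reflectionPerm a c) (P.reflectionPerm a c) := by
  apply P.root.injective
  rw [P.root_reflectionPerm, P.root_reflectionPerm, P.reflection_apply_self,
    P.root_reflectionPerm, P.reflection_apply_self, P.root_reflectionPerm, map_neg]

lemma refl_refl (a c : idx) : P.reflectionPerm a (P.reflectionPerm a c) = c :=
  P.reflectionPerm_involutive a c

end

section

variable (E : PinCell P b R A) {B : Type u} [CommRing B] [Algebra R B]

/-- conjugating an infinitesimal element by `n_a` permutes the coordinates -/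
lemma exists_conj_cell (hcomm : ∀ (I : Ideal B), I ^ 2 = ⊥ → ∀ g ∈ kerI R A I, ∀ g' ∈ kerI R A I,
      Commute g g') {I : Ideal B} (hI : I ^ 2 = ⊥)
    {a : idx} (ha : a ∈ b.support) : ∃ r : idx → Rˣ, ∀ x : idx → B, (∀ c, x c ∈ I) →
      E.nn a B * E.cell x 1 * (E.nn a B)⁻¹ =
        E.cell (fun d => algebraMap R B (r d) * x (P.reflectionPerm a d)) 1 := by
  choose r hr using fun c => E.nn_conj ha c
  refine ⟨fun d => r (P.reflectionPerm a d), fun x hx => ?_⟩
  have h1 : ∀ L : List idx, E.nn a B * (L.map (fun c => E.uu c B (x c))).prod * (E.nn a B)⁻¹ =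
      ((L.map (P.reflectionPerm a)).map (fun d => E.uu d B
        (algebraMap R B (r (P.reflectionPerm a d)) * x (P.reflectionPerm a d)))).prod := by
    intro L
    induction L with
    | nil => simp
    | cons c L ih =>
      simp only [List.map_cons, List.prod_cons]
      rw [← ih, refl_refl, ← hr]
      group
  have h2 : List.Perm ((allList b).map (P.reflectionPerm a)) (allList b) := by
    rw [List.perm_ext_iff_of_nodup ((allList_nodup b).map (P.reflectionPerm a).injective)
      (allList_nodup b)]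
    intro c
    refine ⟨fun _ => mem_allList b c, fun _ => ?_⟩
    exact List.mem_map.mpr ⟨P.reflectionPerm a c, mem_allList b _, refl_refl a c⟩
  rw [PinCell.cell, PinCell.cell, map_one, mul_one, mul_one, h1]
  refine List.Perm.prod_eq' (h2.map _) ?_
  refine List.pairwise_of_forall_mem_list ?_
  intro g hg g' hg'
  obtain ⟨c, -, rfl⟩ := List.mem_map.mp hg
  obtain ⟨d, -, rfl⟩ := List.mem_map.mp hg'
  exact hcomm I hI _ (uu_mem_kerI E (I.mul_mem_left _ (hx _))) _
    (uu_mem_kerI E (I.mul_mem_left _ (hx _)))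

end

section

variable (E : PinCell P b R A) (E' : PinCell P b R A') {C : Type u} [CommRing C] [Algebra R C]

/-- **infinitesimal case** -/
theorem eq_one_of_sq_zero (hcomm : ∀ (I : Ideal C), I ^ 2 = ⊥ → ∀ g ∈ kerI R A' I,
      ∀ g' ∈ kerI R A' I, Commute g g') {I : Ideal C} (hI : I ^ 2 = ⊥) (h' : Pt R A' C)
    (hm : ((1 : Pt R A C), h') ∈ graph E E' C) (hk : h' ∈ kerI R A' I) : h' = 1 := by
  have hnil : IsNilpotent I := ⟨2, hI⟩
  have : P.IsReduced := PinComb.isReduced b
  -- simple coordinates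
  have step : ∀ x' : idx → C, ((1 : Pt R A C), E'.cell x' 1) ∈ graph E E' C →
      E'.cell x' 1 ∈ kerI R A' I → ∀ a ∈ b.support, x' a = 0 ∧ x' (P.reflectionPerm a a) = 0 := by
    intro x' h1 h2 a ha
    obtain ⟨y, y', t, e1, e2, e3⟩ := agree_of_mem_graph E E' h1 (inCell_one E)
      (inCell_of_mem_kerI E' hnil h2)
    rw [← cell_zero E] at e1
    obtain ⟨e4, -⟩ := E.cell_injective e1
    obtain ⟨e5, -⟩ := E'.cell_injective e2
    rw [e5, ← (e3 a ha).1, ← (e3 a ha).2, ← e4]
    exact ⟨rfl, rfl⟩
  -- all coordinates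
  have key : ∀ c : idx, ∀ x' : idx → C, ((1 : Pt R A C), E'.cell x' 1) ∈ graph E E' C →
      E'.cell x' 1 ∈ kerI R A' I → x' c = 0 ∧ x' (P.reflectionPerm c c) = 0 := by
    intro c
    refine b.induction_reflect c (p := fun c => ∀ x' : idx → C,
      ((1 : Pt R A C), E'.cell x' 1) ∈ graph E E' C →
      E'.cell x' 1 ∈ kerI R A' I → x' c = 0 ∧ x' (P.reflectionPerm c c) = 0) ?_ ?_ ?_
    · intro i hi x' h1 h2
      obtain ⟨h3, h4⟩ := hi x' h1 h2
      refine ⟨h4, ?_⟩
      rw [negidx_negidx]
      exact h3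
    · intro i hi x' h1 h2
      exact step x' h1 h2 i hi
    · intro i j hi hj x' h1 h2
      obtain ⟨r, hr⟩ := exists_conj_cell E' hcomm hI hj
      have hx : ∀ c, x' c ∈ I := mem_of_cell_mem_kerI E' h2
      have h3 := hr x' hx
      have h4 := (graph E E' C).mul_mem ((graph E E' C).mul_mem (nn_mem_graph E E' hj) h1)
        ((graph E E' C).inv_mem (nn_mem_graph E E' hj))
      rw [Prod.mk_mul_mk, Prod.inv_mk, Prod.mk_mul_mk, h3, mul_one, mul_inv_cancel] at h4
      have h5 := conj_mem_kerI h2 (E'.nn j C)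
      rw [h3] at h5
      obtain ⟨h6, h7⟩ := hi _ h4 h5
      have hu : ∀ (s : Rˣ) (z : C), algebraMap R C s * z = 0 → z = 0 := by
        intro s z hz
        have := congrArg (fun w => algebraMap R C (s⁻¹ : Rˣ) * w) hz
        simp only [← mul_assoc, ← map_mul, Units.inv_mul, map_one, one_mul, mul_zero] at this
        exact this
      refine ⟨hu _ _ h6, ?_⟩
      rw [← refl_negidx]
      exact hu _ _ h7
  obtain ⟨y, y', t, e1, e2, e3⟩ := agree_of_mem_graph E E' hm (inCell_one E)
      (inCell_of_mem_kerI E' hnil hk)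
  rw [← cell_zero E] at e1
  obtain ⟨-, e4⟩ := E.cell_injective e1
  rw [← e4] at e2
  rw [e2] at hm hk
  have e5 : y' = 0 := funext fun c => (key c y' hm hk).1
  rw [e2, e5, cell_zero]

end

end Groth.Agent.Sga3B.Word
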