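import Groth.Agent.Sga3B.WordBase

/-!
# Words in pinned groups: the graph subgroup and simultaneous normal forms
-/

set_option autoImplicit false
set_option linter.unusedSectionVars false
universe u v

namespace Groth.Agent.Sga3B.Word

open Groth.Agent.Sga3B.Cell TensorProduct

variable {idx M : Type} [Fintype idx] [AddCommGroup M] [Module.Free ℤ M]
    [Module.Finite ℤ M] {P : RootPairing idx ℤ M (Module.Dual ℤ M)} {b : P.Base}
    {R A A' : Type u} [CommRing R] [CommRing A] [Algebra R A] [PtGrp R A]
    [CommRing A'] [Algebra R A'] [PtGrp R A']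

/-- the root index of a letter -/
def lidx (b : P.Base) (l : Lt b.support) : idx :=
  if l.1 then (l.2 : idx) else P.reflectionPerm l.2 l.2

@[simp] lemma lidx_true (a : b.support) : lidx b (true, a) = a := rfl
@[simp] lemma lidx_false (a : b.support) : lidx b (false, a) = P.reflectionPerm a a := rfl

/-- the weight of a letter -/
def lwt (b : P.Base) (l : Lt b.support) : M := P.root (lidx b l)

/-- the cocharacter of a letter -/
def lcor (b : P.Base) (a : b.support) : Module.Dual ℤ M := P.coroot a

section

variable (E : PinCell P b R A) (B : Type u) [CommRing B] [Algebra R B]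

/-- the model attached to a pinned group -/
def mdl : Model (lwt b) (lcor b) B (Pt R A B) where
  i := E.i B
  u l x := E.uu (lidx b l) B x
  u_add _ x y := E.uu_add _ x y
  rel _ t x := E.rel _ t x
  rank1 a x y v hv := E.rank1 a a.2 x y v hv
  comm a c x y hac := E.comm a a.2 c c.2 (fun h => hac (Subtype.ext h)) x y

lemma i_inv (t : TPt M B) : E.i B t⁻¹ = (E.i B t)⁻¹ := map_inv (E.i B) t

@[simp] lemma mdl_i (t : TPt M B) : (mdl E B).i t = E.i B t := rfl
@[simp] lemma mdl_u (l : Lt b.support) (x : B) : (mdl E B).u l x = E.uu (lidx b l) B x := rfl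

end

/-- the product of two models -/
def Model.prod {M Δ : Type} [AddCommGroup M] {wt : Lt Δ → M} {cor : Δ → Module.Dual ℤ M}
    {B : Type u} [CommRing B] {Γ Γ' : Type v} [Group Γ] [Group Γ'] (m : Model wt cor B Γ)
    (m' : Model wt cor B Γ') : Model wt cor B (Γ × Γ') where
  i := m.i.prod m'.i
  u l x := (m.u l x, m'.u l x)
  u_add l x y := Prod.ext (m.u_add l x y) (m'.u_add l x y)
  rel l t x := Prod.ext (m.rel l t x) (m'.rel l t x)
  rank1 a x y v hv := Prod.ext (m.rank1 a x y v hv) (m'.rank1 a x y v hv)
  comm a c x y hac := Prod.ext (m.comm a c x y hac) (m'.comm a c x y hac)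

section
variable {M Δ : Type} [AddCommGroup M] {wt : Lt Δ → M} {cor : Δ → Module.Dual ℤ M}
    {B : Type u} [CommRing B] {Γ Γ' : Type v} [Group Γ] [Group Γ'] (m : Model wt cor B Γ)
    (m' : Model wt cor B Γ')

lemma Model.prod_evL (L : List (Lt Δ × B)) : (m.prod m').evL L = (m.evL L, m'.evL L) := by
  induction L with
  | nil => rfl
  | cons p L ih => rw [Model.evL_cons, ih]; simp [Model.prod]

lemma Model.prod_evS (s : Bool) (L : List (Δ × B)) :
    (m.prod m').evS s L = (m.evS s L, m'.evS s L) := by
  induction L with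
  | nil => rfl
  | cons p L ih => rw [Model.evS_cons, ih]; simp [Model.prod]

end

section graph

variable (E : PinCell P b R A) (E' : PinCell P b R A') (B : Type u) [CommRing B] [Algebra R B]

/-- the graph subgroup: pairs of values of the same word in the two groups -/
def graph : Subgroup (Pt R A B × Pt R A' B) where
  carrier := {p | ∃ (L : List (Lt b.support × B)) (t : TPt M B),
    p = ((mdl E B).evL L * E.i B t, (mdl E' B).evL L * E'.i B t)}
  one_mem' := ⟨[], 1, by simp; rfl⟩
  mul_mem' := by
    rintro _ _ ⟨L, t, rfl⟩ ⟨L', t', rfl⟩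
    refine ⟨L ++ act (lwt b) t L', t * t', ?_⟩
    have h1 := (mdl E B).i_mul_evL t L'
    have h2 := (mdl E' B).i_mul_evL t L'
    rw [mdl_i] at h1 h2
    rw [Prod.mk_mul_mk, Model.evL_append, Model.evL_append, map_mul, map_mul]
    refine Prod.ext ?_ ?_
    · change (mdl E B).evL L * E.i B t * ((mdl E B).evL L' * E.i B t') = _
      rw [mul_assoc, ← mul_assoc (E.i B t), h1]
      simp only [mul_assoc]
    · change (mdl E' B).evL L * E'.i B t * ((mdl E' B).evL L' * E'.i B t') = _
      rw [mul_assoc, ← mul_assoc (E'.i B t), h2]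
      simp only [mul_assoc]
  inv_mem' := by
    rintro _ ⟨L, t, rfl⟩
    refine ⟨act (lwt b) t⁻¹ (inv L), t⁻¹, ?_⟩
    have h1 := (mdl E B).i_mul_evL t⁻¹ (inv L)
    have h2 := (mdl E' B).i_mul_evL t⁻¹ (inv L)
    rw [mdl_i] at h1 h2
    rw [← h1, ← h2, Prod.inv_mk, mul_inv_rev, mul_inv_rev, Model.evL_inv, Model.evL_inv, i_inv,
      i_inv]

variable {B}

lemma mem_graph {p : Pt R A B × Pt R A' B} : p ∈ graph E E' B ↔
    ∃ (L : List (Lt b.support × B)) (t : TPt M B),
      p = ((mdl E B).evL L * E.i B t, (mdl E' B).evL L * E'.i B t) := Iff.rfl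

lemma evL_mem_graph (L : List (Lt b.support × B)) :
    ((mdl E B).evL L, (mdl E' B).evL L) ∈ graph E E' B := ⟨L, 1, by simp⟩

lemma i_mem_graph (t : TPt M B) : (E.i B t, E'.i B t) ∈ graph E E' B := ⟨[], t, by simp⟩

lemma uu_lidx_mem_graph (l : Lt b.support) (x : B) :
    (E.uu (lidx b l) B x, E'.uu (lidx b l) B x) ∈ graph E E' B := ⟨[(l, x)], 1, by simp⟩

lemma graph_swap {g : Pt R A B} {g' : Pt R A' B} (h : (g, g') ∈ graph E E' B) :
    (g', g) ∈ graph E' E B := by
  obtain ⟨L, t, h⟩ := h
  exact ⟨L, t, Prod.ext (congrArg Prod.snd h) (congrArg Prod.fst h)⟩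

variable {C : Type u} [CommRing C] [Algebra R C]

/-- functoriality of lists -/
def mapL (b : P.Base) (φ : B → C) (L : List (Lt b.support × B)) : List (Lt b.support × C) :=
  L.map (fun p => (p.1, φ p.2))

lemma map_evL (φ : B →ₐ[R] C) (L : List (Lt b.support × B)) :
    Pt.map φ ((mdl E B).evL L) = (mdl E C).evL (mapL b φ L) := by
  induction L with
  | nil => simp [mapL, Pt.map_one]
  | cons p L ih =>
    rw [Model.evL_cons, Pt.map_mul, ih]
    simp [mapL, E.uu_nat]

lemma graph_map (φ : B →ₐ[R] C) {g : Pt R A B} {g' : Pt R A' B} (h : (g, g') ∈ graph E E' B) :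
    (Pt.map φ g, Pt.map φ g') ∈ graph E E' C := by
  obtain ⟨L, t, h⟩ := h
  refine ⟨mapL b φ L, TPt.map φ t, ?_⟩
  rw [← map_evL, ← map_evL, ← E.i_nat, ← E'.i_nat, ← Pt.map_mul, ← Pt.map_mul]
  exact Prod.ext (congrArg (Pt.map φ) (congrArg Prod.fst h))
    (congrArg (Pt.map φ) (congrArg Prod.snd h))

end graph

/-! ### products over the positive and the negative roots -/

section prods

variable (E : PinCell P b R A) {B : Type u} [CommRing B] [Algebra R B]

/-- product over the positive roots -/
noncomputable def posP (x : idx → B) : Pt R A B := ((posList b).map (fun a => E.uu a B (x a))).prod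

/-- product over the negative roots -/
noncomputable def negP (x : idx → B) : Pt R A B := ((negList b).map (fun a => E.uu a B (x a))).prod

lemma cell_eq_mul (x : idx → B) (t : TPt M B) : E.cell x t = negP E x * posP E x * E.i B t := by
  simp [PinCell.cell, negP, posP, allList]

lemma exists_posP_mul (x y : idx → B) : ∃ z : idx → B, posP E x * posP E y = posP E z ∧
    ∀ a ∈ b.support, z a = x a + y a := E.pos_mul x y

lemma exists_negP_mul (x y : idx → B) : ∃ z : idx → B, negP E x * negP E y = negP E z ∧
    ∀ a ∈ b.support, z (P.reflectionPerm a a) = x (P.reflectionPerm a a) + y (P.reflectionPerm a a) :=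
  E.neg_mul x y

/-- a single root element as a product over a list -/
lemma prod_single [DecidableEq idx] (L : List idx) (hL : L.Nodup) {a : idx} (ha : a ∈ L) (x : B) :
    (L.map (fun c => E.uu c B ((Pi.single a x : idx → B) c))).prod = E.uu a B x := by
  induction L with
  | nil => simp at ha
  | cons c L ih =>
    rw [List.nodup_cons] at hL
    rw [List.map_cons, List.prod_cons]
    by_cases hc : c = a
    · subst hc
      rw [Pi.single_eq_same]
      have : (L.map (fun d => E.uu d B ((Pi.single c x : idx → B) d))).prod = 1 := by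
        apply List.prod_eq_one
        intro y hy
        obtain ⟨d, hd, rfl⟩ := List.mem_map.mp hy
        have : d ≠ c := fun h => hL.1 (h ▸ hd)
        rw [Pi.single_eq_of_ne this, PinCell.uu_zero]
      rw [this, mul_one]
    · rw [Pi.single_eq_of_ne hc, PinCell.uu_zero, one_mul]
      apply ih hL.2
      rcases List.mem_cons.mp ha with h | h
      · exact absurd h.symm hc
      · exact h

lemma posP_single [DecidableEq idx] {a : idx} (ha : b.IsPos a) (x : B) :
    posP E (Pi.single a x) = E.uu a B x :=
  prod_single E _ (posList_nodup b) ((mem_posList b).mpr ha) x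

lemma negP_single [DecidableEq idx] {a : idx} (ha : ¬ b.IsPos a) (x : B) :
    negP E (Pi.single a x) = E.uu a B x :=
  prod_single E _ (negList_nodup b) ((mem_negList b).mpr ha) x

@[simp] lemma posP_zero : posP E (0 : idx → B) = 1 := by
  apply List.prod_eq_one
  intro y hy
  obtain ⟨d, hd, rfl⟩ := List.mem_map.mp hy
  simp

@[simp] lemma negP_zero : negP E (0 : idx → B) = 1 := by
  apply List.prod_eq_one
  intro y hy
  obtain ⟨d, hd, rfl⟩ := List.mem_map.mp hy
  simp

end prods

end Groth.Agent.Sga3B.Word
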