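import Groth.Agent.Sga3B.WordInf
import Mathlib.RingTheory.Nilpotent.Lemmas
import Mathlib.RingTheory.Noetherian.Nilpotent
import Mathlib.FieldTheory.IsAlgClosed.AlgebraicClosure

/-!
# Reduction steps for subfunctors of a group: from square zero ideals and fields to all rings
-/

set_option autoImplicit false
set_option linter.unusedSectionVars false
universe u v

namespace Groth.Agent.Sga3B.Word

open Groth.Agent.Sga3B.Cell TensorProduct

variable {R A : Type u} [CommRing R] [CommRing A] [Algebra R A] [PtGrp R A]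

section comm

variable {C : Type u} [CommRing C] [Algebra R C]

/-- triples of elements congruent modulo `I` -/
def tri (R : Type u) [CommRing R] {C : Type u} [CommRing C] [Algebra R C] (I : Ideal C) :
    Subalgebra R (C × C × C) where
  carrier := {p | p.2.1 - p.1 ∈ I ∧ p.2.2 - p.1 ∈ I}
  mul_mem' := by
    rintro ⟨a, b, c⟩ ⟨a', b', c'⟩ ⟨h1, h2⟩ ⟨h1', h2'⟩
    simp only [Prod.mk_mul_mk, Set.mem_ofPred_eq] at *
    refine ⟨?_, ?_⟩
    · have : b * b' - a * a' = (b - a) * b' + a * (b' - a') := by ring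
      rw [this]
      exact I.add_mem (I.mul_mem_right _ h1) (I.mul_mem_left _ h1')
    · have : c * c' - a * a' = (c - a) * c' + a * (c' - a') := by ring
      rw [this]
      exact I.add_mem (I.mul_mem_right _ h2) (I.mul_mem_left _ h2')
  add_mem' := by
    rintro ⟨a, b, c⟩ ⟨a', b', c'⟩ ⟨h1, h2⟩ ⟨h1', h2'⟩
    simp only [Prod.mk_add_mk, Set.mem_ofPred_eq] at *
    refine ⟨?_, ?_⟩
    · have : b + b' - (a + a') = (b - a) + (b' - a') := by ring
      rw [this]
      exact I.add_mem h1 h1'
    · have : c + c' - (a + a') = (c - a) + (c' - a') := by ring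
      rw [this]
      exact I.add_mem h2 h2'
  algebraMap_mem' r := by
    change algebraMap R C r - algebraMap R C r ∈ I ∧ algebraMap R C r - algebraMap R C r ∈ I
    rw [sub_self]
    exact ⟨I.zero_mem, I.zero_mem⟩

/-- the sum map `(c, c₁, c₂) ↦ c₁ + c₂ - c` -/
def triSum (I : Ideal C) (hI : I ^ 2 = ⊥) : tri R I →ₐ[R] C where
  toFun p := p.1.2.1 + p.1.2.2 - p.1.1
  map_one' := by simp
  map_mul' := by
    rintro ⟨⟨a, b, c⟩, h1, h2⟩ ⟨⟨a', b', c'⟩, h1', h2'⟩
    have e : ∀ x ∈ I, ∀ y ∈ I, x * y = 0 := by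
      intro x hx y hy
      have : x * y ∈ I ^ 2 := by rw [pow_two]; exact Ideal.mul_mem_mul hx hy
      rw [hI] at this
      exact this
    have e1 := e _ h1 _ h2'
    have e2 := e _ h2 _ h1'
    dsimp only at e1 e2
    change b * b' + c * c' - a * a' = (b + c - a) * (b' + c' - a')
    linear_combination -e1 - e2
  map_zero' := by simp
  map_add' := by
    rintro ⟨⟨a, b, c⟩, h1, h2⟩ ⟨⟨a', b', c'⟩, h1', h2'⟩
    change b + b' + (c + c') - (a + a') = (b + c - a) + (b' + c' - a')
    ring
  commutes' r := by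
    change algebraMap R C r + algebraMap R C r - algebraMap R C r = _
    ring

/-- points congruent to `1` modulo a square zero ideal commute -/
theorem commute_of_sq_zero (I : Ideal C) (hI : I ^ 2 = ⊥) (g : Pt R A C) (hg : g ∈ kerI R A I)
    (g' : Pt R A C) (hg' : g' ∈ kerI R A I) : Commute g g' := by
  rw [mem_kerI_iff] at hg hg'
  let p0 : tri R I →ₐ[R] C := (AlgHom.fst R C (C × C)).comp (tri R I).val
  let p1 : tri R I →ₐ[R] C := ((AlgHom.fst R C C).comp (AlgHom.snd R C (C × C))).comp (tri R I).val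
  let p2 : tri R I →ₐ[R] C := ((AlgHom.snd R C C).comp (AlgHom.snd R C (C × C))).comp (tri R I).val
  have hext : ∀ x y : Pt R A (tri R I), Pt.map p0 x = Pt.map p0 y → Pt.map p1 x = Pt.map p1 y →
      Pt.map p2 x = Pt.map p2 y → x = y := by
    intro x y h0 h1 h2
    apply Pt.ext
    intro a
    apply Subtype.ext
    refine Prod.ext ?_ (Prod.ext ?_ ?_)
    · exact congrArg (fun k : Pt R A C => k.hom a) h0
    · exact congrArg (fun k : Pt R A C => k.hom a) h1
    · exact congrArg (fun k : Pt R A C => k.hom a) h2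
  let x : Pt R A (tri R I) := Pt.mk (AlgHom.codRestrict
    (AlgHom.prod (1 : Pt R A C).hom (AlgHom.prod g.hom (1 : Pt R A C).hom)) (tri R I)
    (fun a => ⟨hg a, by
      change (1 : Pt R A C).hom a - (1 : Pt R A C).hom a ∈ I
      rw [sub_self]; exact I.zero_mem⟩))
  let y : Pt R A (tri R I) := Pt.mk (AlgHom.codRestrict
    (AlgHom.prod (1 : Pt R A C).hom (AlgHom.prod (1 : Pt R A C).hom g'.hom)) (tri R I)
    (fun a => ⟨by
      change (1 : Pt R A C).hom a - (1 : Pt R A C).hom a ∈ I
      rw [sub_self]; exact I.zero_mem, hg' a⟩))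
  have x0 : Pt.map p0 x = 1 := rfl
  have x1 : Pt.map p1 x = g := rfl
  have x2 : Pt.map p2 x = 1 := rfl
  have y0 : Pt.map p0 y = 1 := rfl
  have y1 : Pt.map p1 y = 1 := rfl
  have y2 : Pt.map p2 y = g' := rfl
  have hxy : x * y = y * x := by
    apply hext
    · rw [Pt.map_mul, Pt.map_mul, x0, y0]
    · rw [Pt.map_mul, Pt.map_mul, x1, y1, mul_one, one_mul]
    · rw [Pt.map_mul, Pt.map_mul, x2, y2, mul_one, one_mul]
  have sx : Pt.map (triSum I hI) x = g := by
    apply Pt.ext
    intro a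
    change g.hom a + (1 : Pt R A C).hom a - (1 : Pt R A C).hom a = g.hom a
    ring
  have sy : Pt.map (triSum I hI) y = g' := by
    apply Pt.ext
    intro a
    change (1 : Pt R A C).hom a + g'.hom a - (1 : Pt R A C).hom a = g'.hom a
    ring
  have := congrArg (Pt.map (triSum I hI)) hxy
  rw [Pt.map_mul, Pt.map_mul, sx, sy] at this
  exact this

end comm

section red

variable (Z : ∀ (C : Type u) [CommRing C] [Algebra R C], Set (Pt R A C))
  (hmap : ∀ {C D : Type u} [CommRing C] [Algebra R C] [CommRing D] [Algebra R D]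
    (φ : C →ₐ[R] D) (g : Pt R A C), g ∈ Z C → Pt.map φ g ∈ Z D)

include hmap in
/-- from square zero ideals to nilpotent ideals -/
theorem nil_of_sq_zero
    (hsq : ∀ (C : Type u) [CommRing C] [Algebra R C] (I : Ideal C), I ^ 2 = ⊥ → ∀ g ∈ Z C,
      g ∈ kerI R A I → g = 1)
    (C : Type u) [CommRing C] [Algebra R C] (I : Ideal C) (hI : IsNilpotent I) (g : Pt R A C)
    (hg : g ∈ Z C) (hk : g ∈ kerI R A I) : g = 1 := by
  have key : ∀ k : ℕ, g ∈ kerI R A (I ^ (k + 1)) := by
    intro k
    induction k with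
    | zero => rwa [zero_add, pow_one]
    | succ k ih =>
      have h1 : Pt.map (Ideal.Quotient.mkₐ R (I ^ (k + 1 + 1))) g = 1 := by
        apply hsq _ ((I ^ (k + 1)).map (Ideal.Quotient.mk (I ^ (k + 1 + 1)))) _ _ (hmap _ g hg)
        · rw [mem_kerI_iff]
          intro f
          have h2 := (mem_kerI_iff.mp ih) f
          have h3 : (1 : Pt R A (C ⧸ I ^ (k + 1 + 1))) =
            Pt.map (Ideal.Quotient.mkₐ R (I ^ (k + 1 + 1))) 1 := (Pt.map_one _).symm
          rw [h3, Pt.map_hom_apply, Pt.map_hom_apply, ← map_sub]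
          exact Ideal.mem_map_of_mem _ h2
        · rw [← Ideal.map_pow, ← pow_mul, Ideal.map_eq_bot_iff_le_ker, Ideal.mk_ker]
          exact Ideal.pow_le_pow_right (by omega)
      exact h1
  obtain ⟨n, hn⟩ := hI
  have h1 := mem_kerI_iff.mp (key n)
  have h2 : I ^ (n + 1) = ⊥ := by rw [pow_succ, hn]; simp
  rw [h2] at h1
  apply Pt.ext
  intro f
  exact sub_eq_zero.mp (h1 f)

include hmap in
/-- from nilpotent ideals and algebraically closed fields to all rings -/
theorem eq_one_of_field [Algebra.FiniteType R A]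
    (hnil : ∀ (C : Type u) [CommRing C] [Algebra R C] (I : Ideal C), IsNilpotent I → ∀ g ∈ Z C,
      g ∈ kerI R A I → g = 1)
    (hfield : ∀ (K : Type u) [Field K] [IsAlgClosed K] [Algebra R K], ∀ g ∈ Z K, g = 1)
    (C : Type u) [CommRing C] [Algebra R C] (g : Pt R A C) (hg : g ∈ Z C) : g = 1 := by
  obtain ⟨s, hs⟩ := (inferInstance : Algebra.FiniteType R A).out
  let J : Ideal C := Ideal.span (Set.range fun a : (s : Set A) => g.hom a - (1 : Pt R A C).hom a)
  have hJ : J.FG := Submodule.fg_span (Set.finite_range _)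
  have hk : g ∈ kerI R A J := by
    rw [mem_kerI]
    have h1 : (Ideal.Quotient.mkₐ R J).comp g.hom =
        (Ideal.Quotient.mkₐ R J).comp (1 : Pt R A C).hom := by
      apply AlgHom.ext_of_adjoin_eq_top hs
      intro a ha
      apply Ideal.Quotient.eq.mpr
      exact Ideal.subset_span ⟨⟨a, ha⟩, rfl⟩
    rw [← Pt.map_one (Ideal.Quotient.mkₐ R J)]
    exact h1
  apply hnil C J _ g hg hk
  rw [Ideal.FG.isNilpotent_iff_le_nilradical hJ, Ideal.span_le]
  rintro _ ⟨a, rfl⟩
  rw [SetLike.mem_coe, nilradical_eq_sInf, Ideal.mem_sInf]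
  intro p hp
  have hp' : p.IsPrime := hp
  let K := AlgebraicClosure (FractionRing (C ⧸ p))
  let φ : C →ₐ[R] K := IsScalarTower.toAlgHom R C K
  have h1 := hfield K _ (hmap φ g hg)
  have h2 : φ (g.hom a - (1 : Pt R A C).hom a) = 0 := by
    rw [map_sub, sub_eq_zero]
    have h3 := congrArg (fun k : Pt R A K => k.hom (a : A)) (h1.trans (Pt.map_one φ).symm)
    exact h3
  have h4 : algebraMap (C ⧸ p) K (Ideal.Quotient.mk p (g.hom a - (1 : Pt R A C).hom a)) = 0 := by
    rw [← Ideal.Quotient.algebraMap_eq, ← IsScalarTower.algebraMap_apply]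
    exact h2
  have h5 : Function.Injective (algebraMap (C ⧸ p) K) := by
    rw [IsScalarTower.algebraMap_eq (C ⧸ p) (FractionRing (C ⧸ p)) K]
    exact (algebraMap (FractionRing (C ⧸ p)) K).injective.comp
      (IsFractionRing.injective (C ⧸ p) (FractionRing (C ⧸ p)))
  exact Ideal.Quotient.eq_zero_iff_mem.mp ((injective_iff_map_eq_zero _).mp h5 _ h4)

end red

end Groth.Agent.Sga3B.Word
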